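import Mathlib

/-!
Elements of order three in `PSL₃(4)`: they form a single conjugacy class.
-/

set_option autoImplicit false

namespace Cfsg.Agent.LinearBlock.PSL34

open Matrix Polynomial

variable {F : Type*} [Field F] [Fintype F]

theorem two_eq_zero (hF : Fintype.card F = 4) : (2 : F) = 0 := by
  have h : ((4 : ℕ) : F) = 0 := hF ▸ FiniteField.cast_card_eq_zero F
  have h2 : (2 : F) * 2 = 0 := by norm_num at h ⊢; exact h
  exact mul_self_eq_zero.1 h2

theorem cube_eq_one (hF : Fintype.card F = 4) {a : F} (ha : a ≠ 0) : a ^ 3 = 1 := by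
  have := FiniteField.pow_card_sub_one_eq_one a ha
  rwa [hF] at this

/-- Cayley–Hamilton for a determinant one matrix of degree three in characteristic two. -/
theorem cayley {F : Type*} [Field F] (h2 : (2 : F) = 0) (x : Matrix (Fin 3) (Fin 3) F) (hx : x.det = 1) :
    ∃ t s : F, x ^ 3 + t • x ^ 2 + s • x + 1 = 0 ∧ (1 - x).det = t + s := by
  have hd : x.charpoly.natDegree = 3 := by rw [Matrix.charpoly_natDegree_eq_dim, Fintype.card_fin]
  have hm := x.charpoly_monic
  have hc3 : x.charpoly.coeff 3 = 1 := by simpa [Polynomial.Monic, Polynomial.leadingCoeff, hd] using hm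
  have hc0 : x.charpoly.coeff 0 = 1 := by
    have h := Matrix.det_eq_sign_charpoly_coeff x
    rw [hx, Fintype.card_fin] at h
    linear_combination h - h2
  refine ⟨x.charpoly.coeff 2, x.charpoly.coeff 1, ?_, ?_⟩
  · have h := Matrix.aeval_self_charpoly x
    rw [Polynomial.aeval_eq_sum_range, hd] at h
    simp only [Finset.sum_range_succ, Finset.sum_range_zero, hc3, hc0, pow_zero, pow_one, one_smul, zero_add] at h
    rw [← h]; abel
  · have h : x.charpoly.eval 1 = (1 - x).det := by rw [Matrix.eval_charpoly, map_one]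
    rw [← h, Polynomial.eval_eq_sum_range, hd]
    simp only [Finset.sum_range_succ, Finset.sum_range_zero, hc3, hc0, one_pow, mul_one, zero_add]
    linear_combination h2

/-- If the cube of a non-scalar determinant one matrix is scalar, then it is the identity. -/
theorem cube_scalar (hF : Fintype.card F = 4) (x : Matrix (Fin 3) (Fin 3) F) (hx : x.det = 1)
    (hns : ∀ z : F, x ≠ z • (1 : Matrix (Fin 3) (Fin 3) F)) {c : F} (hc : x ^ 3 = c • 1) : x ^ 3 = 1 := by
  by_contra hne
  have h2 := two_eq_zero hF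
  have hc0 : c ≠ 0 := by
    rintro rfl
    have := congrArg Matrix.det hc
    simp [hx] at this
  have hc1 : c ≠ 1 := fun e => hne (by rw [hc, e, one_smul])
  obtain ⟨t, s, h, -⟩ := cayley h2 x hx
  rw [hc] at h
  have hd : c + 1 ≠ 0 := fun e => hc1 (by linear_combination e - h2)
  by_cases ht : t = 0
  · subst ht
    rw [zero_smul, add_zero] at h
    by_cases hs : s = 0
    · subst hs
      rw [zero_smul, add_zero] at h
      apply hd
      simpa using congrFun₂ h 0 0
    · apply hns (-(c + 1) / s)
      ext i j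
      have := congrFun₂ h i j
      simp only [Matrix.add_apply, Matrix.smul_apply, smul_eq_mul, Matrix.zero_apply] at this ⊢
      field_simp
      linear_combination this
  · obtain ⟨a, b, hab⟩ : ∃ a b : F, x ^ 2 = a • x + b • 1 := by
      refine ⟨-s / t, -(c + 1) / t, ?_⟩
      ext i j
      have := congrFun₂ h i j
      simp only [Matrix.add_apply, Matrix.smul_apply, smul_eq_mul, Matrix.zero_apply] at this ⊢
      field_simp
      linear_combination this
    have h3 : x ^ 3 = (a * a + b) • x + (a * b) • 1 := by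
      rw [pow_succ, hab, add_mul, smul_mul_assoc, smul_mul_assoc, one_mul, ← pow_two, hab]
      module
    rw [hc] at h3
    by_cases hb : a * a + b = 0
    · rw [hb, zero_smul, zero_add] at h3
      have hcab : c = a * b := by simpa using congrFun₂ h3 0 0
      have hb' : b = -(a * a) := by linear_combination hb
      have ha : a ≠ 0 := by rintro rfl; simp [hcab] at hc0
      have ha3 := cube_eq_one hF ha
      exact hc1 (by rw [hcab, hb']; linear_combination -ha3 - h2)
    · apply hns ((c - a * b) / (a * a + b))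
      ext i j
      have := congrFun₂ h3 i j
      simp only [Matrix.add_apply, Matrix.smul_apply, smul_eq_mul] at this ⊢
      rw [div_mul_eq_mul_div, eq_div_iff hb]
      linear_combination -this

/-- A non-scalar determinant one matrix with cube one has every cube root of unity as an eigenvalue. -/
theorem exists_eigen (hF : Fintype.card F = 4) (x : Matrix (Fin 3) (Fin 3) F) (hx : x.det = 1)
    (hns : ∀ z : F, x ≠ z • (1 : Matrix (Fin 3) (Fin 3) F)) (h3 : x ^ 3 = 1) {a : F} (ha : a ≠ 0) :
    ∃ v : Fin 3 → F, v ≠ 0 ∧ x *ᵥ v = a • v := by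
  have h2 := two_eq_zero hF
  have ha3 := cube_eq_one hF ha
  set y := a⁻¹ • x with hy
  have hy1 : y.det = 1 := by rw [hy, Matrix.det_smul, hx, Fintype.card_fin, inv_pow, ha3, inv_one, one_mul]
  have hy3 : y ^ 3 = 1 := by rw [hy, _root_.smul_pow, h3, inv_pow, ha3, inv_one, one_smul]
  have hdet : (1 - y).det = 0 := by
    by_contra hne
    obtain ⟨t, s, h, hts⟩ := cayley h2 y hy1
    have hunit : IsUnit (1 - y) := (Matrix.isUnit_iff_isUnit_det _).2 (isUnit_iff_ne_zero.2 hne)
    have hq : y ^ 2 + y + 1 = 0 := by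
      apply hunit.mul_right_eq_zero.1
      have e : (1 - y) * (y ^ 2 + y + 1) = 1 - y ^ 3 := by noncomm_ring
      rw [e, hy3, sub_self]
    have h22 : ∀ m : Matrix (Fin 3) (Fin 3) F, m + m = 0 := fun m => by
      ext i j
      simp only [Matrix.add_apply, Matrix.zero_apply]
      linear_combination (m i j) * h2
    have hq2 : y ^ 2 = y + 1 := by
      rw [add_assoc] at hq
      exact (eq_neg_of_add_eq_zero_left hq).trans (neg_eq_of_add_eq_zero_left (h22 _))
    have e1 : (1 - y) = y ^ 2 := by
      rw [hq2, sub_eq_iff_eq_add, add_comm y 1, add_assoc, h22, add_zero]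
    rw [e1, Matrix.det_pow, hy1, one_pow] at hts
    rw [hy3, hq2] at h
    apply hns (a * (-(2 + t)))
    ext i j
    have := congrFun₂ h i j
    simp only [hy, Matrix.add_apply, Matrix.smul_apply, smul_eq_mul, Matrix.zero_apply] at this ⊢
    field_simp at this ⊢
    linear_combination this + (x i j) * hts
  obtain ⟨v, hv0, hv⟩ := Matrix.exists_mulVec_eq_zero_iff.2 hdet
  refine ⟨v, hv0, ?_⟩
  rw [Matrix.sub_mulVec, Matrix.one_mulVec, sub_eq_zero, hy, Matrix.smul_mulVec] at hv
  conv_rhs => rw [hv, smul_smul, mul_inv_cancel₀ ha, one_smul]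

/-- A fixed diagonalisation. -/
theorem exists_frame (hF : Fintype.card F = 4) (e : Fin 3 → F) (hinj : Function.Injective e)
    (h0 : ∀ i, e i ≠ 0) (x : Matrix (Fin 3) (Fin 3) F) (hx : x.det = 1)
    (hns : ∀ z : F, x ≠ z • (1 : Matrix (Fin 3) (Fin 3) F)) (h3 : x ^ 3 = 1) :
    ∃ M : Matrix.SpecialLinearGroup (Fin 3) F, x * M.1 = M.1 * Matrix.diagonal e := by
  classical
  choose v hv0 hv using fun i => exists_eigen hF x hx hns h3 (h0 i)
  have hli : LinearIndependent F v :=
    Module.End.eigenvectors_linearIndependent' (Matrix.toLin' x) e hinj v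
      fun i => Module.End.hasEigenvector_iff.2 ⟨Module.End.mem_eigenspace_iff.2 (hv i), hv0 i⟩
  let M : Matrix (Fin 3) (Fin 3) F := (Matrix.of v)ᵀ
  have hM : M.det ≠ 0 := by
    rw [Matrix.det_transpose]
    have h := Matrix.linearIndependent_rows_iff_isUnit.1 (show LinearIndependent F (Matrix.of v).row from hli)
    exact ((Matrix.isUnit_iff_isUnit_det _).1 h).ne_zero
  have hcomm : x * M = M * Matrix.diagonal e := by
    ext i j
    rw [Matrix.mul_diagonal]
    have h := congrFun (hv j) i
    rw [Pi.smul_apply, smul_eq_mul, mul_comm] at h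
    exact h
  let D : Matrix (Fin 3) (Fin 3) F := Matrix.diagonal ![M.det⁻¹, 1, 1]
  refine ⟨⟨M * D, by simp [D, Matrix.det_mul, Matrix.det_diagonal, Fin.prod_univ_three, hM]⟩, ?_⟩
  show x * (M * D) = M * D * Matrix.diagonal e
  rw [← mul_assoc, hcomm, mul_assoc, mul_assoc M D]
  congr 1
  simp only [D, Matrix.diagonal_mul_diagonal, mul_comm]

/-- All elements of order three in `PSL₃(4)` are conjugate. -/
theorem isConj_order_three (hF : Fintype.card F = 4)
    (u v : Matrix.ProjectiveSpecialLinearGroup (Fin 3) F) (hu : orderOf u = 3) (hv : orderOf v = 3) :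
    IsConj u v := by
  classical
  obtain ⟨e, hinj, h0⟩ : ∃ e : Fin 3 → F, Function.Injective e ∧ ∀ i, e i ≠ 0 := by
    have : Fintype.card {a : F // a ≠ 0} = 3 := by
      rw [Fintype.card_subtype_compl, Fintype.card_subtype_eq, hF]
    let f := (Fintype.equivFinOfCardEq this).symm
    exact ⟨fun i => (f i).1, fun i j h => f.injective (Subtype.ext h), fun i => (f i).2⟩
  have lift : ∀ w : Matrix.ProjectiveSpecialLinearGroup (Fin 3) F, orderOf w = 3 →
      ∃ g : Matrix.SpecialLinearGroup (Fin 3) F, QuotientGroup.mk g = w ∧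
        ∃ M : Matrix.SpecialLinearGroup (Fin 3) F, g.1 * M.1 = M.1 * Matrix.diagonal e := by
    intro w hw
    obtain ⟨g, rfl⟩ := QuotientGroup.mk_surjective w
    have h1 : g ^ 3 ∈ Subgroup.center (Matrix.SpecialLinearGroup (Fin 3) F) := by
      rw [← QuotientGroup.eq_one_iff, QuotientGroup.mk_pow]
      exact orderOf_dvd_iff_pow_eq_one.1 hw.dvd
    have hns : ∀ z : F, g.1 ≠ z • (1 : Matrix (Fin 3) (Fin 3) F) := by
      intro z hz
      have hg : g ∈ Subgroup.center (Matrix.SpecialLinearGroup (Fin 3) F) := by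
        rw [Matrix.SpecialLinearGroup.mem_center_iff]
        have hd := g.2
        rw [hz, Matrix.det_smul, Matrix.det_one, mul_one] at hd
        exact ⟨z, by simpa using hd, by rw [hz, Matrix.scalar_apply, Matrix.smul_one_eq_diagonal]⟩
      rw [← QuotientGroup.eq_one_iff] at hg
      rw [hg, orderOf_one] at hw
      omega
    obtain ⟨c, -, hc⟩ := Matrix.SpecialLinearGroup.mem_center_iff.1 h1
    rw [Matrix.scalar_apply, ← Matrix.smul_one_eq_diagonal] at hc
    exact ⟨g, rfl, exists_frame hF e hinj h0 g.1 g.2 hns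
      (cube_scalar hF g.1 g.2 hns ((Matrix.SpecialLinearGroup.coe_pow g 3).symm.trans hc.symm))⟩
  obtain ⟨g, rfl, M, hM⟩ := lift u hu
  obtain ⟨k, rfl, N, hN⟩ := lift v hv
  refine isConj_iff.2 ⟨QuotientGroup.mk (N * M⁻¹), ?_⟩
  rw [← QuotientGroup.mk_inv, ← QuotientGroup.mk_mul, ← QuotientGroup.mk_mul]
  congr 1
  have h : M⁻¹.1 * g.1 * M.1 = Matrix.diagonal e := by
    rw [mul_assoc, hM, ← mul_assoc, ← Matrix.SpecialLinearGroup.coe_mul, inv_mul_cancel,
      Matrix.SpecialLinearGroup.coe_one, one_mul]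
  have h' : k * N = N * M⁻¹ * g * M := by
    apply Subtype.ext
    rw [Matrix.SpecialLinearGroup.coe_mul, Matrix.SpecialLinearGroup.coe_mul, Matrix.SpecialLinearGroup.coe_mul,
      Matrix.SpecialLinearGroup.coe_mul, hN, ← h]
    simp only [mul_assoc]
  rw [_root_.mul_inv_rev, inv_inv, ← mul_assoc, ← h', mul_inv_cancel_right]

end Cfsg.Agent.LinearBlock.PSL34
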