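/-
Classes of involutions in Sp_2m(q), q even.
-/
import Cfsg.Agent.Lib.Classical.Symplectic
import Cfsg.Agent.Lib.Classical.AlternatingWitt
import Mathlib.FieldTheory.Perfect
import Mathlib.LinearAlgebra.Matrix.Rank

set_option autoImplicit false

universe u v

namespace Cfsg.Agent.SpInv

open Matrix Module
open LinearMap (BilinForm)

variable {F : Type u} [Field F] [Finite F] [CharP F 2]

/-- Square roots exist. -/
theorem exists_sqrt (c : F) : ∃ t : F, t * t = c := by
  obtain ⟨t, ht⟩ := FiniteField.isSquare_of_char_two (ringChar.eq F 2) c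
  exact ⟨t, ht.symm⟩

/-- An orthonormal basis of a symmetric non-degenerate form which is not alternate, characteristic 2. -/
theorem exists_orthonormal : ∀ (r : ℕ) {W : Type v} [AddCommGroup W] [Module F W] [FiniteDimensional F W]
    (β : BilinForm F W), (∀ a b, β a b = β b a) → (∀ a, (∀ b, β a b = 0) → a = 0) → finrank F W = r →
    (0 < r → ∃ a, β a a ≠ 0) → ∃ z : Fin r → W, ∀ i j, β (z i) (z j) = if i = j then 1 else 0 := by
  intro r
  induction r with
  | zero => exact fun _ _ _ _ _ => ⟨Fin.elim0, fun i => i.elim0⟩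
  | succ r ih =>
    intro W _ _ _ β hs hnd hdim hna
    obtain ⟨a, ha⟩ := hna r.succ_pos
    obtain ⟨t, ht⟩ := exists_sqrt (β a a)⁻¹
    have hv : β (t • a) (t • a) = 1 := by
      simp only [map_smul, LinearMap.smul_apply, smul_eq_mul]
      rw [← mul_assoc, ht, inv_mul_cancel₀ ha]
    have h2 : (1 : F) + 1 = 0 := CharTwo.add_self_eq_zero 1
    obtain ⟨v, hv1, hW⟩ : ∃ v, β v v = 1 ∧ (0 < r → ∃ w ∈ LinearMap.ker (β v), β w w ≠ 0) := by
      set v := t • a
      by_cases hg : 0 < r → ∃ w ∈ LinearMap.ker (β v), β w w ≠ 0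
      · exact ⟨v, hv, hg⟩
      push Not at hg
      obtain ⟨hr, halt⟩ := hg
      have hker : finrank F (LinearMap.ker (β v)) ≠ 0 := by
        intro h0
        have h := LinearMap.finrank_range_add_finrank_ker (β v)
        have hle := Submodule.finrank_le (LinearMap.range (β v))
        rw [Module.finrank_self] at hle
        omega
      obtain ⟨e, he, he0⟩ := Submodule.exists_mem_ne_zero_of_ne_bot
        (show LinearMap.ker (β v) ≠ ⊥ from fun h => hker (by rw [h, finrank_bot]))
      obtain ⟨w, hw⟩ : ∃ w, β e w ≠ 0 := by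
        by_contra hall
        push Not at hall
        exact he0 (hnd e hall)
      have hev : β v e = 0 := he
      let f₀ := w - β v w • v
      have hf₀ : f₀ ∈ LinearMap.ker (β v) := by
        simp [f₀, LinearMap.mem_ker, hv]
      have hef₀ : β e f₀ = β e w := by
        simp [f₀, hs e v, hev]
      let f := (β e w)⁻¹ • f₀
      have hf : f ∈ LinearMap.ker (β v) := Submodule.smul_mem _ _ hf₀
      have hef : β e f = 1 := by simp [f, hef₀, hw]
      have hee := halt e he
      have hff := halt f hf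
      have hvf : β v f = 0 := hf
      refine ⟨v + e, ?_, fun _ => ⟨v + f, ?_, ?_⟩⟩
      · simp [hv, hev, hs e v, hee]
      · show β (v + e) (v + f) = 0
        simp [hv, hvf, hs e v, hev, hef, h2]
      · simp [hv, hvf, hs f v, hff]
    let U := LinearMap.ker (β v)
    have hsurj : Function.Surjective (β v) := fun c => ⟨c • v, by simp [hv1]⟩
    have hUdim : finrank F U = r := by
      have h := LinearMap.finrank_range_add_finrank_ker (β v)
      rw [LinearMap.range_eq_top.2 hsurj, finrank_top, Module.finrank_self, hdim] at h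
      show finrank F (LinearMap.ker (β v)) = r
      omega
    obtain ⟨z, hz⟩ := ih (β.restrict U) (fun a b => hs _ _) (fun a ha => Subtype.ext (hnd _ fun b => by
      have hmem : b - β v b • v ∈ U := by simp [U, LinearMap.mem_ker, hv1]
      have h := ha ⟨_, hmem⟩
      have hav : β a.1 v = 0 := by rw [hs]; exact a.2
      simpa [LinearMap.BilinForm.restrict, LinearMap.domRestrict₁₂_apply, hav] using h)) hUdim (fun hr => by
      obtain ⟨w, hw, hw'⟩ := hW hr
      exact ⟨⟨w, hw⟩, hw'⟩)
    refine ⟨Fin.cons v fun i => (z i).1, fun i j => ?_⟩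
    have hzv : ∀ k, β v (z k).1 = 0 := fun k => (z k).2
    induction i using Fin.cases <;> induction j using Fin.cases
    · simp [hv1]
    · rename_i j; simp [hzv, (Fin.succ_ne_zero j).symm]
    · rename_i i; simp [hs _ v, hzv, Fin.succ_ne_zero i]
    · rename_i i j; simpa using hz i j

section operator

variable {V : Type v} [AddCommGroup V] [Module F V] [FiniteDimensional F V] {B : BilinForm F V}

/-- The part `a - 1` of an involutory isometry `a`. -/
structure IsNil (B : BilinForm F V) (N : V →ₗ[F] V) : Prop where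
  sq : ∀ v, N (N v) = 0
  adj : ∀ v w, B (N v) w = B v (N w)

variable (hA : B.IsAlt) (hB : B.Nondegenerate) {N : V →ₗ[F] V} (hN : IsNil B N)
include hA hN

omit [Finite F] [FiniteDimensional F V] in
theorem beta_symm (v w : V) : B v (N w) = B w (N v) := by
  rw [← hN.adj, AltForm.swap hA, CharTwo.neg_eq]

omit [Finite F] [FiniteDimensional F V] in
/-- Adjusting representatives to an isotropic family. -/
theorem exists_adapted {κ : Type} [Fintype κ] [DecidableEq κ] (G : Matrix κ κ F) (hG : IsUnit G.det) (z : κ → V)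
    (hz : ∀ i j, B (z i) (N (z j)) = G i j) :
    ∃ x : κ → V, (∀ i j, B (x i) (N (x j)) = G i j) ∧ ∀ i j, B (x i) (x j) = 0 := by
  classical
  let o := Fintype.equivFin κ
  let S : Matrix κ κ F := fun i j => if o i < o j then B (z i) (z j) else 0
  let C : Matrix κ κ F := G⁻¹ * S
  let w : κ → V := fun j => ∑ k, C k j • z k
  have hw : ∀ i j, B (z i) (N (w j)) = S i j := by
    intro i j
    simp only [w, map_sum, map_smul, smul_eq_mul, hz]
    have h : (G * C) i j = S i j := by
      rw [show G * C = G * G⁻¹ * S from (mul_assoc _ _ _).symm, Matrix.mul_nonsing_inv _ hG, one_mul]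
    rw [← h, Matrix.mul_apply]
    exact Finset.sum_congr rfl fun k _ => mul_comm _ _
  refine ⟨fun i => z i + N (w i), fun i j => ?_, fun i j => ?_⟩
  · dsimp only
    rw [map_add, map_add, hN.sq, add_zero, LinearMap.add_apply, hN.adj, hN.sq, map_zero, add_zero, hz]
  · simp only [map_add, LinearMap.add_apply]
    rw [hN.adj (w i) (N (w j)), hN.sq, map_zero, add_zero, hw, AltForm.swap hA (z j) (N (w i)), CharTwo.neg_eq, hw]
    rcases lt_trichotomy (o i) (o j) with h | h | h
    · simp only [S, h, not_lt.2 h.le, if_true, if_false, add_zero]; exact CharTwo.add_self_eq_zero _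
    · obtain rfl := o.injective h
      simp [S, hA.self_eq_zero]
    · simp only [S, h, not_lt.2 h.le, if_true, if_false, add_zero]
      rw [AltForm.swap hA (z i) (z j), CharTwo.neg_eq]; exact CharTwo.add_self_eq_zero _

omit [Finite F] [FiniteDimensional F V] [CharP F 2] hA hN in
theorem indep_range {κ : Type} [Fintype κ] [DecidableEq κ] (G : Matrix κ κ F) (hG : IsUnit G.det) (z : κ → V)
    (hz : ∀ i j, B (z i) (N (z j)) = G i j) : LinearIndependent F fun i => N (z i) := by
  rw [Fintype.linearIndependent_iff]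
  intro c hc
  have h : G *ᵥ c = 0 := funext fun i => by
    have h1 := congrArg (fun u => B (z i) u) hc
    simp only [map_sum, map_smul, hz, smul_eq_mul, map_zero] at h1
    simpa [Matrix.mulVec, dotProduct, mul_comm] using h1
  have := congrArg (fun u => G⁻¹ *ᵥ u) h
  simp only [Matrix.mulVec_mulVec, Matrix.nonsing_inv_mul _ hG, Matrix.one_mulVec, Matrix.mulVec_zero] at this
  exact fun i => congrFun this i

omit [Finite F] in
include hB in
/-- Equal Gram matrices give conjugate operators. -/
theorem exists_conj {N' : V →ₗ[F] V} (hN' : IsNil B N') {κ : Type} [Fintype κ] [DecidableEq κ]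
    (G : Matrix κ κ F) (hG : IsUnit G.det) (hr' : Fintype.card κ = finrank F (LinearMap.range N'))
    (hr : Fintype.card κ = finrank F (LinearMap.range N))
    (z z' : κ → V) (hz : ∀ i j, B (z i) (N (z j)) = G i j) (hz' : ∀ i j, B (z' i) (N' (z' j)) = G i j) :
    ∃ g ∈ AltForm.isoGroup B, ∀ v, g (N v) = N' (g v) := by
  obtain ⟨x, hx, hxx⟩ := exists_adapted hA hN G hG z hz
  obtain ⟨y, hy, hyy⟩ := exists_adapted hA hN' G hG z' hz'
  have key : ∀ {M : V →ₗ[F] V}, IsNil B M → ∀ u : κ → V, (∀ i j, B (u i) (M (u j)) = G i j) →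
      (∀ i j, B (u i) (u j) = 0) → LinearIndependent F (Sum.elim u fun i => M (u i)) := by
    intro M hM u hu huu
    rw [Fintype.linearIndependent_iff]
    intro c hc
    rw [Fintype.sum_sum_type] at hc
    simp only [Sum.elim_inl, Sum.elim_inr] at hc
    have hG0 : ∀ d : κ → F, (∀ i, ∑ j, d j * G i j = 0) → d = 0 := by
      intro d hd
      have h : G *ᵥ d = 0 := funext fun i => by simpa [Matrix.mulVec, dotProduct, mul_comm] using hd i
      have := congrArg (fun w => G⁻¹ *ᵥ w) h
      simpa only [Matrix.mulVec_mulVec, Matrix.nonsing_inv_mul _ hG, Matrix.one_mulVec, Matrix.mulVec_zero] using this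
    have h1 : (fun j => c (Sum.inr j)) = 0 := hG0 _ fun i => by
      have h := congrArg (fun w => B (u i) w) hc
      simpa [huu, hu] using h
    have h3 : (fun j => c (Sum.inl j)) = 0 := hG0 _ fun i => by
      have h := congrArg (fun w => B (M (u i)) w) hc
      have hMM : ∀ j, B (M (u i)) (M (u j)) = 0 := fun j => by rw [hM.adj, hM.sq, map_zero]
      simpa [hM.adj (u i), hM.sq, hu] using h
    rintro (i | i)
    exacts [congrFun h3 i, congrFun h1 i]
  have hlix := key hN x hx hxx
  have hliy := key hN' y hy hyy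
  let bX := Basis.span hlix
  let φ : Submodule.span F (Set.range (Sum.elim x fun i => N (x i))) →ₗ[F] V :=
    bX.constr F (Sum.elim y fun i => N' (y i))
  have hφb : ∀ k, φ (bX k) = Sum.elim y (fun i => N' (y i)) k := fun k => Basis.constr_basis _ _ _ k
  have hbX : ∀ k, ((bX k : _) : V) = Sum.elim x (fun i => N (x i)) k := fun k => by
    simp [bX, Basis.span_apply]
  have hinj : Function.Injective φ := by
    rw [← LinearMap.ker_eq_bot, LinearMap.ker_eq_bot']
    intro a ha
    rw [← bX.sum_repr a, map_sum] at ha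
    simp only [map_smul, hφb] at ha
    have h := Fintype.linearIndependent_iff.1 hliy _ ha
    rw [← bX.sum_repr a]
    simp [h]
  have hform : ∀ a b : Submodule.span F (Set.range (Sum.elim x fun i => N (x i))), B (φ a) (φ b) = B (a : V) b := by
    intro a b
    have h : B.compl₁₂ φ φ = B.compl₁₂ (Submodule.subtype _) (Submodule.subtype _) := by
      refine LinearMap.ext_basis bX bX fun k l => ?_
      simp only [LinearMap.compl₁₂_apply, Submodule.coe_subtype, hφb, hbX]
      rcases k with k | k <;> rcases l with l | l <;> simp only [Sum.elim_inl, Sum.elim_inr]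
      · rw [hxx, hyy]
      · rw [hx, hy]
      · rw [hN.adj, hN'.adj, hx, hy]
      · rw [hN.adj, hN'.adj, hN.sq, hN'.sq, map_zero, map_zero]
    exact LinearMap.congr_fun (LinearMap.congr_fun h a) b
  obtain ⟨g, hg, hgφ⟩ := AltForm.witt hA hB _ φ hinj hform
  have hgx : ∀ i, g (x i) = y i := fun i => by
    have h := hgφ (bX (Sum.inl i))
    rwa [hφb, hbX] at h
  have hgNx : ∀ i, g (N (x i)) = N' (y i) := fun i => by
    have h := hgφ (bX (Sum.inr i))
    rwa [hφb, hbX] at h
  have hspan : ∀ (M : V →ₗ[F] V) (u : κ → V), (LinearIndependent F fun i => M (u i)) →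
      Fintype.card κ = finrank F (LinearMap.range M) → ∀ v, M v ∈ Submodule.span F (Set.range fun i => M (u i)) := by
    intro M u hli hcard v
    have hle : Submodule.span F (Set.range fun i => M (u i)) ≤ LinearMap.range M :=
      Submodule.span_le.2 (by rintro _ ⟨i, rfl⟩; exact ⟨u i, rfl⟩)
    rw [Submodule.eq_of_le_of_finrank_eq hle (by rw [finrank_span_eq_card hli, hcard])]
    exact ⟨v, rfl⟩
  have hliy' := indep_range G hG y hy
  refine ⟨g, hg, fun v => ?_⟩
  have h1 : g (N v) ∈ Submodule.span F (Set.range fun i => N' (y i)) := by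
    have h := Submodule.apply_mem_span_image_of_mem_span g.toLinearMap (hspan N x (indep_range G hG x hx) hr v)
    rw [← Set.range_comp] at h
    simpa [Function.comp_def, hgNx] using h
  have h3 := Submodule.sub_mem _ h1 (hspan N' y hliy' hr' (g v))
  obtain ⟨c, hc⟩ := (Submodule.mem_span_range_iff_exists_fun F).1 h3
  have hz0 : ∀ i, B (y i) (g (N v) - N' (g v)) = 0 := fun i => by
    rw [map_sub, sub_eq_zero, ← hN'.adj, ← hgx, hg, ← hN.adj, hgx, ← hgNx, hg]
  have hc0 : G *ᵥ c = 0 := funext fun i => by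
    have h := hz0 i
    rw [← hc] at h
    simpa [Matrix.mulVec, dotProduct, hy, mul_comm] using h
  have hc1 : c = 0 := by
    have := congrArg (fun w => G⁻¹ *ᵥ w) hc0
    simpa only [Matrix.mulVec_mulVec, Matrix.nonsing_inv_mul _ hG, Matrix.one_mulVec, Matrix.mulVec_zero] using this
  rw [← sub_eq_zero, ← hc, hc1]
  simp

include hB in
/-- Normal forms: orthonormal, or hyperbolic. -/
theorem exists_normal :
    ((∃ v, B v (N v) ≠ 0) → ∃ z : Fin (finrank F (LinearMap.range N)) → V,
        ∀ i j, B (z i) (N (z j)) = (1 : Matrix _ _ F) i j) ∧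
    ((∀ v, B v (N v) = 0) → ∃ (k : ℕ) (z : Fin k ⊕ Fin k → V), finrank F (LinearMap.range N) = 2 * k ∧
        ∀ i j, B (z i) (N (z j)) = Matrix.J (Fin k) F i j) := by
  classical
  obtain ⟨W, hW⟩ := Submodule.exists_isCompl (LinearMap.ker N)
  have hdim : finrank F W = finrank F (LinearMap.range N) := by
    have h1 := Submodule.finrank_add_eq_of_isCompl hW
    have h2 := LinearMap.finrank_range_add_finrank_ker N
    omega
  let β : BilinForm F W := B.compl₁₂ W.subtype (N.comp W.subtype)
  have hβ : ∀ a b, β a b = B a.1 (N b.1) := fun a b => rfl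
  have hdec : ∀ v, ∃ w : W, N w.1 = N v := fun v => by
    obtain ⟨k, hk, w, hw, rfl⟩ := Submodule.mem_sup.1
      (show v ∈ LinearMap.ker N ⊔ W by rw [hW.sup_eq_top]; trivial)
    exact ⟨⟨w, hw⟩, by rw [map_add, LinearMap.mem_ker.1 hk, zero_add]⟩
  have hnd : ∀ a, (∀ b, β a b = 0) → a = 0 := by
    intro a ha
    have h : N a.1 = 0 := hB.1 _ fun v => by
      obtain ⟨w, hw⟩ := hdec v
      rw [hN.adj, ← hw, ← hβ, ha]
    exact Subtype.ext ((Submodule.disjoint_def.1 hW.disjoint) a.1 h a.2)
  have hsym : ∀ a b, β a b = β b a := fun a b => beta_symm hA hN _ _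
  have hdiag : ∀ v, ∃ w : W, β w w = B v (N v) := fun v => by
    obtain ⟨w, hw⟩ := hdec v
    exact ⟨w, by rw [hβ, hw, beta_symm hA hN, hw]⟩
  constructor
  · rintro ⟨v, hv⟩
    obtain ⟨w, hw⟩ := hdiag v
    obtain ⟨z, hz⟩ := exists_orthonormal _ β hsym hnd hdim (fun _ => ⟨w, by rwa [hw]⟩)
    exact ⟨fun i => (z i).1, fun i j => by rw [← hβ, hz, Matrix.one_apply]⟩
  · intro halt
    have hAβ : β.IsAlt := fun a => halt a.1
    obtain ⟨k, l, b, h1, h2, h3, h4⟩ := AltForm.exists_basis hAβ
    have hl : l = 0 := by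
      by_contra hl
      exact b.ne_zero (Sum.inr ⟨0, Nat.pos_of_ne_zero hl⟩) (hnd _ (h4 _))
    subst hl
    refine ⟨k, fun i => (b (Sum.inl i)).1, ?_, ?_⟩
    · rw [← hdim, Module.finrank_eq_card_basis b]
      simp [two_mul]
    · intro i j
      rw [← hβ]
      rcases i with i | i <;> rcases j with j | j
      · rw [h2]; simp [Matrix.J]
      · rw [h1]; simp [Matrix.J, Matrix.one_apply, CharTwo.neg_eq]
      · rw [hsym, h1]; simp [Matrix.J, Matrix.one_apply, eq_comm]
      · rw [h3]; simp [Matrix.J]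

end operator

section matrix

variable {m : ℕ}

local notation "VV" => (Fin m ⊕ Fin m → F)

/-- `a - 1` as a linear map. -/
noncomputable def nilPart (a : symplecticGroup (Fin m) F) : VV →ₗ[F] VV :=
  Matrix.mulVecLin ((a : Matrix (Fin m ⊕ Fin m) (Fin m ⊕ Fin m) F) - 1)

omit [Finite F] [CharP F 2] in
theorem nilPart_apply (a : symplecticGroup (Fin m) F) (v : VV) :
    nilPart a v = (a : Matrix (Fin m ⊕ Fin m) (Fin m ⊕ Fin m) F) *ᵥ v - v := by
  simp [nilPart]

omit [Finite F] in
theorem nilPart_isNil (a : symplecticGroup (Fin m) F) (ha : a ^ 2 = 1) :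
    IsNil (ClassicalSp.spBilin m F) (nilPart a) := by
  have hmm : ∀ v : VV, (a : Matrix (Fin m ⊕ Fin m) (Fin m ⊕ Fin m) F) *ᵥ
      ((a : Matrix (Fin m ⊕ Fin m) (Fin m ⊕ Fin m) F) *ᵥ v) = v := fun v => by
    rw [pow_two] at ha
    rw [Matrix.mulVec_mulVec, ← Submonoid.coe_mul, ha, Submonoid.coe_one, Matrix.one_mulVec]
  refine ⟨fun v => ?_, fun v w => ?_⟩
  · simp only [nilPart_apply, Matrix.mulVec_sub, hmm]
    have : ∀ (p q : VV), p - q - (q - p) = (p + p) - (q + q) := fun p q => by abel
    rw [this]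
    funext i; simp [CharTwo.add_self_eq_zero]
  · have h := ClassicalSp.toEquiv_mem a v ((a : Matrix (Fin m ⊕ Fin m) (Fin m ⊕ Fin m) F) *ᵥ w)
    simp only [ClassicalSp.toEquiv_apply, hmm] at h
    simp only [nilPart_apply, map_sub, LinearMap.sub_apply]
    rw [h]

theorem isConj_iff_invariants (a b : symplecticGroup (Fin m) F) (ha : a ^ 2 = 1) (hb : b ^ 2 = 1) :
    IsConj a b ↔
      (((a : Matrix (Fin m ⊕ Fin m) (Fin m ⊕ Fin m) F) - 1).rank =
        ((b : Matrix (Fin m ⊕ Fin m) (Fin m ⊕ Fin m) F) - 1).rank ∧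
      (Even ((a : Matrix (Fin m ⊕ Fin m) (Fin m ⊕ Fin m) F) - 1).rank →
        Nat.card {v : VV // Cfsg.sympForm m F v ((a : Matrix (Fin m ⊕ Fin m) (Fin m ⊕ Fin m) F) *ᵥ v) = 0} =
          Nat.card {v : VV // Cfsg.sympForm m F v ((b : Matrix (Fin m ⊕ Fin m) (Fin m ⊕ Fin m) F) *ᵥ v) = 0})) := by
  classical
  have hA := ClassicalSp.spBilin_isAlt (m := m) (F := F)
  have hB := ClassicalSp.spBilin_nondeg (m := m) (F := F)
  constructor
  · intro h
    obtain ⟨g, hg⟩ := isConj_iff.1 h
    have hga : g * a = b * g := mul_inv_eq_iff_eq_mul.1 hg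
    have hga' : (g : Matrix (Fin m ⊕ Fin m) (Fin m ⊕ Fin m) F) * a.1 = b.1 * g.1 := congrArg Subtype.val hga
    have hgi : (g : Matrix (Fin m ⊕ Fin m) (Fin m ⊕ Fin m) F) * (g⁻¹ : symplecticGroup (Fin m) F).1 = 1 :=
      congrArg Subtype.val (mul_inv_cancel g)
    have hu : IsUnit (g : Matrix (Fin m ⊕ Fin m) (Fin m ⊕ Fin m) F).det :=
      (Matrix.isUnit_iff_isUnit_det _).1 (IsUnit.of_mul_eq_one _ hgi)
    refine ⟨?_, fun _ => ?_⟩
    · rw [← Matrix.rank_mul_eq_right_of_isUnit_det g.1 (a.1 - 1) hu,
        ← Matrix.rank_mul_eq_left_of_isUnit_det g.1 (b.1 - 1) hu, mul_sub, sub_mul, hga', mul_one, one_mul]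
    · refine Nat.card_congr (Equiv.subtypeEquiv (ClassicalSp.toEquiv g).toEquiv fun v => ?_)
      simp only [LinearEquiv.coe_toEquiv, ClassicalSp.toEquiv_apply]
      rw [Matrix.mulVec_mulVec, ← hga', ← Matrix.mulVec_mulVec, (ClassicalSp.mem_iff_preserves g.1).1 g.2]
  · rintro ⟨hr, hc⟩
    have hN := nilPart_isNil a ha
    have hN' := nilPart_isNil b hb
    have hr' : finrank F (LinearMap.range (nilPart a)) = finrank F (LinearMap.range (nilPart b)) := hr
    have hval : ∀ (c : symplecticGroup (Fin m) F) (v : VV),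
        ClassicalSp.spBilin m F v (nilPart c v) = Cfsg.sympForm m F v ((c : Matrix (Fin m ⊕ Fin m) (Fin m ⊕ Fin m) F) *ᵥ v) := by
      intro c v
      rw [nilPart_apply, map_sub, hA.self_eq_zero, sub_zero, ClassicalSp.spBilin_apply]
    obtain ⟨hn1, ha1⟩ := exists_normal hA hB hN
    obtain ⟨hn2, ha2⟩ := exists_normal hA hB hN'
    have finish : (∃ g ∈ AltForm.isoGroup (ClassicalSp.spBilin m F), ∀ v, g (nilPart a v) = nilPart b (g v)) →
        IsConj a b := by
      rintro ⟨g, hg, hcomm⟩
      obtain ⟨C, rfl⟩ := ClassicalSp.toEquiv_surj hg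
      refine isConj_iff.2 ⟨C, mul_inv_eq_iff_eq_mul.2 (Subtype.ext (Matrix.toLin'.injective (LinearMap.ext fun v => ?_)))⟩
      have h := hcomm v
      simp only [nilPart_apply, map_sub, ClassicalSp.toEquiv_apply, sub_left_inj] at h
      simpa [Matrix.mulVec_mulVec] using h
    by_cases hEq : (∀ v, ClassicalSp.spBilin m F v (nilPart a v) = 0) ↔ (∀ v, ClassicalSp.spBilin m F v (nilPart b v) = 0)
    · by_cases halt : ∀ v, ClassicalSp.spBilin m F v (nilPart a v) = 0
      · obtain ⟨k, z, hk, hz⟩ := ha1 halt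
        obtain ⟨k', z', hk', hz'⟩ := ha2 (hEq.1 halt)
        obtain rfl : k = k' := by omega
        exact finish (exists_conj hA hB hN hN' _ (Matrix.isUnit_det_J (Fin k) F) (by simp; omega) (by simp; omega) z z' hz hz')
      · obtain ⟨z, hz⟩ := hn1 (not_forall.1 halt)
        obtain ⟨z', hz'⟩ := hn2 (not_forall.1 fun h => halt (hEq.2 h))
        exact finish (exists_conj hA hB hN hN' 1 (by simp) (by simp [hr']) (by simp) z
          (fun i => z' (Fin.cast hr' i)) hz (fun i j => by
            rw [hz', Matrix.one_apply, Matrix.one_apply]; simp [Fin.ext_iff]))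
    · exfalso
      have hevenOf : ∀ c : symplecticGroup (Fin m) F, c ^ 2 = 1 → (∀ v, ClassicalSp.spBilin m F v (nilPart c v) = 0) →
          Even ((c : Matrix (Fin m ⊕ Fin m) (Fin m ⊕ Fin m) F) - 1).rank := by
        intro c hc2 halt
        obtain ⟨k, z, hk, -⟩ := (exists_normal hA hB (nilPart_isNil c hc2)).2 halt
        exact ⟨k, by show finrank F (LinearMap.range (nilPart c)) = _; omega⟩
      have heven : Even ((a : Matrix (Fin m ⊕ Fin m) (Fin m ⊕ Fin m) F) - 1).rank := by
        by_cases h : ∀ v, ClassicalSp.spBilin m F v (nilPart a v) = 0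
        · exact hevenOf a ha h
        · rw [hr]
          refine hevenOf b hb ?_
          by_contra h'
          exact hEq ⟨fun x => absurd x h, fun x => absurd x h'⟩
      have hcards := hc heven
      have key : ∀ c : symplecticGroup (Fin m) F,
          (∀ v, ClassicalSp.spBilin m F v (nilPart c v) = 0) ↔
            Nat.card {v : VV // Cfsg.sympForm m F v ((c : Matrix (Fin m ⊕ Fin m) (Fin m ⊕ Fin m) F) *ᵥ v) = 0} = Nat.card VV := by
        intro c
        constructor
        · intro h
          exact Nat.card_congr (Equiv.subtypeUnivEquiv fun v => by rw [← hval]; exact h v)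
        · intro h v
          obtain ⟨w, hw⟩ := ((Nat.bijective_iff_injective_and_card
            (Subtype.val : {v : VV // Cfsg.sympForm m F v ((c : Matrix (Fin m ⊕ Fin m) (Fin m ⊕ Fin m) F) *ᵥ v) = 0} → VV)).2
              ⟨Subtype.val_injective, h⟩).2 v
          rw [hval, ← hw]
          exact w.2
      exact hEq (by rw [key, key, hcards])

end matrix

end Cfsg.Agent.SpInv
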