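/-
Classification of non-degenerate quadratic forms over finite fields: hyperbolic planes plus an anisotropic rest of dimension at most two.
-/
import Cfsg.Agent.Lib.Orthogonal.Perp
import Cfsg.Agent.Lib.Orthogonal.Counts

set_option autoImplicit false
set_option linter.style.haveILetI false

universe u v

namespace Cfsg.Agent.LBQuad

open QuadraticMap Module Cfsg.Agent.Orth

variable {F : Type u} [Field F]

/-- Splitting off a hyperbolic plane. -/
theorem exists_split {V : Type v} [AddCommGroup V] [Module F V] [FiniteDimensional F V] {Q : QuadraticForm F V}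
    (hQ : (polarBilin Q).Nondegenerate) {e f : V} (he : Q e = 0) (hf : Q f = 0) (hef : polar Q e f = 1) :
    ∃ L : V ≃ₗ[F] F × F × perp Q (Submodule.span F {e, f}),
      (∀ v, hyp (restr Q (perp Q (Submodule.span F {e, f}))) (L v) = Q v) ∧
      (polarBilin (restr Q (perp Q (Submodule.span F {e, f})))).Nondegenerate := by
  set R := perp Q (Submodule.span F {e, f}) with hR
  have hee : polar Q e e = 0 := by rw [b_self, he, mul_zero]
  have hff : polar Q f f = 0 := by rw [b_self, hf, mul_zero]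
  have hfe : polar Q f e = 1 := by rw [b_comm]; exact hef
  have hproj : ∀ v : V, v - polar Q v f • e - polar Q v e • f ∈ R := fun v => by
    rw [hR, mem_perp_span]
    rintro b (rfl | rfl)
    · rw [b_sub_right, b_sub_right, b_smul_right, b_smul_right, hee, hef, b_comm v b]; ring
    · rw [b_sub_right, b_smul_right, b_sub_right, b_smul_right, hff, hfe, b_comm v b]; ring
  have hmem : ∀ r : R, polar Q e (r : V) = 0 ∧ polar Q f (r : V) = 0 := fun r =>
    ⟨mem_perp_span.1 r.2 e (by simp), mem_perp_span.1 r.2 f (by simp)⟩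
  let L : V ≃ₗ[F] F × F × R :=
    { toFun := fun v => (polar Q v f, polar Q v e, ⟨_, hproj v⟩)
      map_add' := fun x y => by
        refine Prod.ext (b_add_left _ _ _) (Prod.ext (b_add_left _ _ _) (Subtype.ext ?_))
        show x + y - polar Q (x + y) f • e - polar Q (x + y) e • f =
          (x - polar Q x f • e - polar Q x e • f) + (y - polar Q y f • e - polar Q y e • f)
        rw [b_add_left, b_add_left, add_smul, add_smul]; abel
      map_smul' := fun c x => by
        refine Prod.ext (b_smul_left _ _ _) (Prod.ext (b_smul_left _ _ _) (Subtype.ext ?_))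
        show c • x - polar Q (c • x) f • e - polar Q (c • x) e • f = c • (x - polar Q x f • e - polar Q x e • f)
        rw [b_smul_left, b_smul_left, smul_sub, smul_sub, mul_smul, mul_smul]
      invFun := fun p => p.1 • e + p.2.1 • f + (p.2.2 : V)
      left_inv := fun v => by
        show polar Q v f • e + polar Q v e • f + (v - polar Q v f • e - polar Q v e • f) = v
        abel
      right_inv := fun p => by
        obtain ⟨s, t, r⟩ := p
        have h1 : polar Q (s • e + t • f + (r : V)) f = s := by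
          rw [b_add_left, b_add_left, b_smul_left, b_smul_left, hef, hff, b_comm (r : V) f, (hmem r).2]; ring
        have h2 : polar Q (s • e + t • f + (r : V)) e = t := by
          rw [b_add_left, b_add_left, b_smul_left, b_smul_left, hee, hfe, b_comm (r : V) e, (hmem r).1]; ring
        refine Prod.ext h1 (Prod.ext h2 (Subtype.ext ?_))
        show _ - _ - _ = (r : V)
        rw [h1, h2, sub_sub, add_sub_cancel_left] }
  refine ⟨L, fun v => ?_, nondeg_restr (perp_nondeg hQ (hyp_pair_nondeg he hf hef))⟩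
  conv_rhs => rw [← L.symm_apply_apply v]
  obtain ⟨s, t, r⟩ := L v
  show s * t + Q (r : V) = Q (s • e + t • f + (r : V))
  rw [q_add, q_add, q_smul, q_smul, b_add_left, b_smul_left, b_smul_left, b_smul_left, b_smul_right, he, hf, hef,
    (hmem r).1, (hmem r).2]
  ring

variable [Finite F]

/-- Every non-degenerate form is a sum of hyperbolic planes and an anisotropic form in at most two variables. -/
theorem exists_pad {V : Type v} [AddCommGroup V] [Module F V] [FiniteDimensional F V] {Q : QuadraticForm F V}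
    (hQ : (polarBilin Q).Nondegenerate) :
    ∃ (k d : ℕ) (QW : QuadraticForm F (Fin d → F)) (g : V ≃ₗ[F] ((Fin k ⊕ Fin k) ⊕ Fin d → F)),
      d ≤ 2 ∧ finrank F V = k + k + d ∧ (polarBilin QW).Nondegenerate ∧ (∀ w, QW w = 0 → w = 0) ∧
      ∀ v, Q v = qPad F k QW (g v) := by
  suffices h : ∀ (n : ℕ) (V : Type v) [AddCommGroup V] [Module F V] [FiniteDimensional F V]
      (Q : QuadraticForm F V), finrank F V = n → (polarBilin Q).Nondegenerate →
      ∃ (k d : ℕ) (QW : QuadraticForm F (Fin d → F)) (g : V ≃ₗ[F] ((Fin k ⊕ Fin k) ⊕ Fin d → F)),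
        d ≤ 2 ∧ (polarBilin QW).Nondegenerate ∧ (∀ w, QW w = 0 → w = 0) ∧ ∀ v, Q v = qPad F k QW (g v) by
    obtain ⟨k, d, QW, g, h1, h2, h3, h4⟩ := h _ V Q rfl hQ
    exact ⟨k, d, QW, g, h1, by rw [g.finrank_eq]; simp, h2, h3, h4⟩
  intro n
  induction n using Nat.strong_induction_on with
  | _ n ih =>
    intro V _ _ _ Q hn hQ
    by_cases hs : ∃ e : V, e ≠ 0 ∧ Q e = 0
    · obtain ⟨e, he0, he⟩ := hs
      obtain ⟨f, hef, hf⟩ := exists_partner hQ he0 he
      obtain ⟨L, hL, hR⟩ := exists_split hQ he hf hef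
      have hd := L.finrank_eq
      rw [Module.finrank_prod, Module.finrank_prod, Module.finrank_self] at hd
      obtain ⟨k, d, QW, g, h1, h2, h3, h4⟩ := ih _ (by omega) _ _ rfl hR
      refine ⟨k + 1, d, QW, (L.trans ((LinearEquiv.refl F F).prodCongr ((LinearEquiv.refl F F).prodCongr g))).trans
        (padSucc k (Fin d)).symm, h1, h2, h3, fun v => ?_⟩
      rw [← padSucc_spec, LinearEquiv.trans_apply, LinearEquiv.apply_symm_apply, ← hL v, hyp_apply, hyp_apply, h4]
      rfl
    · have hle : n ≤ 2 := by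
        by_contra! h3
        exact hs (exists_singular hQ (by omega))
      let b := (Module.finBasisOfFinrankEq F V hn).equivFun
      refine ⟨0, n, Q.comp b.symm.toLinearMap, b.trans (padZero (Fin n)).symm, hle,
        nondeg_congr b (fun x => by simp) hQ, fun w hw => ?_, fun v => ?_⟩
      · by_contra hw0
        exact hs ⟨b.symm w, fun h => hw0 (by rw [← b.apply_symm_apply w, h, map_zero]), hw⟩
      · rw [← padZero_spec, LinearEquiv.trans_apply, LinearEquiv.apply_symm_apply]
        simp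

/-- An anisotropic binary form is `x² + xy + ζy²`. -/
theorem exists_bin {V : Type v} [AddCommGroup V] [Module F V] [FiniteDimensional F V] {Q : QuadraticForm F V}
    (hQ : (polarBilin Q).Nondegenerate) (hn : finrank F V = 2) (ha : ∀ v, Q v = 0 → v = 0) :
    ∃ ζ : F, (∀ t : F, t ^ 2 + t + ζ ≠ 0) ∧ ∃ g : V ≃ₗ[F] (Fin 2 → F), ∀ v, Q v = qBin F 1 ζ (g v) := by
  obtain ⟨x, hx⟩ := exists_value hQ hn.ge 1
  have hx0 : x ≠ 0 := fun h => by rw [h, map_zero] at hx; exact zero_ne_one hx
  obtain ⟨y, hyx, hy⟩ : ∃ y, y ∉ Submodule.span F {x} ∧ polar Q x y = 1 := by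
    obtain ⟨w, hw⟩ : ∃ w, w ∉ Submodule.span F {x} := by
      by_contra! h
      have h1 := Submodule.finrank_mono (show (⊤ : Submodule F V) ≤ Submodule.span F {x} from fun v _ => h v)
      rw [finrank_top, finrank_span_singleton hx0] at h1
      omega
    by_cases hxw : polar Q x w = 0
    · obtain ⟨z, hz⟩ : ∃ z, polar Q x z ≠ 0 := by
        by_contra! h
        exact hx0 (eq_zero_of_b hQ h)
      have hy0 : polar Q x ((polar Q x z)⁻¹ • z) = 1 := by rw [b_smul_right, inv_mul_cancel₀ hz]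
      by_cases hin : (polar Q x z)⁻¹ • z ∈ Submodule.span F {x}
      · refine ⟨(polar Q x z)⁻¹ • z + w, fun h => hw ?_, by rw [b_add_right, hy0, hxw, add_zero]⟩
        simpa using Submodule.sub_mem _ h hin
      · exact ⟨_, hin, hy0⟩
    · refine ⟨(polar Q x w)⁻¹ • w, fun h => hw ?_, by rw [b_smul_right, inv_mul_cancel₀ hxw]⟩
      simpa [smul_smul, hxw] using Submodule.smul_mem _ (polar Q x w) h
  have hli : LinearIndependent F ![x, y] := LinearIndependent.pair_iff.2 fun s t h => by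
    rcases eq_or_ne t 0 with rfl | ht
    · rw [zero_smul, add_zero] at h
      exact ⟨(smul_eq_zero.1 h).resolve_right hx0, rfl⟩
    · refine absurd (Submodule.mem_span_singleton.2 ⟨-(t⁻¹ * s), ?_⟩) hyx
      have h1 := congrArg (fun z => t⁻¹ • z) h
      simp only [smul_add, smul_smul, inv_mul_cancel₀ ht, one_smul, smul_zero] at h1
      rw [neg_smul]; exact (eq_neg_of_add_eq_zero_right h1).symm
  let b := basisOfLinearIndependentOfCardEqFinrank hli (by rw [Fintype.card_fin, hn])
  have key : ∀ c : Fin 2 → F, Q (b.equivFun.symm c) = qBin F 1 (Q y) c := fun c => by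
    rw [Module.Basis.equivFun_symm_apply, Fin.sum_univ_two, coe_basisOfLinearIndependentOfCardEqFinrank]
    simp only [Matrix.cons_val_zero, Matrix.cons_val_one]
    rw [q_add, q_smul, q_smul, b_smul_left, b_smul_right, hx, hy, qBin_apply]
    ring
  refine ⟨Q y, fun t ht => ?_, b.equivFun, fun v => ?_⟩
  · have h1 := ha _ ((key ![t, 1]).trans (by rw [qBin_apply]; simpa using ht))
    have h2 := congrArg (fun z => b.equivFun z 1) h1
    simp only [LinearEquiv.apply_symm_apply, map_zero] at h2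
    simp at h2
  · rw [← key, LinearEquiv.symm_apply_apply]

omit [Finite F] in
/-- Transport of the anisotropic part. -/
theorem exists_padCongr {k : ℕ} {κ κ' : Type} {QW : QuadraticForm F (κ → F)} {QW' : QuadraticForm F (κ' → F)}
    (e : (κ → F) ≃ₗ[F] (κ' → F)) (h : ∀ w, QW w = QW' (e w)) :
    ∃ E : ((Fin k ⊕ Fin k) ⊕ κ → F) ≃ₗ[F] ((Fin k ⊕ Fin k) ⊕ κ' → F), ∀ v, qPad F k QW v = qPad F k QW' (E v) := by
  refine ⟨(LinearEquiv.sumArrowLequivProdArrow _ _ F F).trans
    (((LinearEquiv.refl F _).prodCongr e).trans (LinearEquiv.sumArrowLequivProdArrow _ _ F F).symm), fun v => ?_⟩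
  rw [qPad_apply, qPad_apply, h]
  rfl

/-- The even-dimensional forms. -/
theorem classify_even {V : Type v} [AddCommGroup V] [Module F V] [FiniteDimensional F V] {Q : QuadraticForm F V}
    (hQ : (polarBilin Q).Nondegenerate) {m : ℕ} (hV : finrank F V = 2 * m) :
    (∃ g : V ≃ₗ[F] (Fin m ⊕ Fin m → F), ∀ v, Q v = qPlus F m (g v)) ∨
      (∃ ζ : F, (∀ t : F, t ^ 2 + t + ζ ≠ 0) ∧
        ∃ g : V ≃ₗ[F] ((Fin (m - 1) ⊕ Fin (m - 1)) ⊕ Fin 2 → F), ∀ v, Q v = qMinus F (m - 1) 1 ζ (g v)) := by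
  obtain ⟨k, d, QW, g, hd, hdim, hW, hA, hg⟩ := exists_pad hQ
  rcases (show d = 0 ∨ d = 2 by omega) with rfl | rfl
  · obtain rfl : k = m := by omega
    refine Or.inl ⟨g.trans (plusPad k), fun v => ?_⟩
    rw [LinearEquiv.trans_apply, ← plusPad_spec k (g v) |>.symm, hg, qPad_apply, qPad_apply,
      Subsingleton.elim ((g v) ∘ Sum.inr) 0, map_zero, map_zero]
  · obtain rfl : k = m - 1 := by omega
    obtain ⟨ζ, hζ, e, he⟩ := exists_bin hW (by simp) hA
    obtain ⟨E, hE⟩ := exists_padCongr (k := m - 1) e he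
    exact Or.inr ⟨ζ, hζ, g.trans E, fun v => (hg v).trans (hE _)⟩

/-- The odd-dimensional forms. -/
theorem classify_odd {V : Type v} [AddCommGroup V] [Module F V] [FiniteDimensional F V] {Q : QuadraticForm F V}
    (hQ : (polarBilin Q).Nondegenerate) {m : ℕ} (hV : finrank F V = 2 * m + 1) :
    ∃ c : F, c ≠ 0 ∧ ∃ g : V ≃ₗ[F] (Unit ⊕ (Fin m ⊕ Fin m) → F),
      ∀ v, Q v = c * g v (.inl ()) ^ 2 + ∑ i, g v (.inr (.inl i)) * g v (.inr (.inr i)) := by
  obtain ⟨k, d, QW, g, hd, hdim, hW, hA, hg⟩ := exists_pad hQ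
  obtain rfl : d = 1 := by omega
  obtain rfl : k = m := by omega
  refine ⟨QW (fun _ => 1), fun h => one_ne_zero (congrFun (hA _ h) 0), (g.trans
    (LinearEquiv.funCongrLeft F F ((Equiv.sumComm Unit _).trans (Equiv.sumCongr (Equiv.refl _) finOneEquiv.symm)))),
    fun v => ?_⟩
  rw [hg, qPad_apply, show (g v) ∘ Sum.inr = g v (.inr 0) • (fun _ => (1 : F)) from
    funext fun i => by rw [Subsingleton.elim i 0]; simp, q_smul, add_comm]
  refine congrArg₂ (· + ·) ?_ rfl
  simp only [LinearEquiv.trans_apply, LinearEquiv.funCongrLeft_apply, LinearMap.funLeft_apply]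
  rw [show ((Equiv.sumComm Unit (Fin k ⊕ Fin k)).trans ((Equiv.refl _).sumCongr finOneEquiv.symm)) (Sum.inl ())
      = Sum.inr 0 from congrArg Sum.inr (Subsingleton.elim _ _)]
  ring

omit [Finite F] in
/-- The Witt index of a padded anisotropic form. -/
theorem singular_bound {κ : Type} [Finite κ] {QW : QuadraticForm F (κ → F)} (hW : (polarBilin QW).Nondegenerate)
    (hA : ∀ w, QW w = 0 → w = 0) (k : ℕ) :
    (∃ U : Submodule F ((Fin k ⊕ Fin k) ⊕ κ → F), (∀ u ∈ U, qPad F k QW u = 0) ∧ finrank F U = k) ∧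
    ∀ U : Submodule F ((Fin k ⊕ Fin k) ⊕ κ → F), (∀ u ∈ U, qPad F k QW u = 0) → finrank F U ≤ k := by
  classical
  haveI := Fintype.ofFinite κ
  let ι : (Fin k → F) →ₗ[F] ((Fin k ⊕ Fin k) ⊕ κ → F) :=
    { toFun := fun x => Sum.elim (Sum.elim x 0) 0
      map_add' := fun x y => by ext ((i | i) | i) <;> simp
      map_smul' := fun c x => by ext ((i | i) | i) <;> simp }
  have hι : Function.Injective ι := fun x y h => funext fun i => congrFun h (.inl (.inl i))
  have h0 : ∀ u ∈ LinearMap.range ι, qPad F k QW u = 0 := by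
    rintro _ ⟨x, rfl⟩
    rw [qPad_apply, show (ι x) ∘ Sum.inr = 0 from rfl, map_zero, add_zero]
    exact Finset.sum_eq_zero fun i _ => mul_zero _
  have hr : finrank F (LinearMap.range ι) = k := by
    rw [LinearMap.finrank_range_of_inj hι]; simp
  refine ⟨⟨_, h0, hr⟩, fun U hU => ?_⟩
  refine (finrank_maximal_le (qPad_nondeg hW k) h0 hU fun W hle hsing => le_antisymm (fun w hw => ?_) hle).trans hr.le
  have hy : ∀ i, w (.inl (.inr i)) = 0 := fun i => by
    have h1 := b_eq_zero_of_singular hsing (hle ⟨Pi.single i 1, rfl⟩) hw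
    rw [polar, qPad_apply, qPad_apply, qPad_apply] at h1
    have e1 : ∀ x : Fin k → F, ι x ∘ Sum.inr = (0 : κ → F) := fun x => rfl
    have e2 : (ι (Pi.single i 1) + w) ∘ Sum.inr = w ∘ Sum.inr := by ext; simp [ι]
    rw [e1, e2, map_zero] at h1
    simp only [ι, LinearMap.coe_mk, AddHom.coe_mk, Pi.add_apply, Sum.elim_inl, Sum.elim_inr, Pi.zero_apply,
      zero_add, mul_zero, Finset.sum_const_zero, add_mul, Finset.sum_add_distrib, Pi.single_apply, ite_mul, one_mul,
      zero_mul, Finset.sum_ite_eq', Finset.mem_univ, if_true] at h1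
    linear_combination h1
  have hq := hsing w hw
  rw [qPad_apply, Finset.sum_eq_zero (fun i _ => by rw [hy i, mul_zero]), zero_add] at hq
  refine ⟨fun i => w (.inl (.inl i)), ?_⟩
  ext ((i | i) | i)
  · rfl
  · exact (hy i).symm
  · exact (congrFun (hA _ hq) i).symm

end Cfsg.Agent.LBQuad

namespace Cfsg.Agent.LBQuad

open QuadraticMap Module Cfsg.Agent.Orth

variable {F : Type*} [Field F]

theorem polar_qPad {k : ℕ} {κ : Type} (QW : QuadraticForm F (κ → F)) (x y : (Fin k ⊕ Fin k) ⊕ κ → F) :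
    polar (qPad F k QW) x y = (∑ i, (x (.inl (.inl i)) * y (.inl (.inr i)) + y (.inl (.inl i)) * x (.inl (.inr i))))
      + polar QW (x ∘ Sum.inr) (y ∘ Sum.inr) := by
  simp only [polar, qPad_apply, Pi.add_apply, show (x + y) ∘ Sum.inr = x ∘ Sum.inr + y ∘ Sum.inr from rfl,
    add_mul, mul_add, Finset.sum_add_distrib]
  ring

theorem polar_qBin' (a b : F) (v w : Fin 2 → F) :
    polar (qBin F a b) v w = 2 * v 0 * w 0 + a * (v 0 * w 1 + w 0 * v 1) + 2 * b * (v 1 * w 1) := by
  simp only [polar, qBin_apply, Pi.add_apply]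
  ring

theorem bin_aniso {ζ : F} (hζ : ∀ t : F, t ^ 2 + t + ζ ≠ 0) :
    ∀ z₁ z₂ : F, z₁ ^ 2 + 1 * z₁ * z₂ + ζ * z₂ ^ 2 = 0 → z₁ = 0 ∧ z₂ = 0 := by
  intro z₁ z₂ h
  rcases eq_or_ne z₂ 0 with rfl | h2
  · exact ⟨by simpa using h, rfl⟩
  · refine absurd ?_ (hζ (z₁ / z₂))
    field_simp
    linear_combination h

theorem qBin_eq_zero {a b : F} (hab : ∀ z₁ z₂ : F, z₁ ^ 2 + a * z₁ * z₂ + b * z₂ ^ 2 = 0 → z₁ = 0 ∧ z₂ = 0)
    {v : Fin 2 → F} (h : qBin F a b v = 0) : v = 0 := by
  rw [qBin_apply] at h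
  ext i; fin_cases i
  · exact (hab _ _ h).1
  · exact (hab _ _ h).2

variable [Finite F]

/-- The hyperbolic and the elliptic form are not isometric. -/
theorem plus_ne_minus {a b : F} (hab : ∀ z₁ z₂ : F, z₁ ^ 2 + a * z₁ * z₂ + b * z₂ ^ 2 = 0 → z₁ = 0 ∧ z₂ = 0)
    {m : ℕ} (hm : 1 ≤ m) (g : (Fin m ⊕ Fin m → F) ≃ₗ[F] ((Fin (m - 1) ⊕ Fin (m - 1)) ⊕ Fin 2 → F)) :
    ¬ ∀ v, qMinus F (m - 1) a b (g v) = qPlus F m v := by
  intro h
  obtain ⟨⟨U, hU, hU'⟩, -⟩ := singular_bound (F := F) (zero_nondeg) (fun w _ => Subsingleton.elim w 0) m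
  let e := (plusPad (F := F) m).trans g
  have hb : finrank F (U.map e.toLinearMap) ≤ m - 1 := by
    refine (singular_bound (qBin_nondeg hab) (fun w hw => qBin_eq_zero hab hw) (m - 1)).2 _ ?_
    rintro _ ⟨u, hu, rfl⟩
    exact (h _).trans ((plusPad_spec m u).trans (hU u hu))
  rw [← LinearEquiv.finrank_eq (Submodule.equivMapOfInjective _ e.injective U), hU'] at hb
  omega

end Cfsg.Agent.LBQuad
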