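/-
Even-dimensional non-degenerate quadratic forms: two isometry classes, orthogonal sums, fixed-point-free
elements of prime order and the type of the form.
-/
import Cfsg.Agent.Lib.LinearBlock.QuadClass
import Cfsg.Agent.Lib.Orthogonal.Witt
import Cfsg.Agent.Lib.Orthogonal.Hyper
import Mathlib

set_option autoImplicit false
set_option linter.all false

universe v

namespace Cfsg.Agent.LBEven

open QuadraticMap Module Cfsg.Agent.Orth

variable {F : Type*} [Field F] [Finite F]

theorem bin_iso {ζ ζ' : F} (h : ∀ t : F, t ^ 2 + t + ζ ≠ 0) (h' : ∀ t : F, t ^ 2 + t + ζ' ≠ 0) :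
    ∃ g : (Fin 2 → F) ≃ₗ[F] (Fin 2 → F), ∀ v, qBin F 1 ζ' v = qBin F 1 ζ (g v) := by
  haveI := Fintype.ofFinite F
  classical
  obtain ⟨s, l, hl, h1, h2⟩ : ∃ s l : F, l ≠ 0 ∧ 2 * s + l = 1 ∧ s ^ 2 + s * l + ζ * l ^ 2 = ζ' := by
    by_cases h2 : (2 : F) = 0
    · haveI : CharP F 2 := CharTwo.of_one_ne_zero_of_two_eq_zero one_ne_zero h2
      let φ : F →+ F := AddMonoidHom.mk' (fun s => s ^ 2 + s) (fun a b => by linear_combination (a * b) * h2)
      have hker : Nat.card φ.ker = 2 := by
        rw [Nat.card_eq_two_iff' ⟨0, φ.ker.zero_mem⟩]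
        refine ⟨⟨1, show (1 : F) ^ 2 + 1 = 0 by linear_combination h2⟩, fun e => one_ne_zero (congrArg Subtype.val e), fun y hy => ?_⟩
        have hy' : (y : F) ^ 2 + y = 0 := y.2
        have : (y : F) * ((y : F) + 1) = 0 := by linear_combination hy'
        rcases mul_eq_zero.1 this with e | e
        · exact absurd (Subtype.ext e) hy
        · exact Subtype.ext (by linear_combination e - h2)
      have hidx : φ.range.index = 2 := by
        have e1 := φ.range.card_mul_index
        have e2 : Nat.card φ.ker * φ.ker.index = Nat.card F := φ.ker.card_mul_index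
        rw [AddSubgroup.index_ker, hker] at e2
        have hpos : 0 < Nat.card φ.range := Nat.card_pos
        nlinarith
      have hz : ∀ z : F, (∀ t : F, t ^ 2 + t + z ≠ 0) → z ∉ φ.range := by
        rintro z hz ⟨t, ht⟩
        exact hz t (by show t ^ 2 + t + z = 0; rw [show t ^ 2 + t = z from ht]; linear_combination z * h2)
      have hsum : ζ + ζ' ∈ φ.range := by
        rw [AddSubgroup.add_mem_iff_of_index_two hidx]
        exact iff_of_false (hz _ h) (hz _ h')
      obtain ⟨s, hs⟩ := hsum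
      have hs' : s ^ 2 + s = ζ + ζ' := hs
      exact ⟨s, 1, one_ne_zero, by linear_combination s * h2, by linear_combination hs' + ζ * h2⟩
    · have hns : ∀ z : F, (∀ t : F, t ^ 2 + t + z ≠ 0) → ¬ IsSquare (1 - 4 * z) := by
        rintro z hz ⟨u, hu⟩
        refine hz ((u - 1) / 2) ?_
        field_simp
        linear_combination -hu
      obtain ⟨l, hl⟩ : IsSquare ((1 - 4 * ζ') * (1 - 4 * ζ)⁻¹) := by
        by_contra hc
        have e1 := quadraticChar_neg_one_iff_not_isSquare.2 (hns _ h')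
        have e2 := quadraticChar_neg_one_iff_not_isSquare.2 hc
        rw [map_mul, e1] at e2
        have e3 := quadraticChar_neg_one_iff_not_isSquare.2 (fun hs => hns _ h (by simpa using hs.inv) :
          ¬ IsSquare (1 - 4 * ζ)⁻¹)
        rw [e3] at e2
        norm_num at e2
      have hd : (1 - 4 * ζ) ≠ 0 := fun e => hns _ h (e ▸ ⟨0, by ring⟩)
      have hd' : (1 - 4 * ζ') ≠ 0 := fun e => hns _ h' (e ▸ ⟨0, by ring⟩)
      have hl' : (1 - 4 * ζ') = l * l * (1 - 4 * ζ) := by
        rw [← hl, mul_assoc, inv_mul_cancel₀ hd, mul_one]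
      have hl0 : l ≠ 0 := fun e => hd' (by rw [hl', e]; ring)
      refine ⟨(1 - l) / 2, l, hl0, by field_simp; ring, ?_⟩
      field_simp
      linear_combination hl'
  let g : (Fin 2 → F) ≃ₗ[F] (Fin 2 → F) :=
    { toFun := fun v => ![v 0 + s * v 1, l * v 1]
      map_add' := fun a b => by ext i; fin_cases i <;> simp <;> ring
      map_smul' := fun c a => by ext i; fin_cases i <;> simp <;> ring
      invFun := fun w => ![w 0 - s * (w 1 / l), w 1 / l]
      left_inv := fun v => by ext i; fin_cases i <;> simp [hl]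
      right_inv := fun w => by ext i; fin_cases i <;> simp [hl, mul_div_cancel₀] }
  refine ⟨g, fun v => ?_⟩
  rw [qBin_apply, qBin_apply]
  show _ = (v 0 + s * v 1) ^ 2 + 1 * (v 0 + s * v 1) * (l * v 1) + ζ * (l * v 1) ^ 2
  linear_combination (-(v 0 * v 1)) * h1 - (v 1 ^ 2) * h2

variable {V : Type v} [AddCommGroup V] [Module F V] [FiniteDimensional F V]

/-- The form is hyperbolic. -/
def IsPlus (m : ℕ) (Q : QuadraticForm F V) : Prop := ∃ g : V ≃ₗ[F] (Fin m ⊕ Fin m → F), ∀ v, Q v = qPlus F m (g v)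

theorem minus_not_plus {m : ℕ} (hm : 1 ≤ m) {Q : QuadraticForm F V} {a b : F}
    (hab : ∀ z₁ z₂ : F, z₁ ^ 2 + a * z₁ * z₂ + b * z₂ ^ 2 = 0 → z₁ = 0 ∧ z₂ = 0)
    (g : V ≃ₗ[F] ((Fin (m - 1) ⊕ Fin (m - 1)) ⊕ Fin 2 → F)) (hg : ∀ v, Q v = qMinus F (m - 1) a b (g v)) : ¬ IsPlus m Q := by
  rintro ⟨g', hg'⟩
  exact LBQuad.plus_ne_minus hab hm (g'.symm.trans g) fun v => by
    rw [LinearEquiv.trans_apply, ← hg, hg', LinearEquiv.apply_symm_apply]

/-- Two forms of the same type are isometric. -/
theorem exists_iso {W : Type*} [AddCommGroup W] [Module F W] [FiniteDimensional F W] {Q : QuadraticForm F V} {R : QuadraticForm F W}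
    (hQ : (polarBilin Q).Nondegenerate) (hR : (polarBilin R).Nondegenerate) {m : ℕ} (hV : finrank F V = 2 * m)
    (hW : finrank F W = 2 * m) (h : IsPlus m Q ↔ IsPlus m R) : ∃ g : V ≃ₗ[F] W, ∀ v, Q v = R (g v) := by
  by_cases hp : IsPlus m Q
  · obtain ⟨g, hg⟩ := hp
    obtain ⟨g', hg'⟩ := h.1 ⟨g, hg⟩
    exact ⟨g.trans g'.symm, fun v => by rw [hg, LinearEquiv.trans_apply, hg', LinearEquiv.apply_symm_apply]⟩
  · have hp' : ¬ IsPlus m R := fun e => hp (h.2 e)
    obtain ⟨ζ, hζ, g, hg⟩ := (LBQuad.classify_even hQ hV).resolve_left hp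
    obtain ⟨ζ', hζ', g', hg'⟩ := (LBQuad.classify_even hR hW).resolve_left hp'
    obtain ⟨e, he⟩ := bin_iso hζ' hζ
    obtain ⟨E, hE⟩ := LBQuad.exists_padCongr (k := m - 1) e he
    refine ⟨g.trans (E.trans g'.symm), fun v => ?_⟩
    rw [hg, LinearEquiv.trans_apply, LinearEquiv.trans_apply, hg', LinearEquiv.apply_symm_apply]
    exact hE _

/-- Witt cancellation. -/
theorem cancel {A W W' : Type*} [AddCommGroup A] [Module F A] [FiniteDimensional F A] [AddCommGroup W] [Module F W]
    [FiniteDimensional F W] [AddCommGroup W'] [Module F W'] [FiniteDimensional F W'] {QA : QuadraticForm F A}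
    {QW : QuadraticForm F W} {QW' : QuadraticForm F W'} (hA : (polarBilin QA).Nondegenerate) (hW : (polarBilin QW').Nondegenerate)
    (hdim : finrank F W = finrank F W') (φ : (A × W) ≃ₗ[F] (A × W')) (hφ : ∀ x, (QA.prod QW') (φ x) = (QA.prod QW) x) :
    ∃ ψ : W ≃ₗ[F] W', ∀ w, QW w = QW' (ψ w) := by
  have hnd : (polarBilin (QA.prod QW')).Nondegenerate := by
    refine nondeg_of fun x hx => Prod.ext (eq_zero_of_b hA fun y => ?_) (eq_zero_of_b hW fun y => ?_)
    · have := hx (y, 0)
      simp only [polar, QuadraticMap.prod_apply, Prod.fst_add, Prod.snd_add, add_zero, map_zero] at this ⊢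
      linear_combination this
    · have := hx (0, y)
      simp only [polar, QuadraticMap.prod_apply, Prod.fst_add, Prod.snd_add, add_zero, map_zero] at this ⊢
      linear_combination this
  let X : Submodule F (A × W') := LinearMap.range (φ.toLinearMap.comp (LinearMap.inl F A W))
  have hinj : Function.Injective (φ.toLinearMap.comp (LinearMap.inl F A W)) := φ.injective.comp LinearMap.inl_injective
  let back := (LinearEquiv.ofInjective _ hinj).symm
  obtain ⟨T, -, hT, hTX⟩ := witt hnd full_oGroup X ((LinearMap.inl F A W').comp back.toLinearMap)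
    (LinearMap.inl_injective.comp back.injective) (fun x => by
      obtain ⟨a, rfl⟩ := (LinearEquiv.ofInjective _ hinj).surjective x
      show (QA.prod QW') ((back ((LinearEquiv.ofInjective _ hinj) a)), 0) = (QA.prod QW') (φ (a, 0))
      rw [hφ, LinearEquiv.symm_apply_apply]; simp)
  have hTA : ∀ a, T (φ (a, 0)) = (a, 0) := fun a => by
    refine (hTX ⟨_, a, rfl⟩).trans ?_
    show ((back ⟨_, _⟩ : A), (0 : W')) = (a, 0)
    rw [show (⟨_, a, rfl⟩ : X) = (LinearEquiv.ofInjective _ hinj) a from rfl, LinearEquiv.symm_apply_apply]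
  let Φ : W →ₗ[F] W' := (LinearMap.snd F A W').comp (T.toLinearMap.comp (φ.toLinearMap.comp (LinearMap.inr F A W)))
  have hfst : ∀ w, (T (φ (0, w))).1 = 0 := by
    intro w
    refine eq_zero_of_b hA fun a => ?_
    have h1 : polar (QA.prod QW') (T (φ (0, w))) (T (φ (a, 0))) = 0 := by
      rw [b_map hT]
      simp only [polar, ← map_add, hφ]
      simp
    rw [hTA] at h1
    simp only [polar, QuadraticMap.prod_apply, Prod.fst_add, Prod.snd_add, add_zero, map_zero] at h1 ⊢
    linear_combination h1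
  have hΦ : ∀ w, QW' (Φ w) = QW w := by
    intro w
    have h1 := (hT (φ (0, w))).trans (hφ (0, w))
    rw [QuadraticMap.prod_apply, hfst] at h1
    simpa [Φ] using h1
  have hΦi : Function.Injective Φ := by
    intro a b h
    have e : T (φ (0, a)) = T (φ (0, b)) := Prod.ext ((hfst a).trans (hfst b).symm) h
    exact congrArg Prod.snd (φ.injective (T.injective e))
  exact ⟨LinearEquiv.ofInjective Φ hΦi |>.trans (LinearEquiv.ofTop _ (LinearMap.range_eq_top.2
    ((LinearMap.injective_iff_surjective_of_finrank_eq_finrank hdim).1 hΦi))), fun w => (hΦ w).symm⟩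

/-- The count of singular vectors modulo a prime order fixed-point-free isometry. -/
theorem count_mod {r : ℕ} (hr : r.Prime) {Q : QuadraticForm F V} (g : V ≃ₗ[F] V) (hg : g ∈ oGroup Q) (hgr : g ^ r = 1)
    (hfix : ∀ v, g v = v → v = 0) : Nat.card {v // Q v = 0} ≡ 1 [MOD r] := by
  classical
  haveI : Fact r.Prime := ⟨hr⟩
  haveI : Finite V := Module.finite_of_finite F
  haveI := Fintype.ofFinite V
  let σ : Equiv.Perm {v // Q v = 0} := (g.toEquiv).subtypeEquiv fun v => by
    show Q v = 0 ↔ Q (g v) = 0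
    rw [hg v]
  have hk : ∀ (k : ℕ) (x : {v // Q v = 0}), ((σ ^ k) x).1 = (g ^ k) x.1 := by
    intro k
    induction k with
    | zero => intro x; rfl
    | succ k ih => intro x; rw [pow_succ, pow_succ, Equiv.Perm.mul_apply, LinearEquiv.mul_apply, ih]; rfl
  have hσ : σ ^ r ^ 1 = 1 := Equiv.ext fun x => Subtype.ext (by rw [pow_one, hk, hgr]; rfl)
  have h := Equiv.Perm.card_compl_support_modEq hσ
  have hsup : σ.supportᶜ = {⟨0, map_zero Q⟩} := by
    ext x
    simp only [Finset.mem_compl, Equiv.Perm.mem_support, not_not, Finset.mem_singleton]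
    refine ⟨fun e => Subtype.ext (hfix _ (congrArg Subtype.val e)), fun e => Subtype.ext ?_⟩
    show g x.1 = x.1
    rw [e]; exact map_zero g
  rw [hsup, Finset.card_singleton] at h
  rw [Nat.card_eq_fintype_card]
  exact h.symm

end Cfsg.Agent.LBEven
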