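/-
Semisimple isometries of odd order that are linearly similar are conjugate in the orthogonal group.
-/
import Cfsg.Agent.Lib.Orthogonal.Witt
import Cfsg.Agent.Lib.Orthogonal.Matrix
import Cfsg.Agent.Lib.Classical.SympClasses
import Mathlib

set_option autoImplicit false
set_option linter.all false

namespace Cfsg.Agent.LBOrthSS

open Matrix QuadraticMap SympClasses

variable {F : Type*} [Field F] [Fintype F] {ι : Type} [Fintype ι] [DecidableEq ι] (Q : QuadraticForm F (ι → F))

/-- The Gram matrix of the polar form. -/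
noncomputable def gram : Matrix ι ι F := LinearMap.toMatrix₂' F (polarBilin Q)

theorem polar_eq (x y : ι → F) : polar Q x y = x ⬝ᵥ (gram Q *ᵥ y) := by
  rw [← Matrix.toLinearMap₂'_apply', gram, Matrix.toLinearMap₂'_toMatrix']
  rfl

theorem ext_form {A B : Matrix ι ι F} (h : ∀ x y, x ⬝ᵥ (A *ᵥ y) = x ⬝ᵥ (B *ᵥ y)) : A = B := by
  ext i j
  simpa [Matrix.mulVec_single_one] using h (Pi.single i 1) (Pi.single j 1)

theorem gram_symm : (gram Q)ᵀ = gram Q := by
  refine ext_form fun x y => ?_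
  rw [Matrix.dotProduct_mulVec, Matrix.vecMul_transpose, dotProduct_comm, ← polar_eq, ← polar_eq, polar_comm]

variable {Q} (hQ : (polarBilin Q).Nondegenerate)
include hQ

theorem gram_det : IsUnit (gram Q).det := by
  rw [← Matrix.isUnit_iff_isUnit_det, ← Matrix.mulVec_injective_iff_isUnit]
  intro a b h
  refine sub_eq_zero.1 (hQ.1 _ fun y => ?_)
  show polar Q (a - b) y = 0
  rw [polar_comm, polar_eq, Matrix.mulVec_sub, h, sub_self, dotProduct_zero]

omit hQ
/-- The adjoint for the polar form. -/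
noncomputable def adj (Q : QuadraticForm F (ι → F)) (X : Matrix ι ι F) : Matrix ι ι F := (gram Q)⁻¹ * Xᵀ * gram Q

theorem adj_add (X Y : Matrix ι ι F) : adj Q (X + Y) = adj Q X + adj Q Y := by
  simp [adj, Matrix.transpose_add, mul_add, add_mul]

include hQ

theorem adj_mul (X Y : Matrix ι ι F) : adj Q (X * Y) = adj Q Y * adj Q X := by
  simp only [adj, Matrix.transpose_mul, mul_assoc]
  rw [← mul_assoc (gram Q) (gram Q)⁻¹, Matrix.mul_nonsing_inv _ (gram_det hQ), one_mul]

theorem adj_adj (X : Matrix ι ι F) : adj Q (adj Q X) = X := by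
  simp only [adj, Matrix.transpose_mul, Matrix.transpose_transpose, Matrix.transpose_nonsing_inv, gram_symm]
  rw [← mul_assoc, ← mul_assoc, Matrix.nonsing_inv_mul _ (gram_det hQ), one_mul, mul_assoc, Matrix.nonsing_inv_mul _ (gram_det hQ), mul_one]

theorem adj_one : adj Q (1 : Matrix ι ι F) = 1 := by
  rw [adj, Matrix.transpose_one, mul_one, Matrix.nonsing_inv_mul _ (gram_det hQ)]

theorem polar_adj (X : Matrix ι ι F) (x y : ι → F) : polar Q (X *ᵥ x) y = polar Q x (adj Q X *ᵥ y) := by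
  rw [polar_eq, polar_eq, Matrix.mulVec_mulVec, adj, ← mul_assoc, ← mul_assoc, Matrix.mul_nonsing_inv _ (gram_det hQ),
    one_mul, ← Matrix.mulVec_mulVec, Matrix.dotProduct_mulVec x Xᵀ, Matrix.vecMul_transpose]

theorem adj_of_preserves {M : Matrix ι ι F} (h : ∀ v, Q (M *ᵥ v) = Q v) : adj Q M * M = 1 := by
  have hm : Mᵀ * gram Q * M = gram Q := by
    refine ext_form fun x y => ?_
    rw [← Matrix.mulVec_mulVec, ← Matrix.mulVec_mulVec, Matrix.dotProduct_mulVec x Mᵀ, Matrix.vecMul_transpose,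
      ← polar_eq, ← polar_eq]
    simp only [polar, ← Matrix.mulVec_add, h]
  rw [adj, mul_assoc, mul_assoc, ← mul_assoc Mᵀ, hm, Matrix.nonsing_inv_mul _ (gram_det hQ)]

/-- Similar isometries of odd order prime to `p` are conjugate. -/
theorem isConj_of_conjugator (p : ℕ) [Fact p.Prime] [CharP F p] (g h : ↥(Cfsg.isometryGroup F (⇑Q)))
    {N : ℕ} (hN : (N : F) ≠ 0) (hNodd : Odd N) (hgN : g ^ N = 1) (hhN : h ^ N = 1) (P : (Matrix ι ι F)ˣ)
    (hP : (P : Matrix ι ι F) * (g : GL ι F).1 = (h : GL ι F).1 * P) : IsConj g h := by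
  obtain ⟨gm, hgm⟩ : ∃ gm, gm = (g : GL ι F).1 := ⟨_, rfl⟩
  obtain ⟨hm, hhm⟩ : ∃ hm, hm = (h : GL ι F).1 := ⟨_, rfl⟩
  rw [← hgm, ← hhm] at hP
  have hpg : ∀ v, Q (gm *ᵥ v) = Q v := hgm ▸ Orth.mem_isometryGroup.1 g.2
  have hph : ∀ v, Q (hm *ᵥ v) = Q v := hhm ▸ Orth.mem_isometryGroup.1 h.2
  have hga := adj_of_preserves hQ hpg
  have hha := adj_of_preserves hQ hph
  have hga' : gm * adj Q gm = 1 := mul_eq_one_comm.1 hga
  have hha' : hm * adj Q hm = 1 := mul_eq_one_comm.1 hha
  have hgp : gm ^ N = 1 := by rw [hgm, ← Units.val_pow_eq_pow_val, ← SubmonoidClass.coe_pow, hgN]; rfl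
  have hhp : hm ^ N = 1 := by rw [hhm, ← Units.val_pow_eq_pow_val, ← SubmonoidClass.coe_pow, hhN]; rfl
  -- the fixed space projections
  have proj : ∀ x : Matrix ι ι F, x ^ N = 1 → adj Q x * x = 1 →
      x * avg F x N = avg F x N ∧ avg F x N * x = avg F x N ∧ avg F x N * avg F x N = avg F x N ∧
        adj Q (avg F x N) = avg F x N := by
    intro x hx hxa
    have h1 := mul_avg (F := F) hx
    have h2 : avg F x N * x = avg F x N := by rw [← (commute_avg (F := F) N (Commute.refl x)).eq, h1]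
    have h3 : adj Q x * avg F x N = avg F x N := by
      have := congrArg (adj Q x * ·) h1
      simp only [← mul_assoc, hxa, one_mul] at this
      exact this.symm
    have h4 : adj Q (avg F x N) * x = adj Q (avg F x N) := by
      have := congrArg (adj Q) h3
      rwa [adj_mul hQ, adj_adj hQ] at this
    have h5 : ∀ i : ℕ, adj Q (avg F x N) * x ^ i = adj Q (avg F x N) := by
      intro i
      induction i with
      | zero => rw [pow_zero, mul_one]
      | succ i ih => rw [pow_succ, ← mul_assoc, ih, h4]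
    have h6 : adj Q (avg F x N) * avg F x N = adj Q (avg F x N) := by
      conv_lhs => arg 2; rw [avg]
      rw [mul_smul_comm, Finset.mul_sum, Finset.sum_congr rfl fun i _ => h5 i, Finset.sum_const, Finset.card_range,
        ← Nat.cast_smul_eq_nsmul F, smul_smul, inv_mul_cancel₀ hN, one_smul]
    refine ⟨h1, h2, avg_mul_of_fix hN h1, ?_⟩
    have := congrArg (adj Q) h6
    rw [adj_mul hQ, adj_adj hQ, h6] at this
    exact this
  obtain ⟨hge, heg, hee, hθe⟩ := proj gm hgp hga
  obtain ⟨hhe, heh, hee', hθe'⟩ := proj hm hhp hha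
  set e := avg F gm N with he
  set e' := avg F hm N with he'
  have hPe : (P : Matrix ι ι F) * e = e' * P := semiconj_avg N hP
  obtain ⟨C, hC⟩ : ∃ C, C = adj Q (P : Matrix ι ι F) * P := ⟨_, rfl⟩
  have hCg : Commute C gm := by
    have h1 : adj Q (P : Matrix ι ι F) * hm = gm * adj Q (P : Matrix ι ι F) := by
      have h2 := congrArg (adj Q) hP
      rw [adj_mul hQ, adj_mul hQ] at h2
      calc adj Q (P : Matrix ι ι F) * hm = gm * (adj Q gm * adj Q (P : Matrix ι ι F)) * hm := by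
            rw [← mul_assoc gm, hga', one_mul]
        _ = gm * adj Q (P : Matrix ι ι F) := by
            rw [h2, mul_assoc gm, mul_assoc (adj Q (P : Matrix ι ι F)), hha, mul_one]
    show C * gm = gm * C
    rw [hC, mul_assoc, hP, ← mul_assoc, h1, mul_assoc]
  have hCe : Commute C e := commute_avg N hCg
  have hθC : adj Q C = C := by rw [hC, adj_mul hQ, adj_adj hQ]
  have hθC' : adj Q (C * (1 - e) + e) = C * (1 - e) + e := by
    have h1 : adj Q (1 - e) = 1 - e := by
      have := adj_add (Q := Q) (1 - e) e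
      rw [sub_add_cancel, adj_one hQ, hθe] at this
      exact eq_sub_of_add_eq this.symm
    rw [adj_add, adj_mul hQ, h1, hθC, hθe, ((Commute.one_right C).sub_right hCe).eq]
  have hCu : IsUnit C := by
    rw [hC]
    refine IsUnit.mul ?_ P.isUnit
    refine (Matrix.isUnit_iff_isUnit_det _).2 ?_
    rw [adj, Matrix.det_mul, Matrix.det_mul, Matrix.det_transpose]
    exact ((Matrix.isUnit_nonsing_inv_det _ (gram_det hQ)).mul ((Matrix.isUnit_iff_isUnit_det _).1 P.isUnit)).mul (gram_det hQ)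
  have he1 : e * (1 - e) = 0 := by rw [mul_sub, mul_one, hee, sub_self]
  have h1e : (1 - e) * (1 - e) = 1 - e := by rw [sub_mul, one_mul, he1, sub_zero]
  have hC'e : (C * (1 - e) + e) * e = e := by
    rw [add_mul, mul_assoc, sub_mul, one_mul, hee, sub_self, mul_zero, zero_add]
  have hC'u : IsUnit (C * (1 - e) + e) := by
    obtain ⟨u, hu⟩ := hCu
    have hue : Commute ((u⁻¹ : (Matrix ι ι F)ˣ) : Matrix ι ι F) e := (hu.symm ▸ hCe : Commute (u : Matrix ι ι F) e).units_inv_left
    refine IsUnit.of_mul_eq_one (((u⁻¹ : (Matrix ι ι F)ˣ) : Matrix ι ι F) * (1 - e) + e) ?_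
    have h2 : (1 - e) * ((u⁻¹ : (Matrix ι ι F)ˣ) : Matrix ι ι F) = ((u⁻¹ : (Matrix ι ι F)ˣ) : Matrix ι ι F) * (1 - e) :=
      ((Commute.one_right _).sub_right hue).symm.eq
    rw [add_mul, mul_add, mul_add, hee, mul_assoc C (1 - e), ← mul_assoc (1 - e), h2, mul_assoc _ (1 - e) (1 - e), h1e,
      ← mul_assoc C, ← hu, Units.mul_inv, one_mul, mul_assoc _ (1 - e) e, sub_mul 1 e e, one_mul, hee, sub_self, mul_zero,
      add_zero, ← mul_assoc e, ← hue.eq, mul_assoc, he1, mul_zero, zero_add, sub_add_cancel]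
  have hcomm1 : ∀ a : Matrix ι ι F, Commute a gm → Commute a (adj Q gm) := fun a ha => by
    let u : (Matrix ι ι F)ˣ := ⟨gm, adj Q gm, hga', hga⟩
    exact (show Commute a (u : Matrix ι ι F) from ha).units_inv_right
  obtain ⟨S, hS⟩ : ∃ S : Set (Matrix ι ι F), S = {C, gm, adj Q gm, e} := ⟨_, rfl⟩
  have hSg : ∀ a ∈ S, Commute a gm := by
    rw [hS]
    rintro a (rfl | rfl | rfl | rfl)
    exacts [hCg, Commute.refl _, (hcomm1 _ (Commute.refl _)).symm, (commute_avg N (Commute.refl gm)).symm]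
  have hScomm : ∀ a ∈ S, ∀ b ∈ S, a * b = b * a := by
    intro a ha b hb
    have hag := hSg a ha
    have hbg := hSg b hb
    rw [hS] at ha hb
    show Commute a b
    rcases hb with rfl | rfl | rfl | rfl
    · rcases ha with rfl | rfl | rfl | rfl
      exacts [Commute.refl _, hCg.symm, (hcomm1 _ hCg).symm, hCe.symm]
    exacts [hag, hcomm1 _ hag, commute_avg N hag]
  have hu : IsUnit (gm - adj Q gm + e) := by
    rw [← Matrix.mulVec_injective_iff_isUnit, ← Matrix.coe_mulVecLin, ← LinearMap.ker_eq_bot, Submodule.eq_bot_iff]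
    intro v hv
    rw [LinearMap.mem_ker, Matrix.mulVecLin_apply] at hv
    have hea : e * adj Q gm = e := by
      have := congrArg (adj Q) hge
      rwa [adj_mul hQ, hθe] at this
    have h1 : e * (gm - adj Q gm + e) = e := by rw [mul_add, mul_sub, heg, hea, sub_self, zero_add, hee]
    have hev : e *ᵥ v = 0 := by rw [← h1, ← Matrix.mulVec_mulVec, hv, Matrix.mulVec_zero]
    rw [Matrix.add_mulVec, hev, add_zero, Matrix.sub_mulVec, sub_eq_zero] at hv
    have hggv : gm *ᵥ (gm *ᵥ v) = v := by rw [hv, Matrix.mulVec_mulVec, hga', Matrix.one_mulVec]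
    have h2r : ∀ i : ℕ, gm ^ (2 * i) *ᵥ v = v := fun i => by
      induction i with
      | zero => rw [mul_zero, pow_zero, Matrix.one_mulVec]
      | succ i ih =>
        rw [mul_add, mul_one, pow_add, ← Matrix.mulVec_mulVec, pow_two, ← Matrix.mulVec_mulVec, hggv, ih]
    obtain ⟨r, hr⟩ := hNodd
    have hgv : gm *ᵥ v = v := by
      have h3 := congrArg (· *ᵥ v) hgp
      simp only [hr, pow_succ', ← Matrix.mulVec_mulVec, h2r, Matrix.one_mulVec] at h3
      exact h3
    have hgi : ∀ i : ℕ, gm ^ i *ᵥ v = v := fun i => by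
      induction i with
      | zero => rw [pow_zero, Matrix.one_mulVec]
      | succ i ih => rw [pow_succ, ← Matrix.mulVec_mulVec, hgv, ih]
    rw [he, avg, Matrix.smul_mulVec, Matrix.sum_mulVec, Finset.sum_congr rfl fun i _ => hgi i, Finset.sum_const,
      Finset.card_range, ← Nat.cast_smul_eq_nsmul F, smul_smul, inv_mul_cancel₀ hN, one_smul] at hev
    exact hev
  have hmS : ∀ {a}, a ∈ ({C, gm, adj Q gm, e} : Set (Matrix ι ι F)) → a ∈ Subring.closure S := fun ha =>
    Subring.subset_closure (hS ▸ ha)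
  obtain ⟨Y, hYS, hYu, hY⟩ := InvolRing.exists_twist (adj Q) (adj_mul hQ) adj_add (adj_adj hQ) S hScomm
    (by
      rw [hS]
      rintro a (rfl | rfl | rfl | rfl)
      · simp [hθC]
      · simp
      · simp [adj_adj hQ]
      · simp [hθe])
    (C := C * (1 - e) + e) (δ := gm) (f := e)
    (add_mem (mul_mem (hmS (by simp)) (sub_mem (one_mem _) (hmS (by simp)))) (hmS (by simp)))
    (hmS (by simp)) (hmS (by simp)) hθC' hθe hee hC'e hC'u hu
  have hcl : ∀ a, (∀ b ∈ S, Commute a b) → Commute a Y := by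
    intro a ha
    have : ∀ y ∈ Subring.closure S, Commute a y := by
      intro y hy
      induction hy using Subring.closure_induction with
      | mem b hb => exact ha b hb
      | zero => exact Commute.zero_right _
      | one => exact Commute.one_right _
      | add b c _ _ hb hc => exact hb.add_right hc
      | neg b _ hb => exact hb.neg_right
      | mul b c _ _ hb hc => exact hb.mul_right hc
    exact this Y hYS
  obtain ⟨Yu, hYu⟩ := hYu
  have hYg : Commute ((Yu⁻¹ : (Matrix ι ι F)ˣ) : Matrix ι ι F) gm := by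
    have : Commute (Yu : Matrix ι ι F) gm := hYu ▸ (hcl gm fun b hb => (hSg b hb).symm).symm
    exact this.units_inv_left
  have hYe : Commute ((Yu⁻¹ : (Matrix ι ι F)ˣ) : Matrix ι ι F) e := commute_avg N hYg
  obtain ⟨R, hR⟩ : ∃ R : Matrix ι ι F, R = (P : Matrix ι ι F) * ((Yu⁻¹ : (Matrix ι ι F)ˣ) : Matrix ι ι F) := ⟨_, rfl⟩
  have hRg : R * gm = hm * R := by rw [hR, mul_assoc, hYg.eq, ← mul_assoc, hP, mul_assoc]
  have hRe : R * (1 - e) = (1 - e') * R := by
    rw [hR, mul_assoc, ((Commute.one_right _).sub_right hYe).eq, ← mul_assoc, mul_sub, mul_one, hPe, sub_mul, sub_mul, one_mul, mul_assoc]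
  -- `R` is an isometry on the moved space
  have hRpol : ∀ x y, (1 - e) *ᵥ y = y → polar Q (R *ᵥ x) (R *ᵥ y) = polar Q x y := by
    intro x y hy
    rw [polar_adj hQ, Matrix.mulVec_mulVec]
    conv_rhs => rw [← hy]
    congr 1
    conv_lhs => rw [← hy, Matrix.mulVec_mulVec]
    congr 1
    have hY' : adj Q ((Yu⁻¹ : (Matrix ι ι F)ˣ) : Matrix ι ι F) * adj Q Y = 1 := by
      rw [← adj_mul hQ, ← hYu, Units.mul_inv, adj_one hQ]
    rw [hR, adj_mul hQ, mul_assoc (adj Q _ * adj Q _), mul_assoc (P : Matrix ι ι F), ((Commute.one_right _).sub_right hYe).eq,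
      mul_assoc (adj Q _), ← mul_assoc (adj Q (P : Matrix ι ι F)), ← hC, ← mul_assoc C,
      show C * (1 - e) = (C * (1 - e) + e) * (1 - e) by rw [add_mul, mul_assoc, h1e, he1, add_zero],
      ← hY, mul_assoc (adj Q Y * Y), ← ((Commute.one_right _).sub_right hYe).eq, ← mul_assoc (adj Q Y * Y), mul_assoc (adj Q Y) Y,
      ← hYu, Units.mul_inv, mul_one, hYu, ← mul_assoc, hY', one_mul]
  -- the moved space
  have hRq : ∀ x, (1 - e) *ᵥ x = x → Q (R *ᵥ x) = Q x := by
    intro x hx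
    have hMu : IsUnit (gm - 1 + e) := by
      rw [← Matrix.mulVec_injective_iff_isUnit, ← Matrix.coe_mulVecLin, ← LinearMap.ker_eq_bot, Submodule.eq_bot_iff]
      intro v hv
      rw [LinearMap.mem_ker, Matrix.mulVecLin_apply] at hv
      have h1 : e * (gm - 1 + e) = e := by rw [mul_add, mul_sub, heg, mul_one, sub_self, zero_add, hee]
      have hev : e *ᵥ v = 0 := by rw [← h1, ← Matrix.mulVec_mulVec, hv, Matrix.mulVec_zero]
      rw [Matrix.add_mulVec, hev, add_zero, Matrix.sub_mulVec, Matrix.one_mulVec, sub_eq_zero] at hv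
      exact (mulVec_fix' hN hgp hv).symm.trans hev
    obtain ⟨z, hz⟩ := (Matrix.mulVec_surjective_iff_isUnit.2 hMu) x
    have hex : e *ᵥ x = 0 := by rw [← hx, Matrix.mulVec_mulVec, he1, Matrix.zero_mulVec]
    have hez : e *ᵥ z = 0 := by
      have h1 : e * (gm - 1 + e) = e := by rw [mul_add, mul_sub, heg, mul_one, sub_self, zero_add, hee]
      rw [← h1, ← Matrix.mulVec_mulVec, hz, hex]
    have hz1 : (1 - e) *ᵥ z = z := by rw [Matrix.sub_mulVec, Matrix.one_mulVec, hez, sub_zero]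
    rw [Matrix.add_mulVec, hez, add_zero, Matrix.sub_mulVec, Matrix.one_mulVec] at hz
    rw [← hz, Matrix.mulVec_sub, Matrix.mulVec_mulVec, hRg, ← Matrix.mulVec_mulVec, Orth.q_sub, Orth.q_sub, hph, hpg,
      Matrix.mulVec_mulVec, ← hRg, ← Matrix.mulVec_mulVec, hRpol _ _ hz1]
    linear_combination Orth.b_self (Q := Q) z - Orth.b_self (Q := Q) (R *ᵥ z) + hRpol z z hz1
  -- Witt
  have hRinj : Function.Injective (R *ᵥ ·) := Matrix.mulVec_injective_iff_isUnit.2 (by rw [hR]; exact P.isUnit.mul (Units.isUnit _))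
  let X : Submodule F (ι → F) := LinearMap.range (1 - e).mulVecLin
  have hX : ∀ x : X, (1 - e) *ᵥ (x : ι → F) = x := by
    rintro ⟨_, v, rfl⟩
    show (1 - e) *ᵥ ((1 - e) *ᵥ v) = (1 - e) *ᵥ v
    rw [Matrix.mulVec_mulVec, h1e]
  obtain ⟨T, -, hTo, hT⟩ := Orth.witt hQ Orth.full_oGroup X (R.mulVecLin.comp X.subtype)
    (fun a b hab => Subtype.ext (hRinj hab)) (fun x => hRq x (hX x))
  have hTR : ∀ v, T ((1 - e) *ᵥ v) = R *ᵥ ((1 - e) *ᵥ v) := fun v => hT ⟨_, v, rfl⟩
  refine isConj_iff.2 ⟨(Orth.isoEquiv Q).symm ⟨T, hTo⟩, ?_⟩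
  set c := (Orth.isoEquiv Q).symm ⟨T, hTo⟩ with hc
  have hcT : ∀ v, (c : GL ι F).1 *ᵥ v = T v := by
    intro v
    rw [← Orth.isoEquiv_apply, hc, MulEquiv.apply_symm_apply]
  rw [mul_inv_eq_iff_eq_mul]
  refine Subtype.ext (Units.ext ?_)
  show (c : GL ι F).1 * (g : GL ι F).1 = (h : GL ι F).1 * (c : GL ι F).1
  rw [← hgm, ← hhm]
  apply Matrix.toLin'.injective
  refine LinearMap.ext fun v => ?_
  simp only [Matrix.toLin'_apply, ← Matrix.mulVec_mulVec, hcT]
  have hv : v = (1 - e) *ᵥ v + e *ᵥ v := by rw [← Matrix.add_mulVec, sub_add_cancel, Matrix.one_mulVec]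
  have hfix : hm *ᵥ T (e *ᵥ v) = T (e *ᵥ v) := by
    have h0 : (1 - e') *ᵥ T (e *ᵥ v) = 0 := by
      refine Orth.eq_zero_of_b hQ fun y => ?_
      obtain ⟨z, hz⟩ := (Matrix.mulVec_surjective_iff_isUnit.2 (by rw [hR]; exact P.isUnit.mul (Units.isUnit _) : IsUnit R)) y
      have hθ1 : adj Q (1 - e') = 1 - e' := by
        have := adj_add (Q := Q) (1 - e') e'
        rw [sub_add_cancel, adj_one hQ, hθe'] at this
        exact eq_sub_of_add_eq this.symm
      rw [polar_adj hQ, hθ1, ← hz, Matrix.mulVec_mulVec, ← hRe, ← Matrix.mulVec_mulVec, ← hTR, Orth.b_map hTo, polar_adj hQ, hθe,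
        Matrix.mulVec_mulVec, he1, Matrix.zero_mulVec, Orth.b_zero_right]
    rw [Matrix.sub_mulVec, Matrix.one_mulVec, sub_eq_zero] at h0
    conv_lhs => rw [h0, Matrix.mulVec_mulVec, hhe, ← h0]
  have hg1 : gm * (1 - e) = (1 - e) * gm := by rw [mul_sub, sub_mul, mul_one, one_mul, hge, heg]
  rw [hv, Matrix.mulVec_add, map_add, map_add, Matrix.mulVec_add, hfix, Matrix.mulVec_mulVec v gm e, hge,
    Matrix.mulVec_mulVec v gm (1 - e), hg1, ← Matrix.mulVec_mulVec, hTR, hTR, Matrix.mulVec_mulVec v (1 - e) gm, ← hg1,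
    Matrix.mulVec_mulVec, ← mul_assoc, hRg, mul_assoc, Matrix.mulVec_mulVec, Matrix.mulVec_mulVec, mul_assoc]
where
  mulVec_fix' {x : Matrix ι ι F} {N : ℕ} {v : ι → F} (hN : (N : F) ≠ 0) (_ : x ^ N = 1) (hv : x *ᵥ v = v) :
      avg F x N *ᵥ v = v := by
    have hgi : ∀ i : ℕ, x ^ i *ᵥ v = v := fun i => by
      induction i with
      | zero => rw [pow_zero, Matrix.one_mulVec]
      | succ i ih => rw [pow_succ, ← Matrix.mulVec_mulVec, hv, ih]
    rw [avg, Matrix.smul_mulVec, Matrix.sum_mulVec, Finset.sum_congr rfl fun i _ => hgi i, Finset.sum_const,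
      Finset.card_range, ← Nat.cast_smul_eq_nsmul F, smul_smul, inv_mul_cancel₀ hN, one_smul]

/-- The characterisation for odd order. -/
theorem isConj_iff_similar (p : ℕ) [Fact p.Prime] [CharP F p] (A B : ↥(Cfsg.isometryGroup F (⇑Q)))
    (hodd : Odd (orderOf A)) (hA : (orderOf A).Coprime p) :
    IsConj A B ↔ IsConj ((A : GL ι F) : Matrix ι ι F) ((B : GL ι F) : Matrix ι ι F) := by
  refine ⟨fun h => ((Units.coeHom _).comp (Cfsg.isometryGroup F (⇑Q)).subtype).map_isConj h, fun h => ?_⟩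
  obtain ⟨c, hc⟩ := h
  have hN : ((orderOf A : ℕ) : F) ≠ 0 := by
    rw [Ne, CharP.cast_eq_zero_iff F p]
    intro hd
    have := Nat.dvd_gcd hd (dvd_refl p)
    rw [hA] at this
    exact (Fact.out : p.Prime).one_lt.ne' (Nat.dvd_one.1 this)
  refine isConj_of_conjugator hQ p A B hN hodd (pow_orderOf_eq_one A) ?_ c hc.eq
  refine Subtype.ext (Units.ext ?_)
  have h1 := (hc.pow_right (orderOf A)).eq
  rw [← Units.val_pow_eq_pow_val, ← SubmonoidClass.coe_pow, pow_orderOf_eq_one, OneMemClass.coe_one, Units.val_one, mul_one] at h1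
  rw [SubmonoidClass.coe_pow, Units.val_pow_eq_pow_val, OneMemClass.coe_one, Units.val_one]
  exact c.isUnit.mul_right_cancel (h1.symm.trans (one_mul _).symm)

end Cfsg.Agent.LBOrthSS
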