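/-
Monic polynomials all of whose roots are `r`-th roots of unity.
-/
import Cfsg.Agent.Lib.Classical.SemisimpleClasses
import Mathlib

set_option autoImplicit false
set_option linter.all false

namespace Cfsg.Agent.LBRootPoly

open Polynomial UniqueFactorizationMonoid

variable {F : Type*} [Field F] [DecidableEq F]

/-- Every monic irreducible factor divides `X ^ r - 1`. -/
def Good (r : ℕ) (f : F[X]) : Prop :=
  f.Monic ∧ ∀ g : F[X], g.Monic → Irreducible g → g ∣ f → g ∣ X ^ r - 1

theorem monic_of_mem {f g : F[X]} (h : g ∈ normalizedFactors f) : g.Monic := by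
  rw [← normalize_normalized_factor g h]
  exact Polynomial.monic_normalize (irreducible_of_normalized_factor g h).ne_zero

theorem prod_of_monic {f : F[X]} (hf : f.Monic) : (normalizedFactors f).prod = f :=
  eq_of_monic_of_associated (by simpa using monic_multiset_prod_of_monic (normalizedFactors f) id fun g hg => monic_of_mem hg) hf
    (prod_normalizedFactors hf.ne_zero)

/-- Products over a family of distinct monic irreducible polynomials. -/
theorem card_products {J : Type*} [Fintype J] (φ : J → F[X]) (hinj : Function.Injective φ)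
    (hφ : ∀ j, (φ j).Monic ∧ Irreducible (φ j)) (n : ℕ) :
    Nat.card {f : F[X] // (f.Monic ∧ f.natDegree = n) ∧ ∀ g : F[X], g.Monic → Irreducible g → g ∣ f → g ∈ Set.range φ} =
      Nat.card {e : J → ℕ // ∑ j, e j * (φ j).natDegree = n} := by
  classical
  let P : (J → ℕ) → F[X] := fun e => ∏ j, φ j ^ e j
  have hPm : ∀ e, (P e).Monic := fun e => monic_prod_of_monic _ _ fun j _ => (hφ j).1.pow _
  have hPd : ∀ e, (P e).natDegree = ∑ j, e j * (φ j).natDegree := fun e => by
    simp only [P]
    rw [natDegree_prod_of_monic _ _ fun j _ => (hφ j).1.pow _]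
    exact Finset.sum_congr rfl fun j _ => natDegree_pow _ _
  have hPf : ∀ e, normalizedFactors (P e) = ∑ j, Multiset.replicate (e j) (φ j) := by
    intro e
    simp only [P]
    induction (Finset.univ : Finset J) using Finset.induction with
    | empty => simp
    | insert a s ha ih =>
      rw [Finset.prod_insert ha, Finset.sum_insert ha, normalizedFactors_mul (pow_ne_zero _ (hφ a).1.ne_zero)
        (monic_prod_of_monic _ _ fun j _ => (hφ j).1.pow _).ne_zero, ih, normalizedFactors_pow,
        normalizedFactors_irreducible (hφ a).2, (hφ a).1.normalize_eq_self, Multiset.nsmul_singleton]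
  have hcount : ∀ e j, (normalizedFactors (P e)).count (φ j) = e j := by
    intro e j
    rw [hPf, Multiset.count_sum', Finset.sum_eq_single j]
    · simp
    · intro b _ hb; rw [Multiset.count_replicate, if_neg fun h => hb (hinj h)]
    · simp
  have hPr : ∀ e g, g.Monic → Irreducible g → g ∣ P e → g ∈ Set.range φ := by
    intro e g hg hgi hd
    obtain ⟨j, -, hj⟩ := hgi.prime.exists_mem_finset_dvd hd
    exact ⟨j, (eq_of_monic_of_associated hg (hφ j).1 (hgi.associated_of_dvd (hφ j).2 (hgi.prime.dvd_of_dvd_pow hj))).symm⟩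
  refine (Nat.card_eq_of_bijective (fun e : {e : J → ℕ // ∑ j, e j * (φ j).natDegree = n} =>
    (⟨P e.1, ⟨hPm _, (hPd _).trans e.2⟩, hPr _⟩ : {f : F[X] // (f.Monic ∧ f.natDegree = n) ∧
      ∀ g : F[X], g.Monic → Irreducible g → g ∣ f → g ∈ Set.range φ})) ⟨fun a b h => ?_, fun f => ?_⟩).symm
  · refine Subtype.ext (funext fun j => ?_)
    rw [← hcount a.1 j, ← hcount b.1 j, show P a.1 = P b.1 from congrArg Subtype.val h]
  · obtain ⟨f, ⟨hf, hfn⟩, hfr⟩ := f
    let e : J → ℕ := fun j => (normalizedFactors f).count (φ j)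
    have he : P e = f := by
      refine (prod_of_monic (hPm e)).symm.trans ((congrArg Multiset.prod ?_).trans (prod_of_monic hf))
      ext g
      by_cases hg : g ∈ Set.range φ
      · obtain ⟨j, rfl⟩ := hg; exact hcount e j
      · rw [Multiset.count_eq_zero.2, Multiset.count_eq_zero.2]
        · exact fun h => hg (hfr g (monic_of_mem h) (irreducible_of_normalized_factor g h) (dvd_of_mem_normalizedFactors h))
        · exact fun h => hg (hPr e g (monic_of_mem h) (irreducible_of_normalized_factor g h) (dvd_of_mem_normalizedFactors h))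
    exact ⟨⟨e, by rw [← hPd, he, hfn]⟩, Subtype.ext he⟩

/-- Tuples with a free coordinate. -/
theorem card_tuples (T : Type*) [Fintype T] (i n : ℕ) (hi : 0 < i) :
    Nat.card {e : Option T → ℕ // e none + i * ∑ u, e (some u) = n} = Nat.choose (n / i + Fintype.card T) (Fintype.card T) := by
  classical
  let toP : {e : Option T → ℕ // e none + i * ∑ u, e (some u) = n} → {P : Option T → ℕ // ∑ o, P o = n / i} := fun e =>
    ⟨fun o => o.elim (n / i - ∑ u, e.1 (some u)) fun u => e.1 (some u), by
      rw [Fintype.sum_option]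
      simp only [Option.elim]
      have := e.2
      have h : ∑ u, e.1 (some u) ≤ n / i := (Nat.le_div_iff_mul_le hi).2 (by rw [mul_comm]; omega)
      omega⟩
  have hb : Function.Bijective toP := by
    constructor
    · intro a b h
      have h' := congrFun (congrArg Subtype.val h)
      refine Subtype.ext (funext fun o => ?_)
      have hs : ∀ u, a.1 (some u) = b.1 (some u) := fun u => h' (some u)
      cases o with
      | none =>
        have e1 := a.2
        have e2 := b.2
        rw [Finset.sum_congr rfl fun u _ => hs u] at e1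
        omega
      | some u => exact hs u
    · intro P
      have hP := P.2
      rw [Fintype.sum_option] at hP
      have hle : i * ∑ u, P.1 (some u) ≤ n :=
        (Nat.mul_le_mul_left i (by omega : ∑ u, P.1 (some u) ≤ n / i)).trans (Nat.mul_div_le n i)
      refine ⟨⟨fun o => o.elim (n - i * ∑ u, P.1 (some u)) fun u => P.1 (some u), by simp only [Option.elim]; omega⟩, ?_⟩
      refine Subtype.ext (funext fun o => ?_)
      cases o with
      | none => simp only [toP, Option.elim]; omega
      | some u => rfl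
  rw [Nat.card_eq_of_bijective toP hb, ← Nat.card_congr (Sym.equivNatSumOfFintype (Option T) (n / i)), Nat.card_eq_fintype_card,
    Sym.card_sym_eq_choose, Fintype.card_option]
  rw [show Fintype.card T + 1 + n / i - 1 = n / i + Fintype.card T by generalize n / i = z; omega, ← Nat.choose_symm_add]

variable [Fintype F] {r : ℕ}

theorem cast_ne_zero' (p : ℕ) [Fact p.Prime] [CharP F p] (hr : r.Prime) (hrp : r ≠ p) : (r : F) ≠ 0 := by
  rw [Ne, CharP.cast_eq_zero_iff F p]
  exact fun h => hrp ((Nat.prime_dvd_prime_iff_eq Fact.out hr).1 h).symm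

/-- An irreducible factor of `X ^ r - 1` other than `X - 1` has degree the order of `q` mod `r`. -/
theorem natDegree_factor (hr : r.Prime) {g : F[X]} (hg : g.Monic) (hgi : Irreducible g) (hd : g ∣ X ^ r - 1)
    (hne : g ≠ X - C 1) : g.natDegree = orderOf (Fintype.card F : ZMod r) := by
  haveI : Fact (Irreducible g) := ⟨hgi⟩
  haveI : Fact r.Prime := ⟨hr⟩
  haveI : Module.Finite F (AdjoinRoot g) := hg.finite_adjoinRoot
  haveI : Finite (AdjoinRoot g) := Module.finite_of_finite F
  haveI : Fintype (AdjoinRoot g) := Fintype.ofFinite _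
  have hfr : Module.finrank F (AdjoinRoot g) = g.natDegree := by
    rw [(AdjoinRoot.powerBasis hgi.ne_zero).finrank, AdjoinRoot.powerBasis_dim]
  set θ := AdjoinRoot.root g with hθ
  have hθr : θ ^ r = 1 := by
    have h := AdjoinRoot.mk_eq_zero.2 hd
    rwa [map_sub, map_pow, map_one, AdjoinRoot.mk_X, sub_eq_zero] at h
  have hθ1 : θ ≠ 1 := by
    intro h
    apply hne
    have h' : g ∣ X - C 1 := AdjoinRoot.mk_eq_zero.1 (by rw [map_sub, AdjoinRoot.mk_X, map_one, map_one, ← hθ, h, sub_self])
    exact eq_of_monic_of_associated hg (monic_X_sub_C 1) (hgi.associated_of_dvd (irreducible_X_sub_C 1) h')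
  have hord : orderOf θ = r := orderOf_eq_prime hθr hθ1
  rw [← hfr, ← FiniteField.orderOf_frobeniusAlgHom F (AdjoinRoot g)]
  have hiff : ∀ d : ℕ, FiniteField.frobeniusAlgHom F (AdjoinRoot g) ^ d = 1 ↔ (Fintype.card F : ZMod r) ^ d = 1 := by
    intro d
    have happ : (FiniteField.frobeniusAlgHom F (AdjoinRoot g) ^ d) θ = θ ^ Fintype.card F ^ d := by
      rw [AlgHom.coe_pow, FiniteField.coe_frobeniusAlgHom, pow_iterate]
    have hz : (Fintype.card F : ZMod r) ^ d = 1 ↔ Fintype.card F ^ d ≡ 1 [MOD r] := by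
      rw [← ZMod.natCast_eq_natCast_iff, Nat.cast_pow, Nat.cast_one]
    have hfo : IsOfFinOrder θ := orderOf_pos_iff.1 (hord ▸ hr.pos)
    rw [hz, ← hord, ← hfo.pow_eq_pow_iff_modEq, pow_one, ← happ]
    exact ⟨fun h => by rw [h, AlgHom.one_apply], fun h => AdjoinRoot.algHom_ext (by rw [AlgHom.one_apply, ← hθ, h])⟩
  exact Nat.dvd_antisymm (orderOf_dvd_of_pow_eq_one ((hiff _).2 (pow_orderOf_eq_one _)))
    (orderOf_dvd_of_pow_eq_one ((hiff _).1 (pow_orderOf_eq_one _)))

/-- The nontrivial irreducible factors of `X ^ r - 1`. -/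
noncomputable def factors (F : Type*) [Field F] [DecidableEq F] (r : ℕ) : Finset F[X] :=
  (normalizedFactors (X ^ r - 1 : F[X])).toFinset.erase (X - C 1)

theorem mem_factors (hr : r ≠ 0) {g : F[X]} :
    g ∈ factors F r ↔ g ≠ X - C 1 ∧ g.Monic ∧ Irreducible g ∧ g ∣ X ^ r - 1 := by
  have h0 : (X ^ r - 1 : F[X]) ≠ 0 := by rw [← C_1]; exact X_pow_sub_C_ne_zero (Nat.pos_of_ne_zero hr) 1
  rw [factors, Finset.mem_erase, Multiset.mem_toFinset]
  refine and_congr_right fun _ => ⟨fun h => ⟨monic_of_mem h, irreducible_of_normalized_factor g h, dvd_of_mem_normalizedFactors h⟩, ?_⟩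
  rintro ⟨hm, hi, hd⟩
  obtain ⟨b, hb, hab⟩ := exists_mem_normalizedFactors_of_dvd h0 hi hd
  rwa [eq_of_monic_of_associated hm (monic_of_mem hb) hab]

theorem card_factors (p : ℕ) [Fact p.Prime] [CharP F p] (hr : r.Prime) (hrp : r ≠ p) :
    (factors F r).card * orderOf (Fintype.card F : ZMod r) = r - 1 := by
  have hm : (X ^ r - 1 : F[X]).Monic := by rw [← C_1]; exact monic_X_pow_sub_C 1 hr.ne_zero
  have hsq : Squarefree (X ^ r - 1 : F[X]) := by
    rw [← C_1]; exact (separable_X_pow_sub_C 1 (cast_ne_zero' p hr hrp) one_ne_zero).squarefree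
  have hnd := (squarefree_iff_nodup_normalizedFactors hm.ne_zero).1 hsq
  set S := (normalizedFactors (X ^ r - 1 : F[X])).toFinset with hS
  have hmem : X - C 1 ∈ S := by
    rw [hS, Multiset.mem_toFinset]
    obtain ⟨b, hb, hab⟩ := exists_mem_normalizedFactors_of_dvd hm.ne_zero (irreducible_X_sub_C (1 : F))
      (dvd_iff_isRoot.2 (by simp [IsRoot]))
    rwa [eq_of_monic_of_associated (monic_X_sub_C 1) (monic_of_mem hb) hab]
  have hsum : ∑ g ∈ S, g.natDegree = r := by
    have hp : ∏ g ∈ S, g = (X ^ r - 1 : F[X]) := by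
      rw [hS, Finset.prod_eq_multiset_prod, Multiset.toFinset_val, Multiset.dedup_eq_self.2 hnd, Multiset.map_id', prod_of_monic hm]
    rw [← natDegree_prod_of_monic _ _ (fun g hg => monic_of_mem (Multiset.mem_toFinset.1 hg)), hp, ← C_1, natDegree_X_pow_sub_C]
  rw [← Finset.add_sum_erase S _ hmem, natDegree_X_sub_C] at hsum
  have hconst : ∑ g ∈ S.erase (X - C 1), g.natDegree = (factors F r).card * orderOf (Fintype.card F : ZMod r) := by
    rw [Finset.sum_const_nat (m := orderOf (Fintype.card F : ZMod r))]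
    · rfl
    · intro g hg
      obtain ⟨h1, h2, h3, h4⟩ := (mem_factors hr.ne_zero).1 hg
      exact natDegree_factor hr h2 h3 h4 h1
  omega

theorem card_good (p : ℕ) [Fact p.Prime] [CharP F p] (hr : r.Prime) (hrp : r ≠ p) (n i t : ℕ)
    (hi : i = orderOf (Fintype.card F : ZMod r)) (ht : t * i = r - 1) :
    Nat.card {f : F[X] // f.natDegree = n ∧ Good r f} = Nat.choose (n / i + t) t := by
  have hr1 := hr.one_lt
  have hi0 : 0 < i := Nat.pos_of_ne_zero fun h => by rw [h, mul_zero] at ht; omega
  let φ : Option {g // g ∈ factors F r} → F[X] := fun o => o.elim (X - C 1) Subtype.val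
  have hfac := fun g : {g // g ∈ factors F r} => (mem_factors (F := F) hr.ne_zero).1 g.2
  have hφ : ∀ j, (φ j).Monic ∧ Irreducible (φ j) := by
    rintro (_ | g)
    · exact ⟨monic_X_sub_C 1, irreducible_X_sub_C 1⟩
    · exact ⟨(hfac g).2.1, (hfac g).2.2.1⟩
  have hinj : Function.Injective φ := by
    rintro (_ | g) (_ | g') h
    · rfl
    · exact absurd h.symm (hfac g').1
    · exact absurd h (hfac g).1
    · exact congrArg some (Subtype.ext h)
  have hrange : ∀ g : F[X], g.Monic → Irreducible g → (g ∣ X ^ r - 1 ↔ g ∈ Set.range φ) := by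
    intro g hg hgi
    refine ⟨fun hd => ?_, ?_⟩
    · by_cases h : g = X - C 1
      · exact ⟨none, h.symm⟩
      · exact ⟨some ⟨g, (mem_factors hr.ne_zero).2 ⟨h, hg, hgi, hd⟩⟩, rfl⟩
    · rintro ⟨_ | u, rfl⟩
      · exact dvd_iff_isRoot.2 (by simp [IsRoot])
      · exact (hfac u).2.2.2
  have hT : Fintype.card {g // g ∈ factors F r} = t := by
    rw [Fintype.card_coe]
    have h := card_factors (F := F) p hr hrp
    rw [← hi, ← ht] at h
    exact Nat.eq_of_mul_eq_mul_right hi0 h
  rw [Nat.card_congr (Equiv.subtypeEquivRight (q := fun f : F[X] => (f.Monic ∧ f.natDegree = n) ∧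
    ∀ g : F[X], g.Monic → Irreducible g → g ∣ f → g ∈ Set.range φ) fun f => ?_), card_products φ hinj hφ n,
    Nat.card_congr (Equiv.subtypeEquivRight (q := fun e => e none + i * ∑ u, e (some u) = n) fun e => ?_),
    card_tuples _ i n hi0, hT]
  · rw [Fintype.sum_option, Finset.mul_sum]
    simp only [φ, Option.elim, natDegree_X_sub_C, mul_one]
    rw [Finset.sum_congr rfl fun u _ => show e (some u) * (u.1).natDegree = i * e (some u) by
      rw [natDegree_factor hr (hfac u).2.1 (hfac u).2.2.1 (hfac u).2.2.2 (hfac u).1, ← hi, mul_comm]]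
  · exact ⟨fun h => ⟨⟨h.2.1, h.1⟩, fun g a b c => (hrange g a b).1 (h.2.2 g a b c)⟩,
      fun h => ⟨h.1.2, h.1.1, fun g a b c => (hrange g a b).2 (h.2 g a b c)⟩⟩

/-- A matrix of order prime to `p` with good characteristic polynomial has `r`-th power one. -/
theorem pow_eq_one (p : ℕ) [Fact p.Prime] [CharP F p] {ι : Type*} [Fintype ι] [DecidableEq ι] {M : Matrix ι ι F}
    {N : ℕ} (hN : M ^ N = 1) (hcop : N.Coprime p) (hG : Good r M.charpoly) (hr : r ≠ 0) : M ^ r = 1 := by
  have hN0 : (N : F) ≠ 0 := by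
    rw [Ne, CharP.cast_eq_zero_iff F p]
    intro h
    have := Nat.dvd_gcd h (dvd_refl p)
    rw [hcop] at this
    exact (Fact.out : p.Prime).one_lt.ne' (Nat.dvd_one.1 this)
  have hsq : Squarefree (minpoly F M) := by
    refine (separable_X_pow_sub_C 1 hN0 one_ne_zero).squarefree.squarefree_of_dvd (minpoly.dvd F M ?_)
    simp [hN]
  have hm : minpoly F M ≠ 0 := minpoly.ne_zero (Algebra.IsIntegral.isIntegral M)
  have hx : (X ^ r - 1 : F[X]) ≠ 0 := by rw [← C_1]; exact X_pow_sub_C_ne_zero (Nat.pos_of_ne_zero hr) 1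
  have hd : minpoly F M ∣ X ^ r - 1 := by
    rw [dvd_iff_normalizedFactors_le_normalizedFactors hm hx, Multiset.le_iff_subset ((squarefree_iff_nodup_normalizedFactors hm).1 hsq)]
    intro g hg
    have hgi := irreducible_of_normalized_factor g hg
    have hd := hG.2 g (monic_of_mem hg) hgi ((dvd_of_mem_normalizedFactors hg).trans (Matrix.minpoly_dvd_charpoly M))
    obtain ⟨b, hb, hab⟩ := exists_mem_normalizedFactors_of_dvd hx hgi hd
    rwa [eq_of_monic_of_associated (monic_of_mem hg) (monic_of_mem hb) hab]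
  have := aeval_eq_zero_of_dvd_aeval_eq_zero hd (minpoly.aeval F M)
  simpa [sub_eq_zero] using this

theorem good_charpoly {ι : Type*} [Fintype ι] [DecidableEq ι] {M : Matrix ι ι F} (hM : M ^ r = 1) : Good r M.charpoly := by
  refine ⟨Matrix.charpoly_monic M, fun g hg hgi hd => ?_⟩
  exact (Spectra.dvd_minpoly_of_dvd_charpoly M hgi hd).trans (minpoly.dvd F M (by simp [hM]))

theorem coeff_zero_ne (hr : r ≠ 0) {f : F[X]} (hf : Good r f) : f.coeff 0 ≠ 0 := by
  intro h
  have h1 := hf.2 X monic_X irreducible_X (X_dvd_iff.2 h)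
  rw [X_dvd_iff, coeff_sub, coeff_X_pow, if_neg (Ne.symm hr), coeff_one_zero] at h1
  simp at h1

/-- Classes of elements of order `r` among those of order dividing `r`. -/
theorem card_order_r {G : Type*} [Group G] [Finite G] (hr : r.Prime) :
    Nat.card {C : ConjClasses G // ∃ g, ConjClasses.mk g = C ∧ orderOf g = r} =
      Nat.card {C : ConjClasses G // ∃ g, ConjClasses.mk g = C ∧ g ^ r = 1} - 1 := by
  classical
  haveI : Fintype (ConjClasses G) := Fintype.ofFinite _
  rw [Nat.card_eq_fintype_card, Nat.card_eq_fintype_card, Fintype.card_subtype, Fintype.card_subtype]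
  have h : (Finset.univ.filter fun C : ConjClasses G => ∃ g, ConjClasses.mk g = C ∧ orderOf g = r) =
      (Finset.univ.filter fun C : ConjClasses G => ∃ g, ConjClasses.mk g = C ∧ g ^ r = 1).erase (ConjClasses.mk 1) := by
    ext C
    simp only [Finset.mem_filter, Finset.mem_univ, true_and, Finset.mem_erase]
    constructor
    · rintro ⟨g, rfl, hg⟩
      refine ⟨fun h => ?_, g, rfl, by rw [← hg]; exact pow_orderOf_eq_one g⟩
      obtain ⟨c, hc⟩ := isConj_iff.1 (ConjClasses.mk_eq_mk_iff_isConj.1 h)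
      have h1 : g = 1 := by
        have := congrArg (fun x => c⁻¹ * x * c) hc
        simpa [mul_assoc] using this
      rw [h1, orderOf_one] at hg
      exact hr.one_lt.ne hg
    · rintro ⟨hne, g, rfl, hg⟩
      haveI : Fact r.Prime := ⟨hr⟩
      exact ⟨g, rfl, orderOf_eq_prime hg fun h => hne (by rw [h])⟩
  rw [h, Finset.card_erase_of_mem]
  simp only [Finset.mem_filter, Finset.mem_univ, true_and]
  exact ⟨1, rfl, one_pow r⟩

theorem card_gl (p : ℕ) [Fact p.Prime] [CharP F p] (hr : r.Prime) (hrp : r ≠ p) (n i t : ℕ)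
    (hi : i = orderOf (Fintype.card F : ZMod r)) (ht : t * i = r - 1) :
    Nat.card {C : ConjClasses (GL (Fin n) F) // ∃ g : GL (Fin n) F, ConjClasses.mk g = C ∧ orderOf g = r} =
      Nat.choose (n / i + t) t - 1 := by
  rw [card_order_r hr, ← card_good (F := F) p hr hrp n i t hi ht]
  congr 1
  have hpr : r.Coprime p := (Nat.coprime_primes hr Fact.out).2 hrp
  have hcop : ∀ g : GL (Fin n) F, g ^ r = 1 → (orderOf g).Coprime p := fun g hg =>
    hpr.coprime_dvd_left (orderOf_dvd_of_pow_eq_one hg)
  have hval : ∀ g : GL (Fin n) F, g ^ r = 1 → g.1 ^ r = 1 := fun g hg => by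
    rw [← Units.val_pow_eq_pow_val, hg, Units.val_one]
  let f : {C : ConjClasses (GL (Fin n) F) // ∃ g, ConjClasses.mk g = C ∧ g ^ r = 1} → {f : F[X] // f.natDegree = n ∧ Good r f} :=
    fun C => ⟨C.2.choose.1.charpoly, by rw [Matrix.charpoly_natDegree_eq_dim, Fintype.card_fin], good_charpoly (hval _ C.2.choose_spec.2)⟩
  have hcc : ∀ a b : GL (Fin n) F, IsConj a b → a.1.charpoly = b.1.charpoly := by
    intro a b h
    obtain ⟨c, hc⟩ := isConj_iff.1 h
    rw [← hc, Units.val_mul, Units.val_mul]
    rw [Matrix.coe_units_inv, Matrix.charpoly_units_conj]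
  refine Nat.card_eq_of_bijective f ⟨fun a b h => ?_, fun φ => ?_⟩
  · apply Subtype.ext
    rw [← a.2.choose_spec.1, ← b.2.choose_spec.1]
    exact ConjClasses.mk_eq_mk_iff_isConj.2 (SemisimpleCl.isConj_gl p (hcop _ a.2.choose_spec.2) (hcop _ b.2.choose_spec.2)
      (congrArg Subtype.val h))
  · obtain ⟨φ, hn, hφ⟩ := φ
    obtain ⟨g, hg, hgc⟩ := SemisimpleCl.exists_gl_rep p hφ.1 hn (coeff_zero_ne hr.ne_zero hφ)
    have hgN : g.1 ^ orderOf g = 1 := by rw [← Units.val_pow_eq_pow_val, pow_orderOf_eq_one, Units.val_one]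
    have hgr : g ^ r = 1 := Units.ext (by
      rw [Units.val_pow_eq_pow_val, Units.val_one]
      exact pow_eq_one p hgN hg (hgc ▸ hφ) hr.ne_zero)
    refine ⟨⟨ConjClasses.mk g, g, rfl, hgr⟩, Subtype.ext ?_⟩
    exact (hcc _ _ (ConjClasses.mk_eq_mk_iff_isConj.1
      ((⟨g, rfl, hgr⟩ : ∃ g', ConjClasses.mk g' = ConjClasses.mk g ∧ g' ^ r = 1)).choose_spec.1)).trans hgc

end Cfsg.Agent.LBRootPoly
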