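/-
Polynomials with roots among the `r`-th roots of unity fixed by twisted reversal; class counts in
symplectic and unitary groups.
-/
import Cfsg.Agent.Lib.LinearBlock.RootUnityPolys
import Cfsg.Agent.Lib.Classical.SympCharpoly
import Cfsg.Agent.Lib.Classical.UnitaryCharpoly
import Cfsg.Agent.Lib.Classical.HermSU

set_option autoImplicit false
set_option linter.all false

namespace Cfsg.Agent.LBRootTwist

open Polynomial UniqueFactorizationMonoid LBRootPoly

variable {F : Type*} [Field F] (s : F →+* F)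

/-- Twisted monic reversal. -/
noncomputable def rc (f : F[X]) : F[X] := C (s (f.coeff 0))⁻¹ * (f.map s).reverse

theorem rc_mul (f g : F[X]) : rc s (f * g) = rc s f * rc s g := by
  simp only [rc, mul_coeff_zero, map_mul, mul_inv, Polynomial.map_mul, reverse_mul_of_domain]
  ring

theorem rc_one : rc s (1 : F[X]) = 1 := by
  rw [rc, Polynomial.map_one, coeff_one_zero, map_one, inv_one, map_one, one_mul, ← C_1, reverse_C]

theorem rc_pow (f : F[X]) (k : ℕ) : rc s (f ^ k) = rc s f ^ k := by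
  induction k with
  | zero => simp [rc_one]
  | succ k ih => rw [pow_succ, rc_mul, ih, pow_succ]

theorem rc_prod {J : Type*} (S : Finset J) (f : J → F[X]) : rc s (∏ j ∈ S, f j) = ∏ j ∈ S, rc s (f j) := by
  classical
  induction S using Finset.induction with
  | empty => simp [rc_one]
  | insert a S ha ih => rw [Finset.prod_insert ha, Finset.prod_insert ha, rc_mul, ih]

theorem rc_coeff (f : F[X]) {i : ℕ} (hi : i ≤ f.natDegree) :
    (rc s f).coeff i = (s (f.coeff 0))⁻¹ * s (f.coeff (f.natDegree - i)) := by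
  rw [rc, coeff_C_mul, coeff_reverse, natDegree_map, revAt_le hi, coeff_map]

theorem rc_monic {f : F[X]} (hf : f.Monic) (h0 : f.coeff 0 ≠ 0) : (rc s f).Monic ∧ (rc s f).natDegree = f.natDegree := by
  have hs0 : s (f.coeff 0) ≠ 0 := (map_ne_zero s).2 h0
  have hle : (rc s f).natDegree ≤ f.natDegree :=
    (natDegree_C_mul_le _ _).trans ((reverse_natDegree_le _).trans (natDegree_map s).le)
  have hc : (rc s f).coeff f.natDegree = 1 := by
    rw [rc_coeff s f le_rfl, Nat.sub_self, inv_mul_cancel₀ hs0]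
  have hd : (rc s f).natDegree = f.natDegree := le_antisymm hle (le_natDegree_of_ne_zero (by rw [hc]; exact one_ne_zero))
  exact ⟨by rw [Monic, leadingCoeff, hd, hc], hd⟩

theorem rc_fix_iff (hs : ∀ x, s (s x) = x) {f : F[X]} (hf : f.Monic) (h0 : f.coeff 0 ≠ 0) {n : ℕ} (hn : f.natDegree = n) :
    rc s f = f ↔ ∀ i ≤ n, f.coeff (n - i) = f.coeff 0 * s (f.coeff i) := by
  subst hn
  have hs0 : s (f.coeff 0) ≠ 0 := (map_ne_zero s).2 h0
  constructor
  · intro h i hi
    have h00 : f.coeff 0 = (s (f.coeff 0))⁻¹ := by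
      have := rc_coeff s f (Nat.zero_le f.natDegree)
      rw [h, Nat.sub_zero, hf.coeff_natDegree, map_one, mul_one] at this
      exact this
    have := rc_coeff s f (Nat.sub_le f.natDegree i)
    rw [h, Nat.sub_sub_self hi, ← h00] at this
    exact this
  · intro h
    obtain ⟨hm, hd⟩ := rc_monic s hf h0
    ext i
    by_cases hi : i ≤ f.natDegree
    · rw [rc_coeff s f hi, h i hi, map_mul, hs, ← mul_assoc, inv_mul_cancel₀ hs0, one_mul]
    · rw [coeff_eq_zero_of_natDegree_lt (by omega), coeff_eq_zero_of_natDegree_lt (by omega)]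

theorem rc_rc (hs : ∀ x, s (s x) = x) {f : F[X]} (hf : f.Monic) (h0 : f.coeff 0 ≠ 0) : rc s (rc s f) = f := by
  obtain ⟨hm, hd⟩ := rc_monic s hf h0
  have h00 : (rc s f).coeff 0 = (s (f.coeff 0))⁻¹ := by
    rw [rc_coeff s f (Nat.zero_le _), Nat.sub_zero, hf.coeff_natDegree, map_one, mul_one]
  have hne : (rc s f).coeff 0 ≠ 0 := h00 ▸ inv_ne_zero ((map_ne_zero s).2 h0)
  obtain ⟨hm2, hd2⟩ := rc_monic s hm hne
  ext i
  by_cases hi : i ≤ f.natDegree
  · rw [rc_coeff s _ (hd.symm ▸ hi), hd, rc_coeff s f (Nat.sub_le _ _), Nat.sub_sub_self hi, h00, map_mul, map_inv₀, hs, hs,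
      inv_inv, ← mul_assoc, mul_inv_cancel₀ h0, one_mul]
  · rw [coeff_eq_zero_of_natDegree_lt (by omega), coeff_eq_zero_of_natDegree_lt (by omega)]

theorem rc_X_pow_sub_one {r : ℕ} (hr : r ≠ 0) : rc s (X ^ r - 1 : F[X]) = X ^ r - 1 := by
  have hd : (X ^ r - 1 : F[X]).natDegree = r := by rw [← C_1, natDegree_X_pow_sub_C]
  ext i
  by_cases hi : i ≤ r
  · rw [rc_coeff s _ (hd.symm ▸ hi), hd]
    simp only [coeff_sub, coeff_X_pow, coeff_one, map_sub, map_one, map_zero, apply_ite]
    by_cases h1 : i = 0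
    · subst h1; simp [hr, Ne.symm hr]
    by_cases h2 : i = r
    · subst h2; simp [hr, Ne.symm hr]
    simp [h1, h2, Ne.symm hr, show r - i ≠ r by omega, show r - i ≠ 0 by omega, Ne.symm h2, Ne.symm h1]
  · have hm : (X ^ r - 1 : F[X]).Monic := by rw [← C_1]; exact monic_X_pow_sub_C 1 hr
    have h0 : (X ^ r - 1 : F[X]).coeff 0 ≠ 0 := by simp [coeff_X_pow, Ne.symm hr]
    have hm' := (rc_monic s hm h0).2
    rw [coeff_eq_zero_of_natDegree_lt (by omega), coeff_eq_zero_of_natDegree_lt (by omega)]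

theorem rc_X_sub_one : rc s (X - C 1 : F[X]) = X - C 1 := by
  have := rc_X_pow_sub_one s (F := F) one_ne_zero
  rwa [pow_one, ← C_1] at this

variable [Fintype F] [DecidableEq F] {r : ℕ}

theorem factor_coeff_zero (hr : r ≠ 0) {g : F[X]} (hd : g ∣ X ^ r - 1) : g.coeff 0 ≠ 0 := by
  intro h
  have h1 := (X_dvd_iff.2 h).trans hd
  rw [X_dvd_iff, coeff_sub, coeff_X_pow, if_neg (Ne.symm hr), coeff_one_zero] at h1
  simp at h1

theorem rc_mem_factors (hs : ∀ x, s (s x) = x) (hr : r.Prime) {g : F[X]} (hg : g ∈ factors F r) : rc s g ∈ factors F r := by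
  obtain ⟨hne, hm, hi, hd⟩ := (mem_factors hr.ne_zero).1 hg
  have h0 := factor_coeff_zero hr.ne_zero hd
  obtain ⟨hm', hd'⟩ := rc_monic s hm h0
  have hdvd : rc s g ∣ X ^ r - 1 := by
    obtain ⟨k, hk⟩ := hd
    exact ⟨rc s k, by rw [← rc_mul, ← hk, rc_X_pow_sub_one s hr.ne_zero]⟩
  have hne' : rc s g ≠ X - C 1 := fun h => hne (by rw [← rc_rc s hs hm h0, h, rc_X_sub_one])
  have hi' : Irreducible (rc s g) := by
    have h1 : rc s g ≠ 1 := fun h => by rw [h, natDegree_one] at hd'; have := hi.natDegree_pos; omega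
    obtain ⟨h, hhm, hhi, hhd⟩ := exists_monic_irreducible_factor (rc s g) (fun hu => h1 (hm'.eq_one_of_isUnit hu))
    have heq : h = rc s g := by
      by_cases hh1 : h = X - C 1
      · -- then the fixed linear factor divides `g`
        exfalso
        obtain ⟨k, hk⟩ := hhd
        have : (X - C 1 : F[X]) ∣ g := ⟨rc s k, by
          rw [← rc_rc s hs hm h0, hk, rc_mul, hh1, rc_X_sub_one]⟩
        exact hne (eq_of_monic_of_associated hm (monic_X_sub_C 1) ((irreducible_X_sub_C (1 : F)).associated_of_dvd hi this).symm)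
      · refine (eq_of_monic_of_dvd_of_natDegree_le hhm hm' hhd ?_).symm
        rw [hd', natDegree_factor hr hm hi hd hne, natDegree_factor hr hhm hhi (hhd.trans hdvd) hh1]
    exact heq ▸ hhi
  exact (mem_factors hr.ne_zero).2 ⟨hne', hm', hi', hdvd⟩

/-- When an irreducible factor is fixed by twisted reversal. -/
theorem rc_self_iff (hs : ∀ x, s (s x) = x) (p a : ℕ) [Fact p.Prime] [CharP F p] (hQ : ∀ x, s x = x ^ p ^ a)
    (hr : r.Prime) {g : F[X]} (hg : g ∈ factors F r) :
    rc s g = g ↔ ∃ d : ℕ, (Fintype.card F : ZMod r) ^ d = -((p ^ a : ℕ) : ZMod r) := by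
  obtain ⟨hne, hm, hi, hd⟩ := (mem_factors hr.ne_zero).1 hg
  obtain ⟨hne', hm', hi', hd'⟩ := (mem_factors hr.ne_zero).1 (rc_mem_factors s hs hr hg)
  haveI : Fact (Irreducible g) := ⟨hi⟩
  haveI : Fact r.Prime := ⟨hr⟩
  haveI : Module.Finite F (AdjoinRoot g) := hm.finite_adjoinRoot
  haveI : Finite (AdjoinRoot g) := Module.finite_of_finite F
  haveI : CharP (AdjoinRoot g) p := charP_of_injective_algebraMap (algebraMap F (AdjoinRoot g)).injective p
  set θ := AdjoinRoot.root g with hθ
  have hθr : θ ^ r = 1 := by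
    have h := AdjoinRoot.mk_eq_zero.2 hd
    rwa [map_sub, map_pow, map_one, AdjoinRoot.mk_X, sub_eq_zero] at h
  have hθ1 : θ ≠ 1 := by
    intro h
    apply hne
    have h' : g ∣ X - C 1 := AdjoinRoot.mk_eq_zero.1 (by rw [map_sub, AdjoinRoot.mk_X, map_one, map_one, ← hθ, h, sub_self])
    exact eq_of_monic_of_associated hm (monic_X_sub_C 1) (hi.associated_of_dvd (irreducible_X_sub_C 1) h')
  have hord : orderOf θ = r := orderOf_eq_prime hθr hθ1
  have hθ0 : θ ≠ 0 := fun h => by rw [h, zero_pow hr.ne_zero] at hθr; exact zero_ne_one hθr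
  set η := (θ ^ p ^ a)⁻¹ with hη
  -- `η` is a root of the reversed polynomial
  have hηroot : aeval η (rc s g) = 0 := by
    have h1 : eval₂ (algebraMap F (AdjoinRoot g)) (θ ^ p ^ a) (g.map s) = 0 := by
      rw [eval₂_map]
      have hcomp : (algebraMap F (AdjoinRoot g)).comp s = (iterateFrobenius (AdjoinRoot g) p a).comp (algebraMap F (AdjoinRoot g)) :=
        RingHom.ext fun x => by simp [hQ, iterateFrobenius_def, map_pow]
      rw [hcomp, ← iterateFrobenius_def, ← hom_eval₂, hθ,
        show eval₂ (algebraMap F (AdjoinRoot g)) (AdjoinRoot.root g) g = 0 from AdjoinRoot.eval₂_root g, map_zero]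
    haveI : Invertible (θ ^ p ^ a) := invertibleOfNonzero (pow_ne_zero _ hθ0)
    have h2 := (eval₂_reverse_eq_zero_iff (algebraMap F (AdjoinRoot g)) (θ ^ p ^ a) (g.map s)).2 h1
    rw [invOf_eq_inv, ← hη, ← aeval_def] at h2
    rw [rc, map_mul, h2, mul_zero]
  have hiff : ∀ d : ℕ, θ ^ Fintype.card F ^ d = η ↔ (Fintype.card F : ZMod r) ^ d = -((p ^ a : ℕ) : ZMod r) := by
    intro d
    rw [hη, ← mul_eq_one_iff_eq_inv₀ (pow_ne_zero _ hθ0), ← pow_add, ← orderOf_dvd_iff_pow_eq_one, hord,
      ← ZMod.natCast_eq_zero_iff, Nat.cast_add, Nat.cast_pow, add_eq_zero_iff_eq_neg]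
  constructor
  · intro h
    rw [h] at hηroot
    obtain ⟨σ, hσ⟩ : ∃ σ : AdjoinRoot g →ₐ[F] AdjoinRoot g, σ θ = η :=
      ⟨AdjoinRoot.liftAlgHom g (Algebra.ofId F (AdjoinRoot g)) η hηroot, by rw [hθ]; exact AdjoinRoot.lift_root hηroot⟩
    obtain ⟨⟨d, _⟩, rfl⟩ := (FiniteField.bijective_frobeniusAlgHom_pow F (AdjoinRoot g)).2 σ
    simp only [AlgHom.coe_pow, FiniteField.coe_frobeniusAlgHom, pow_iterate] at hσ
    exact ⟨d, (hiff d).1 hσ⟩
  · rintro ⟨d, hd⟩
    have h1 : aeval η g = 0 := by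
      rw [← (hiff d).2 hd]
      have := Polynomial.aeval_algHom_apply (FiniteField.frobeniusAlgHom F (AdjoinRoot g) ^ d) θ g
      rw [AlgHom.coe_pow, FiniteField.coe_frobeniusAlgHom, pow_iterate] at this
      rw [this, show aeval θ g = 0 from AdjoinRoot.eval₂_root g]
      exact zero_pow (pow_ne_zero _ Fintype.card_ne_zero)
    exact (minpoly.eq_of_irreducible_of_monic hi' hηroot hm').trans (minpoly.eq_of_irreducible_of_monic hi h1 hm).symm

/-- Sums invariant under a fixed point free involution. -/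
theorem card_invariant (T : Type*) [Fintype T] (κ : T → T) (hκ : ∀ u, κ (κ u) = u) (hfree : ∀ u, κ u ≠ u) (i n : ℕ) (hi : 0 < i) :
    Nat.card {e : Option T → ℕ // (e none + i * ∑ u, e (some u) = n) ∧ ∀ u, e (some (κ u)) = e (some u)} =
      Nat.choose (n / (2 * i) + Fintype.card T / 2) (Fintype.card T / 2) := by
  classical
  let key := Fintype.equivFin T
  let R := {u : T // key u < key (κ u)}
  have hsplit : ∀ u, key u < key (κ u) ∨ key (κ u) < key (κ (κ u)) := fun u => by
    rw [hκ]; exact lt_or_gt_of_ne fun h => hfree u (key.injective h).symm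
  let ψ : R × Bool → T := fun x => if x.2 then κ x.1.1 else x.1.1
  have hψ : Function.Bijective ψ := by
    constructor
    · rintro ⟨⟨u, hu⟩, b⟩ ⟨⟨v, hv⟩, c⟩ h
      cases b <;> cases c <;> simp only [ψ, Bool.false_eq_true, if_false, if_true] at h
      · subst h; rfl
      · subst h; rw [hκ] at hu; exact absurd hu (lt_asymm hv)
      · subst h; rw [hκ] at hv; exact absurd hv (lt_asymm hu)
      · have := congrArg κ h; rw [hκ, hκ] at this; subst this; rfl
    · intro u
      rcases hsplit u with h | h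
      · exact ⟨(⟨u, h⟩, false), rfl⟩
      · exact ⟨(⟨κ u, h⟩, true), hκ u⟩
  have hR : Fintype.card T = 2 * Fintype.card R := by
    exact (Fintype.card_of_bijective hψ).symm.trans (by rw [Fintype.card_prod, Fintype.card_bool, mul_comm])
  have hsum : ∀ f : T → ℕ, (∀ u, f (κ u) = f u) → ∑ u, f u = 2 * ∑ v : R, f v.1 := by
    intro f hf
    rw [← (Equiv.ofBijective ψ hψ).sum_comp f, Fintype.sum_prod_type, Finset.mul_sum]
    refine Finset.sum_congr rfl fun v _ => ?_
    rw [Fintype.sum_bool]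
    simp [ψ, hf, two_mul]
  rw [show Fintype.card T / 2 = Fintype.card R by omega, ← card_tuples R (2 * i) n (by omega)]
  let toR : {e : Option T → ℕ // (e none + i * ∑ u, e (some u) = n) ∧ ∀ u, e (some (κ u)) = e (some u)} →
      {e : Option R → ℕ // e none + 2 * i * ∑ v, e (some v) = n} := fun e =>
    ⟨fun o => e.1 (o.map Subtype.val), by
      have h := e.2.1
      rw [hsum (fun u => e.1 (some u)) e.2.2] at h
      simp only [Option.map_none, Option.map_some]
      rw [mul_comm 2 i, mul_assoc]; exact h⟩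
  let ρ : T → R := fun u => ((Equiv.ofBijective ψ hψ).symm u).1
  have hρ : ∀ v : R, ρ v.1 = v := fun v => by
    show ((Equiv.ofBijective ψ hψ).symm v.1).1 = v
    rw [show v.1 = Equiv.ofBijective ψ hψ (v, false) from rfl, Equiv.symm_apply_apply]
  have hρκ : ∀ u, ρ (κ u) = ρ u := fun u => by
    obtain ⟨⟨v, b⟩, rfl⟩ := hψ.2 u
    have e : κ (ψ (v, b)) = ψ (v, !b) := by cases b <;> simp [ψ, hκ]
    show ((Equiv.ofBijective ψ hψ).symm _).1 = ((Equiv.ofBijective ψ hψ).symm _).1
    rw [e, show ψ (v, !b) = Equiv.ofBijective ψ hψ (v, !b) from rfl, Equiv.symm_apply_apply,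
      show ψ (v, b) = Equiv.ofBijective ψ hψ (v, b) from rfl, Equiv.symm_apply_apply]
  refine Nat.card_eq_of_bijective toR ⟨fun a b h => ?_, fun e => ?_⟩
  · have h' := congrFun (congrArg Subtype.val h)
    refine Subtype.ext (funext fun o => ?_)
    cases o with
    | none => exact h' none
    | some u =>
      obtain ⟨⟨v, c⟩, rfl⟩ := hψ.2 u
      cases c
      · exact h' (some v)
      · show a.1 (some (κ v.1)) = b.1 (some (κ v.1))
        rw [a.2.2, b.2.2]; exact h' (some v)
  · refine ⟨⟨fun o => e.1 (o.map ρ), ?_, fun u => by simp only [Option.map_some, hρκ]⟩, Subtype.ext (funext fun o => ?_)⟩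
    · rw [hsum (fun u => e.1 ((some u).map ρ)) (fun u => by simp only [Option.map_some, hρκ])]
      simp only [Option.map_none, Option.map_some, hρ]
      have := e.2
      rw [← mul_assoc, mul_comm i 2]; exact this
    · cases o with
      | none => rfl
      | some v => show e.1 (some (ρ v.1)) = e.1 (some v); rw [hρ]

open Classical in
/-- The polynomials fixed by twisted reversal. -/
theorem card_twist (p a : ℕ) [Fact p.Prime] [CharP F p] (hs : ∀ x, s (s x) = x) (hQ : ∀ x, s x = x ^ p ^ a)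
    (hr : r.Prime) (hrp : r ≠ p) (n i t : ℕ) (hi : i = orderOf (Fintype.card F : ZMod r)) (ht : t * i = r - 1) :
    Nat.card {f : F[X] // (f.natDegree = n ∧ Good r f) ∧ rc s f = f} =
      if ∃ d : ℕ, (Fintype.card F : ZMod r) ^ d = -((p ^ a : ℕ) : ZMod r) then Nat.choose (n / i + t) t
      else Nat.choose (n / (2 * i) + t / 2) (t / 2) := by
  classical
  have hi0 : 0 < i := Nat.pos_of_ne_zero fun h => by rw [h, mul_zero] at ht; have := hr.one_lt; omega
  let φ : Option {g // g ∈ factors F r} → F[X] := fun o => o.elim (X - C 1) Subtype.val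
  have hfac := fun g : {g // g ∈ factors F r} => (mem_factors (F := F) hr.ne_zero).1 g.2
  have hφ : ∀ j, (φ j).Monic ∧ Irreducible (φ j) := by
    rintro (_ | g)
    · exact ⟨monic_X_sub_C 1, irreducible_X_sub_C 1⟩
    · exact ⟨(hfac g).2.1, (hfac g).2.2.1⟩
  have hinj : Function.Injective φ := by
    rintro (_ | g) (_ | g') h
    · rfl
    · exact absurd h.symm (hfac g').1
    · exact absurd h (hfac g).1
    · exact congrArg some (Subtype.ext h)
  have hT : Fintype.card {g // g ∈ factors F r} = t := by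
    rw [Fintype.card_coe]
    have h := card_factors (F := F) p hr hrp
    rw [← hi, ← ht] at h
    exact Nat.eq_of_mul_eq_mul_right hi0 h
  let κ : {g // g ∈ factors F r} → {g // g ∈ factors F r} := fun g => ⟨rc s g.1, rc_mem_factors s hs hr g.2⟩
  have hκ : ∀ u, κ (κ u) = u := fun u => Subtype.ext (rc_rc s hs (hfac u).2.1 (factor_coeff_zero hr.ne_zero (hfac u).2.2.2))
  let P : (Option {g // g ∈ factors F r} → ℕ) → F[X] := fun e => ∏ j, φ j ^ e j
  let ι : Option {g // g ∈ factors F r} ≃ Option {g // g ∈ factors F r} :=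
    { toFun := Option.map κ, invFun := Option.map κ
      left_inv := fun o => by cases o <;> simp [hκ]
      right_inv := fun o => by cases o <;> simp [hκ] }
  have hrcP : ∀ e, rc s (P e) = P (e ∘ ι) := by
    intro e
    simp only [P, rc_prod, rc_pow, Function.comp]
    refine (Fintype.prod_equiv ι _ _ fun j => ?_).symm
    rcases j with _ | g
    · show (X - C 1 : F[X]) ^ e none = rc s (X - C 1) ^ e none
      rw [rc_X_sub_one]
    · show (g.1 : F[X]) ^ e (some (κ g)) = rc s (κ g).1 ^ e (some (κ g))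
      rw [show rc s (κ g).1 = (κ (κ g)).1 from rfl, hκ]
  have hPr : ∀ e g, g.Monic → Irreducible g → g ∣ P e → g ∣ X ^ r - 1 := by
    intro e g hg hgi hd
    obtain ⟨j, -, hj⟩ := hgi.prime.exists_mem_finset_dvd hd
    refine (hgi.prime.dvd_of_dvd_pow hj).trans ?_
    rcases j with _ | u
    · exact dvd_iff_isRoot.2 (by simp [IsRoot])
    · exact (hfac u).2.2.2
  have hPm : ∀ e, (P e).Monic := fun e => monic_prod_of_monic _ _ fun j _ => (hφ j).1.pow _
  have hPd : ∀ e, (P e).natDegree = e none + i * ∑ u, e (some u) := by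
    intro e
    simp only [P]
    rw [natDegree_prod_of_monic _ _ fun j _ => (hφ j).1.pow _, Fintype.sum_option, Finset.mul_sum]
    simp only [natDegree_pow, φ, Option.elim, natDegree_X_sub_C, mul_one]
    rw [Finset.sum_congr rfl fun u _ => show e (some u) * (u.1).natDegree = i * e (some u) by
      rw [natDegree_factor hr (hfac u).2.1 (hfac u).2.2.1 (hfac u).2.2.2 (hfac u).1, ← hi, mul_comm]]
  have hPf : ∀ e, normalizedFactors (P e) = ∑ k, Multiset.replicate (e k) (φ k) := by
    intro e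
    simp only [P]
    induction (Finset.univ : Finset (Option {g // g ∈ factors F r})) using Finset.induction with
    | empty => simp
    | insert c S hc ih =>
      rw [Finset.prod_insert hc, Finset.sum_insert hc, normalizedFactors_mul (pow_ne_zero _ (hφ c).1.ne_zero)
        (monic_prod_of_monic _ _ fun k _ => (hφ k).1.pow _).ne_zero, ih, normalizedFactors_pow,
        normalizedFactors_irreducible (hφ c).2, (hφ c).1.normalize_eq_self, Multiset.nsmul_singleton]
  have hcount : ∀ e j, (normalizedFactors (P e)).count (φ j) = e j := by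
    intro e j
    rw [hPf, Multiset.count_sum', Finset.sum_eq_single j]
    · simp
    · intro b _ hb; rw [Multiset.count_replicate, if_neg fun h => hb (hinj h)]
    · simp
  have hPinj : Function.Injective P := by
    intro a b h
    funext j
    rw [← hcount a, ← hcount b, h]
  have hsurj : ∀ f, Good r f → ∃ e, P e = f := by
    intro f hf
    let e : Option {g // g ∈ factors F r} → ℕ := fun j => (normalizedFactors f).count (φ j)
    refine ⟨e, (prod_of_monic (hPm e)).symm.trans ((congrArg Multiset.prod ?_).trans (prod_of_monic hf.1))⟩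
    ext g
    by_cases hg : g ∈ Set.range φ
    · obtain ⟨j, rfl⟩ := hg; exact hcount e j
    · have key : ∀ f', (∀ g : F[X], g.Monic → Irreducible g → g ∣ f' → g ∣ X ^ r - 1) → (normalizedFactors f').count g = 0 := by
        intro f' hf'
        refine Multiset.count_eq_zero.2 fun h => hg ?_
        have hd := hf' g (monic_of_mem h) (irreducible_of_normalized_factor g h) (dvd_of_mem_normalizedFactors h)
        by_cases h1 : g = X - C 1
        · exact ⟨none, h1.symm⟩
        · exact ⟨some ⟨g, (mem_factors hr.ne_zero).2 ⟨h1, monic_of_mem h, irreducible_of_normalized_factor g h, hd⟩⟩, rfl⟩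
      rw [key _ (hPr e), key _ hf.2]
  have hcard : Nat.card {f : F[X] // (f.natDegree = n ∧ Good r f) ∧ rc s f = f} =
      Nat.card {e : Option {g // g ∈ factors F r} → ℕ // (e none + i * ∑ u, e (some u) = n) ∧ ∀ u, e (some (κ u)) = e (some u)} := by
    refine (Nat.card_eq_of_bijective (fun e : {e : Option {g // g ∈ factors F r} → ℕ //
        (e none + i * ∑ u, e (some u) = n) ∧ ∀ u, e (some (κ u)) = e (some u)} =>
      (⟨P e.1, ⟨(hPd _).trans e.2.1, hPm _, hPr _⟩, (hrcP _).trans (congrArg P (funext fun o => by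
        rcases o with _ | u
        · rfl
        · exact e.2.2 u))⟩ : {f : F[X] // (f.natDegree = n ∧ Good r f) ∧ rc s f = f}))
      ⟨fun a b h => Subtype.ext (hPinj (congrArg Subtype.val h)), fun f => ?_⟩).symm
    obtain ⟨f, ⟨hn, hG⟩, hfix⟩ := f
    obtain ⟨e, rfl⟩ := hsurj f hG
    refine ⟨⟨e, (hPd e).symm.trans hn, fun u => ?_⟩, rfl⟩
    exact congrFun (hPinj ((hrcP e).symm.trans hfix)) (some u)
  rw [hcard]
  split_ifs with hex
  · have hid : ∀ u, κ u = u := fun u => Subtype.ext ((rc_self_iff s hs p a hQ hr u.2).2 hex)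
    rw [Nat.card_congr (Equiv.subtypeEquivRight (q := fun e => e none + i * ∑ u, e (some u) = n) fun e =>
      ⟨fun h => h.1, fun h => ⟨h, fun u => by rw [hid]⟩⟩), card_tuples _ i n hi0, hT]
  · rw [card_invariant _ κ hκ (fun u h => hex ((rc_self_iff s hs p a hQ hr u.2).1 (congrArg Subtype.val h))) i n hi0, hT]

/-- Classes of order `r` in a linear group whose good elements are classified by polynomials. -/
theorem card_linear {n' : Type*} [Fintype n'] [DecidableEq n'] {G : Type*} [Group G] [Finite G] (p : ℕ) [Fact p.Prime] [CharP F p]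
    (hr : r.Prime) (hrp : r ≠ p) (val : G →* Matrix n' n' F) (hval : Function.Injective val)
    (hinj : ∀ a b, (orderOf a).Coprime p → (orderOf b).Coprime p → (val a).charpoly = (val b).charpoly → IsConj a b)
    (Q : F[X] → Prop) (hQ : ∀ a, a ^ r = 1 → Q (val a).charpoly)
    (hsurj : ∀ f, Q f → Good r f ∧ ∃ a, (val a).charpoly = f) :
    Nat.card {C : ConjClasses G // ∃ g, ConjClasses.mk g = C ∧ orderOf g = r} = Nat.card {f : F[X] // Q f} - 1 := by
  rw [card_order_r hr]
  congr 1
  have hcop : ∀ g : G, g ^ r = 1 → (orderOf g).Coprime p := fun g hg =>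
    ((Nat.coprime_primes hr Fact.out).2 hrp).coprime_dvd_left (orderOf_dvd_of_pow_eq_one hg)
  have hcc : ∀ a b : G, IsConj a b → (val a).charpoly = (val b).charpoly := by
    intro a b h
    obtain ⟨c, hc⟩ := isConj_iff.1 h
    rw [← hc, map_mul, map_mul]
    have hu : val c * val c⁻¹ = 1 := by rw [← map_mul, mul_inv_cancel, map_one]
    let u : (Matrix n' n' F)ˣ := ⟨val c, val c⁻¹, hu, mul_eq_one_comm.1 hu⟩
    rw [← Matrix.inv_eq_right_inv hu]
    exact (Matrix.charpoly_units_conj u _).symm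
  let f : {C : ConjClasses G // ∃ g, ConjClasses.mk g = C ∧ g ^ r = 1} → {f : F[X] // Q f} :=
    fun C => ⟨(val C.2.choose).charpoly, hQ _ C.2.choose_spec.2⟩
  refine Nat.card_eq_of_bijective f ⟨fun a b h => ?_, fun φ => ?_⟩
  · apply Subtype.ext
    rw [← a.2.choose_spec.1, ← b.2.choose_spec.1]
    exact ConjClasses.mk_eq_mk_iff_isConj.2 (hinj _ _ (hcop _ a.2.choose_spec.2) (hcop _ b.2.choose_spec.2) (congrArg Subtype.val h))
  · obtain ⟨φ, hφ⟩ := φ
    obtain ⟨hG, a, ha⟩ := hsurj φ hφ
    obtain ⟨j, hj⟩ := SemisimpleCl.exists_coprime_pow (F := F) p a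
    have hk : ∀ k, ((val a) ^ Fintype.card F ^ k).charpoly = (val a).charpoly := by
      intro k
      induction k with
      | zero => simp
      | succ k ih => rw [pow_succ, pow_mul, FiniteField.Matrix.charpoly_pow_card, ih]
    have hc : (val (a ^ Fintype.card F ^ j)).charpoly = φ := by rw [map_pow, hk, ha]
    set g := a ^ Fintype.card F ^ j
    have hgr : g ^ r = 1 := hval (by
      rw [map_pow, map_one]
      exact pow_eq_one p (by rw [← map_pow, pow_orderOf_eq_one, map_one]) hj (hc.symm ▸ hG) hr.ne_zero)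
    refine ⟨⟨ConjClasses.mk g, g, rfl, hgr⟩, Subtype.ext ?_⟩
    exact (hcc _ _ (ConjClasses.mk_eq_mk_iff_isConj.1
      ((⟨g, rfl, hgr⟩ : ∃ g', ConjClasses.mk g' = ConjClasses.mk g ∧ g' ^ r = 1)).choose_spec.1)).trans hc

/-- As `card_linear`, with conjugacy assumed for elements of order dividing `r`. -/
theorem card_linear' {n' : Type*} [Fintype n'] [DecidableEq n'] {G : Type*} [Group G] [Finite G] (p : ℕ) [Fact p.Prime] [CharP F p]
    (hr : r.Prime) (hrp : r ≠ p) (val : G →* Matrix n' n' F) (hval : Function.Injective val)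
    (hinj : ∀ a b : G, a ^ r = 1 → b ^ r = 1 → (val a).charpoly = (val b).charpoly → IsConj a b)
    (Q : F[X] → Prop) (hQ : ∀ a, a ^ r = 1 → Q (val a).charpoly)
    (hsurj : ∀ f, Q f → Good r f ∧ ∃ a, (val a).charpoly = f) :
    Nat.card {C : ConjClasses G // ∃ g, ConjClasses.mk g = C ∧ orderOf g = r} = Nat.card {f : F[X] // Q f} - 1 := by
  rw [card_order_r hr]
  congr 1
  have hcop : ∀ g : G, g ^ r = 1 → (orderOf g).Coprime p := fun g hg =>
    ((Nat.coprime_primes hr Fact.out).2 hrp).coprime_dvd_left (orderOf_dvd_of_pow_eq_one hg)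
  have hcc : ∀ a b : G, IsConj a b → (val a).charpoly = (val b).charpoly := by
    intro a b h
    obtain ⟨c, hc⟩ := isConj_iff.1 h
    rw [← hc, map_mul, map_mul]
    have hu : val c * val c⁻¹ = 1 := by rw [← map_mul, mul_inv_cancel, map_one]
    let u : (Matrix n' n' F)ˣ := ⟨val c, val c⁻¹, hu, mul_eq_one_comm.1 hu⟩
    rw [← Matrix.inv_eq_right_inv hu]
    exact (Matrix.charpoly_units_conj u _).symm
  let f : {C : ConjClasses G // ∃ g, ConjClasses.mk g = C ∧ g ^ r = 1} → {f : F[X] // Q f} :=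
    fun C => ⟨(val C.2.choose).charpoly, hQ _ C.2.choose_spec.2⟩
  refine Nat.card_eq_of_bijective f ⟨fun a b h => ?_, fun φ => ?_⟩
  · apply Subtype.ext
    rw [← a.2.choose_spec.1, ← b.2.choose_spec.1]
    exact ConjClasses.mk_eq_mk_iff_isConj.2 (hinj _ _ a.2.choose_spec.2 b.2.choose_spec.2 (congrArg Subtype.val h))
  · obtain ⟨φ, hφ⟩ := φ
    obtain ⟨hG, a, ha⟩ := hsurj φ hφ
    obtain ⟨j, hj⟩ := SemisimpleCl.exists_coprime_pow (F := F) p a
    have hk : ∀ k, ((val a) ^ Fintype.card F ^ k).charpoly = (val a).charpoly := by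
      intro k
      induction k with
      | zero => simp
      | succ k ih => rw [pow_succ, pow_mul, FiniteField.Matrix.charpoly_pow_card, ih]
    have hc : (val (a ^ Fintype.card F ^ j)).charpoly = φ := by rw [map_pow, hk, ha]
    set g := a ^ Fintype.card F ^ j
    have hgr : g ^ r = 1 := hval (by
      rw [map_pow, map_one]
      exact pow_eq_one p (by rw [← map_pow, pow_orderOf_eq_one, map_one]) hj (hc.symm ▸ hG) hr.ne_zero)
    refine ⟨⟨ConjClasses.mk g, g, rfl, hgr⟩, Subtype.ext ?_⟩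
    exact (hcc _ _ (ConjClasses.mk_eq_mk_iff_isConj.1
      ((⟨g, rfl, hgr⟩ : ∃ g', ConjClasses.mk g' = ConjClasses.mk g ∧ g' ^ r = 1)).choose_spec.1)).trans hc

theorem even_order_iff [Fact r.Prime] (hr2 : r ≠ 2) {x : ZMod r} :
    (∃ d : ℕ, x ^ d = -((1 : ℕ) : ZMod r)) ↔ x ≠ 0 ∧ Even (orderOf x) := by
  haveI : Fact (2 < r) := ⟨lt_of_le_of_ne (Fact.out : r.Prime).two_le (Ne.symm hr2)⟩
  rw [Nat.cast_one]
  constructor
  · rintro ⟨d, hd⟩
    have hx : x ≠ 0 := by
      rintro rfl
      rcases d with _ | d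
      · rw [pow_zero] at hd; exact ZMod.neg_one_ne_one hd.symm
      · rw [zero_pow d.succ_ne_zero] at hd; exact neg_ne_zero.2 one_ne_zero hd.symm
    refine ⟨hx, Nat.not_odd_iff_even.1 fun ho => ZMod.neg_one_ne_one (n := r) ?_⟩
    have h2 : orderOf x ∣ d * 2 := orderOf_dvd_of_pow_eq_one (by rw [pow_mul, hd, neg_one_sq])
    have h3 : orderOf x ∣ d := (Nat.coprime_two_right.2 ho).dvd_of_dvd_mul_right h2
    rw [← hd, orderOf_dvd_iff_pow_eq_one.1 h3]
  · rintro ⟨hx, ⟨k, hk⟩⟩
    have hpos : 0 < orderOf x := orderOf_pos_iff.2 (isOfFinOrder_iff_pow_eq_one.2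
      ⟨r - 1, by have := (Fact.out : r.Prime).two_le; omega, ZMod.pow_card_sub_one_eq_one hx⟩)
    refine ⟨k, ?_⟩
    have h2 : (x ^ k) ^ 2 = 1 := by rw [← pow_mul, show k * 2 = orderOf x by omega, pow_orderOf_eq_one]
    exact (sq_eq_one_iff.1 h2).resolve_left (pow_ne_one_of_lt_orderOf (by omega) (by omega))

theorem card_sp (p : ℕ) [Fact p.Prime] [CharP F p] (hr : r.Prime) (hr2 : r ≠ 2) (hrp : r ≠ p) (m i t : ℕ)
    (hi : i = orderOf (Fintype.card F : ZMod r)) (ht : t * i = r - 1) :
    Nat.card {C : ConjClasses ↥(Matrix.symplecticGroup (Fin m) F) //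
      ∃ g : Matrix.symplecticGroup (Fin m) F, ConjClasses.mk g = C ∧ orderOf g = r} =
      if Odd i then Nat.choose (m / i + t / 2) (t / 2) - 1 else Nat.choose (2 * m / i + t) t - 1 := by
  haveI : Fact r.Prime := ⟨hr⟩
  have hs : ∀ x : F, RingHom.id F (RingHom.id F x) = x := fun x => rfl
  rw [card_linear p hr hrp (Matrix.symplecticGroup (Fin m) F).subtype Subtype.val_injective
    (fun a b => SympClasses.isConj_of_charpoly p a b)
    (fun f => (f.natDegree = 2 * m ∧ Good r f) ∧ rc (RingHom.id F) f = f) ?_ ?_,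
    card_twist (RingHom.id F) p 0 hs (fun x => by simp) hr hrp (2 * m) i t hi ht]
  · have hq0 : (Fintype.card F : ZMod r) ≠ 0 := by
      obtain ⟨k, -, hk⟩ := FiniteField.card F p
      rw [Ne, ZMod.natCast_eq_zero_iff, hk]
      exact fun h => hrp ((Nat.prime_dvd_prime_iff_eq hr Fact.out).1 (hr.dvd_of_dvd_pow h))
    by_cases ho : Odd i
    · rw [if_pos ho, if_neg, Nat.mul_div_mul_left m i (by norm_num : 0 < 2)]
      rw [pow_zero, even_order_iff hr2, ← hi]
      exact fun h => Nat.not_even_iff_odd.2 ho h.2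
    · rw [if_neg ho, if_pos]
      rw [pow_zero, even_order_iff hr2, ← hi]
      exact ⟨hq0, Nat.not_odd_iff_even.1 ho⟩
  · intro g hg
    have hd : ((g : Matrix (Fin m ⊕ Fin m) (Fin m ⊕ Fin m) F)).charpoly.natDegree = 2 * m := by
      rw [Matrix.charpoly_natDegree_eq_dim]; simp [two_mul]
    obtain ⟨h0, hsym⟩ := SympClasses.charpoly_palindrome g
    refine ⟨⟨hd, good_charpoly ?_⟩, ?_⟩
    · show (g : Matrix (Fin m ⊕ Fin m) (Fin m ⊕ Fin m) F) ^ r = 1
      rw [← SubmonoidClass.coe_pow, hg]; rfl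
    · show rc (RingHom.id F) (g : Matrix (Fin m ⊕ Fin m) (Fin m ⊕ Fin m) F).charpoly = (g : Matrix (Fin m ⊕ Fin m) (Fin m ⊕ Fin m) F).charpoly
      rw [rc_fix_iff _ hs (Matrix.charpoly_monic _) (by rw [h0]; exact one_ne_zero) hd]
      intro j hj
      rw [hsym j hj, h0, one_mul]; rfl
  · rintro f ⟨⟨hd, hG⟩, hfix⟩
    have hne := coeff_zero_ne hr.ne_zero hG
    have hsym := (rc_fix_iff _ hs hG.1 hne hd).1 hfix
    have hsq : f.coeff 0 ^ 2 = 1 := by
      have := hsym (2 * m) le_rfl
      rw [Nat.sub_self, RingHom.id_apply] at this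
      have hlead : f.coeff (2 * m) = 1 := hd ▸ hG.1.coeff_natDegree
      rw [hlead, mul_one] at this
      have h0 := hsym 0 (Nat.zero_le _)
      rw [Nat.sub_zero, hlead, RingHom.id_apply] at h0
      rw [sq, ← h0]
    have h0 : f.coeff 0 = 1 := by
      obtain ⟨M, hcop, hMc⟩ := SemisimpleCl.exists_gl_rep p hG.1 hd hne
      have hMr := pow_eq_one p (M := M.1) (by rw [← Units.val_pow_eq_pow_val, pow_orderOf_eq_one, Units.val_one]) hcop
        (hMc.symm ▸ hG) hr.ne_zero
      have h := congrArg Matrix.det hMr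
      rw [Matrix.det_pow, Matrix.det_one, Matrix.det_eq_sign_charpoly_coeff, hMc, Fintype.card_fin,
        Even.neg_one_pow ⟨m, two_mul m⟩, one_mul] at h
      have h' := pow_gcd_eq_one.2 ⟨h, hsq⟩
      rwa [show r.gcd 2 = 1 from (Nat.coprime_primes hr Nat.prime_two).2 hr2, pow_one] at h'
    exact ⟨hG, SympClasses.exists_charpoly_eq hG.1 hd h0 fun j hj => by rw [hsym j hj, h0, one_mul]; rfl⟩

end Cfsg.Agent.LBRootTwist
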