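/-
Classes of elements of odd prime order in odd-dimensional orthogonal groups.
-/
import Cfsg.Agent.Lib.LinearBlock.TwistRootPolys
import Cfsg.Agent.Lib.LinearBlock.OrthSemisimple
import Cfsg.Agent.Lib.Orthogonal.Frames
import Cfsg.Agent.Lib.Orthogonal.Counts

set_option autoImplicit false
set_option linter.all false

namespace Cfsg.Agent.LBRootOrth

open Polynomial Matrix LBRootPoly LBRootTwist

variable {F : Type*} [Field F] [Fintype F] [DecidableEq F] {r : ℕ}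

theorem isConj_of_charpoly {ι : Type} [Fintype ι] [DecidableEq ι] {Q : QuadraticForm F (ι → F)}
    (hQ : (QuadraticMap.polarBilin Q).Nondegenerate) (p : ℕ) [Fact p.Prime] [CharP F p] (hr : r.Prime) (hr2 : r ≠ 2) (hrp : r ≠ p)
    (g h : ↥(Cfsg.isometryGroup F (⇑Q))) (hg : g ^ r = 1) (hh : h ^ r = 1)
    (hc : (g : GL ι F).1.charpoly = (h : GL ι F).1.charpoly) : IsConj g h := by
  obtain ⟨e, he⟩ : ∃ e, e = Matrix.reindexAlgEquiv F F (Fintype.equivFin ι) := ⟨_, rfl⟩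
  have hch : ∀ M : Matrix ι ι F, (e M).charpoly = M.charpoly := fun M => by
    rw [he, Matrix.coe_reindexAlgEquiv, Matrix.charpoly_reindex]
  have hss : ∀ x : ↥(Cfsg.isometryGroup F (⇑Q)), x ^ r = 1 → Module.End.IsSemisimple (Matrix.toLin' (e (x : GL ι F).1)) := by
    intro x hx
    refine SemisimpleCl.isSemisimple_of_pow p (m := r) ?_ ((Nat.coprime_primes hr Fact.out).2 hrp)
    rw [← map_pow, ← Units.val_pow_eq_pow_val, ← SubmonoidClass.coe_pow, hx, OneMemClass.coe_one, Units.val_one, map_one]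
  obtain ⟨P, hP⟩ := SemisimpleCl.exists_conjugator (hss g hg) (hss h hh) (by rw [hch, hch, hc])
  refine LBOrthSS.isConj_of_conjugator hQ p g h (cast_ne_zero' p hr hrp) (hr.odd_of_ne_two hr2) hg hh
    (Units.map e.symm.toAlgHom.toRingHom.toMonoidHom P) ?_
  apply e.injective
  show e (e.symm (P : Matrix _ _ F) * (g : GL ι F).1) = e ((h : GL ι F).1 * e.symm (P : Matrix _ _ F))
  rw [map_mul, map_mul, AlgEquiv.apply_symm_apply]
  exact hP

theorem exists_model (h2 : (2 : F) ≠ 0) (hr : r.Prime) (hr2 : r ≠ 2) (p : ℕ) [Fact p.Prime] [CharP F p] (m : ℕ) {f : F[X]}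
    (hd : f.natDegree = 2 * m + 1) (hG : Good r f) (hfix : rc (RingHom.id F) f = f) :
    ∃ g : ↥(Cfsg.isometryGroup F (⇑(Orth.qOdd F m))), (g : GL (Unit ⊕ (Fin m ⊕ Fin m)) F).1.charpoly = f := by
  have hs : ∀ x : F, RingHom.id F (RingHom.id F x) = x := fun _ => rfl
  have hf0 : f ≠ 0 := hG.1.ne_zero
  obtain ⟨h, hfh, hnd⟩ := exists_eq_pow_rootMultiplicity_mul_and_not_dvd f hf0 (1 : F)
  obtain ⟨e0, he0⟩ : ∃ e0, e0 = f.rootMultiplicity 1 := ⟨_, rfl⟩
  rw [← he0] at hfh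
  have hpm : ((X - C 1 : F[X]) ^ e0).Monic := (monic_X_sub_C 1).pow _
  have hhm : h.Monic := hpm.of_mul_monic_left (hfh ▸ hG.1)
  have hhG : Good r h := ⟨hhm, fun g a b c => hG.2 g a b (c.trans (hfh ▸ dvd_mul_left _ _))⟩
  have hne := coeff_zero_ne hr.ne_zero hhG
  have hhfix : rc (RingHom.id F) h = h := by
    rw [hfh, rc_mul, rc_pow, rc_X_sub_one] at hfix
    exact mul_left_cancel₀ hpm.ne_zero hfix
  obtain ⟨d, hdd⟩ : ∃ d, h.natDegree = d := ⟨_, rfl⟩
  have hsym := (rc_fix_iff _ hs hhm hne hdd).1 hhfix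
  have hlead : h.coeff d = 1 := hdd ▸ hhm.coeff_natDegree
  have hsq : h.coeff 0 ^ 2 = 1 := by
    have h1 := hsym d le_rfl
    rw [Nat.sub_self, RingHom.id_apply, hlead, mul_one] at h1
    have h0 := hsym 0 (Nat.zero_le _)
    rw [Nat.sub_zero, hlead, RingHom.id_apply] at h0
    rw [pow_two, ← h0]
  have hsign : (-1 : F) ^ d * h.coeff 0 = 1 := by
    obtain ⟨M, hcop, hMc⟩ := SemisimpleCl.exists_gl_rep p hhm hdd hne
    have hMr := pow_eq_one p (M := M.1) (by rw [← Units.val_pow_eq_pow_val, pow_orderOf_eq_one, Units.val_one]) hcop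
      (hMc.symm ▸ hhG) hr.ne_zero
    have e := congrArg Matrix.det hMr
    rw [Matrix.det_pow, Matrix.det_one, Matrix.det_eq_sign_charpoly_coeff, hMc, Fintype.card_fin] at e
    have e2 : ((-1 : F) ^ d * h.coeff 0) ^ 2 = 1 := by rw [mul_pow, hsq, ← pow_mul, pow_mul', neg_one_sq, one_pow, one_mul]
    have := pow_gcd_eq_one.2 ⟨e, e2⟩
    rwa [show r.gcd 2 = 1 from (Nat.coprime_primes hr Nat.prime_two).2 hr2, pow_one] at this
  have hev1 : h.eval 1 ≠ 0 := fun e => hnd (dvd_iff_isRoot.2 e)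
  -- the degree of `h` is even
  obtain ⟨k, hk⟩ : Even d := by
    by_contra hodd
    have hneg : h.coeff 0 = -1 := by
      rw [(Nat.not_even_iff_odd.1 hodd).neg_one_pow] at hsign
      linear_combination -hsign
    refine hev1 ?_
    have he : h.eval 1 = ∑ i ∈ Finset.range (d + 1), h.coeff i := by
      rw [eval_eq_sum_range, hdd]; simp
    have h2e : (2 : F) * h.eval 1 = 0 := by
      have hrefl : ∑ i ∈ Finset.range (d + 1), h.coeff (d - i) = ∑ i ∈ Finset.range (d + 1), h.coeff i := by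
        simpa using Finset.sum_range_reflect (fun i => h.coeff i) (d + 1)
      rw [Finset.sum_congr rfl fun i hi => hsym i (Nat.lt_succ_iff.1 (Finset.mem_range.1 hi))] at hrefl
      simp only [hneg, RingHom.id_apply, neg_one_mul, Finset.sum_neg_distrib] at hrefl
      rw [he]; linear_combination -hrefl
    exact (mul_eq_zero.1 h2e).resolve_left h2
  have h01 : h.coeff 0 = 1 := by rwa [Even.neg_one_pow ⟨k, hk⟩, one_mul] at hsign
  have hevm : h.eval (-1) ≠ 0 := fun e => by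
    have := hhG.2 (X - C (-1)) (monic_X_sub_C _) (irreducible_X_sub_C _) (dvd_iff_isRoot.2 e)
    rw [dvd_iff_isRoot, IsRoot, eval_sub, eval_pow, eval_X, eval_one, (hr.odd_of_ne_two hr2).neg_one_pow] at this
    exact h2 (by linear_combination -this)
  obtain ⟨g, hg⟩ := SympClasses.exists_charpoly_eq (m := k) hhm (by omega) h01 fun i hi => by
    rw [show 2 * k = d by omega, hsym i (by omega), h01, one_mul]; rfl
  -- the symmetric matrix
  obtain ⟨Mg, hMg⟩ : ∃ Mg, Mg = (g : Matrix (Fin k ⊕ Fin k) (Fin k ⊕ Fin k) F) := ⟨_, rfl⟩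
  obtain ⟨J, hJ⟩ : ∃ J, J = Matrix.J (Fin k) F := ⟨_, rfl⟩
  have hga : SympSpectra.adj Mg * Mg = 1 := by
    rw [hMg, SympSpectra.adj_eq_inv, ← Submonoid.coe_mul, inv_mul_cancel]; rfl
  have hgJ : Mgᵀ * J * Mg = J := by rw [hMg, hJ]; exact SymplecticGroup.mem_iff'.1 g.2
  have hga' : Mg * SympSpectra.adj Mg = 1 := mul_eq_one_comm.1 hga
  obtain ⟨B, hB⟩ : ∃ B, B = J * (Mg - SympSpectra.adj Mg) := ⟨_, rfl⟩
  have hBsym : Bᵀ = B := by
    have hJt : Jᵀ = -J := hJ ▸ Matrix.J_transpose ..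
    have hJJ : J * J = -1 := hJ ▸ Matrix.J_squared ..
    have hB2 : B = J * Mg - Mgᵀ * J := by
      rw [hB, SympSpectra.adj, ← hJ, mul_sub, mul_neg, ← mul_assoc, ← mul_assoc, hJJ]
      simp
    rw [hB2]
    simp only [Matrix.transpose_mul, Matrix.transpose_sub, Matrix.transpose_transpose, hJt, mul_neg, neg_mul, sub_neg_eq_add]
    abel
  have hgB : Mgᵀ * B * Mg = B := by
    have hc : (Mg - SympSpectra.adj Mg) * Mg = Mg * (Mg - SympSpectra.adj Mg) := by
      rw [sub_mul, mul_sub, hga, hga']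
    rw [hB, ← mul_assoc, mul_assoc _ (Mg - _) Mg, hc, ← mul_assoc, hgJ]
  have hBd : B.det ≠ 0 := by
    have e : Mg * (Mg - SympSpectra.adj Mg) = (Mg - 1) * (Mg + 1) := by rw [mul_sub, hga']; noncomm_ring
    have hev : ∀ c : F, h.eval c ≠ 0 → (Matrix.scalar _ c - Mg).det ≠ 0 := fun c hc => by
      rw [← Matrix.eval_charpoly, hMg, hg]; exact hc
    have h1 : (Mg - 1).det ≠ 0 := by
      rw [← neg_sub, Matrix.det_neg]
      exact mul_ne_zero (pow_ne_zero _ (neg_ne_zero.2 one_ne_zero)) (by simpa using hev 1 hev1)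
    have h2' : (Mg + 1).det ≠ 0 := by
      have e1 : Mg + 1 = -(Matrix.scalar (Fin k ⊕ Fin k) (-1 : F) - Mg) := by
        rw [map_neg, map_one, neg_sub, sub_neg_eq_add]
      rw [e1, Matrix.det_neg]
      exact mul_ne_zero (pow_ne_zero _ (neg_ne_zero.2 one_ne_zero)) (hev _ hevm)
    intro h0
    have := congrArg Matrix.det e
    rw [Matrix.det_mul, Matrix.det_mul] at this
    rw [hB, Matrix.det_mul, mul_eq_zero] at h0
    rcases h0 with h0 | h0
    · exact (hJ ▸ Matrix.isUnit_det_J (Fin k) F).ne_zero h0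
    · rw [h0, mul_zero] at this
      exact mul_ne_zero h1 h2' this.symm
  -- assemble
  have hedeg : e0 + 2 * k = 2 * m + 1 := by
    have := congrArg natDegree hfh
    rw [hpm.natDegree_mul hhm, natDegree_pow, natDegree_X_sub_C, mul_one, hd, hdd] at this
    omega
  obtain ⟨e1⟩ : Nonempty (Fin e0 ⊕ (Fin k ⊕ Fin k) ≃ Fin (2 * m + 1)) :=
    ⟨Fintype.equivFinOfCardEq (by simp; omega)⟩
  obtain ⟨e2⟩ : Nonempty (Unit ⊕ (Fin m ⊕ Fin m) ≃ Fin (2 * m + 1)) :=
    ⟨Fintype.equivFinOfCardEq (by simp; omega)⟩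
  obtain ⟨S, hS⟩ : ∃ S, S = Matrix.reindexAlgEquiv F F e1 (Matrix.fromBlocks 1 0 0 B) := ⟨_, rfl⟩
  obtain ⟨M, hM⟩ : ∃ M, M = Matrix.reindexAlgEquiv F F e1 (Matrix.fromBlocks 1 0 0 Mg) := ⟨_, rfl⟩
  have hMS : Mᵀ * S * M = S := by
    have ht : Mᵀ = Matrix.reindexAlgEquiv F F e1 ((Matrix.fromBlocks 1 0 0 Mg)ᵀ) := by
      rw [hM, Matrix.coe_reindexAlgEquiv, Matrix.transpose_reindex]
    rw [ht, hS, hM, ← map_mul, ← map_mul, Matrix.fromBlocks_transpose, Matrix.fromBlocks_multiply, Matrix.fromBlocks_multiply]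
    simp [hgB]
  have hSsym : Sᵀ = S := by
    rw [hS, Matrix.coe_reindexAlgEquiv, Matrix.transpose_reindex, Matrix.fromBlocks_transpose, hBsym]
    simp
  have hSd : S.det ≠ 0 := by
    rw [hS, Matrix.coe_reindexAlgEquiv, Matrix.det_reindex_self, Matrix.det_fromBlocks_zero₂₁, Matrix.det_one, one_mul]
    exact hBd
  let Q1 : QuadraticForm F (Fin (2 * m + 1) → F) := LinearMap.BilinMap.toQuadraticMap (Matrix.toLinearMap₂' F S)
  have hQ1 : ∀ v, Q1 v = v ⬝ᵥ (S *ᵥ v) := fun v => by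
    show Matrix.toLinearMap₂' F S v v = _
    rw [Matrix.toLinearMap₂'_apply']
  have hQ1nd : (QuadraticMap.polarBilin Q1).Nondegenerate := by
    refine Orth.nondeg_of fun x hx => ?_
    have hp : ∀ y, QuadraticMap.polar Q1 x y = 2 * (y ⬝ᵥ (S *ᵥ x)) := by
      intro y
      have hs : x ⬝ᵥ (S *ᵥ y) = y ⬝ᵥ (S *ᵥ x) := by
        rw [Matrix.dotProduct_mulVec, ← Matrix.mulVec_transpose, hSsym, dotProduct_comm]
      simp only [QuadraticMap.polar, hQ1, Matrix.mulVec_add, add_dotProduct, dotProduct_add, hs]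
      ring
    have h0 : S *ᵥ x = 0 := by
      funext i
      have := hx (Pi.single i 1)
      rw [hp, mul_eq_zero] at this
      simpa using this.resolve_left h2
    exact Matrix.mulVec_injective_iff_isUnit.2 ((Matrix.isUnit_iff_isUnit_det _).2 hSd.isUnit) (h0.trans (Matrix.mulVec_zero _).symm)
  let Ψ : (Fin (2 * m + 1) → F) ≃ₗ[F] (Unit ⊕ (Fin m ⊕ Fin m) → F) := LinearEquiv.funCongrLeft F F e2
  obtain ⟨L, c, hc, hL⟩ := Orth.exists_similarity h2 ⟨m, rfl⟩ Q1 ((Orth.qOdd F m).comp Ψ.toLinearMap) hQ1nd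
    (Orth.nondeg_congr Ψ.symm (fun x => by simp) (Orth.qOdd_nondeg h2 m))
  let Φ := L.trans Ψ
  have hΦ : ∀ v, Orth.qOdd F m (Φ v) = c * Q1 v := fun v => hL v
  let T : (Unit ⊕ (Fin m ⊕ Fin m) → F) →ₗ[F] (Unit ⊕ (Fin m ⊕ Fin m) → F) := Φ.conj (Matrix.toLin' M)
  have hT : ∀ x, Orth.qOdd F m (T x) = Orth.qOdd F m x := by
    intro x
    obtain ⟨v, rfl⟩ := Φ.surjective x
    rw [show T (Φ v) = Φ (M *ᵥ v) by simp [T, LinearEquiv.conj_apply], hΦ, hΦ, hQ1, hQ1, Matrix.mulVec_mulVec]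
    congr 1
    nth_rewrite 1 [← Matrix.vecMul_transpose]
    rw [← Matrix.dotProduct_mulVec, Matrix.mulVec_mulVec, ← mul_assoc, hMS]
  have hTc : (LinearMap.toMatrix' T).charpoly = f := by
    rw [← Matrix.charpoly_toLin', Matrix.toLin'_toMatrix', LinearEquiv.charpoly_conj, Matrix.charpoly_toLin', hM,
      Matrix.coe_reindexAlgEquiv, Matrix.charpoly_reindex, Matrix.charpoly_fromBlocks_zero₁₂, Matrix.charpoly_one, hMg, hg,
      Fintype.card_fin, hfh, C_1]
  have hTd : (LinearMap.toMatrix' T).det ≠ 0 := by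
    rw [Matrix.det_eq_sign_charpoly_coeff, hTc]
    exact mul_ne_zero (pow_ne_zero _ (neg_ne_zero.2 one_ne_zero)) (coeff_zero_ne hr.ne_zero hG)
  refine ⟨⟨Matrix.GeneralLinearGroup.mkOfDetNeZero _ hTd, Orth.mem_isometryGroup.2 fun x => ?_⟩, hTc⟩
  show Orth.qOdd F m (LinearMap.toMatrix' T *ᵥ x) = _
  rw [LinearMap.toMatrix'_mulVec]
  exact hT x

theorem card_orth_odd (p : ℕ) [Fact p.Prime] [CharP F p] (h2 : (2 : F) ≠ 0) (hr : r.Prime) (hr2 : r ≠ 2) (hrp : r ≠ p) (m i t : ℕ)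
    (hi : i = orderOf (Fintype.card F : ZMod r)) (ht : t * i = r - 1) :
    Nat.card {C : ConjClasses ↥(Cfsg.isometryGroup F (⇑(Orth.qOdd F m))) //
      ∃ g : ↥(Cfsg.isometryGroup F (⇑(Orth.qOdd F m))), ConjClasses.mk g = C ∧ orderOf g = r} =
      if Odd i then Nat.choose (m / i + t / 2) (t / 2) - 1 else Nat.choose ((2 * m + 1) / i + t) t - 1 := by
  haveI : Fact r.Prime := ⟨hr⟩
  have hs : ∀ x : F, RingHom.id F (RingHom.id F x) = x := fun _ => rfl
  have hQ := Orth.qOdd_nondeg h2 m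
  rw [card_linear' p hr hrp ((Units.coeHom _).comp (Cfsg.isometryGroup F (⇑(Orth.qOdd F m))).subtype)
    (fun x y h => Subtype.ext (Units.ext h)) (fun g h => isConj_of_charpoly hQ p hr hr2 hrp g h)
    (fun f => (f.natDegree = 2 * m + 1 ∧ Good r f) ∧ rc (RingHom.id F) f = f) ?_ ?_,
    card_twist (RingHom.id F) p 0 hs (fun x => by simp) hr hrp (2 * m + 1) i t hi ht]
  · have hq0 : (Fintype.card F : ZMod r) ≠ 0 := by
      obtain ⟨k, -, hk⟩ := FiniteField.card F p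
      rw [Ne, ZMod.natCast_eq_zero_iff, hk]
      exact fun h => hrp ((Nat.prime_dvd_prime_iff_eq hr Fact.out).1 (hr.dvd_of_dvd_pow h))
    by_cases ho : Odd i
    · rw [if_pos ho, if_neg, ← Nat.div_div_eq_div_mul, show (2 * m + 1) / 2 = m by omega]
      rw [pow_zero, even_order_iff hr2, ← hi]
      exact fun h => Nat.not_even_iff_odd.2 ho h.2
    · rw [if_neg ho, if_pos]
      rw [pow_zero, even_order_iff hr2, ← hi]
      exact ⟨hq0, Nat.not_odd_iff_even.1 ho⟩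
  · intro g hg
    obtain ⟨M, hM⟩ : ∃ M, M = (g : GL (Unit ⊕ (Fin m ⊕ Fin m)) F).1 := ⟨_, rfl⟩
    have hMp : ∀ v, Orth.qOdd F m (M *ᵥ v) = Orth.qOdd F m v := hM ▸ Orth.mem_isometryGroup.1 g.2
    have hMa := LBOrthSS.adj_of_preserves hQ hMp
    have hMr : M ^ r = 1 := by
      rw [hM, ← Units.val_pow_eq_pow_val, ← SubmonoidClass.coe_pow, hg]; rfl
    have hdeg : M.charpoly.natDegree = 2 * m + 1 := by rw [Matrix.charpoly_natDegree_eq_dim]; simp; omega
    have hGood := good_charpoly hMr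
    have hch : (LBOrthSS.adj (Orth.qOdd F m) M).charpoly = M.charpoly := by
      rw [LBOrthSS.adj, Matrix.charpoly_mul_comm, ← mul_assoc, Matrix.mul_nonsing_inv _ (LBOrthSS.gram_det hQ), one_mul,
        Matrix.charpoly_transpose]
    show ((g : GL (Unit ⊕ (Fin m ⊕ Fin m)) F).1.charpoly.natDegree = 2 * m + 1 ∧ Good r (g : GL (Unit ⊕ (Fin m ⊕ Fin m)) F).1.charpoly) ∧ rc (RingHom.id F) (g : GL (Unit ⊕ (Fin m ⊕ Fin m)) F).1.charpoly = (g : GL (Unit ⊕ (Fin m ⊕ Fin m)) F).1.charpoly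
    rw [← hM]
    refine ⟨⟨hdeg, hGood⟩, (rc_fix_iff _ hs (Matrix.charpoly_monic _) (coeff_zero_ne hr.ne_zero hGood) hdeg).2 fun j hj => ?_⟩
    have := SelfRecip.coeff_rev_charpoly M _ hMa j (by simp; omega)
    rw [show Fintype.card (Unit ⊕ (Fin m ⊕ Fin m)) = 2 * m + 1 by simp; omega, hch] at this
    rw [this]; rfl
  · rintro f ⟨⟨hd, hG⟩, hfix⟩
    exact ⟨hG, exists_model h2 hr hr2 p m hd hG hfix⟩

end Cfsg.Agent.LBRootOrth
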