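/-
Classes of elements of odd prime order in the orthogonal groups of even dimension, through characteristic
polynomials.
-/
import Cfsg.Agent.Lib.LinearBlock.OrthRootClasses
import Cfsg.Agent.Lib.LinearBlock.EvenForms

set_option autoImplicit false
set_option linter.all false

namespace Cfsg.Agent.LBEvenRoot

open Polynomial Matrix QuadraticMap Module LBRootPoly LBRootTwist LBEven

variable {F : Type*} [Field F] [Fintype F] [DecidableEq F] {r : ℕ}

/-- The self-reciprocal good polynomials of degree `n`. -/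
abbrev SR (r n : ℕ) (f : F[X]) : Prop := (f.natDegree = n ∧ Good r f) ∧ rc (RingHom.id F) f = f

/-- The type of a space without fixed vectors. -/
def Typ (i m : ℕ) : Prop := Even i → Even (2 * m / i)

theorem hid (x : F) : RingHom.id F (RingHom.id F x) = x := rfl

theorem rc_self_iff' (p : ℕ) [Fact p.Prime] [CharP F p] (hr : r.Prime) (hr2 : r ≠ 2) (hrp : r ≠ p) {g : F[X]}
    (hg : g ∈ factors F r) : rc (RingHom.id F) g = g ↔ Even (orderOf (Fintype.card F : ZMod r)) := by
  haveI : Fact r.Prime := ⟨hr⟩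
  rw [rc_self_iff (RingHom.id F) hid p 0 (fun x => by simp) hr hg, pow_zero, even_order_iff hr2]
  refine ⟨And.right, fun h => ⟨?_, h⟩⟩
  obtain ⟨k, -, hk⟩ := FiniteField.card F p
  rw [Ne, ZMod.natCast_eq_zero_iff, hk]
  exact fun h => hrp ((Nat.prime_dvd_prime_iff_eq hr Fact.out).1 (hr.dvd_of_dvd_pow h))

/-- The number of self-reciprocal good polynomials. -/
theorem card_SR (p : ℕ) [Fact p.Prime] [CharP F p] (hr : r.Prime) (hr2 : r ≠ 2) (hrp : r ≠ p) (n i t : ℕ)
    (hi : i = orderOf (Fintype.card F : ZMod r)) (ht : t * i = r - 1) :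
    Nat.card {f : F[X] // SR r n f} =
      if Odd i then Nat.choose (n / (2 * i) + t / 2) (t / 2) else Nat.choose (n / i + t) t := by
  haveI : Fact r.Prime := ⟨hr⟩
  rw [card_twist (RingHom.id F) p 0 hid (fun x => by simp) hr hrp n i t hi ht]
  have hq0 : (Fintype.card F : ZMod r) ≠ 0 := by
    obtain ⟨k, -, hk⟩ := FiniteField.card F p
    rw [Ne, ZMod.natCast_eq_zero_iff, hk]
    exact fun h => hrp ((Nat.prime_dvd_prime_iff_eq hr Fact.out).1 (hr.dvd_of_dvd_pow h))
  by_cases ho : Odd i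
  · rw [if_pos ho, if_neg]
    rw [pow_zero, even_order_iff hr2, ← hi]
    exact fun h => Nat.not_even_iff_odd.2 ho h.2
  · rw [if_neg ho, if_pos]
    rw [pow_zero, even_order_iff hr2, ← hi]
    exact ⟨hq0, Nat.not_odd_iff_even.1 ho⟩

instance finite_SR (n : ℕ) : Finite {f : F[X] // SR r n f} :=
  Finite.of_injective (fun f => SemisimpleCl.monicEquiv n ⟨f.1, f.2.1.2.1, f.2.1.1⟩) fun a b h =>
    Subtype.ext (by have := congrArg (fun x => x.1) ((SemisimpleCl.monicEquiv n).injective h); exact this)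

/-- The polynomials divisible by `X - 1`. -/
theorem card_SR_dvd (hr0 : r ≠ 0) (n : ℕ) :
    Nat.card {f : {f : F[X] // SR r (n + 1) f} // X - C 1 ∣ f.1} = Nat.card {f : F[X] // SR r n f} := by
  have h1 : (X - C 1 : F[X]) ∣ X ^ r - 1 := dvd_iff_isRoot.2 (by simp [IsRoot])
  have hm1 : (X - C 1 : F[X]).Monic := monic_X_sub_C 1
  have hmk : ∀ g : {f : F[X] // SR r n f}, SR r (n + 1) ((X - C 1) * g.1) := fun g => by
    refine ⟨⟨?_, hm1.mul g.2.1.2.1, fun p hp hpi hd => ?_⟩, ?_⟩
    · rw [hm1.natDegree_mul g.2.1.2.1, natDegree_X_sub_C, g.2.1.1]; omega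
    · rcases hpi.prime.dvd_or_dvd hd with h | h
      · exact h.trans h1
      · exact g.2.1.2.2 p hp hpi h
    · rw [rc_mul, rc_X_sub_one, g.2.2]
  refine (Nat.card_eq_of_bijective (fun g => (⟨⟨_, hmk g⟩, dvd_mul_right _ _⟩ : {f : {f : F[X] // SR r (n + 1) f} // X - C 1 ∣ f.1}))
    ⟨fun a b h => ?_, ?_⟩).symm
  · exact Subtype.ext (mul_left_cancel₀ hm1.ne_zero (congrArg (fun x => x.1.1) h))
  · rintro ⟨⟨f, ⟨hd, hG⟩, hfix⟩, g, hg⟩
    dsimp only at hg
    subst hg
    have hgm : g.Monic := hm1.of_mul_monic_left hG.1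
    rw [hm1.natDegree_mul hgm, natDegree_X_sub_C] at hd
    rw [rc_mul, rc_X_sub_one] at hfix
    exact ⟨⟨g, ⟨by omega, hgm, fun p a b c => hG.2 p a b (c.trans (dvd_mul_left _ _))⟩,
      mul_left_cancel₀ hm1.ne_zero hfix⟩, rfl⟩

/-- Allowed polynomials, for a fixed answer to the question of the type. -/
theorem card_allowed (hr0 : r ≠ 0) (n : ℕ) (P : Prop) [Decidable P] :
    Nat.card {f : F[X] // SR r (n + 1) f ∧ (X - C 1 ∣ f ∨ P)} =
      if P then Nat.card {f : F[X] // SR r (n + 1) f} else Nat.card {f : F[X] // SR r n f} := by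
  split_ifs with hP
  · exact Nat.card_congr (Equiv.subtypeEquivRight fun f => by simp [hP])
  · rw [← card_SR_dvd hr0 n]
    exact Nat.card_congr (((Equiv.subtypeSubtypeEquivSubtypeInter _ fun f : F[X] => X - C 1 ∣ f).trans
      (Equiv.subtypeEquivRight fun f => by simp [hP])).symm)

theorem eval_one_ne {h : F[X]} (hnd : ¬ (X - C 1) ∣ h) : h.eval 1 ≠ 0 := fun e => hnd (dvd_iff_isRoot.2 e)

theorem good_natDegree (p : ℕ) [Fact p.Prime] [CharP F p] (hr : r.Prime) {h : F[X]} (hG : Good r h) (hnd : ¬ (X - C 1) ∣ h) :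
    orderOf (Fintype.card F : ZMod r) ∣ h.natDegree := by
  rw [← prod_of_monic hG.1, natDegree_multiset_prod_of_monic _ fun g hg => monic_of_mem hg]
  refine Multiset.dvd_sum fun d hd => ?_
  obtain ⟨g, hg, rfl⟩ := Multiset.mem_map.1 hd
  have hgm := monic_of_mem hg
  have hgd := UniqueFactorizationMonoid.dvd_of_mem_normalizedFactors hg
  have hgi := UniqueFactorizationMonoid.irreducible_of_normalized_factor g hg
  rw [natDegree_factor hr hgm hgi (hG.2 g hgm hgi hgd) (fun e => hnd (e ▸ hgd))]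

/-- The degree of a self-reciprocal good polynomial without the root one is even. -/
theorem even_natDegree (p : ℕ) [Fact p.Prime] [CharP F p] (hr : r.Prime) (hr2 : r ≠ 2) (hrp : r ≠ p) {h : F[X]} {d : ℕ}
    (hh : SR r d h) (hnd : ¬ (X - C 1) ∣ h) : Even d := by
  by_contra hodd
  obtain ⟨t, ht'⟩ : orderOf (Fintype.card F : ZMod r) ∣ r - 1 := by
    haveI : Fact r.Prime := ⟨hr⟩
    refine orderOf_dvd_of_pow_eq_one (ZMod.pow_card_sub_one_eq_one ?_)
    obtain ⟨k, -, hk⟩ := FiniteField.card F p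
    rw [Ne, ZMod.natCast_eq_zero_iff, hk]
    exact fun h => hrp ((Nat.prime_dvd_prime_iff_eq hr Fact.out).1 (hr.dvd_of_dvd_pow h))
  obtain ⟨i, hi⟩ : ∃ i, i = orderOf (Fintype.card F : ZMod r) := ⟨_, rfl⟩
  rw [← hi] at ht'
  have ht : t * i = r - 1 := by rw [ht', mul_comm]
  obtain ⟨n, rfl⟩ : ∃ n, d = n + 1 := ⟨d - 1, by rcases d with _ | d <;> simp_all⟩
  have hn : ¬ Odd n := fun h => hodd h.add_one
  have heq : Nat.card {f : F[X] // SR r (n + 1) f} = Nat.card {f : F[X] // SR r n f} := by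
    rw [card_SR p hr hr2 hrp _ i t hi ht, card_SR p hr hr2 hrp _ i t hi ht]
    have key : ∀ b, Even b → 0 < b → (n + 1) / b = n / b := fun b hb hb0 => by
      refine Nat.succ_div_of_not_dvd fun hd => hn ?_
      have := hb.two_dvd.trans hd
      rw [Nat.odd_iff]; omega
    have hi0 : 0 < i := Nat.pos_of_ne_zero fun e => by rw [e, mul_zero] at ht; have := hr.two_le; omega
    split_ifs with ho
    · rw [key _ (even_two_mul i) (by omega)]
    · rw [key _ (Nat.not_odd_iff_even.1 ho) hi0]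
  have : Nat.card {f : {f : F[X] // SR r (n + 1) f} // X - C 1 ∣ f.1} < Nat.card {f : F[X] // SR r (n + 1) f} :=
    Finite.card_subtype_lt (x := ⟨h, hh⟩) hnd
  rw [card_SR_dvd hr.ne_zero, heq] at this
  exact lt_irrefl _ this

variable {ι : Type} [Fintype ι] [DecidableEq ι] {Q : QuadraticForm F (ι → F)}

theorem polar_aeval {M N : Matrix ι ι F} (h : ∀ x y, polar Q (M *ᵥ x) y = polar Q x (N *ᵥ y)) (f : F[X]) (x y : ι → F) :
    polar Q (aeval M f *ᵥ x) y = polar Q x (aeval N f *ᵥ y) := by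
  induction f using Polynomial.induction_on' with
  | add a b ha hb => rw [map_add, map_add, add_mulVec, add_mulVec, polar_add_left, polar_add_right, ha, hb]
  | monomial n a =>
    have hp : ∀ (n : ℕ) (x y : ι → F), polar Q ((M ^ n) *ᵥ x) y = polar Q x ((N ^ n) *ᵥ y) := by
      intro n
      induction n with
      | zero => intro x y; simp
      | succ n ih => intro x y; rw [pow_succ, ← mulVec_mulVec, ih, h, mulVec_mulVec, ← pow_succ']
    rw [aeval_monomial, aeval_monomial, ← Algebra.smul_def, ← Algebra.smul_def, smul_mulVec, smul_mulVec,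
      polar_smul_left, polar_smul_right, hp]

/-- The kernel of a polynomial coprime to its reciprocal is totally singular. -/
theorem singular_ker {M N : Matrix ι ι F} (hQM : ∀ v, Q (M *ᵥ v) = Q v) (hNM : N * M = 1)
    (hadj : ∀ x y, polar Q (M *ᵥ x) y = polar Q x (N *ᵥ y)) (hfix : (M - 1).det ≠ 0) {h : F[X]} (h0 : h.coeff 0 ≠ 0)
    (hcop : IsCoprime h (rc (RingHom.id F) h)) (v : ι → F) (hv : aeval M h *ᵥ v = 0) : Q v = 0 := by
  have hMN : M * N = 1 := mul_eq_one_comm.1 hNM
  obtain ⟨d, hd⟩ : ∃ d, d = h.natDegree := ⟨_, rfl⟩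
  have hrev : h.reverse = C (h.coeff 0) * rc (RingHom.id F) h := by
    rw [rc, Polynomial.map_id, RingHom.id_apply, ← mul_assoc, ← map_mul, mul_inv_cancel₀ h0, map_one, one_mul]
  have hflip : M ^ d * aeval N h = aeval M h.reverse := by
    have hdeg : h.reverse.natDegree < d + 1 := Nat.lt_succ_of_le (hd ▸ reverse_natDegree_le h)
    rw [aeval_eq_sum_range' (show h.natDegree < d + 1 by omega), aeval_eq_sum_range' hdeg, Finset.mul_sum,
      ← Finset.sum_range_reflect]
    refine Finset.sum_congr rfl fun j hj => ?_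
    have hj' : j ≤ d := Nat.lt_succ_iff.1 (Finset.mem_range.1 hj)
    rw [coeff_reverse, ← hd, revAt_le hj', mul_smul_comm, show d + 1 - 1 - j = d - j by omega]
    congr 1
    nth_rewrite 1 [show d = j + (d - j) by omega]
    rw [pow_add, mul_assoc, show M ^ (d - j) * N ^ (d - j) = 1 by
        rw [← (show Commute M N from hMN.trans hNM.symm).mul_pow, hMN, one_pow], mul_one]
  have hpair : ∀ a b, aeval M h *ᵥ a = 0 → aeval M h *ᵥ b = 0 → polar Q a b = 0 := by
    intro a b ha hb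
    obtain ⟨u, w, huw⟩ := hcop
    have hb' : b = aeval M (rc (RingHom.id F) h) *ᵥ (aeval M w *ᵥ b) := by
      conv_lhs => rw [← one_mulVec b, ← map_one (aeval M (R := F)), ← huw, map_add, map_mul, add_mulVec, ← mulVec_mulVec, hb,
        mulVec_zero, zero_add, mul_comm w, map_mul, ← mulVec_mulVec]
    obtain ⟨z, hz⟩ : ∃ z, z = aeval M w *ᵥ b := ⟨_, rfl⟩
    have h2 : h.coeff 0 • aeval M (rc (RingHom.id F) h) = M ^ d * aeval N h := by
      rw [hflip, hrev, map_mul, aeval_C, ← Algebra.smul_def]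
    have h3 : h.coeff 0 • polar Q a b = 0 := by
      rw [← polar_smul_right, hb', ← hz, ← smul_mulVec, h2, ← mulVec_mulVec, polar_comm]
      have e : ∀ x y, polar Q ((M ^ d) *ᵥ x) y = polar Q x ((N ^ d) *ᵥ y) := by
        intro x y
        have := polar_aeval hadj (X ^ d) x y
        rwa [map_pow, map_pow, aeval_X, aeval_X] at this
      rw [e, polar_comm, ← polar_aeval hadj, mulVec_mulVec,
        (Commute.pow_right (show Commute (aeval M h) N from ?_) d).eq, ← mulVec_mulVec, ha, mulVec_zero, polar_zero_left]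
      have hc : Commute (aeval M h) M := by
        have := (Commute.all h X).map (aeval M (R := F))
        rwa [aeval_X] at this
      calc aeval M h * N = N * M * aeval M h * N := by rw [hNM, one_mul]
        _ = N * (aeval M h * M) * N := by rw [hc.eq]; noncomm_ring
        _ = N * aeval M h * (M * N) := by noncomm_ring
        _ = N * aeval M h := by rw [hMN, mul_one]
    exact (smul_eq_zero.1 h3).resolve_left h0
  have hu : IsUnit (M - 1) := (isUnit_iff_isUnit_det _).2 hfix.isUnit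
  obtain ⟨z, hz⟩ := mulVec_surjective_iff_isUnit.2 hu v
  have hzk : aeval M h *ᵥ z = 0 := by
    refine mulVec_injective_iff_isUnit.2 hu ?_
    rw [mulVec_zero, mulVec_mulVec]
    have hc : Commute (M - 1) (aeval M h) := by
      have := (Commute.all (X - 1) h).map (aeval M (R := F))
      rwa [map_sub, map_one, aeval_X] at this
    rw [hc.eq, ← mulVec_mulVec, hz, hv]
  have hMz : aeval M h *ᵥ (M *ᵥ z) = 0 := by
    have e : M *ᵥ z = v + z := by rw [← hz, sub_mulVec, one_mulVec, sub_add_cancel]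
    rw [e, mulVec_add, hv, hzk, add_zero]
  have e1 := hpair _ _ hMz hzk
  have e2 := hpair _ _ hzk hzk
  rw [← hz, sub_mulVec, one_mulVec, sub_eq_add_neg, QuadraticMap.map_add Q, QuadraticMap.map_neg, hQM, polar_neg_right, e1,
    neg_zero, add_zero]
  rw [polar_self, two_smul] at e2
  exact e2

/-- An isometry of order `r` without fixed vectors determines the type of the form. -/
theorem type_iff (p : ℕ) [Fact p.Prime] [CharP F p] (hr : r.Prime) (hr2 : r ≠ 2) (hrp : r ≠ p) {m i : ℕ}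
    (hi : i = orderOf (Fintype.card F : ZMod r)) (hm : 1 ≤ m) (hι : Fintype.card ι = 2 * m)
    (hQ : (polarBilin Q).Nondegenerate) {M : Matrix ι ι F} (hQM : ∀ v, Q (M *ᵥ v) = Q v) (hMr : M ^ r = 1)
    (hfix : ¬ (X - C 1) ∣ M.charpoly) : IsPlus m Q ↔ Typ i m := by
  classical
  haveI : Fact r.Prime := ⟨hr⟩
  have hG := good_charpoly hMr
  have hdet : (M - 1).det ≠ 0 := by
    rw [← neg_sub, det_neg]
    refine mul_ne_zero (pow_ne_zero _ (neg_ne_zero.2 one_ne_zero)) ?_
    have := eval_one_ne hfix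
    rwa [Matrix.eval_charpoly, map_one] at this
  have hu : IsUnit (M - 1) := (isUnit_iff_isUnit_det _).2 hdet.isUnit
  have hV : finrank F (ι → F) = 2 * m := by rw [finrank_fintype_fun_eq_card, hι]
  by_cases hev : Even i
  · have hi0 : i ≠ 0 := fun e => by
      rw [e] at hi
      have : IsOfFinOrder (Fintype.card F : ZMod r) := by
        refine isOfFinOrder_iff_pow_eq_one.2 ⟨r - 1, by have := hr.two_le; omega, ZMod.pow_card_sub_one_eq_one ?_⟩
        obtain ⟨k, -, hk⟩ := FiniteField.card F p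
        rw [Ne, ZMod.natCast_eq_zero_iff, hk]
        exact fun h => hrp ((Nat.prime_dvd_prime_iff_eq hr Fact.out).1 (hr.dvd_of_dvd_pow h))
      exact absurd hi.symm this.orderOf_pos.ne'
    obtain ⟨k, hk⟩ := hev
    obtain ⟨x, hx⟩ : ∃ x, x = (Fintype.card F : ZMod r) := ⟨_, rfl⟩
    rw [← hx] at hi
    haveI : Fact (2 < r) := ⟨lt_of_le_of_ne hr.two_le (Ne.symm hr2)⟩
    have hne : (-1 : ZMod r) ≠ 1 := ZMod.neg_one_ne_one
    have hxk : x ^ k = -1 := by
      have h2 : (x ^ k) ^ 2 = 1 := by rw [← pow_mul, show k * 2 = orderOf x by omega, pow_orderOf_eq_one]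
      exact (sq_eq_one_iff.1 h2).resolve_left (pow_ne_one_of_lt_orderOf (by omega) (by omega))
    obtain ⟨s, hs⟩ : i ∣ 2 * m := by
      have := good_natDegree p hr hG hfix
      rw [charpoly_natDegree_eq_dim, hι, ← hx, ← hi] at this
      exact this
    have hdiv : 2 * m / i = s := by rw [hs, Nat.mul_div_cancel_left _ (Nat.pos_of_ne_zero hi0)]
    have hT : Typ i m ↔ Even s := by
      rw [Typ, hdiv]; exact ⟨fun h => h ⟨k, hk⟩, fun h _ => h⟩
    have hms : m = k * s := by
      have : 2 * m = 2 * (k * s) := by rw [hs, hk]; ring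
      omega
    have hxm : x ^ m = (-1) ^ s := by rw [hms, pow_mul, hxk]
    have hx1 : x ≠ 1 := fun e => by rw [e, orderOf_one] at hi; omega
    have hxu : x ≠ 0 := fun e => by
      rw [e, zero_pow (by omega : k ≠ 0)] at hxk; exact one_ne_zero (α := ZMod r) (by linear_combination hxk)
    have hMr1 : M * M ^ (r - 1) = 1 := by
      rw [← pow_succ', show r - 1 + 1 = r by have := hr.two_le; omega, hMr]
    let G : (ι → F) ≃ₗ[F] (ι → F) := LinearEquiv.ofLinear (toLin' M) (toLin' (M ^ (r - 1)))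
      (by rw [← toLin'_mul, hMr1, toLin'_one]) (by rw [← toLin'_mul, mul_eq_one_comm.1 hMr1, toLin'_one])
    have hGap : ∀ v, G v = M *ᵥ v := fun v => toLin'_apply M v
    have hGp : ∀ (n : ℕ) v, (G ^ n) v = M ^ n *ᵥ v := by
      intro n
      induction n with
      | zero => intro v; simp
      | succ n ih => intro v; rw [pow_succ, pow_succ, LinearEquiv.mul_apply, ih, hGap, mulVec_mulVec]
    have hcnt := count_mod hr G (fun v => (congrArg Q (hGap v)).trans (hQM v))
      (LinearEquiv.ext fun v => by rw [hGp, hMr, one_mulVec]; rfl) (fun v hv => by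
        refine mulVec_injective_iff_isUnit.2 hu ?_
        rw [sub_mulVec, one_mulVec, mulVec_zero, sub_eq_zero, ← hGap]
        exact hv)
    rw [← ZMod.natCast_eq_natCast_iff, Nat.cast_one] at hcnt
    rcases LBQuad.classify_even hQ hV with ⟨g, hg⟩ | ⟨ζ, hζ, g, hg⟩
    · rw [hT]
      refine iff_of_true ⟨g, hg⟩ ?_
      rw [Nat.card_congr (Orth.zerosCongr g fun v => (hg v).symm)] at hcnt
      obtain ⟨j, rfl⟩ : ∃ j, m = j + 1 := ⟨m - 1, by omega⟩
      have h := congrArg (Nat.cast : ℕ → ZMod r) (Orth.zeros_qPlus (F := F) j)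
      simp only [Nat.cast_add, Nat.cast_pow, Nat.card_eq_fintype_card (α := F), hcnt, ← hx] at h
      rw [show 2 * j + 1 = j + (j + 1) by omega, pow_add x j (j + 1), hxm] at h
      by_contra hs'
      rw [(Nat.not_even_iff_odd.1 hs').neg_one_pow] at h hxm
      have hxj : x ^ j = -1 := by
        have : (2 : ZMod r) * (x ^ j + 1) = 0 := by linear_combination h
        have h2 : (2 : ZMod r) ≠ 0 := fun e => hne (by linear_combination -e)
        linear_combination (mul_eq_zero.1 this).resolve_left h2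
      rw [pow_succ, hxj] at hxm
      exact hx1 (by linear_combination -hxm)
    · rw [hT]
      refine iff_of_false (minus_not_plus hm (LBQuad.bin_aniso hζ) g hg) ?_
      rw [Nat.card_congr (Orth.zerosCongr g fun v => (hg v).symm)] at hcnt
      obtain ⟨j, rfl⟩ : ∃ j, m = j + 1 := ⟨m - 1, by omega⟩
      intro hs'
      rw [hs'.neg_one_pow] at hxm
      have h := congrArg (Nat.cast : ℕ → ZMod r) (Orth.zeros_qMinus (F := F) (LBQuad.bin_aniso hζ) (j + 1 - 1))
      simp only [Nat.cast_add, Nat.cast_pow, Nat.card_eq_fintype_card (α := F), hcnt, ← hx, Nat.add_sub_cancel] at h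
      rw [show 2 * j + 1 = j + (j + 1) by omega, pow_add x j (j + 1), hxm] at h
      have hxj : x ^ j = 1 := by
        have : (2 : ZMod r) * (x ^ j - 1) = 0 := by linear_combination -h
        have h2 : (2 : ZMod r) ≠ 0 := fun e => hne (by linear_combination -e)
        linear_combination (mul_eq_zero.1 this).resolve_left h2
      rw [pow_succ, hxj] at hxm
      exact hx1 (by linear_combination hxm)
  · refine iff_of_true ?_ fun h => absurd h hev
    by_contra hp
    obtain ⟨ζ, hζ, g, hg⟩ := (LBQuad.classify_even hQ hV).resolve_left hp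
    obtain ⟨N, hN⟩ : ∃ N, N = LBOrthSS.adj Q M := ⟨_, rfl⟩
    have hNM : N * M = 1 := hN ▸ LBOrthSS.adj_of_preserves hQ hQM
    have hadj : ∀ x y, polar Q (M *ᵥ x) y = polar Q x (N *ᵥ y) := fun x y => hN ▸ LBOrthSS.polar_adj hQ M x y
    have hfree : ∀ u ∈ factors F r, rc (RingHom.id F) u ≠ u := fun u hu e => hev (hi ▸ (rc_self_iff' p hr hr2 hrp hu).1 e)
    have hrr : ∀ u ∈ factors F r, rc (RingHom.id F) (rc (RingHom.id F) u) = u := fun u hu => by
      obtain ⟨-, a, -, b⟩ := (mem_factors hr.ne_zero).1 hu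
      exact rc_rc _ hid a (factor_coeff_zero hr.ne_zero b)
    let key : F[X] → ℕ := fun u => if h : u ∈ factors F r then ((Finset.equivFin _) ⟨u, h⟩ : ℕ) else 0
    have hkey : ∀ u ∈ factors F r, ∀ w ∈ factors F r, key u = key w → u = w := by
      intro u hu w hw e
      simp only [key, dif_pos hu, dif_pos hw] at e
      exact congrArg Subtype.val ((Finset.equivFin _).injective (Fin.ext e))
    obtain ⟨S, hS⟩ : ∃ S, S = (factors F r).filter (fun u => key u < key (rc (RingHom.id F) u)) := ⟨_, rfl⟩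
    have himg : S.image (rc (RingHom.id F)) = factors F r \ S := by
      ext u
      simp only [hS, Finset.mem_image, Finset.mem_filter, Finset.mem_sdiff]
      constructor
      · rintro ⟨w, ⟨hw, hlt⟩, rfl⟩
        refine ⟨rc_mem_factors _ hid hr hw, fun h => ?_⟩
        rw [hrr w hw] at h
        omega
      · rintro ⟨hu, hge⟩
        have hu' := rc_mem_factors _ hid hr hu
        refine ⟨_, ⟨hu', ?_⟩, hrr u hu⟩
        rw [hrr u hu]
        have : key (rc (RingHom.id F) u) ≠ key u := fun e => hfree u hu (hkey _ hu' _ hu e)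
        have : ¬ key u < key (rc (RingHom.id F) u) := fun e => hge ⟨hu, e⟩
        omega
    obtain ⟨h1, hh1⟩ : ∃ h1, h1 = ∏ u ∈ S, u := ⟨_, rfl⟩
    obtain ⟨h2, hh2⟩ : ∃ h2, h2 = ∏ u ∈ factors F r \ S, u := ⟨_, rfl⟩
    have hSsub : S ⊆ factors F r := hS ▸ Finset.filter_subset _ _
    have hrc1 : rc (RingHom.id F) h1 = h2 := by
      rw [hh1, rc_prod, hh2, ← himg, Finset.prod_image]
      exact fun a ha b hb e => by
        rw [← hrr a (hSsub ha), ← hrr b (hSsub hb)]; exact congrArg _ e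
    have hcoeff : ∀ T ⊆ factors F r, (∏ u ∈ T, u).coeff 0 ≠ 0 := fun T hT => by
      rw [coeff_zero_eq_eval_zero, eval_prod]
      exact Finset.prod_ne_zero_iff.2 fun u hu => by
        rw [← coeff_zero_eq_eval_zero]; exact factor_coeff_zero hr.ne_zero ((mem_factors hr.ne_zero).1 (hT hu)).2.2.2
    have hrc2 : rc (RingHom.id F) h2 = h1 := by
      rw [← hrc1]
      exact rc_rc _ hid (hh1 ▸ monic_prod_of_monic _ _ fun u hu => ((mem_factors hr.ne_zero).1 (hSsub hu)).2.1)
        (hh1 ▸ hcoeff S hSsub)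
    have hcop : IsCoprime h1 h2 := by
      rw [hh1, hh2]
      refine IsCoprime.prod_left fun u hu => IsCoprime.prod_right fun w hw => ?_
      obtain ⟨hw, hwS⟩ := Finset.mem_sdiff.1 hw
      obtain ⟨-, um, ui, -⟩ := (mem_factors hr.ne_zero).1 (hSsub hu)
      obtain ⟨-, wm, wi, -⟩ := (mem_factors hr.ne_zero).1 hw
      exact ui.coprime_iff_not_dvd.2 fun hd => hwS (eq_of_monic_of_associated um wm (ui.associated_of_dvd wi hd) ▸ hu)
    have hkill : aeval M (h1 * h2) = 0 := by
      have hm0 : (X ^ r - 1 : F[X]).Monic := by rw [← C_1]; exact monic_X_pow_sub_C 1 hr.ne_zero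
      have hsq : Squarefree (X ^ r - 1 : F[X]) := by
        rw [← C_1]; exact (separable_X_pow_sub_C 1 (cast_ne_zero' p hr hrp) one_ne_zero).squarefree
      have hnd := (UniqueFactorizationMonoid.squarefree_iff_nodup_normalizedFactors hm0.ne_zero).1 hsq
      have hmem : X - C 1 ∈ (UniqueFactorizationMonoid.normalizedFactors (X ^ r - 1 : F[X])).toFinset := by
        rw [Multiset.mem_toFinset]
        obtain ⟨b, hb, hab⟩ := UniqueFactorizationMonoid.exists_mem_normalizedFactors_of_dvd hm0.ne_zero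
          (irreducible_X_sub_C (1 : F)) (dvd_iff_isRoot.2 (by simp [IsRoot]))
        rwa [eq_of_monic_of_associated (monic_X_sub_C 1) (monic_of_mem hb) hab]
      have hp : (X - C 1) * ∏ u ∈ factors F r, u = (X ^ r - 1 : F[X]) := by
        rw [factors, Finset.mul_prod_erase _ (fun u => u) hmem, Finset.prod_eq_multiset_prod, Multiset.toFinset_val,
          Multiset.dedup_eq_self.2 hnd, Multiset.map_id', prod_of_monic hm0]
      have e := congrArg (aeval M) hp
      rw [map_mul, map_sub, aeval_X, map_one, map_one, map_sub, map_pow, aeval_X, map_one, hMr, sub_self] at e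
      rw [hh1, hh2, mul_comm, Finset.prod_sdiff hSsub]
      exact hu.mul_right_eq_zero.1 e
    let U1 : Submodule F (ι → F) := LinearMap.ker (toLin' (aeval M h1))
    let U2 : Submodule F (ι → F) := LinearMap.ker (toLin' (aeval M h2))
    have hsing : ∀ U ∈ [U1, U2], finrank F U ≤ m - 1 := by
      intro U hU
      have hs : ∀ v ∈ U, Q v = 0 := by
        rcases List.mem_pair.1 hU with rfl | rfl <;> intro v hv <;>
          rw [LinearMap.mem_ker, toLin'_apply] at hv
        · exact singular_ker hQM hNM hadj hdet (hh1 ▸ hcoeff S hSsub) (hrc1.symm ▸ hcop) v hv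
        · exact singular_ker hQM hNM hadj hdet (hh2 ▸ hcoeff _ Finset.sdiff_subset) (hrc2.symm ▸ hcop.symm) v hv
      have hb := (LBQuad.singular_bound (Orth.qBin_nondeg (LBQuad.bin_aniso hζ))
        (fun w hw => LBQuad.qBin_eq_zero (LBQuad.bin_aniso hζ) hw) (m - 1)).2 (U.map g.toLinearMap) (by
          rintro _ ⟨u, hu, rfl⟩
          exact (hg u).symm.trans (hs u hu))
      rwa [← LinearEquiv.finrank_eq (Submodule.equivMapOfInjective _ g.injective U)] at hb
    have htop : U1 ⊔ U2 = ⊤ := by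
      obtain ⟨a, b, hab⟩ := hcop
      refine eq_top_iff.2 fun v _ => ?_
      have e : v = (aeval M (b * h2)) *ᵥ v + (aeval M (a * h1)) *ᵥ v := by
        rw [← add_mulVec, ← map_add, add_comm, hab, map_one, one_mulVec]
      rw [e]
      refine Submodule.add_mem_sup ?_ ?_ <;> rw [LinearMap.mem_ker, toLin'_apply, mulVec_mulVec, ← map_mul]
      · rw [mul_left_comm, map_mul, hkill, mul_zero, zero_mulVec]
      · rw [mul_left_comm, mul_comm h2 h1, map_mul, hkill, mul_zero, zero_mulVec]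
    have := Submodule.finrank_sup_add_finrank_inf_eq U1 U2
    rw [htop, finrank_top, hV] at this
    have := hsing U1 (by simp)
    have := hsing U2 (by simp)
    omega

/-- A model without fixed vectors. -/
theorem exists_core (p : ℕ) [Fact p.Prime] [CharP F p] (hr : r.Prime) (hr2 : r ≠ 2) {k : ℕ} {h : F[X]}
    (hh : SR r (2 * k) h) (hnd : ¬ (X - C 1) ∣ h) :
    ∃ (R : QuadraticForm F (Fin k ⊕ Fin k → F)) (M : Matrix (Fin k ⊕ Fin k) (Fin k ⊕ Fin k) F),
      (polarBilin R).Nondegenerate ∧ (∀ v, R (M *ᵥ v) = R v) ∧ M ^ r = 1 ∧ M.charpoly = h := by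
  obtain ⟨⟨hd, hG⟩, hfix⟩ := hh
  have hne := coeff_zero_ne hr.ne_zero hG
  have hsym := (rc_fix_iff _ hid hG.1 hne hd).1 hfix
  have hsq : h.coeff 0 ^ 2 = 1 := by
    have := hsym (2 * k) le_rfl
    rw [Nat.sub_self, RingHom.id_apply] at this
    have hlead : h.coeff (2 * k) = 1 := hd ▸ hG.1.coeff_natDegree
    rw [hlead, mul_one] at this
    have h0 := hsym 0 (Nat.zero_le _)
    rw [Nat.sub_zero, hlead, RingHom.id_apply] at h0
    rw [_root_.sq, ← h0]
  have h0 : h.coeff 0 = 1 := by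
    obtain ⟨M, hcop, hMc⟩ := SemisimpleCl.exists_gl_rep p hG.1 hd hne
    have hMr := pow_eq_one p (M := M.1) (by rw [← Units.val_pow_eq_pow_val, pow_orderOf_eq_one, Units.val_one]) hcop
      (hMc.symm ▸ hG) hr.ne_zero
    have e := congrArg Matrix.det hMr
    rw [Matrix.det_pow, Matrix.det_one, Matrix.det_eq_sign_charpoly_coeff, hMc, Fintype.card_fin,
      Even.neg_one_pow ⟨k, two_mul k⟩, one_mul] at e
    have e' := pow_gcd_eq_one.2 ⟨e, hsq⟩
    rwa [show r.gcd 2 = 1 from (Nat.coprime_primes hr Nat.prime_two).2 hr2, pow_one] at e'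
  obtain ⟨g0, hg0⟩ := SympClasses.exists_charpoly_eq hG.1 hd h0 fun j hj => by rw [hsym j hj, h0, one_mul]; rfl
  obtain ⟨j, hj⟩ := SemisimpleCl.exists_coprime_pow (F := F) p g0
  obtain ⟨g, hg⟩ : ∃ g, g = g0 ^ Fintype.card F ^ j := ⟨_, rfl⟩
  rw [← hg] at hj
  have hk : ∀ n, ((g0 : Matrix (Fin k ⊕ Fin k) (Fin k ⊕ Fin k) F) ^ Fintype.card F ^ n).charpoly =
      (g0 : Matrix (Fin k ⊕ Fin k) (Fin k ⊕ Fin k) F).charpoly := by
    intro n
    induction n with
    | zero => simp
    | succ n ih => rw [pow_succ, pow_mul, FiniteField.Matrix.charpoly_pow_card, ih]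
  obtain ⟨M, hM⟩ : ∃ M, M = (g : Matrix (Fin k ⊕ Fin k) (Fin k ⊕ Fin k) F) := ⟨_, rfl⟩
  have hMc : M.charpoly = h := by rw [hM, hg, SubmonoidClass.coe_pow, hk, hg0]
  have hMr : M ^ r = 1 := pow_eq_one p (by rw [hM, ← SubmonoidClass.coe_pow, pow_orderOf_eq_one]; rfl) hj (hMc.symm ▸ hG) hr.ne_zero
  obtain ⟨J, hJ⟩ : ∃ J, J = Matrix.J (Fin k) F := ⟨_, rfl⟩
  have hMJ : Mᵀ * J * M = J := by rw [hM, hJ]; exact SymplecticGroup.mem_iff'.1 g.2
  let R : QuadraticForm F (Fin k ⊕ Fin k → F) := LinearMap.BilinMap.toQuadraticMap (Matrix.toLinearMap₂' F (J * M))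
  have hR : ∀ v, R v = v ⬝ᵥ ((J * M) *ᵥ v) := fun v => by
    show Matrix.toLinearMap₂' F (J * M) v v = _
    rw [Matrix.toLinearMap₂'_apply']
  refine ⟨R, M, Orth.nondeg_of fun x hx => ?_, fun v => ?_, hMr, hMc⟩
  · obtain ⟨B, hB⟩ : ∃ B, B = J * M + (J * M)ᵀ := ⟨_, rfl⟩
    have hp : ∀ y, polar R x y = y ⬝ᵥ (B *ᵥ x) := by
      intro y
      have e : y ⬝ᵥ ((J * M)ᵀ *ᵥ x) = x ⬝ᵥ ((J * M) *ᵥ y) := by
        rw [mulVec_transpose, dotProduct_comm, ← dotProduct_mulVec]
      rw [hB, add_mulVec, dotProduct_add, e]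
      simp only [polar, hR, mulVec_add, add_dotProduct, dotProduct_add]
      ring
    have hx0 : B *ᵥ x = 0 := funext fun a => by
      have := hx (Pi.single a 1)
      rw [hp, single_dotProduct, one_mul] at this
      exact this
    have hBM : B * M = J * ((M - 1) * (M + 1)) := by
      rw [hB, transpose_mul, show Jᵀ = -J from hJ ▸ Matrix.J_transpose .., mul_neg, add_mul, neg_mul, hMJ]
      noncomm_ring
    have hev : ∀ c : F, h.eval c ≠ 0 → (Matrix.scalar _ c - M).det ≠ 0 := fun c hc => by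
      rw [← Matrix.eval_charpoly, hMc]; exact hc
    have hev1 := eval_one_ne hnd
    have hevm : h.eval (-1) ≠ 0 := fun e => by
      have := hG.2 (X - C (-1)) (monic_X_sub_C _) (irreducible_X_sub_C _) (dvd_iff_isRoot.2 e)
      rw [dvd_iff_isRoot, IsRoot, eval_sub, eval_pow, eval_X, eval_one, (hr.odd_of_ne_two hr2).neg_one_pow] at this
      exact hev1 (by rwa [show (-1 : F) = 1 by linear_combination this] at e)
    have d1 : (M - 1).det ≠ 0 := by
      rw [← neg_sub, det_neg]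
      exact mul_ne_zero (pow_ne_zero _ (neg_ne_zero.2 one_ne_zero)) (by simpa using hev 1 hev1)
    have d2 : (M + 1).det ≠ 0 := by
      rw [show M + 1 = -(Matrix.scalar (Fin k ⊕ Fin k) (-1 : F) - M) by rw [map_neg, map_one]; abel, det_neg]
      exact mul_ne_zero (pow_ne_zero _ (neg_ne_zero.2 one_ne_zero)) (hev _ hevm)
    have hBd : B.det ≠ 0 := fun e => by
      have := congrArg Matrix.det hBM
      rw [det_mul, det_mul, det_mul, e, zero_mul] at this
      exact mul_ne_zero (hJ ▸ Matrix.isUnit_det_J (Fin k) F).ne_zero (mul_ne_zero d1 d2) this.symm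
    exact mulVec_injective_iff_isUnit.2 ((isUnit_iff_isUnit_det _).2 hBd.isUnit) (hx0.trans (mulVec_zero _).symm)
  · have e : ∀ w, (M *ᵥ v) ⬝ᵥ w = v ⬝ᵥ (Mᵀ *ᵥ w) := fun w => by
      rw [mulVec_transpose, dotProduct_comm v, ← dotProduct_mulVec, dotProduct_comm]
    rw [hR, hR, e, mulVec_mulVec, mulVec_mulVec]
    congr 2
    rw [← mul_assoc, hMJ]

theorem exists_elliptic : ∃ ζ : F, ∀ t : F, t ^ 2 + t + ζ ≠ 0 := by
  have hni : ¬ Function.Injective (fun t : F => t ^ 2 + t) := fun h => by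
    have : (-1 : F) = 0 := h (show (-1 : F) ^ 2 + -1 = 0 ^ 2 + 0 by ring)
    exact neg_ne_zero.2 one_ne_zero this
  rw [Finite.injective_iff_surjective] at hni
  simp only [Function.Surjective, not_forall, not_exists] at hni
  obtain ⟨z, hz⟩ := hni
  exact ⟨-z, fun t e => hz t (by linear_combination e)⟩

theorem prod_nondeg {A W : Type*} [AddCommGroup A] [Module F A] [FiniteDimensional F A] [AddCommGroup W] [Module F W]
    [FiniteDimensional F W] {QA : QuadraticForm F A} {QW : QuadraticForm F W}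
    (hA : (polarBilin QA).Nondegenerate) (hW : (polarBilin QW).Nondegenerate) : (polarBilin (QA.prod QW)).Nondegenerate := by
  refine Orth.nondeg_of fun x hx => Prod.ext (Orth.eq_zero_of_b hA fun y => ?_) (Orth.eq_zero_of_b hW fun y => ?_)
  · have := hx (y, 0)
    simp only [polar, QuadraticMap.prod_apply, Prod.fst_add, Prod.snd_add, add_zero, map_zero] at this ⊢
    linear_combination this
  · have := hx (0, y)
    simp only [polar, QuadraticMap.prod_apply, Prod.fst_add, Prod.snd_add, add_zero, map_zero] at this ⊢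
    linear_combination this

/-- Transport of an isometry to the given space. -/
theorem exists_elem {W : Type*} [AddCommGroup W] [Module F W] [FiniteDimensional F W] {R : QuadraticForm F W}
    (L : (ι → F) ≃ₗ[F] W) (hL : ∀ v, Q v = R (L v)) (T : W →ₗ[F] W) (hT : ∀ w, R (T w) = R w) {f : F[X]}
    (hTc : T.charpoly = f) (hf : f.coeff 0 ≠ 0) :
    ∃ g : ↥(Cfsg.isometryGroup F (⇑Q)), (g : GL ι F).1.charpoly = f := by
  obtain ⟨A, hA⟩ : ∃ A, A = LinearMap.toMatrix' (L.symm.conj T) := ⟨_, rfl⟩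
  have hc : A.charpoly = f := by
    rw [hA, ← Matrix.charpoly_toLin', Matrix.toLin'_toMatrix', LinearEquiv.charpoly_conj, hTc]
  have hd : A.det ≠ 0 := by
    rw [Matrix.det_eq_sign_charpoly_coeff, hc]
    exact mul_ne_zero (pow_ne_zero _ (neg_ne_zero.2 one_ne_zero)) hf
  refine ⟨⟨Matrix.GeneralLinearGroup.mkOfDetNeZero _ hd, Orth.mem_isometryGroup.2 fun x => ?_⟩, hc⟩
  show Q (A *ᵥ x) = Q x
  rw [hA, LinearMap.toMatrix'_mulVec, LinearEquiv.conj_apply_apply, LinearEquiv.symm_symm, hL, LinearEquiv.apply_symm_apply,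
    hT, ← hL]

theorem exists_model (p : ℕ) [Fact p.Prime] [CharP F p] (hr : r.Prime) (hr2 : r ≠ 2) (hrp : r ≠ p) {m i : ℕ}
    (hi : i = orderOf (Fintype.card F : ZMod r)) (hm : 1 ≤ m) (hι : Fintype.card ι = 2 * m)
    (hQ : (polarBilin Q).Nondegenerate) {f : F[X]} (hf : SR r (2 * m) f)
    (hall : X - C 1 ∣ f ∨ (IsPlus m Q ↔ Typ i m)) :
    ∃ g : ↥(Cfsg.isometryGroup F (⇑Q)), (g : GL ι F).1.charpoly = f := by
  obtain ⟨⟨hd, hG⟩, hfix⟩ := hf
  have hf0 := coeff_zero_ne hr.ne_zero hG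
  have hV : finrank F (ι → F) = 2 * m := by rw [finrank_fintype_fun_eq_card, hι]
  obtain ⟨h, hfh, hnd⟩ := exists_eq_pow_rootMultiplicity_mul_and_not_dvd f hG.1.ne_zero (1 : F)
  obtain ⟨e, he⟩ : ∃ e, e = f.rootMultiplicity 1 := ⟨_, rfl⟩
  rw [← he] at hfh
  have hpm : ((X - C 1 : F[X]) ^ e).Monic := (monic_X_sub_C 1).pow _
  have hhm : h.Monic := hpm.of_mul_monic_left (hfh ▸ hG.1)
  have hh : SR r h.natDegree h := by
    refine ⟨⟨rfl, hhm, fun g a b c => hG.2 g a b (c.trans (hfh ▸ dvd_mul_left _ _))⟩, ?_⟩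
    rw [hfh, rc_mul, rc_pow, rc_X_sub_one] at hfix
    exact mul_left_cancel₀ hpm.ne_zero hfix
  obtain ⟨k, hk⟩ := even_natDegree p hr hr2 hrp hh hnd
  rw [show h.natDegree = 2 * k by omega] at hh
  obtain ⟨R, M, hR, hRM, hMr, hMc⟩ := exists_core p hr hr2 hh hnd
  have hek : e + 2 * k = 2 * m := by
    have := congrArg natDegree hfh
    rw [hpm.natDegree_mul hhm, natDegree_pow, natDegree_X_sub_C, mul_one, hd, hh.1.1] at this
    omega
  have hRd : finrank F (Fin k ⊕ Fin k → F) = 2 * k := by simp [two_mul]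
  rcases Nat.eq_zero_or_pos e with rfl | hepos
  · obtain rfl : k = m := by omega
    rw [pow_zero, one_mul] at hfh
    subst hfh
    have ht := type_iff p hr hr2 hrp hi hm (by simp [two_mul]) hR hRM hMr (hMc.symm ▸ hnd)
    obtain ⟨L, hL⟩ := exists_iso hQ hR hV hRd ((hall.resolve_left hnd).trans ht.symm)
    exact exists_elem L hL (toLin' M) (fun w => by rw [toLin'_apply, hRM]) (by rw [Matrix.charpoly_toLin', hMc]) hf0
  · obtain ⟨c, hc⟩ : ∃ c, e = 2 * c := ⟨m - k, by omega⟩
    obtain ⟨ζ, hζ⟩ := exists_elliptic (F := F)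
    have hab := LBQuad.bin_aniso hζ
    have hc1 : 1 ≤ c := by omega
    have hP := prod_nondeg hR (Orth.qPlus_nondeg (F := F) c)
    have hN := prod_nondeg hR (Orth.qMinus_nondeg hab (c - 1))
    have hPd : finrank F ((Fin k ⊕ Fin k → F) × (Fin c ⊕ Fin c → F)) = 2 * m := by
      rw [finrank_prod, hRd]; simp; omega
    have hWd : finrank F ((Fin (c - 1) ⊕ Fin (c - 1)) ⊕ Fin 2 → F) = 2 * c := by simp; omega
    have hNd : finrank F ((Fin k ⊕ Fin k → F) × ((Fin (c - 1) ⊕ Fin (c - 1)) ⊕ Fin 2 → F)) = 2 * m := by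
      rw [finrank_prod, hRd, hWd]; omega
    have hne : ¬ (IsPlus m (R.prod (Orth.qPlus F c)) ↔ IsPlus m (R.prod (Orth.qMinus F (c - 1) 1 ζ))) := by
      intro hsame
      obtain ⟨φ, hφ⟩ := exists_iso hP hN hPd hNd hsame
      obtain ⟨ψ, hψ⟩ := cancel hR (Orth.qMinus_nondeg hab (c - 1)) (by rw [hWd]; simp [two_mul]) φ fun x => (hφ x).symm
      exact LBQuad.plus_ne_minus hab hc1 ψ fun v => (hψ v).symm
    have hfin : ∀ {W : Type _} [AddCommGroup W] [Module F W] [FiniteDimensional F W] (QW : QuadraticForm F W),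
        finrank F W = e → ∀ (L : (ι → F) ≃ₗ[F] (Fin k ⊕ Fin k → F) × W), (∀ v, Q v = R.prod QW (L v)) →
        ∃ g : ↥(Cfsg.isometryGroup F (⇑Q)), (g : GL ι F).1.charpoly = f := by
      intro W _ _ _ QW hW L hL
      refine exists_elem L hL ((toLin' M).prodMap 1) (fun w => ?_) ?_ hf0
      · rw [QuadraticMap.prod_apply, QuadraticMap.prod_apply, LinearMap.prodMap_apply, toLin'_apply, hRM, Module.End.one_apply]
      · rw [LinearMap.charpoly_prodMap, Matrix.charpoly_toLin', hMc, LinearMap.charpoly_one, hW, hfh, C_1, mul_comm]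
    by_cases hQP : IsPlus m Q ↔ IsPlus m (R.prod (Orth.qPlus F c))
    · obtain ⟨L, hL⟩ := exists_iso hQ hP hV hPd hQP
      exact hfin _ (by simp; omega) L hL
    · obtain ⟨L, hL⟩ := exists_iso hQ hN hV hNd (by tauto)
      exact hfin _ (by rw [hWd, hc]) L hL

open scoped Classical in
theorem card_orth_even (p : ℕ) [Fact p.Prime] [CharP F p] (hr : r.Prime) (hr2 : r ≠ 2) (hrp : r ≠ p) (m i t : ℕ)
    (hi : i = orderOf (Fintype.card F : ZMod r)) (ht : t * i = r - 1) (hm : 1 ≤ m) (hι : Fintype.card ι = 2 * m)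
    (hQ : (polarBilin Q).Nondegenerate) :
    Nat.card {C : ConjClasses ↥(Cfsg.isometryGroup F (⇑Q)) //
      ∃ g : ↥(Cfsg.isometryGroup F (⇑Q)), ConjClasses.mk g = C ∧ orderOf g = r} =
      (if (IsPlus m Q ↔ Typ i m) then
        (if Odd i then Nat.choose (2 * m / (2 * i) + t / 2) (t / 2) else Nat.choose (2 * m / i + t) t)
      else (if Odd i then Nat.choose ((2 * m - 1) / (2 * i) + t / 2) (t / 2) else Nat.choose ((2 * m - 1) / i + t) t)) - 1 := by
  rw [card_linear' p hr hrp ((Units.coeHom _).comp (Cfsg.isometryGroup F (⇑Q)).subtype)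
    (fun x y h => Subtype.ext (Units.ext h)) (fun g h => LBRootOrth.isConj_of_charpoly hQ p hr hr2 hrp g h)
    (fun f => SR r (2 * m) f ∧ (X - C 1 ∣ f ∨ (IsPlus m Q ↔ Typ i m))) ?_ ?_,
    ← card_SR (F := F) p hr hr2 hrp (2 * m) i t hi ht, ← card_SR (F := F) p hr hr2 hrp (2 * m - 1) i t hi ht]
  · obtain ⟨n, hn⟩ : ∃ n, 2 * m = n + 1 := ⟨2 * m - 1, by omega⟩
    rw [hn, card_allowed hr.ne_zero, Nat.add_sub_cancel]
  · intro g hg
    obtain ⟨M, hM⟩ : ∃ M, M = (g : GL ι F).1 := ⟨_, rfl⟩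
    show SR r (2 * m) (g : GL ι F).1.charpoly ∧ (X - C 1 ∣ (g : GL ι F).1.charpoly ∨ _)
    rw [← hM]
    have hMp : ∀ v, Q (M *ᵥ v) = Q v := hM ▸ Orth.mem_isometryGroup.1 g.2
    have hMa := LBOrthSS.adj_of_preserves hQ hMp
    have hMr : M ^ r = 1 := by
      rw [hM, ← Units.val_pow_eq_pow_val, ← SubmonoidClass.coe_pow, hg]; rfl
    have hdeg : M.charpoly.natDegree = 2 * m := by rw [Matrix.charpoly_natDegree_eq_dim, hι]
    have hGood := good_charpoly hMr
    have hch : (LBOrthSS.adj Q M).charpoly = M.charpoly := by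
      rw [LBOrthSS.adj, Matrix.charpoly_mul_comm, ← mul_assoc, Matrix.mul_nonsing_inv _ (LBOrthSS.gram_det hQ), one_mul,
        Matrix.charpoly_transpose]
    refine ⟨⟨⟨hdeg, hGood⟩, (rc_fix_iff _ hid (Matrix.charpoly_monic _) (coeff_zero_ne hr.ne_zero hGood) hdeg).2 fun j hj => ?_⟩, ?_⟩
    · have := SelfRecip.coeff_rev_charpoly M _ hMa j (by omega)
      rw [hι, hch] at this
      rw [this]; rfl
    · by_cases hdv : X - C 1 ∣ M.charpoly
      · exact Or.inl hdv
      · exact Or.inr (type_iff p hr hr2 hrp hi hm hι hQ hMp hMr hdv)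
  · rintro f ⟨hf, hall⟩
    exact ⟨hf.1.2, exists_model p hr hr2 hrp hi hm hι hQ hf hall⟩

end Cfsg.Agent.LBEvenRoot

namespace Cfsg.Agent.LBEvenRoot

theorem pred_div_dvd {n i : ℕ} (hi : 0 < i) (hn : 0 < n) (h : i ∣ n) : (n - 1) / i = n / i - 1 ∧ 1 ≤ n / i := by
  obtain ⟨k, rfl⟩ := h
  rw [Nat.mul_div_cancel_left _ hi]
  have hk : 1 ≤ k := by
    rcases k with _ | k
    · simp at hn
    · omega
  refine ⟨Nat.div_eq_of_lt_le ?_ ?_, hk⟩
  · obtain ⟨k, rfl⟩ : ∃ j, k = j + 1 := ⟨k - 1, by omega⟩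
    rw [Nat.add_sub_cancel, mul_add, mul_one, mul_comm]
    omega
  · rw [Nat.sub_add_cancel hk, mul_comm k i]
    omega

theorem pred_div_not_dvd {n i : ℕ} (h : ¬ i ∣ n) : (n - 1) / i = n / i := by
  rcases n with _ | n
  · simp
  · rw [Nat.succ_div_of_not_dvd h, Nat.add_sub_cancel]

theorem pascal {s t : ℕ} (hs : 1 ≤ s) (ht : 1 ≤ t) :
    Nat.choose (s - 1 + t) t - 1 = Nat.choose (s + t) t - 1 - Nat.choose (s + t - 1) (t - 1) := by
  obtain ⟨s, rfl⟩ : ∃ a, s = a + 1 := ⟨s - 1, by omega⟩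
  obtain ⟨t, rfl⟩ : ∃ a, t = a + 1 := ⟨t - 1, by omega⟩
  rw [Nat.add_sub_cancel, Nat.add_sub_cancel, show s + 1 + (t + 1) = (s + t + 1) + 1 by omega, Nat.choose_succ_succ' (s + t + 1),
    Nat.add_sub_cancel, show s + (t + 1) = s + t + 1 by omega]
  omega

end Cfsg.Agent.LBEvenRoot
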