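/-
In characteristic two every symplectic transformation preserves a quadratic form.
-/
import Cfsg.Prelude.Def_ClassicalGeometry
import Mathlib

set_option autoImplicit false

namespace Cfsg.Agent.LBSpPres

open Matrix

variable {F : Type*} [Field F] [Finite F] [CharP F 2] {m : ℕ}

theorem exists_form (A : Matrix.symplecticGroup (Fin m) F) :
    ∃ Q : QuadraticForm F (Fin m ⊕ Fin m → F), (∀ u v : Fin m ⊕ Fin m → F, QuadraticMap.polar ⇑Q u v = Cfsg.sympForm m F u v) ∧
      ∀ v : Fin m ⊕ Fin m → F, Q ((A : Matrix (Fin m ⊕ Fin m) (Fin m ⊕ Fin m) F).mulVec v) = Q v := by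
  haveI : Fact (Nat.Prime 2) := ⟨Nat.prime_two⟩
  let π : Fin m ⊕ Fin m → (Fin m ⊕ Fin m → F) →ₗ[F] F := fun j => LinearMap.proj j
  let Q₀ : QuadraticForm F (Fin m ⊕ Fin m → F) :=
    ∑ i : Fin m, QuadraticMap.linMulLin (π (Sum.inl i)) (π (Sum.inr i))
  have hQ₀ : ∀ v, Q₀ v = ∑ i : Fin m, v (Sum.inl i) * v (Sum.inr i) := fun v => by
    simp [Q₀, π, QuadraticMap.sum_apply]
  have hform : ∀ u v, Cfsg.sympForm m F u v = ∑ i : Fin m, (u (Sum.inl i) * v (Sum.inr i) + u (Sum.inr i) * v (Sum.inl i)) := by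
    intro u v
    simp [Cfsg.sympForm, dotProduct, Fintype.sum_sum_type, Matrix.mulVec, Matrix.J, Matrix.one_apply,
      Finset.sum_add_distrib, CharTwo.neg_eq]
  have hpolar : ∀ u v, QuadraticMap.polar (⇑Q₀) u v = Cfsg.sympForm m F u v := by
    intro u v
    rw [hform, QuadraticMap.polar, hQ₀, hQ₀, hQ₀, ← Finset.sum_sub_distrib, ← Finset.sum_sub_distrib]
    refine Finset.sum_congr rfl fun i _ => ?_
    simp only [Pi.add_apply]
    ring
  let T : (Fin m ⊕ Fin m → F) →ₗ[F] (Fin m ⊕ Fin m → F) := Matrix.mulVecLin (A : Matrix (Fin m ⊕ Fin m) (Fin m ⊕ Fin m) F)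
  have hpres : ∀ u v, Cfsg.sympForm m F (T u) (T v) = Cfsg.sympForm m F u v := by
    intro u v
    have h := SymplecticGroup.mem_iff'.1 A.2
    simp only [Cfsg.sympForm, T, Matrix.mulVecLin_apply, Matrix.mulVec_mulVec]
    rw [Matrix.dotProduct_mulVec, Matrix.dotProduct_mulVec, ← Matrix.vecMul_transpose, Matrix.vecMul_vecMul, ← Matrix.mul_assoc, h]
  -- the square root of the defect
  let δ : (Fin m ⊕ Fin m → F) → F := fun v => Q₀ (T v) + Q₀ v
  have hadd : ∀ u v, δ (u + v) = δ u + δ v := by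
    intro u v
    have h1 := hpolar (T u) (T v)
    have h2 := hpolar u v
    rw [hpres] at h1
    simp only [QuadraticMap.polar] at h1 h2
    simp only [δ, map_add]
    linear_combination (norm := (ring_nf; simp [CharTwo.two_eq_zero])) h1 - h2
  let ρ : F ≃+* F := frobeniusEquiv F 2
  have hρ : ∀ t, ρ.symm t * ρ.symm t = t := fun t => by
    rw [← pow_two]; exact ρ.apply_symm_apply t
  let ℓ : (Fin m ⊕ Fin m → F) →ₗ[F] F :=
    { toFun := fun v => ρ.symm (δ v)
      map_add' := fun u v => by rw [hadd, map_add]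
      map_smul' := fun c v => by
        apply ρ.injective
        rw [RingEquiv.apply_symm_apply, RingHom.id_apply, smul_eq_mul, map_mul, RingEquiv.apply_symm_apply]
        simp only [δ, map_smul, QuadraticMap.map_smul, smul_eq_mul, ρ, frobeniusEquiv_apply, frobenius_def]
        ring }
  have hℓ : ℓ ∈ LinearMap.range (T - LinearMap.id).dualMap := by
    rw [LinearMap.range_dualMap_eq_dualAnnihilator_ker, Submodule.mem_dualAnnihilator]
    intro v hv
    rw [LinearMap.mem_ker, LinearMap.sub_apply, sub_eq_zero, LinearMap.id_apply] at hv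
    show ρ.symm (δ v) = 0
    simp [δ, hv, CharTwo.add_self_eq_zero]
  obtain ⟨μ, hμ⟩ := hℓ
  refine ⟨Q₀ + QuadraticMap.linMulLin μ μ, fun u v => ?_, fun v => ?_⟩
  · rw [← hpolar]
    simp only [QuadraticMap.polar, QuadraticMap.add_apply, QuadraticMap.linMulLin_apply, map_add]
    linear_combination (norm := (ring_nf; simp [CharTwo.two_eq_zero])) (0 : F) * (0 : F)
  · have h : ℓ v = μ (T v) - μ v := by rw [← hμ]; simp
    have h' : δ v = (μ (T v) - μ v) * (μ (T v) - μ v) := by rw [← h]; exact (hρ _).symm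
    simp only [QuadraticMap.add_apply, QuadraticMap.linMulLin_apply]
    change Q₀ (T v) + μ (T v) * μ (T v) = Q₀ v + μ v * μ v
    simp only [δ] at h'
    linear_combination (norm := (ring_nf; simp [CharTwo.two_eq_zero])) h'

end Cfsg.Agent.LBSpPres
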