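/-
Characteristic two: which symplectic elements preserve a quadratic form of given type with the same polar form.
-/
import Cfsg.Agent.Lib.LinearBlock.EvenRootClasses
import Cfsg.Agent.Lib.LinearBlock.SpPreserve
import Cfsg.Agent.Lib.Classical.Symplectic
import Cfsg.Agent.Lib.Transvec.OrthFamily
import Cfsg.Prelude.Def_GeometricClasses

set_option autoImplicit false
set_option linter.all false

namespace Cfsg.Agent.LBSpOrth

open QuadraticMap Module Matrix LBEven

variable {F : Type*} [Field F] [Finite F] [CharP F 2] {d : ℕ}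

theorem two_zero : (2 : F) = 0 := CharTwo.two_eq_zero

/-- The image of `t ↦ t² + t` has index two. -/
theorem as_add {u w : F} (hu : ∀ t : F, t ^ 2 + t + u ≠ 0) (hw : ∀ t : F, t ^ 2 + t + w ≠ 0) : ∃ t : F, t ^ 2 + t + (u + w) = 0 := by
  haveI := Fintype.ofFinite F
  let φ : F →+ F := AddMonoidHom.mk' (fun s => s ^ 2 + s) (fun a b => by linear_combination (a * b) * (two_zero (F := F)))
  have hker : Nat.card φ.ker = 2 := by
    rw [Nat.card_eq_two_iff' ⟨0, φ.ker.zero_mem⟩]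
    refine ⟨⟨1, show (1 : F) ^ 2 + 1 = 0 by linear_combination (two_zero (F := F))⟩, fun e => one_ne_zero (congrArg Subtype.val e),
      fun y hy => ?_⟩
    have hy' : (y : F) ^ 2 + y = 0 := y.2
    have : (y : F) * ((y : F) + 1) = 0 := by linear_combination hy'
    rcases mul_eq_zero.1 this with e | e
    · exact absurd (Subtype.ext e) hy
    · exact Subtype.ext (by linear_combination e - (two_zero (F := F)))
  have hidx : φ.range.index = 2 := by
    have e1 := φ.range.card_mul_index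
    have e2 : Nat.card φ.ker * φ.ker.index = Nat.card F := φ.ker.card_mul_index
    rw [AddSubgroup.index_ker, hker] at e2
    have hpos : 0 < Nat.card φ.range := Nat.card_pos
    nlinarith
  have hz : ∀ z : F, (∀ t : F, t ^ 2 + t + z ≠ 0) → z ∉ φ.range := by
    rintro z hz ⟨t, ht⟩
    exact hz t (by rw [show t ^ 2 + t = z from ht]; linear_combination z * (two_zero (F := F)))
  obtain ⟨t, ht⟩ : u + w ∈ φ.range := (AddSubgroup.add_mem_iff_of_index_two hidx).2 (iff_of_false (hz _ hu) (hz _ hw))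
  exact ⟨t, by rw [show t ^ 2 + t = u + w from ht]; linear_combination (u + w) * (two_zero (F := F))⟩

theorem sq_surj (c : F) : ∃ s : F, s ^ 2 = c := by
  obtain ⟨s, hs⟩ := FiniteField.isSquare_of_char_two (ringChar.eq F 2) c
  exact ⟨s, by rw [hs]; ring⟩

/-- Adding the square of `polar R a` changes the type. -/
theorem switch {ι : Type} [Fintype ι] [DecidableEq ι] (hι : Fintype.card ι = 2 * d) {R : QuadraticForm F (ι → F)}
    (hR : (polarBilin R).Nondegenerate) {a : ι → F} (ha : ∀ t : F, t ^ 2 + t + R a ≠ 0) :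
    ∃ R' : QuadraticForm F (ι → F), (∀ v, R' v = R v + polar R a v * polar R a v) ∧ (∀ u v, polar R' u v = polar R u v) ∧
      (IsPlus d R' ↔ ¬ IsPlus d R) := by
  have h2 := two_zero (F := F)
  obtain ⟨ℓ, hℓ⟩ : ∃ ℓ, ℓ = polarBilin R a := ⟨_, rfl⟩
  have hℓv : ∀ v, ℓ v = polar R a v := fun v => by rw [hℓ]; rfl
  let R' : QuadraticForm F (ι → F) := R + linMulLin ℓ ℓ
  have hR'v : ∀ v, R' v = R v + polar R a v * polar R a v := fun v => by
    show R v + ℓ v * ℓ v = _
    rw [hℓv]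
  have hpol : ∀ u v, polar R' u v = polar R u v := fun u v => by
    show R' (u + v) - R' u - R' v = _
    rw [hR'v, hR'v, hR'v, polar_add_right, QuadraticMap.map_add R u v]
    linear_combination (polar R a u * polar R a v) * h2
  refine ⟨R', hR'v, hpol, ?_⟩
  have hR' : (polarBilin R').Nondegenerate :=
    Orth.nondeg_of fun x hx => Orth.eq_zero_of_b hR fun y => (hpol x y).symm.trans (hx y)
  have hV : finrank F (ι → F) = 2 * d := by rw [finrank_fintype_fun_eq_card, hι]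
  -- a hyperbolic pair
  have hRa : R a ≠ 0 := fun e => ha 0 (by rw [e]; ring)
  obtain ⟨s, hs⟩ := sq_surj (R a)
  have hs0 : s ≠ 0 := fun e => hRa (by rw [← hs, e]; ring)
  obtain ⟨a₁, ha₁⟩ : ∃ a₁, a₁ = s⁻¹ • a := ⟨_, rfl⟩
  have hRa₁ : R a₁ = 1 := by
    rw [ha₁, QuadraticMap.map_smul, smul_eq_mul, ← hs]; field_simp
  have hPa : ∀ v, polar R a v = s * polar R a₁ v := fun v => by
    rw [ha₁, polar_smul_left, smul_eq_mul, ← mul_assoc, mul_inv_cancel₀ hs0, one_mul]
  have hself : ∀ v, polar R v v = 0 := fun v => by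
    rw [polar_self, nsmul_eq_mul, Nat.cast_ofNat, h2, zero_mul]
  obtain ⟨b, hb⟩ : ∃ b, polar R a₁ b = 1 := by
    by_contra hc
    have h0 : a₁ = 0 := Orth.eq_zero_of_b hR fun y => by
      by_contra hy
      exact hc ⟨(polar R a₁ y)⁻¹ • y, by rw [polar_smul_right, smul_eq_mul, inv_mul_cancel₀ hy]⟩
    rw [h0, map_zero] at hRa₁
    exact zero_ne_one hRa₁
  have hba : polar R b a₁ = 1 := by rw [polar_comm, hb]
  let P : (ι → F) →ₗ[F] F × F := LinearMap.prod (polarBilin R a₁) (polarBilin R b)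
  have hP1 : ∀ v, (P v).1 = polar R a₁ v := fun v => rfl
  have hP2 : ∀ v, (P v).2 = polar R b v := fun v => rfl
  let φ : LinearMap.ker P × (Fin 2 → F) →ₗ[F] (ι → F) :=
    LinearMap.coprod (LinearMap.ker P).subtype
      ((LinearMap.proj (R := F) (φ := fun _ : Fin 2 => F) 0).smulRight a₁ + (LinearMap.proj (R := F) (φ := fun _ : Fin 2 => F) 1).smulRight b)
  have hφ : ∀ x, φ x = (x.1 : ι → F) + (x.2 0 • a₁ + x.2 1 • b) := fun x => rfl
  have hmem : ∀ w : LinearMap.ker P, polar R a₁ w = 0 ∧ polar R b w = 0 := fun w => by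
    have : P w = 0 := w.2
    exact ⟨by rw [← hP1, this]; rfl, by rw [← hP2, this]; rfl⟩
  have hpa : ∀ x, polar R a₁ (φ x) = x.2 1 := fun x => by
    rw [hφ]; simp only [polar_add_right, polar_smul_right, (hmem x.1).1, hself, hb, smul_eq_mul]; ring
  have hpb : ∀ x, polar R b (φ x) = x.2 0 := fun x => by
    rw [hφ]; simp only [polar_add_right, polar_smul_right, (hmem x.1).2, hself, hba, smul_eq_mul]; ring
  have hinj : Function.Injective φ := by
    rw [← LinearMap.ker_eq_bot, LinearMap.ker_eq_bot']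
    intro x hx
    have e1 := hpa x
    have e0 := hpb x
    rw [hx, polar_zero_right] at e1 e0
    have e2 : x.2 = 0 := funext fun j => by fin_cases j; exacts [e0.symm, e1.symm]
    have e3 := hφ x
    rw [hx, e2] at e3
    simp at e3
    exact Prod.ext (Subtype.ext e3.symm) e2
  have hsurjφ : Function.Surjective φ := by
    intro v
    have hk : v + (polar R b v • a₁ + polar R a₁ v • b) ∈ LinearMap.ker P := by
      refine Prod.ext ?_ ?_
      · show polar R a₁ _ = 0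
        simp only [polar_add_right, polar_smul_right, hself, hb, smul_eq_mul]
        linear_combination polar R a₁ v * h2
      · show polar R b _ = 0
        simp only [polar_add_right, polar_smul_right, hself, hba, smul_eq_mul]
        linear_combination polar R b v * h2
    refine ⟨(⟨_, hk⟩, ![polar R b v, polar R a₁ v]), ?_⟩
    rw [hφ]
    funext j
    simp
    linear_combination (polar R b v * a₁ j + polar R a₁ v * b j) * h2
  let e : (LinearMap.ker P × (Fin 2 → F)) ≃ₗ[F] (ι → F) := LinearEquiv.ofBijective φ ⟨hinj, hsurjφ⟩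
  obtain ⟨RW, hRW⟩ : ∃ RW, RW = R.comp (LinearMap.ker P).subtype := ⟨_, rfl⟩
  have hRW' : ∀ w : LinearMap.ker P, RW w = R w := fun w => by rw [hRW]; rfl
  have he : ∀ x, R (e x) = (RW.prod (Orth.qBin F 1 (R b))) x := by
    intro x
    show R (φ x) = _
    rw [hφ, QuadraticMap.map_add R, QuadraticMap.map_add R, QuadraticMap.map_smul, QuadraticMap.map_smul]
    simp only [polar_add_right, polar_smul_right, polar_smul_left, hRa₁, hb, QuadraticMap.prod_apply, hRW', Orth.qBin_apply,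
      show polar R (x.1 : ι → F) a₁ = 0 by rw [polar_comm, (hmem x.1).1],
      show polar R (x.1 : ι → F) b = 0 by rw [polar_comm, (hmem x.1).2], smul_eq_mul]
    ring
  have he' : ∀ x, R' (e x) = (RW.prod (Orth.qBin F 1 (R b + R a))) x := by
    intro x
    rw [hR'v, he, hPa]
    show _ + s * polar R a₁ (φ x) * (s * polar R a₁ (φ x)) = _
    rw [hpa, QuadraticMap.prod_apply, QuadraticMap.prod_apply, Orth.qBin_apply, Orth.qBin_apply, ← hs]
    ring
  have hRWn : (polarBilin RW).Nondegenerate := by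
    refine Orth.nondeg_of fun w hw => Subtype.ext (Orth.eq_zero_of_b hR fun y => ?_)
    obtain ⟨x, rfl⟩ := hsurjφ y
    have h0 : polar R (w : ι → F) x.1 = 0 := by
      have := hw x.1
      rwa [hRW, show polar (⇑(R.comp (LinearMap.ker P).subtype)) w x.1 = polar R (w : ι → F) x.1 from rfl] at this
    rw [hφ]
    simp only [polar_add_right, polar_smul_right, h0, show polar R (w : ι → F) a₁ = 0 by rw [polar_comm, (hmem w).1],
      show polar R (w : ι → F) b = 0 by rw [polar_comm, (hmem w).2], smul_eq_mul]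
    ring
  have hbin : ∀ ζ : F, (polarBilin (Orth.qBin F 1 ζ)).Nondegenerate := fun ζ => Orth.nondeg_of fun v hv => by
    have h0 := hv ![1, 0]
    have h1 := hv ![0, 1]
    rw [Orth.polar_qBin] at h0 h1
    simp [h2] at h0 h1
    funext j; fin_cases j <;> simp [*]
  have hno : ∀ (u w : F), (∃ t : F, t ^ 2 + t + u = 0) → (∀ t : F, t ^ 2 + t + w ≠ 0) →
      ¬ ∃ ψ : (Fin 2 → F) ≃ₗ[F] (Fin 2 → F), ∀ v, Orth.qBin F 1 w (ψ v) = Orth.qBin F 1 u v := by
    rintro u w ⟨t, ht⟩ hw ⟨ψ, hψ⟩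
    have h0 := hψ ![t, 1]
    rw [show Orth.qBin F 1 u ![t, 1] = 0 by rw [Orth.qBin_apply]; simp; linear_combination ht] at h0
    have := LBQuad.qBin_eq_zero (LBQuad.bin_aniso hw) h0
    rw [LinearEquiv.map_eq_zero_iff] at this
    simpa using congrFun this 1
  have hdiff : ¬ (IsPlus d R ↔ IsPlus d R') := by
    intro hsame
    obtain ⟨g, hg⟩ := exists_iso hR hR' hV hV hsame
    obtain ⟨ψ, hψ⟩ := cancel hRWn (hbin (R b + R a)) rfl (e.trans (g.trans e.symm)) fun x => by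
      show (RW.prod (Orth.qBin F 1 (R b + R a))) (e.symm (g (e x))) = _
      rw [← he', LinearEquiv.apply_symm_apply, ← hg, he]
    by_cases hu : ∃ t : F, t ^ 2 + t + R b = 0
    · refine hno _ _ hu (fun t ht => ?_) ⟨ψ, fun v => (hψ v).symm⟩
      obtain ⟨t', ht'⟩ := hu
      exact ha (t + t') (by linear_combination ht + ht' + (t * t' - R b) * h2)
    · simp only [not_exists] at hu
      refine hno _ _ (as_add hu ha) hu ⟨ψ.symm, fun v => ?_⟩
      rw [hψ, LinearEquiv.apply_symm_apply]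
  tauto

theorem exists_nonsplit : ∃ z : F, ∀ t : F, t ^ 2 + t + z ≠ 0 := by
  haveI := Fintype.ofFinite F
  classical
  exact LBEvenRoot.exists_elliptic

/-- The form is hyperbolic if and only if it has a totally singular subspace of half the dimension. -/
theorem isPlus_iff {ι : Type} [Fintype ι] [DecidableEq ι] (hd : 1 ≤ d) (hι : Fintype.card ι = 2 * d) {R : QuadraticForm F (ι → F)}
    (hR : (polarBilin R).Nondegenerate) :
    IsPlus d R ↔ ∃ U : Submodule F (ι → F), (∀ u ∈ U, R u = 0) ∧ finrank F U = d := by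
  refine ⟨?_, ?_⟩
  · rintro ⟨g, hg⟩
    obtain ⟨⟨U, hU, hU'⟩, -⟩ := LBQuad.singular_bound (F := F) Orth.zero_nondeg (fun w _ => Subsingleton.elim w 0) d
    let e := (Orth.plusPad (F := F) d).trans g.symm
    refine ⟨U.map e.toLinearMap, ?_, by rw [← LinearEquiv.finrank_eq (Submodule.equivMapOfInjective _ e.injective U), hU']⟩
    rintro _ ⟨u, hu, rfl⟩
    show R (g.symm (Orth.plusPad (F := F) d u)) = 0
    rw [hg, LinearEquiv.apply_symm_apply, Orth.plusPad_spec, hU u hu]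
  · rintro ⟨U, hU, hU'⟩
    refine (LBQuad.classify_even hR (by rw [finrank_fintype_fun_eq_card, hι])).resolve_right ?_
    rintro ⟨ζ, hζ, g, hg⟩
    have hb := (LBQuad.singular_bound (Orth.qBin_nondeg (LBQuad.bin_aniso hζ))
      (fun w hw => LBQuad.qBin_eq_zero (LBQuad.bin_aniso hζ) hw) (d - 1)).2 (U.map g.toLinearMap) (by
        rintro _ ⟨u, hu, rfl⟩
        exact (hg u).symm.trans (hU u hu))
    rw [← LinearEquiv.finrank_eq (Submodule.equivMapOfInjective _ g.injective U), hU'] at hb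
    omega

theorem nondeg_sympForm {R : QuadraticForm F (Fin d ⊕ Fin d → F)} (hp : ∀ u v, polar R u v = Cfsg.sympForm d F u v) :
    (polarBilin R).Nondegenerate := by
  refine Orth.nondeg_of fun x hx => ?_
  have h1 : x ᵥ* Matrix.J (Fin d) F = 0 := funext fun a => by
    have := hx (Pi.single a 1)
    rw [hp, Cfsg.sympForm, Matrix.dotProduct_mulVec, dotProduct_single, mul_one] at this
    exact this
  exact Matrix.vecMul_injective_iff_isUnit.2 ((isUnit_iff_isUnit_det _).2 (Matrix.isUnit_det_J (Fin d) F))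
    (h1.trans (Matrix.zero_vecMul _).symm)

theorem mem_spGL {g : GL (Fin d ⊕ Fin d) F} :
    g ∈ Cfsg.spGL d F ↔ ∀ u v, Cfsg.sympForm d F (g.1 *ᵥ u) (g.1 *ᵥ v) = Cfsg.sympForm d F u v := Iff.rfl

/-- An element has a conjugate preserving `Q` as soon as it preserves a form of the same type. -/
theorem conj_mem {Q R : QuadraticForm F (Fin d ⊕ Fin d → F)} (hQ : ∀ u v, polar Q u v = Cfsg.sympForm d F u v)
    (hR : ∀ u v, polar R u v = Cfsg.sympForm d F u v) (ht : IsPlus d Q ↔ IsPlus d R) {x : GL (Fin d ⊕ Fin d) F}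
    (hx : ∀ v, R (x.1 *ᵥ v) = R v) : ∃ g ∈ Cfsg.spGL d F, ∀ v, Q ((g⁻¹ * x * g).1 *ᵥ v) = Q v := by
  have hV : finrank F (Fin d ⊕ Fin d → F) = 2 * d := by simp [two_mul]
  obtain ⟨L, hL⟩ := exists_iso (nondeg_sympForm hQ) (nondeg_sympForm hR) hV hV ht
  obtain ⟨A, hA⟩ : ∃ A, A = LinearMap.toMatrix' L.toLinearMap := ⟨_, rfl⟩
  have hAL : ∀ v, A *ᵥ v = L v := fun v => by rw [hA, LinearMap.toMatrix'_mulVec]; rfl
  have hd : A.det ≠ 0 := by
    rw [hA, LinearMap.det_toMatrix']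
    exact (LinearEquiv.isUnit_det' L).ne_zero
  obtain ⟨g, hg⟩ : ∃ g, g = Matrix.GeneralLinearGroup.mkOfDetNeZero A hd := ⟨_, rfl⟩
  have hgv : ∀ v, g.1 *ᵥ v = L v := fun v => by rw [hg]; exact hAL v
  refine ⟨g, fun u v => ?_, fun v => ?_⟩
  · show Cfsg.sympForm d F (g.1 *ᵥ u) (g.1 *ᵥ v) = _
    rw [hgv, hgv, ← hR, ← hQ]
    simp only [polar, ← map_add, hL]
  · rw [hL, ← hgv, mulVec_mulVec, ← Units.val_mul, mul_assoc g⁻¹, mul_inv_cancel_left, Units.val_mul, ← mulVec_mulVec, hx, hgv,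
      ← hL]

/-- Conversely a conjugate preserving `Q` up to a scalar gives a preserved form of the same type. -/
theorem form_of_conj (hd : 1 ≤ d) {Q : QuadraticForm F (Fin d ⊕ Fin d → F)} (hQ : ∀ u v, polar Q u v = Cfsg.sympForm d F u v)
    {x g : GL (Fin d ⊕ Fin d) F} (hx : x ∈ Cfsg.spGL d F) (hg : g ∈ Cfsg.spGL d F)
    (h : g⁻¹ * x * g ∈ Cfsg.Geo.quadSimilarityGroup (⇑Q)) :
    ∃ R : QuadraticForm F (Fin d ⊕ Fin d → F), (∀ u v, polar R u v = Cfsg.sympForm d F u v) ∧ (IsPlus d Q ↔ IsPlus d R) ∧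
      ∀ v, R (x.1 *ᵥ v) = R v := by
  obtain ⟨y, hy⟩ : ∃ y, y = g⁻¹ * x * g := ⟨_, rfl⟩
  rw [← hy] at h
  obtain ⟨c, hc⟩ := h
  have hyS : y ∈ Cfsg.spGL d F := hy ▸ mul_mem (mul_mem (inv_mem hg) hx) hg
  have hc1 : (c : F) = 1 := by
    obtain ⟨a⟩ : Nonempty (Fin d) := ⟨⟨0, by omega⟩⟩
    obtain ⟨u, hu⟩ : ∃ u : Fin d ⊕ Fin d → F, u = Pi.single (Sum.inl a) 1 := ⟨_, rfl⟩
    obtain ⟨v, hv⟩ : ∃ v, polar Q u v ≠ 0 := by
      by_contra hcon
      simp only [not_exists, not_not] at hcon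
      have h0 := Orth.eq_zero_of_b (nondeg_sympForm hQ) hcon
      rw [hu] at h0
      simpa using congrFun h0 (Sum.inl a)
    have e : polar Q (y.1 *ᵥ u) (y.1 *ᵥ v) = (c : F) * polar Q u v := by
      simp only [polar, ← mulVec_add, hc]; ring
    rw [hQ, (mem_spGL.1 hyS) u v, ← hQ] at e
    exact (mul_right_cancel₀ hv (by rw [one_mul]; exact e)).symm
  let L : (Fin d ⊕ Fin d → F) →ₗ[F] (Fin d ⊕ Fin d → F) := toLin' (g⁻¹).1
  let R : QuadraticForm F (Fin d ⊕ Fin d → F) := Q.comp L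
  have hRv : ∀ v, R v = Q ((g⁻¹).1 *ᵥ v) := fun v => rfl
  refine ⟨R, fun u v => ?_, ?_, fun v => ?_⟩
  · have e := (inv_mem hg : g⁻¹ ∈ Cfsg.spGL d F) u v
    change Cfsg.sympForm d F _ _ = _ at e
    rw [← hQ] at e
    rw [← e]
    simp only [polar, hRv, mulVec_add]
    rfl
  · let E : (Fin d ⊕ Fin d → F) ≃ₗ[F] (Fin d ⊕ Fin d → F) := LinearEquiv.ofLinear L (toLin' g.1)
      (by rw [← toLin'_mul, ← Units.val_mul, inv_mul_cancel, Units.val_one, toLin'_one])
      (by rw [← toLin'_mul, ← Units.val_mul, mul_inv_cancel, Units.val_one, toLin'_one])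
    refine ⟨fun ⟨G, hG⟩ => ⟨E.trans G, fun v => hG _⟩, fun ⟨G, hG⟩ => ⟨E.symm.trans G, fun v => ?_⟩⟩
    rw [LinearEquiv.trans_apply, ← hG]
    show Q v = Q (E (E.symm v))
    rw [LinearEquiv.apply_symm_apply]
  · rw [hRv, hRv, mulVec_mulVec, ← Units.val_mul, show g⁻¹ * x = y * g⁻¹ by rw [hy, mul_inv_cancel_right], Units.val_mul,
      ← mulVec_mulVec, hc, hc1, one_mul]

theorem fixed_dim {x : GL (Fin d ⊕ Fin d) F} (hx : x ^ 2 = 1) :
    LinearMap.range (toLin' (x.1 - 1)) ≤ LinearMap.ker (toLin' (x.1 - 1)) ∧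
    d ≤ finrank F (LinearMap.ker (toLin' (x.1 - 1))) := by
  have hN : (toLin' (x.1 - 1)) ∘ₗ (toLin' (x.1 - 1)) = 0 := by
    rw [← toLin'_mul, show (x.1 - 1) * (x.1 - 1) = 0 by
      have e : x.1 * x.1 = 1 := by rw [← Units.val_mul, ← pow_two, hx, Units.val_one]
      have h2 : (2 : Matrix (Fin d ⊕ Fin d) (Fin d ⊕ Fin d) F) = 0 := by
        rw [← map_ofNat (Matrix.scalar (Fin d ⊕ Fin d) (α := F)) 2, two_zero, map_zero]
      calc (x.1 - 1) * (x.1 - 1) = x.1 * x.1 + 1 - 2 * x.1 := by noncomm_ring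
        _ = 2 - 2 * x.1 := by rw [e]; norm_num
        _ = 0 := by rw [h2, zero_mul, sub_zero], map_zero]
  have hle := LinearMap.range_le_ker_iff.2 hN
  refine ⟨hle, ?_⟩
  have h1 := LinearMap.finrank_range_add_finrank_ker (toLin' (x.1 - 1))
  rw [finrank_fintype_fun_eq_card, show Fintype.card (Fin d ⊕ Fin d) = 2 * d by simp [two_mul]] at h1
  have h2 := Submodule.finrank_mono hle
  omega

theorem mem_ker_fix {x : GL (Fin d ⊕ Fin d) F} {a : Fin d ⊕ Fin d → F} :
    a ∈ LinearMap.ker (toLin' (x.1 - 1)) ↔ x.1 *ᵥ a = a := by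
  rw [LinearMap.mem_ker, toLin'_apply, sub_mulVec, one_mulVec, sub_eq_zero]

/-- An involution preserving a form preserves one of the other type, unless its fixed space is totally singular. -/
theorem involution_switch {R : QuadraticForm F (Fin d ⊕ Fin d → F)} (hR : ∀ u v, polar R u v = Cfsg.sympForm d F u v)
    {x : GL (Fin d ⊕ Fin d) F} (hxS : x ∈ Cfsg.spGL d F) (hxR : ∀ v, R (x.1 *ᵥ v) = R v)
    {a : Fin d ⊕ Fin d → F} (ha : x.1 *ᵥ a = a) (hRa : R a ≠ 0) :
    ∃ R' : QuadraticForm F (Fin d ⊕ Fin d → F), (∀ u v, polar R' u v = Cfsg.sympForm d F u v) ∧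
      (∀ v, R' (x.1 *ᵥ v) = R' v) ∧ (IsPlus d R' ↔ ¬ IsPlus d R) := by
  obtain ⟨z, hz⟩ := exists_nonsplit (F := F)
  obtain ⟨c, hc⟩ := sq_surj (z / R a)
  have hca : ∀ t : F, t ^ 2 + t + R (c • a) ≠ 0 := fun t => by
    rw [QuadraticMap.map_smul, smul_eq_mul, ← pow_two, hc, div_mul_cancel₀ _ hRa]; exact hz t
  obtain ⟨R', hR'v, hR'p, hR't⟩ := switch (ι := Fin d ⊕ Fin d) (d := d) (by simp [two_mul]) (nondeg_sympForm hR) hca
  refine ⟨R', fun u v => (hR'p u v).trans (hR u v), fun v => ?_, hR't⟩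
  have e : polar R (c • a) (x.1 *ᵥ v) = polar R (c • a) v := by
    conv_lhs => rw [← ha, ← mulVec_smul, hR, (mem_spGL.1 hxS) (c • a) v, ← hR]
  rw [hR'v, hR'v, hxR, e]

theorem involution_plus {x : GL (Fin d ⊕ Fin d) F} (hd : 1 ≤ d) (hxS : x ∈ Cfsg.spGL d F) (hx : x ^ 2 = 1) :
    ∃ R : QuadraticForm F (Fin d ⊕ Fin d → F), (∀ u v, polar R u v = Cfsg.sympForm d F u v) ∧
      (∀ v, R (x.1 *ᵥ v) = R v) ∧ IsPlus d R := by
  obtain ⟨R, hR, hxR⟩ := LBSpPres.exists_form (⟨x.1, (ClassicalSp.mem_iff_preserves x.1).2 hxS⟩ : Matrix.symplecticGroup (Fin d) F)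
  by_cases hp : IsPlus d R
  · exact ⟨R, hR, hxR, hp⟩
  obtain ⟨-, hf⟩ := fixed_dim hx
  obtain ⟨a, ha, hRa⟩ : ∃ a, x.1 *ᵥ a = a ∧ R a ≠ 0 := by
    by_contra hcon
    simp only [not_exists, not_and, not_not] at hcon
    obtain ⟨f, hfl⟩ := exists_linearIndependent_of_le_finrank hf
    refine hp ((isPlus_iff hd (by simp [two_mul]) (nondeg_sympForm hR)).2
      ⟨(Submodule.span F (Set.range f)).map (Submodule.subtype _), ?_, ?_⟩)
    · rintro _ ⟨u, -, rfl⟩
      exact hcon _ (mem_ker_fix.1 u.2)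
    · rw [← LinearEquiv.finrank_eq (Submodule.equivMapOfInjective _ (Submodule.injective_subtype _) _),
        finrank_span_eq_card hfl, Fintype.card_fin]
  obtain ⟨R', hR', hxR', ht⟩ := involution_switch hR hxS hxR ha hRa
  exact ⟨R', hR', hxR', ht.2 hp⟩

theorem involution_minus {x : GL (Fin d ⊕ Fin d) F} (hd : 1 ≤ d) (hod : Odd d) (hxS : x ∈ Cfsg.spGL d F) (hx : x ^ 2 = 1) :
    ∃ R : QuadraticForm F (Fin d ⊕ Fin d → F), (∀ u v, polar R u v = Cfsg.sympForm d F u v) ∧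
      (∀ v, R (x.1 *ᵥ v) = R v) ∧ ¬ IsPlus d R := by
  obtain ⟨R, hR, hxR, hp⟩ := involution_plus hd hxS hx
  by_cases hex : ∃ a, x.1 *ᵥ a = a ∧ R a ≠ 0
  · obtain ⟨a, ha, hRa⟩ := hex
    obtain ⟨R', hR', hxR', ht⟩ := involution_switch hR hxS hxR ha hRa
    exact ⟨R', hR', hxR', fun h => (ht.1 h) hp⟩
  simp only [not_exists, not_and, not_not] at hex
  exfalso
  obtain ⟨hle, hf⟩ := fixed_dim hx
  obtain ⟨N, hN⟩ : ∃ N, N = toLin' (x.1 - 1) := ⟨_, rfl⟩
  rw [← hN] at hle hf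
  have hsing : ∀ u ∈ LinearMap.ker N, R u = 0 := fun u hu => hex u (mem_ker_fix.1 (hN ▸ hu))
  obtain ⟨g, hg⟩ := hp
  have hb : finrank F (LinearMap.ker N) ≤ d := by
    obtain ⟨-, hb⟩ := LBQuad.singular_bound (F := F) Orth.zero_nondeg (fun w _ => Subsingleton.elim w 0) d
    let e := g.trans (Orth.plusPad (F := F) d).symm
    have := hb ((LinearMap.ker N).map e.toLinearMap) (by
      rintro _ ⟨u, hu, rfl⟩
      show Orth.qPad F d 0 ((Orth.plusPad (F := F) d).symm (g u)) = 0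
      rw [← Orth.plusPad_spec, LinearEquiv.apply_symm_apply, ← hg, hsing u hu])
    rwa [← LinearEquiv.finrank_eq (Submodule.equivMapOfInjective _ e.injective _)] at this
  have h1 := LinearMap.finrank_range_add_finrank_ker N
  rw [finrank_fintype_fun_eq_card, show Fintype.card (Fin d ⊕ Fin d) = 2 * d by simp [two_mul]] at h1
  let C : (Fin d ⊕ Fin d → F) →ₗ[F] (Fin d ⊕ Fin d → F) →ₗ[F] F := (polarBilin R).comp N
  have hC : ∀ v, C v v = 0 := fun v => by
    show polar R (N v) v = 0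
    have e : x.1 *ᵥ v = N v + v := by rw [hN, toLin'_apply, sub_mulVec, one_mulVec, sub_add_cancel]
    have e2 := QuadraticMap.map_add R (N v) v
    rw [← e, hxR, hsing (N v) (hle ⟨v, rfl⟩)] at e2
    linear_combination -e2
  have hinj : Function.Injective (polarBilin R) := by
    rw [← LinearMap.ker_eq_bot, LinearMap.ker_eq_bot']
    exact fun u hu => Orth.eq_zero_of_b (nondeg_sympForm hR) fun y => LinearMap.congr_fun hu y
  obtain ⟨k, hk⟩ := Transvec.Orth.even_finrank_range_alt C hC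
  rw [LinearMap.range_comp, ← LinearEquiv.finrank_eq (Submodule.equivMapOfInjective _ hinj (LinearMap.range N))] at hk
  obtain ⟨l, hl⟩ := hod
  omega

/-- For even `d` some involution preserves only hyperbolic forms. -/
theorem exists_witness {c : ℕ} (hc : 1 ≤ c) (hdc : d = c + c) :
    ∃ x ∈ Cfsg.spGL d F, x ^ 2 = 1 ∧ x ≠ 1 ∧
      ∀ R : QuadraticForm F (Fin d ⊕ Fin d → F), (∀ u v, polar R u v = Cfsg.sympForm d F u v) →
        (∀ v, R (x.1 *ᵥ v) = R v) → IsPlus d R := by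
  obtain ⟨e⟩ : Nonempty (Fin c ⊕ Fin c ≃ Fin d) := ⟨finSumFinEquiv.trans (finCongr hdc.symm)⟩
  obtain ⟨S, hS⟩ : ∃ S, S = Matrix.reindex e e (Matrix.J (Fin c) F) := ⟨_, rfl⟩
  have h2 := two_zero (F := F)
  have hneg : ∀ M : Matrix (Fin d) (Fin d) F, -M = M := fun M => by ext i j; exact CharTwo.neg_eq _
  have hSt : Sᵀ = S := by
    rw [hS, Matrix.transpose_reindex, Matrix.J_transpose]
    ext i j; exact CharTwo.neg_eq _
  obtain ⟨A, hA⟩ : ∃ A : Matrix (Fin d ⊕ Fin d) (Fin d ⊕ Fin d) F, A = fromBlocks 1 S 0 1 := ⟨_, rfl⟩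
  have hA2 : A * A = 1 := by
    rw [hA, fromBlocks_multiply, ← fromBlocks_one]
    congr 1 <;> simp
    ext i j; simp [CharTwo.add_self_eq_zero]
  obtain ⟨x, hx⟩ : ∃ x : GL (Fin d ⊕ Fin d) F, x.1 = A := ⟨⟨A, A, hA2, hA2⟩, rfl⟩
  have hxS : x ∈ Cfsg.spGL d F := by
    show ∀ u v, Cfsg.sympForm d F (x.1 *ᵥ u) (x.1 *ᵥ v) = Cfsg.sympForm d F u v
    refine (ClassicalSp.mem_iff_preserves x.1).1 ?_
    rw [hx, SymplecticGroup.mem_iff', hA, Matrix.J, fromBlocks_transpose, fromBlocks_multiply, fromBlocks_multiply, hSt]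
    congr 1 <;> simp
  have hS0 : S ≠ 0 := fun e0 => by
    have := congrArg (fun M : Matrix (Fin d) (Fin d) F => M (e (.inr ⟨0, hc⟩)) (e (.inl ⟨0, hc⟩))) e0
    simp [hS, Matrix.J] at this
  refine ⟨x, hxS, Units.ext (by rw [Units.val_pow_eq_pow_val, hx, pow_two, hA2, Units.val_one]), fun e1 => hS0 ?_, ?_⟩
  · rw [e1, Units.val_one, hA, ← fromBlocks_one] at hx
    exact (fromBlocks_inj.1 hx).2.1.symm
  intro R hR hxR
  refine (isPlus_iff (by omega) (by simp [two_mul]) (nondeg_sympForm hR)).2 ?_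
  let ι₀ : (Fin d → F) →ₗ[F] (Fin d ⊕ Fin d → F) :=
    { toFun := fun z => Sum.elim z 0
      map_add' := fun a b => by ext (j | j) <;> simp
      map_smul' := fun a b => by ext (j | j) <;> simp }
  have hinj : Function.Injective ι₀ := fun a b h => funext fun j => congrFun h (.inl j)
  refine ⟨LinearMap.range ι₀, ?_, by rw [LinearMap.finrank_range_of_inj hinj]; simp⟩
  rintro _ ⟨z, rfl⟩
  have hu : IsUnit S := by
    rw [hS, ← Matrix.coe_reindexAlgEquiv F F]
    exact ((isUnit_iff_isUnit_det _).2 (Matrix.isUnit_det_J (Fin c) F)).map _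
  obtain ⟨y, hy⟩ := mulVec_surjective_iff_isUnit.2 hu z
  obtain ⟨v, hv⟩ : ∃ v : Fin d ⊕ Fin d → F, v = Sum.elim (0 : Fin d → F) y := ⟨_, rfl⟩
  have hxv : x.1 *ᵥ v = ι₀ z + v := by
    rw [hx, hA, hv, fromBlocks_mulVec, ← hy]
    funext j
    rcases j with j | j <;> simp [ι₀]
  have hpolar : polar R (ι₀ z) v = 0 := by
    rw [hR, Cfsg.sympForm, Matrix.J, fromBlocks_mulVec, hv]
    simp only [ι₀, LinearMap.coe_mk, AddHom.coe_mk, sumElim_dotProduct_sumElim, Sum.elim_comp_inl, Sum.elim_comp_inr,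
      mulVec_zero, zero_mulVec, neg_mulVec, one_mulVec, zero_add, add_zero, zero_dotProduct, dotProduct_neg, neg_eq_zero]
    rw [← hy, hS]
    obtain ⟨w, rfl⟩ : ∃ w, y = w ∘ e.symm := ⟨y ∘ e, funext fun a => by simp⟩
    rw [Matrix.reindex_apply, Matrix.submatrix_mulVec_equiv, Equiv.symm_symm, Function.comp_assoc, Equiv.symm_comp_self,
      Function.comp_id, comp_equiv_dotProduct_comp_equiv, Matrix.J, fromBlocks_mulVec, dotProduct_comm]
    simp [dotProduct, Fintype.sum_sum_type, neg_mulVec]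
    rw [neg_add_eq_zero]
    exact Finset.sum_congr rfl fun i _ => mul_comm _ _
  have e2 := QuadraticMap.map_add R (ι₀ z) v
  rw [← hxv, hxR, hpolar] at e2
  linear_combination -e2

end Cfsg.Agent.LBSpOrth
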