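import Mathlib

/-!
The heart of the permutation module of a symmetric group of even degree over the field of two elements.
-/

set_option autoImplicit false

namespace Cfsg.Agent.LinearBlock.Heart

open Module

theorem cases_zmod : ∀ c : ZMod 2, c = 0 ∨ c = 1 := by decide

theorem two_mul_zero : ∀ c : ZMod 2, 2 * c = 0 := by decide

variable (k : ℕ)

/-- Even vectors of odd length. -/
def E : Submodule (ZMod 2) (Fin (2 * k + 1) → ZMod 2) where
  carrier := {x | ∑ i, x i = 0}
  zero_mem' := by simp
  add_mem' := fun {x y} (hx : _ = _) (hy : _ = _) => by simp [Finset.sum_add_distrib, hx, hy]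
  smul_mem' := fun c x (hx : _ = _) => by simp [← Finset.mul_sum, hx]

theorem mem_E {x : Fin (2 * k + 1) → ZMod 2} : x ∈ E k ↔ ∑ i, x i = 0 := Iff.rfl

theorem finrank_E : finrank (ZMod 2) (E k) = 2 * k := by
  let f : (Fin (2 * k + 1) → ZMod 2) →ₗ[ZMod 2] ZMod 2 := ∑ i, LinearMap.proj i
  have hf : LinearMap.ker f = E k := by ext x; simp [f, mem_E]
  have hs : LinearMap.range f = ⊤ := LinearMap.range_eq_top.2 fun c => ⟨Pi.single 0 c, by simp [f]⟩
  have h := LinearMap.finrank_range_add_finrank_ker f
  rw [hf, hs, finrank_top, finrank_self, finrank_fin_fun] at h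
  omega

/-- Extension by a zero coordinate. -/
def ext0 (x : Fin (2 * k + 1) → ZMod 2) : Fin (2 * k + 2) → ZMod 2 := Fin.snoc x 0

/-- Reduction modulo the all-one vector. -/
def res (y : Fin (2 * k + 2) → ZMod 2) : Fin (2 * k + 1) → ZMod 2 := fun i => y i.castSucc + y (Fin.last _)

theorem res_mem {y : Fin (2 * k + 2) → ZMod 2} (h : ∑ i, y i = 0) : res k y ∈ E k := by
  rw [Fin.sum_univ_castSucc] at h
  simp only [mem_E, res, Finset.sum_add_distrib, Finset.sum_const, Finset.card_univ, Fintype.card_fin, nsmul_eq_mul]
  push_cast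
  linear_combination h + (two_mul_zero ((k : ZMod 2) * y (Fin.last _)))

theorem sum_ext0 (x : E k) : ∑ i, ext0 k x.1 i = 0 := by
  rw [Fin.sum_univ_castSucc]
  simpa [ext0] using (mem_E k).1 x.2

theorem sum_perm (x : E k) (g : Equiv.Perm (Fin (2 * k + 2))) : ∑ i, (ext0 k x.1 ∘ g.symm) i = 0 := by
  simp only [Function.comp_apply]
  rw [Equiv.sum_comp g.symm (ext0 k x.1)]
  exact sum_ext0 k x

/-- The action of a permutation. -/
def act (g : Equiv.Perm (Fin (2 * k + 2))) : E k →ₗ[ZMod 2] E k where
  toFun x := ⟨res k (ext0 k x.1 ∘ g.symm), res_mem k (sum_perm k x g)⟩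
  map_add' x y := Subtype.ext (funext fun i => by
    simp only [Submodule.coe_add, res, Function.comp_apply, Pi.add_apply]
    have : ∀ j, ext0 k (x.1 + y.1) j = ext0 k x.1 j + ext0 k y.1 j := fun j => by
      refine Fin.lastCases ?_ (fun l => ?_) j <;> simp [ext0]
    rw [this, this]; ring)
  map_smul' c x := Subtype.ext (funext fun i => by
    simp only [Submodule.coe_smul, res, Function.comp_apply, Pi.smul_apply, RingHom.id_apply, smul_eq_mul]
    have : ∀ j, ext0 k (c • x.1) j = c * ext0 k x.1 j := fun j => by
      refine Fin.lastCases ?_ (fun l => ?_) j <;> simp [ext0]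
    rw [this, this]; ring)

theorem act_apply (g : Equiv.Perm (Fin (2 * k + 2))) (x : E k) :
    (act k g x).1 = res k (ext0 k x.1 ∘ g.symm) := rfl

/-- The action as a homomorphism. -/
def rho : Equiv.Perm (Fin (2 * k + 2)) →* Module.End (ZMod 2) (E k) where
  toFun := act k
  map_one' := LinearMap.ext fun x => Subtype.ext (funext fun i => by
    simp [act_apply, res, ext0, show (1 : Equiv.Perm (Fin (2 * k + 2))).symm = 1 from rfl])
  map_mul' g h := LinearMap.ext fun x => Subtype.ext (by
    have key : ∀ y j, ext0 k (res k y) j = y j + y (Fin.last _) := fun y j => by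
      refine Fin.lastCases ?_ (fun l => ?_) j
      · simp only [ext0, Fin.snoc_last]; generalize y (Fin.last _) = a; revert a; decide
      · simp [ext0, res]
    funext i
    simp only [Module.End.mul_apply, act_apply]
    simp only [res, Function.comp_apply, key]
    show ext0 k x.1 (h.symm (g.symm i.castSucc)) + ext0 k x.1 (h.symm (g.symm (Fin.last _))) = _
    linear_combination -(two_mul_zero (ext0 k x.1 (h.symm (Fin.last _)))))

theorem rho_injective (hk : 2 ≤ k) : Function.Injective (rho k) := by
  rw [injective_iff_map_eq_one]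
  intro g hg
  have hfix : ∀ (x : E k) (j), ext0 k x.1 (g.symm j) = ext0 k x.1 j + ext0 k x.1 (g.symm (Fin.last _)) := by
    intro x
    have h : (act k g x).1 = x.1 := congrArg Subtype.val (LinearMap.congr_fun hg x)
    intro j
    refine Fin.lastCases ?_ (fun l => ?_) j
    · simp [ext0]
    · have h' := congrFun h l
      rw [act_apply] at h'
      simp only [res, Function.comp_apply] at h'
      simp only [ext0, Fin.snoc_castSucc] at h' ⊢
      linear_combination h' - (two_mul_zero ((Fin.snoc x.1 0 : Fin (2 * k + 2) → ZMod 2) (g.symm (Fin.last _))))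
  have key : ∀ a b : Fin (2 * k + 1), a ≠ b → g a.castSucc = a.castSucc ∨ g a.castSucc = b.castSucc := by
    intro a b hab
    have hy : (Pi.single a 1 + Pi.single b 1 : Fin (2 * k + 1) → ZMod 2) ∈ E k := by
      simp [mem_E, Finset.sum_add_distrib, show (1 : ZMod 2) + 1 = 0 by decide]
    let x : E k := ⟨_, hy⟩
    have hsupp : ∀ j, ext0 k x.1 j = 1 ↔ (j = a.castSucc ∨ j = b.castSucc) := fun j => by
      refine Fin.lastCases ?_ (fun l => ?_) j
      · simp [ext0, (Fin.castSucc_lt_last _).ne']
      · simp only [ext0, x, Fin.snoc_castSucc, Pi.add_apply, Fin.castSucc_inj]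
        rcases eq_or_ne l a with rfl | hla
        · simp [hab]
        · rcases eq_or_ne l b with rfl | hlb <;> simp_all
    rcases cases_zmod (ext0 k x.1 (g.symm (Fin.last _))) with h0 | h1
    · have h := hfix x (g a.castSucc)
      rw [h0, add_zero, Equiv.symm_apply_apply, (hsupp _).2 (Or.inl rfl)] at h
      exact (hsupp _).1 h.symm
    · exfalso
      -- the complement of a pair is too large
      have hall : ∀ j, j ≠ g a.castSucc → j ≠ g b.castSucc → ext0 k x.1 j = 1 := by
        intro j ha hb
        have h := hfix x j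
        rw [h1] at h
        have h0 : ext0 k x.1 (g.symm j) = 0 := (cases_zmod _).resolve_right fun e => by
          rcases (hsupp _).1 e with e | e
          · exact ha (by rw [← e, Equiv.apply_symm_apply])
          · exact hb (by rw [← e, Equiv.apply_symm_apply])
        rw [h0] at h
        revert h; generalize ext0 k x.1 j = c; revert c; decide
      have hsub : (Finset.univ : Finset (Fin (2 * k + 2))) ⊆ {g a.castSucc, g b.castSucc, a.castSucc, b.castSucc} := by
        intro j _
        by_cases ha : j = g a.castSucc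
        · simp [ha]
        by_cases hb : j = g b.castSucc
        · simp [hb]
        rcases (hsupp j).1 (hall j ha hb) with e | e <;> simp [e]
      have := (Finset.card_le_card hsub).trans Finset.card_le_four
      rw [Finset.card_univ, Fintype.card_fin] at this
      omega
  refine Equiv.ext fun j => ?_
  have hcs : ∀ a : Fin (2 * k + 1), g a.castSucc = a.castSucc := by
    intro a
    by_contra hne
    obtain ⟨b, hb, c, hc, hbc⟩ : ∃ b, b ∈ ({a}ᶜ : Finset _) ∧ ∃ c, c ∈ ({a}ᶜ : Finset (Fin (2 * k + 1))) ∧ b ≠ c := by
      obtain ⟨b, hb, c, hc, hbc⟩ := Finset.one_lt_card.1 (show 1 < ({a}ᶜ : Finset (Fin (2 * k + 1))).card by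
        rw [Finset.card_compl, Finset.card_singleton, Fintype.card_fin]; omega)
      exact ⟨b, hb, c, hc, hbc⟩
    simp only [Finset.mem_compl, Finset.mem_singleton] at hb hc
    have h1 := (key a b (Ne.symm hb)).resolve_left hne
    have h2 := (key a c (Ne.symm hc)).resolve_left hne
    exact hbc (Fin.castSucc_injective _ (h1.symm.trans h2))
  refine Fin.lastCases ?_ hcs j
  by_contra hne
  obtain ⟨l, hl⟩ := Fin.exists_castSucc_eq.2 hne
  exact (Fin.castSucc_lt_last l).ne (g.injective ((hcs l).trans hl))


/-- The scalar product on the heart. -/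
def dot : LinearMap.BilinForm (ZMod 2) (E k) :=
  LinearMap.mk₂ (ZMod 2) (fun x y => ∑ i, x.1 i * y.1 i)
    (fun x x' y => by simp [add_mul, Finset.sum_add_distrib])
    (fun c x y => by simp [Finset.mul_sum, mul_assoc])
    (fun x y y' => by simp [mul_add, Finset.sum_add_distrib])
    (fun c x y => by simp [Finset.mul_sum, mul_left_comm])

theorem dot_apply (x y : E k) : dot k x y = ∑ i, x.1 i * y.1 i := rfl

theorem dot_isAlt : (dot k).IsAlt := fun x => by
  rw [dot_apply, Finset.sum_congr rfl (fun i _ => show x.1 i * x.1 i = x.1 i by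
    generalize x.1 i = c; revert c; decide)]
  exact x.2

theorem dot_nondeg : (dot k).Nondegenerate := by
  have key : ∀ x : E k, (∀ y, dot k x y = 0) → x = 0 := by
    intro x hx
    have hconst : ∀ a b, x.1 a = x.1 b := by
      intro a b
      rcases eq_or_ne a b with rfl | hab
      · rfl
      have hy : (Pi.single a 1 + Pi.single b 1 : Fin (2 * k + 1) → ZMod 2) ∈ E k := by
        simp [mem_E, Finset.sum_add_distrib, show (1 : ZMod 2) + 1 = 0 by decide]
      have h := hx ⟨_, hy⟩
      simp [dot_apply, mul_add, Finset.sum_add_distrib, Pi.single_apply] at h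
      revert h
      generalize x.1 a = p; generalize x.1 b = q
      revert p q; decide
    apply Subtype.ext
    funext i
    have h := x.2
    rw [mem_E, Finset.sum_congr rfl (fun j _ => hconst j i), Finset.sum_const, Finset.card_univ, Fintype.card_fin,
      nsmul_eq_mul, show ((2 * k + 1 : ℕ) : ZMod 2) = 1 by push_cast; linear_combination (two_mul_zero (k : ZMod 2)), one_mul] at h
    exact h
  refine ⟨key, fun y hy => key y fun x => ?_⟩
  rw [dot_apply, Finset.sum_congr rfl (fun i _ => mul_comm (y.1 i) (x.1 i))]
  exact hy x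

theorem act_dot (g : Equiv.Perm (Fin (2 * k + 2))) (x y : E k) : dot k (act k g x) (act k g y) = dot k x y := by
  have key : ∀ u v : Fin (2 * k + 2) → ZMod 2, ∑ i, u i = 0 → ∑ i, v i = 0 →
      ∑ i : Fin (2 * k + 1), res k u i * res k v i = ∑ i, u i * v i := by
    intro u v hu hv
    rw [Fin.sum_univ_castSucc] at hu hv
    rw [Fin.sum_univ_castSucc (fun i => u i * v i)]
    simp only [res, add_mul, mul_add, Finset.sum_add_distrib, ← Finset.mul_sum, ← Finset.sum_mul, Finset.sum_const,
      Finset.card_univ, Fintype.card_fin, nsmul_eq_mul]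
    push_cast
    linear_combination (u (Fin.last _)) * hv + (v (Fin.last _)) * hu +
      two_mul_zero (((k : ZMod 2) - 1) * u (Fin.last _) * v (Fin.last _))
  rw [dot_apply, act_apply, act_apply, key _ _ (sum_perm k x g) (sum_perm k y g)]
  simp only [Function.comp_apply]
  rw [Equiv.sum_comp g.symm (fun i => ext0 k x.1 i * ext0 k y.1 i), Fin.sum_univ_castSucc]
  simp [ext0, dot_apply]

end Cfsg.Agent.LinearBlock.Heart
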