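/-
Embeddings of classical groups by restriction or extension of scalars along a quadratic extension of finite fields.
-/
import Cfsg.Agent.Lib.LinearBlock.QuadClass
import Cfsg.Agent.Lib.Classical.AlternatingWitt
import Cfsg.Agent.Lib.Classical.PSL2Subfield
import Cfsg.Prelude.Def_LieClassical
import Mathlib.LinearAlgebra.SymplecticGroup
import Mathlib.Algebra.Polynomial.SpecificDegree
import Mathlib.RingTheory.Trace.Basic

set_option autoImplicit false
set_option linter.style.haveILetI false

namespace Cfsg.Agent.LBRestrict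

open LinearMap (BilinForm)
open Module Cfsg.Agent.Orth

section Target

variable {F : Type*} [Field F] {V : Type*} [AddCommGroup V] [Module F V] [FiniteDimensional F V]
  {G : Type*} [Group G]

/-- Isometries of a non-degenerate alternating form form a symplectic group. -/
theorem exists_hom_sp {N : ℕ} (hV : finrank F V = 2 * N) (B : BilinForm F V) (hA : B.IsAlt)
    (hB : B.Nondegenerate) (ρ : G →* (V →ₗ[F] V)) (hρ : Function.Injective ρ)
    (hinv : ∀ g x y, B (ρ g x) (ρ g y) = B x y) :
    ∃ φ : G →* ↥(Matrix.symplecticGroup (Fin N) F), Function.Injective φ := by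
  classical
  obtain ⟨m, k, b₀, hef, hee, hff, hr⟩ := AltForm.exists_basis hA
  have hk : k = 0 := by
    rcases Nat.eq_zero_or_pos k with h | h
    · exact h
    · exact absurd (hB.1 _ (hr ⟨0, h⟩)) (b₀.ne_zero _)
  subst hk
  have hm : m = N := by
    have h := Module.finrank_eq_card_basis b₀
    rw [hV] at h
    simp at h
    omega
  subst hm
  let b := b₀.reindex (Equiv.sumEmpty (Fin m ⊕ Fin m) (Fin 0))
  have hswap : ∀ x y, B y x = - B x y := fun x y => (LinearMap.IsAlt.neg hA x y).symm
  have hbap : ∀ x, b x = b₀ (Sum.inl x) := fun x => by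
    show (b₀.reindex _) x = _
    rw [Module.Basis.reindex_apply]; rfl
  have hJ : LinearMap.toMatrix₂ b b B = -Matrix.J (Fin m) F := by
    ext x y
    rw [LinearMap.toMatrix₂_apply, hbap, hbap]
    rcases x with i | i <;> rcases y with j | j <;>
      simp only [Matrix.J, Matrix.neg_apply, Matrix.fromBlocks_apply₁₁, Matrix.fromBlocks_apply₁₂,
        Matrix.fromBlocks_apply₂₁, Matrix.fromBlocks_apply₂₂, Matrix.zero_apply, neg_zero, neg_neg, Matrix.one_apply]
    · exact hee i j
    · exact hef i j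
    · rw [hswap, hef j i]; simp only [eq_comm]
    · exact hff i j
  have hmem : ∀ g, LinearMap.toMatrixAlgEquiv b (ρ g) ∈ Matrix.symplecticGroup (Fin m) F := fun g => by
    rw [SymplecticGroup.mem_iff']
    have h1 := LinearMap.toMatrix₂_compl₁₂ b b b b B (ρ g) (ρ g)
    rw [show B.compl₁₂ (ρ g) (ρ g) = B from LinearMap.ext fun x => LinearMap.ext fun y => hinv g x y, hJ] at h1
    simp only [mul_neg, neg_mul, neg_inj] at h1
    exact h1.symm
  let φ : G →* ↥(Matrix.symplecticGroup (Fin m) F) :=
    { toFun := fun g => ⟨LinearMap.toMatrixAlgEquiv b (ρ g), hmem g⟩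
      map_one' := Subtype.ext (by show LinearMap.toMatrixAlgEquiv b (ρ 1) = 1; rw [map_one, map_one])
      map_mul' := fun g h => Subtype.ext (by
        show LinearMap.toMatrixAlgEquiv b (ρ (g * h)) = _; rw [map_mul, map_mul]; rfl) }
  exact ⟨φ, fun g h hgh => hρ ((LinearMap.toMatrixAlgEquiv b).injective (congrArg Subtype.val hgh))⟩

variable [Finite F]

/-- Isometries of a form of plus type. -/
theorem exists_hom_plus {m : ℕ} (hm : 1 ≤ m) (hV : finrank F V = 2 * m) (Q : QuadraticForm F V)
    (hQ : (QuadraticMap.polarBilin Q).Nondegenerate) (W : Submodule F V) (hW : ∀ w ∈ W, Q w = 0)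
    (hWd : finrank F W = m) (ρ : G →* (V →ₗ[F] V)) (hρ : Function.Injective ρ) (hinv : ∀ g x, Q (ρ g x) = Q x) :
    ∃ φ : G →* ↥(Cfsg.isometryGroup F (Cfsg.quadFormPlus m F)), Function.Injective φ := by
  rcases LBQuad.classify_even hQ hV with ⟨e, he⟩ | ⟨ζ, hζ, e, he⟩
  · let f : (V →ₗ[F] V) ≃ₐ[F] Matrix (Fin m ⊕ Fin m) (Fin m ⊕ Fin m) F :=
      (e.conjAlgEquiv F).trans LinearMap.toMatrixAlgEquiv'
    have hap : ∀ g x, (f (ρ g)).mulVec x = e (ρ g (e.symm x)) := fun g x => by
      rw [show f (ρ g) = LinearMap.toMatrix' (e.conj (ρ g)) from rfl, LinearMap.toMatrix'_mulVec]; rfl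
    let φ₀ : G →* GL (Fin m ⊕ Fin m) F := (f.toAlgHom.toMonoidHom.comp ρ).toHomUnits
    refine ⟨φ₀.codRestrict _ fun g => Orth.mem_isometryGroup.2 fun x => ?_, fun g h hgh => hρ ?_⟩
    · show Cfsg.quadFormPlus m F ((f (ρ g)).mulVec x) = _
      rw [hap, ← coe_qPlus, ← he, hinv, he, e.apply_symm_apply]
    · exact f.injective (congrArg (fun z : ↥(Cfsg.isometryGroup F (Cfsg.quadFormPlus m F)) =>
        ((z : GL (Fin m ⊕ Fin m) F) : Matrix (Fin m ⊕ Fin m) (Fin m ⊕ Fin m) F)) hgh)
  · exfalso
    have hab := LBQuad.bin_aniso hζ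
    have hb : finrank F (W.map e.toLinearMap) ≤ m - 1 := by
      refine (LBQuad.singular_bound (qBin_nondeg hab) (fun w hw => LBQuad.qBin_eq_zero hab hw) (m - 1)).2 _ ?_
      rintro _ ⟨u, hu, rfl⟩
      exact (he u).symm.trans (hW u hu)
    rw [← LinearEquiv.finrank_eq (Submodule.equivMapOfInjective _ e.injective W), hWd] at hb
    omega

end Target

section Fields

variable {K F : Type*} [Field K] [Fintype K] [Field F] [Fintype F] {q : ℕ} (hK : Fintype.card K = q ^ 2)
  (hF : Fintype.card F = q)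
include hK hF

theorem exists_incl : ∃ ι : F →+* K, (∀ c, (ι c) ^ q = ι c) ∧ (∀ x : K, x ^ q = x → ∃ c, ι c = x) ∧
    (∀ x y : K, (x + y) ^ q = x ^ q + y ^ q) ∧ (∀ x : K, (x ^ q) ^ q = x) ∧ (∃ t : K, t ^ q ≠ t) := by
  classical
  obtain ⟨ι⟩ := PSL2Field.exists_ringHom (K := F) (F := K) (m := 2)
    (by rw [Nat.card_eq_fintype_card, Nat.card_eq_fintype_card, hF, hK])
  have hι : ∀ c, (ι c) ^ q = ι c := fun c => by rw [← map_pow, ← hF, FiniteField.pow_card]
  have hq : 1 < q := hF ▸ Fintype.one_lt_card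
  have hfix : ∀ x : K, x ^ q = x → ∃ c, ι c = x := by
    intro x hx
    have hne : (Polynomial.X ^ q - Polynomial.X : Polynomial K) ≠ 0 := FiniteField.X_pow_card_sub_X_ne_zero K hq
    have hsub : Finset.univ.image ι ⊆ (Polynomial.X ^ q - Polynomial.X : Polynomial K).roots.toFinset := by
      intro y hy
      obtain ⟨c, -, rfl⟩ := Finset.mem_image.1 hy
      simp [Polynomial.mem_roots hne, hι]
    have hle : (Polynomial.X ^ q - Polynomial.X : Polynomial K).roots.toFinset.card ≤ (Finset.univ.image ι).card := by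
      rw [Finset.card_image_of_injective _ ι.injective, Finset.card_univ, hF]
      exact (Multiset.toFinset_card_le _).trans ((Polynomial.card_roots' _).trans
        (le_of_eq (FiniteField.X_pow_card_sub_X_natDegree_eq K hq)))
    have hx' : x ∈ Finset.univ.image ι := by
      rw [Finset.eq_of_subset_of_card_le hsub hle]
      simp [Polynomial.mem_roots hne, hx]
    obtain ⟨c, -, hc⟩ := Finset.mem_image.1 hx'
    exact ⟨c, hc⟩
  obtain ⟨p, hp⟩ := CharP.exists K
  obtain ⟨s, hpp, hs⟩ := FiniteField.card K p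
  haveI := Fact.mk hpp
  obtain ⟨j, -, hj⟩ : ∃ j ≤ (s : ℕ), q = p ^ j :=
    (Nat.dvd_prime_pow hpp).1 (hs ▸ hK.symm ▸ dvd_pow_self q two_ne_zero)
  refine ⟨ι, hι, hfix, fun x y => by rw [hj, add_pow_char_pow], fun x => ?_, ?_⟩
  · rw [← pow_mul, ← sq, ← hK, FiniteField.pow_card]
  · by_contra! h
    have hs : Function.Surjective ι := fun x => hfix x (h x)
    have := Fintype.card_le_of_surjective _ hs
    rw [hF, hK] at this
    nlinarith

theorem finrank_K (ι : F →+* K) (n : ℕ) :
    letI := ι.toAlgebra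
    finrank F (Fin n → K) = 2 * n := by
  letI := ι.toAlgebra
  have h : finrank F K = 2 := by
    have h1 := Module.natCard_eq_pow_finrank (K := F) (V := K)
    rw [Nat.card_eq_fintype_card, Nat.card_eq_fintype_card, hK, hF] at h1
    exact (Nat.pow_right_injective (hF ▸ Fintype.one_lt_card : 1 < q) h1).symm
  rw [Module.finrank_pi_fintype]
  simp [h, mul_comm]

/-- An anisotropic binary form splits over the quadratic extension. -/
theorem exists_root (ι : F →+* K) (a c : F)
    (hac : ∀ z₁ z₂ : F, z₁ ^ 2 + a * z₁ * z₂ + c * z₂ ^ 2 = 0 → z₁ = 0 ∧ z₂ = 0) :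
    ∃ r : K, r ^ 2 + ι a * r + ι c = 0 := by
  classical
  letI := ι.toAlgebra
  let f : Polynomial F := Polynomial.X ^ 2 + Polynomial.C a * Polynomial.X + Polynomial.C c
  have hdeg : f.natDegree = 2 := by simp only [f]; compute_degree!
  have hirr : Irreducible f := by
    refine Polynomial.irreducible_of_degree_le_three_of_not_isRoot (by rw [hdeg]; decide) fun x hx => ?_
    refine one_ne_zero (hac x 1 ?_).2
    simp only [f, Polynomial.IsRoot, Polynomial.eval_add, Polynomial.eval_mul, Polynomial.eval_pow,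
      Polynomial.eval_X, Polynomial.eval_C] at hx
    linear_combination hx
  haveI : Fact (Irreducible f) := ⟨hirr⟩
  haveI : FiniteDimensional F (AdjoinRoot f) := (AdjoinRoot.powerBasis hirr.ne_zero).finite
  haveI : Finite (AdjoinRoot f) := Module.finite_of_finite F
  have h2 : finrank F (AdjoinRoot f) = 2 := by
    rw [(AdjoinRoot.powerBasis hirr.ne_zero).finrank, AdjoinRoot.powerBasis_dim, hdeg]
  have hK2 : finrank F K = 2 := by
    have h1 := Module.natCard_eq_pow_finrank (K := F) (V := K)
    rw [Nat.card_eq_fintype_card, Nat.card_eq_fintype_card, hK, hF] at h1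
    exact (Nat.pow_right_injective (hF ▸ Fintype.one_lt_card : 1 < q) h1).symm
  obtain ⟨φ⟩ := FiniteField.nonempty_algHom_of_finrank_dvd (F := F) (K := AdjoinRoot f) (L := K)
    (by rw [h2, hK2])
  refine ⟨φ (AdjoinRoot.root f), ?_⟩
  have h := Polynomial.aeval_algHom_apply φ (AdjoinRoot.root f) f
  rw [AdjoinRoot.aeval_eq, AdjoinRoot.mk_self, map_zero] at h
  simp [f, Polynomial.aeval_def] at h
  exact h

end Fields

end Cfsg.Agent.LBRestrict

namespace Cfsg.Agent.LBRestrict

open Module

variable {K F : Type*} [Field K] [Field F] [Algebra F K]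

/-- The action of a group of matrices over `K` on `K^n` as a space over `F`. -/
def rho (F : Type*) {K : Type*} [Field K] [Field F] [Algebra F K] {κ : Type} [Fintype κ] [DecidableEq κ] {G : Type*}
    [Group G] (f : G →* Matrix κ κ K) : G →* ((κ → K) →ₗ[F] (κ → K)) where
  toFun g := (Matrix.toLinAlgEquiv' (f g)).restrictScalars F
  map_one' := by rw [map_one, map_one]; rfl
  map_mul' g h := by rw [map_mul, map_mul]; rfl

theorem rho_apply {κ : Type} [Fintype κ] [DecidableEq κ] {G : Type*} [Group G] (f : G →* Matrix κ κ K) (g : G)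
    (x : κ → K) : rho F f g x = (f g).mulVec x := rfl

theorem rho_injective {κ : Type} [Fintype κ] [DecidableEq κ] {G : Type*} [Group G] {f : G →* Matrix κ κ K}
    (hf : Function.Injective f) : Function.Injective (rho F f) := fun g h hgh =>
  hf (Matrix.toLinAlgEquiv'.injective (LinearMap.ext fun x => congrArg (fun z : (κ → K) →ₗ[F] (κ → K) => z x) hgh))

variable {n q : ℕ}

theorem herm_add_left (x x' y : Fin n → K) :
    Cfsg.hermForm n K q (x + x') y = Cfsg.hermForm n K q x y + Cfsg.hermForm n K q x' y := by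
  simp [Cfsg.hermForm, add_mul, Finset.sum_add_distrib]

theorem herm_smul_left (a : K) (x y : Fin n → K) :
    Cfsg.hermForm n K q (a • x) y = a * Cfsg.hermForm n K q x y := by
  simp [Cfsg.hermForm, Finset.mul_sum, mul_assoc]

theorem herm_smul_right (a : K) (x y : Fin n → K) :
    Cfsg.hermForm n K q x (a • y) = a ^ q * Cfsg.hermForm n K q x y := by
  simp [Cfsg.hermForm, Finset.mul_sum, mul_pow]; exact Finset.sum_congr rfl fun i _ => by ring

theorem herm_add_right (hadd : ∀ x y : K, (x + y) ^ q = x ^ q + y ^ q) (x y y' : Fin n → K) :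
    Cfsg.hermForm n K q x (y + y') = Cfsg.hermForm n K q x y + Cfsg.hermForm n K q x y' := by
  simp [Cfsg.hermForm, hadd, mul_add, Finset.sum_add_distrib]

/-- `x ↦ x ^ q` as an additive map. -/
def powAdd (hadd : ∀ x y : K, (x + y) ^ q = x ^ q + y ^ q) : K →+ K :=
  AddMonoidHom.mk' (fun x => x ^ q) hadd

theorem herm_swap (hadd : ∀ x y : K, (x + y) ^ q = x ^ q + y ^ q) (hinv : ∀ x : K, (x ^ q) ^ q = x)
    (x y : Fin n → K) : Cfsg.hermForm n K q x y ^ q = Cfsg.hermForm n K q y x := by
  show powAdd hadd (∑ i, x i * y i ^ q) = _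
  rw [map_sum]
  exact Finset.sum_congr rfl fun i _ => by show (x i * y i ^ q) ^ q = _; rw [mul_pow, hinv, mul_comm]

theorem herm_nondeg {t : K} (ht : t ^ q ≠ t) (hinv : ∀ x : K, (x ^ q) ^ q = x) (x : Fin n → K) (c : K)
    (hc : c ^ 2 = 1) (h : ∀ y, Cfsg.hermForm n K q x y = c * Cfsg.hermForm n K q y x) : x = 0 := by
  have h0 : ∀ y, Cfsg.hermForm n K q x y = 0 := fun y => by
    have h1 := h (t • y)
    rw [herm_smul_left, herm_smul_right] at h1
    have h2 : Cfsg.hermForm n K q y x = c * Cfsg.hermForm n K q x y := by rw [h y, ← mul_assoc, ← sq, hc, one_mul]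
    rw [h2, ← mul_assoc, ← mul_assoc, mul_assoc c t c, mul_comm t c, ← mul_assoc, ← sq, hc, one_mul] at h1
    exact (mul_eq_mul_right_iff.1 h1).resolve_left ht
  funext i
  classical
  have hq0 : q ≠ 0 := fun h => by subst h; have := hinv 0; simp at this
  have h3 := h0 (Pi.single i 1)
  rw [Cfsg.hermForm, Finset.sum_eq_single i (fun j _ hj => by rw [Pi.single_eq_of_ne hj, zero_pow hq0, mul_zero])
    (fun hi => absurd (Finset.mem_univ i) hi), Pi.single_eq_same, one_pow, mul_one] at h3
  exact h3

theorem gu_sp [Fintype K] [Fintype F] (hK : Fintype.card K = q ^ 2) (hF : Fintype.card F = q) (m : ℕ)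
    (hι : ∀ c : F, (algebraMap F K c) ^ q = algebraMap F K c)
    (hfix : ∀ x : K, x ^ q = x → ∃ c, algebraMap F K c = x) (hadd : ∀ x y : K, (x + y) ^ q = x ^ q + y ^ q)
    (hinv : ∀ x : K, (x ^ q) ^ q = x) {t : K} (ht : t ^ q ≠ t) (hdim : finrank F (Fin m → K) = 2 * m) :
    ∃ φ : ↥(Cfsg.GU m K q) →* ↥(Matrix.symplecticGroup (Fin m) F), Function.Injective φ := by
  classical
  have hδ : t - t ^ q ≠ 0 := fun h => ht (sub_eq_zero.1 h).symm
  have hpn : ∀ z : K, (-z) ^ q = -(z ^ q) := fun z => map_neg (powAdd hadd) z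
  have hps : ∀ z w : K, (z - w) ^ q = z ^ q - w ^ q := fun z w => map_sub (powAdd hadd) z w
  have hs : ∀ x y : Fin m → K, ∃ c, algebraMap F K c =
      (Cfsg.hermForm m K q x y - Cfsg.hermForm m K q y x) / (t - t ^ q) := fun x y => hfix _ (by
    rw [div_pow, hps, hps, hinv, herm_swap hadd hinv, herm_swap hadd hinv, ← neg_sub, ← neg_sub t (t ^ q), neg_div_neg_eq])
  choose b hb using hs
  have hinj := (algebraMap F K).injective
  let B : LinearMap.BilinForm F (Fin m → K) := LinearMap.mk₂ F b
    (fun x x' y => hinj (by rw [map_add, hb, hb, hb, herm_add_left, herm_add_right hadd, ← add_div]; ring))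
    (fun a x y => hinj (by
      rw [smul_eq_mul, map_mul, hb, hb, ← algebraMap_smul K a x, herm_smul_left, herm_smul_right, hι]; ring))
    (fun x y y' => hinj (by rw [map_add, hb, hb, hb, herm_add_left, herm_add_right hadd, ← add_div]; ring))
    (fun a x y => hinj (by
      rw [smul_eq_mul, map_mul, hb, hb, ← algebraMap_smul K a y, herm_smul_left, herm_smul_right, hι]; ring))
  have hA : B.IsAlt := fun x => hinj (by show algebraMap F K (b x x) = _; rw [hb, sub_self, zero_div, map_zero])
  have hB : B.Nondegenerate := by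
    have key : ∀ x, (∀ y, B x y = 0) → x = 0 := fun x hx => herm_nondeg ht hinv x 1 (one_pow 2) fun y => by
      have h1 : algebraMap F K (b x y) = 0 := by rw [show b x y = 0 from hx y, map_zero]
      rw [hb, div_eq_zero_iff, sub_eq_zero] at h1
      rw [one_mul]; exact h1.resolve_right hδ
    exact ⟨fun x hx => key x hx, fun y hy => key y fun x => by
      rw [← LinearMap.IsAlt.neg hA x y, hy x, neg_zero]⟩
  refine exists_hom_sp hdim B hA hB (rho F ((Units.coeHom _).comp (Cfsg.GU m K q).subtype))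
    (rho_injective fun g h hgh => Subtype.ext (Units.ext hgh)) fun g x y => hinj ?_
  show algebraMap F K (b _ _) = algebraMap F K (b x y)
  rw [hb, hb, rho_apply, rho_apply]
  exact congrArg (· / _) (congrArg₂ (· - ·) (g.2 x y) (g.2 y x))

theorem sp_sp [Fintype K] [Fintype F] (hK : Fintype.card K = q ^ 2) (hF : Fintype.card F = q) (a : ℕ)
    (hdim : finrank F (Fin a ⊕ Fin a → K) = 2 * (2 * a)) :
    ∃ φ : ↥(Matrix.symplecticGroup (Fin a) K) →* ↥(Matrix.symplecticGroup (Fin (2 * a)) F), Function.Injective φ := by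
  classical
  haveI : FiniteDimensional F K := Module.Finite.of_finite
  let W : LinearMap.BilinForm K (Fin a ⊕ Fin a → K) := Matrix.toBilin' (Matrix.J (Fin a) K)
  let B : LinearMap.BilinForm F (Fin a ⊕ Fin a → K) := LinearMap.mk₂ F (fun x y => Algebra.trace F K (W x y))
    (fun x x' y => by simp) (fun c x y => by rw [← algebraMap_smul K c x, map_smul, LinearMap.smul_apply, algebraMap_smul, map_smul])
    (fun x y y' => by simp) (fun c x y => by rw [← algebraMap_smul K c y, map_smul, algebraMap_smul, map_smul])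
  have hWs : ∀ x, W x x = 0 := fun x => by
    simp [W, Matrix.toBilin'_apply', Matrix.J, Matrix.fromBlocks_mulVec, dotProduct, Fintype.sum_sum_type,
      Matrix.neg_mulVec, Matrix.one_mulVec, mul_comm]
  have hA : B.IsAlt := fun x => by show Algebra.trace F K (W x x) = 0; rw [hWs, map_zero]
  have hB : B.Nondegenerate := by
    have key : ∀ x, (∀ y, B x y = 0) → x = 0 := fun x hx => by
      have hW0 : ∀ y, W x y = 0 := fun y => (traceForm_nondegenerate F K).1 _ fun s => by
        rw [Algebra.traceForm_apply]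
        have := hx (s • y)
        change Algebra.trace F K (W x (s • y)) = 0 at this
        rwa [map_smul, smul_eq_mul, mul_comm] at this
      have hWn : W.Nondegenerate := Matrix.nondegenerate_toBilin'_iff.2 (Matrix.nondegenerate_of_det_ne_zero (by
        have h := Matrix.J_det_mul_J_det (Fin a) K
        intro h0
        rw [h0, zero_mul] at h
        exact zero_ne_one h))
      exact hWn.1 x hW0
    exact ⟨fun x hx => key x hx, fun y hy => key y fun x => by
      rw [← LinearMap.IsAlt.neg hA x y, hy x, neg_zero]⟩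
  refine exists_hom_sp hdim B hA hB (rho F (Matrix.symplecticGroup (Fin a) K).subtype)
    (rho_injective Subtype.val_injective) fun g x y => ?_
  show Algebra.trace F K (W _ _) = Algebra.trace F K (W x y)
  congr 1
  rw [rho_apply, rho_apply]
  show W _ _ = _
  simp only [W, Matrix.toBilin'_apply']
  have hsym : g.1.transpose * Matrix.J (Fin a) K * g.1 = Matrix.J (Fin a) K := SymplecticGroup.mem_iff'.1 g.2
  conv_rhs => rw [← hsym]
  rw [← Matrix.mulVec_mulVec, ← Matrix.mulVec_mulVec, Matrix.dotProduct_mulVec x g.1.transpose,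
    Matrix.vecMul_transpose]
  rfl

theorem exists_neg_one_norm [Fintype K] [Fintype F] (hK : Fintype.card K = q ^ 2) (hF : Fintype.card F = q)
    (hι : ∀ c : F, (algebraMap F K c) ^ q = algebraMap F K c) : ∃ ω : K, ω ^ (q + 1) = -1 := by
  obtain ⟨g, hg⟩ := IsCyclic.exists_generator (α := Kˣ)
  obtain ⟨k, hk⟩ := mem_powers_iff_mem_zpowers.2 (hg (-1))
  change g ^ k = -1 at hk
  have hq : 1 < q := hF ▸ Fintype.one_lt_card
  have h1 : g ^ (k * (q - 1)) = 1 := by
    rw [pow_mul, hk]
    refine Units.ext ?_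
    have h2 : (-1 : K) ^ (q - 1) * (-1) = (-1 : K) := by
      rw [← pow_succ, show q - 1 + 1 = q by omega]
      simpa using hι (-1)
    rw [Units.val_pow_eq_pow_val, Units.val_neg, Units.val_one]
    linear_combination -h2
  have h3 := orderOf_dvd_of_pow_eq_one h1
  rw [orderOf_eq_card_of_forall_mem_zpowers hg, Nat.card_units, Nat.card_eq_fintype_card, hK,
    show q ^ 2 - 1 = (q + 1) * (q - 1) by rw [← Nat.sq_sub_sq, one_pow]] at h3
  obtain ⟨j, rfl⟩ := Nat.dvd_of_mul_dvd_mul_right (by omega : 0 < q - 1) h3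
  refine ⟨(g : K) ^ j, ?_⟩
  have := congrArg Units.val hk
  rw [Units.val_pow_eq_pow_val, Units.val_neg, Units.val_one] at this
  rw [← pow_mul, mul_comm, this]

theorem gu_plus [Fintype K] [Fintype F] (hK : Fintype.card K = q ^ 2) (hF : Fintype.card F = q) (l : ℕ) (hl : 1 ≤ l)
    (hι : ∀ c : F, (algebraMap F K c) ^ q = algebraMap F K c)
    (hfix : ∀ x : K, x ^ q = x → ∃ c, algebraMap F K c = x) (hadd : ∀ x y : K, (x + y) ^ q = x ^ q + y ^ q)
    (hinv : ∀ x : K, (x ^ q) ^ q = x) {t : K} (ht : t ^ q ≠ t)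
    (hdim : finrank F (Fin (l * 2) → K) = 2 * (l * 2)) (hdl : finrank F (Fin l → K) = l * 2) :
    ∃ φ : ↥(Cfsg.GU (l * 2) K q) →* ↥(Cfsg.isometryGroup F (Cfsg.quadFormPlus (l * 2) F)), Function.Injective φ := by
  classical
  have hs : ∀ x : Fin (l * 2) → K, ∃ c, algebraMap F K c = Cfsg.hermForm (l * 2) K q x x := fun x =>
    hfix _ (herm_swap hadd hinv x x)
  choose b hb using hs
  have hinj := (algebraMap F K).injective
  have hpol : ∀ x y, algebraMap F K (QuadraticMap.polar b x y)
      = Cfsg.hermForm (l * 2) K q x y + Cfsg.hermForm (l * 2) K q y x := fun x y => by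
    rw [QuadraticMap.polar, map_sub, map_sub, hb, hb, hb, herm_add_left, herm_add_right hadd, herm_add_right hadd]
    ring
  let Q : QuadraticForm F (Fin (l * 2) → K) := QuadraticMap.ofPolar b
    (fun a x => hinj (by
      rw [smul_eq_mul, map_mul, hb, hb, ← algebraMap_smul K a x, herm_smul_left, herm_smul_right, hι, map_mul]; ring))
    (fun x x' y => hinj (by rw [map_add, hpol, hpol, hpol, herm_add_left, herm_add_right hadd]; ring))
    (fun a x y => hinj (by
      rw [smul_eq_mul, map_mul, hpol, hpol, ← algebraMap_smul K a x, herm_smul_left, herm_smul_right, hι]; ring))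
  have hQ : (QuadraticMap.polarBilin Q).Nondegenerate := Orth.nondeg_of fun x hx =>
    herm_nondeg ht hinv x (-1) (by ring) fun y => by
      have h1 : algebraMap F K (QuadraticMap.polar b x y) = 0 := by
        rw [show QuadraticMap.polar b x y = 0 from hx y, map_zero]
      rw [hpol] at h1
      linear_combination h1
  obtain ⟨ω, hω⟩ := exists_neg_one_norm hK hF hι
  let e : Fin l × Fin 2 ≃ Fin (l * 2) := finProdFinEquiv
  let E : (Fin l → K) →ₗ[F] (Fin (l * 2) → K) :=
    { toFun := fun c j => c (e.symm j).1 * (if (e.symm j).2 = 0 then 1 else ω)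
      map_add' := fun c d => funext fun j => add_mul _ _ _
      map_smul' := fun a c => funext fun j => smul_mul_assoc a _ _ }
  have hEap : ∀ c i b, E c (e (i, b)) = c i * (if b = 0 then 1 else ω) := fun c i b => by
    show c (e.symm (e (i, b))).1 * (if (e.symm (e (i, b))).2 = 0 then 1 else ω) = _
    rw [Equiv.symm_apply_apply]
  have hEinj : Function.Injective E := fun c d h => funext fun i => by
    simpa [hEap] using congrFun h (e (i, 0))
  refine exists_hom_plus (by omega) hdim Q hQ (LinearMap.range E) ?_ (by rw [LinearMap.finrank_range_of_inj hEinj, hdl])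
    (rho F ((Units.coeHom _).comp (Cfsg.GU (l * 2) K q).subtype))
    (rho_injective fun g h hgh => Subtype.ext (Units.ext hgh)) fun g x => hinj ?_
  · rintro _ ⟨c, rfl⟩
    refine hinj ?_
    show algebraMap F K (b _) = _
    rw [hb, map_zero, Cfsg.hermForm, ← e.sum_comp, Fintype.sum_prod_type]
    refine Finset.sum_eq_zero fun i _ => ?_
    rw [Fin.sum_univ_two, hEap, hEap, if_pos rfl, if_neg (by decide), mul_one, mul_pow]
    rw [pow_succ'] at hω
    linear_combination (c i * c i ^ q) * hω
  · show algebraMap F K (b _) = algebraMap F K (b x)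
    rw [hb, hb, rho_apply]
    exact g.2 x x

theorem minus_plus [Fintype K] [Fintype F] (j : ℕ) (ι : F →+* K) {a c : F}
    (hac : ∀ z₁ z₂ : F, z₁ ^ 2 + a * z₁ * z₂ + c * z₂ ^ 2 = 0 → z₁ = 0 ∧ z₂ = 0) {r : K}
    (hr : r ^ 2 + ι a * r + ι c = 0) :
    ∃ φ : ↥(Cfsg.isometryGroup F (Cfsg.quadFormMinus j F a c)) →*
      ↥(Cfsg.isometryGroup K (Cfsg.quadFormPlus (j + 1) K)), Function.Injective φ := by
  classical
  let QK := Orth.qMinus K j (ι a) (ι c)
  have hD : ι a ^ 2 - 4 * ι c ≠ 0 := by
    rw [show ι a ^ 2 - 4 * ι c = ι (a ^ 2 - 4 * c) by rw [map_sub, map_pow, map_mul, map_ofNat]]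
    exact (map_ne_zero ι).2 (Orth.disc_ne hac)
  have hQ : (QuadraticMap.polarBilin QK).Nondegenerate := Orth.qPad_nondeg (Orth.nondeg_of fun v hv => by
    have h1 := hv ![1, 0]
    have h2 := hv ![0, 1]
    rw [LBQuad.polar_qBin'] at h1 h2
    simp at h1 h2
    have h3 : (ι a ^ 2 - 4 * ι c) * v 0 = 0 := by linear_combination ι a * h2 - 2 * ι c * h1
    have h4 : (ι a ^ 2 - 4 * ι c) * v 1 = 0 := by linear_combination ι a * h1 - 2 * h2
    funext i
    fin_cases i
    · exact (mul_eq_zero.1 h3).resolve_left hD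
    · exact (mul_eq_zero.1 h4).resolve_left hD) j
  let E : ((Fin j → K) × K) →ₗ[K] ((Fin j ⊕ Fin j) ⊕ Fin 2 → K) :=
    { toFun := fun p => Sum.elim (Sum.elim p.1 0) ![r * p.2, p.2]
      map_add' := fun p p' => by
        funext i; rcases i with (i | i) | i <;> first | (fin_cases i <;> simp <;> ring) | simp
      map_smul' := fun s p => by
        funext i; rcases i with (i | i) | i <;> first | (fin_cases i <;> simp <;> ring) | simp }
  have hEinj : Function.Injective E := fun p p' h => Prod.ext (funext fun i => congrFun h (.inl (.inl i)))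
    (by simpa [E] using congrFun h (.inr 1))
  have hι : ∀ (g : ↥(Cfsg.isometryGroup F (Cfsg.quadFormMinus j F a c))) (x : (Fin j ⊕ Fin j) ⊕ Fin 2 → K),
      QK ((g.1.1.map ι).mulVec x) = QK x := fun g => by
    set M := g.1.1.map ι with hMdef
    let D : QuadraticForm K ((Fin j ⊕ Fin j) ⊕ Fin 2 → K) := QK.comp (Matrix.mulVecLin M) - QK
    have hbase : ∀ v : (Fin j ⊕ Fin j) ⊕ Fin 2 → F, D (ι ∘ v) = 0 := fun v => by
      have hM : M.mulVec (ι ∘ v) = ι ∘ g.1.1.mulVec v := by
        funext i; exact (RingHom.map_mulVec ι _ v i).symm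
      have hQv : ∀ w, QK (ι ∘ w) = ι (Cfsg.quadFormMinus j F a c w) := fun w => by
        simp [QK, Orth.coe_qMinus, Cfsg.quadFormMinus]
      show QK (M.mulVec (ι ∘ v)) - QK (ι ∘ v) = 0
      rw [hM, hQv, hQv, Orth.mem_isometryGroup.1 g.2 v, sub_self]
    have hzero : ∀ x, D x = 0 := by
      have hb : ∀ i, (Pi.basisFun K ((Fin j ⊕ Fin j) ⊕ Fin 2)) i = ι ∘ Pi.single i 1 := fun i => by
        rw [Pi.basisFun_apply]; funext k; simp [Pi.single_apply, apply_ite ι]
      have hpol : QuadraticMap.polarBilin D = 0 := by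
        refine LinearMap.ext_basis (Pi.basisFun K _) (Pi.basisFun K _) fun i k => ?_
        rw [hb, hb, QuadraticMap.polarBilin_apply_apply, QuadraticMap.polar,
          show (ι ∘ Pi.single i 1) + (ι ∘ Pi.single k (1 : F)) = ι ∘ (Pi.single i 1 + Pi.single k 1) from
            funext fun l => (map_add ι _ _).symm, hbase, hbase, hbase]
        simp
      intro x
      have hx : x ∈ Submodule.span K (Set.range (Pi.basisFun K ((Fin j ⊕ Fin j) ⊕ Fin 2))) := by
        rw [Module.Basis.span_eq]; trivial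
      induction hx using Submodule.span_induction with
      | mem y hy => obtain ⟨i, rfl⟩ := hy; rw [hb]; exact hbase _
      | zero => exact map_zero D
      | add y z _ _ hy hz =>
        rw [QuadraticMap.map_add ⇑D, hy, hz, ← QuadraticMap.polarBilin_apply_apply, hpol]; simp
      | smul s y _ hy => rw [QuadraticMap.map_smul, hy, smul_zero]
    intro x
    exact sub_eq_zero.1 (hzero x)
  let f : ↥(Cfsg.isometryGroup F (Cfsg.quadFormMinus j F a c)) →* Matrix ((Fin j ⊕ Fin j) ⊕ Fin 2) ((Fin j ⊕ Fin j) ⊕ Fin 2) K :=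
    ((RingHom.mapMatrix ι).toMonoidHom.comp (Units.coeHom _)).comp (Cfsg.isometryGroup F _).subtype
  have hfinj : Function.Injective f := fun g h hgh =>
    Subtype.ext (Units.ext (Matrix.map_injective ι.injective hgh))
  refine exists_hom_plus (m := j + 1) (by omega) (by simp; ring) QK hQ (LinearMap.range E) ?_
    (by rw [LinearMap.finrank_range_of_inj hEinj]; simp) (rho K f) (rho_injective hfinj) fun g x => ?_
  · rintro _ ⟨⟨x, s⟩, rfl⟩
    show QK _ = 0
    rw [show QK = Orth.qMinus K j (ι a) (ι c) from rfl, Orth.coe_qMinus]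
    simp [Cfsg.quadFormMinus, E]
    linear_combination s ^ 2 * hr
  · rw [rho_apply]
    exact hι g x

end Cfsg.Agent.LBRestrict
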