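/-
Sp_2(q) wr S_n inside Sp_2n(q): odd index, and the resulting normal elementary abelian subgroup.
-/
import Cfsg.Agent.Lib.Classical.Symplectic
import Cfsg.Agent.Lib.Classical.TwoByTwo
import Cfsg.Agent.Lib.Classical.SympRank
import Mathlib.NumberTheory.Multiplicity
import Mathlib.GroupTheory.Sylow

set_option autoImplicit false

namespace Cfsg.Agent.SpWreath

open Matrix

variable {F : Type*} [Field F] {n : ℕ}

/-- A monomial matrix. -/
def mono (v : Fin n → F) (σ : Equiv.Perm (Fin n)) : Matrix (Fin n) (Fin n) F :=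
  Matrix.of fun i j => if i = σ j then v i else 0

theorem mono_apply (v : Fin n → F) (σ : Equiv.Perm (Fin n)) (i j : Fin n) :
    mono v σ i j = if i = σ j then v i else 0 := rfl

theorem mono_mul (v w : Fin n → F) (σ τ : Equiv.Perm (Fin n)) :
    mono v σ * mono w τ = mono (fun i => v i * w (σ.symm i)) (σ * τ) := by
  ext i j
  rw [Matrix.mul_apply, Finset.sum_eq_single (τ j) (fun b _ hb => by simp [mono_apply, hb])
    (fun h => absurd (Finset.mem_univ _) h)]
  simp only [mono_apply, if_true, Equiv.Perm.mul_apply]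
  by_cases h : i = σ (τ j)
  · subst h; simp
  · simp [h]

theorem mono_add (v w : Fin n → F) (σ : Equiv.Perm (Fin n)) : mono v σ + mono w σ = mono (v + w) σ := by
  ext i j; simp only [Matrix.add_apply, mono_apply, Pi.add_apply]; split_ifs <;> simp

theorem transpose_mono_mul (v w : Fin n → F) (σ : Equiv.Perm (Fin n)) :
    (mono v σ)ᵀ * mono w σ = Matrix.diagonal fun i => v (σ i) * w (σ i) := by
  ext i j
  rw [Matrix.mul_apply, Finset.sum_eq_single (σ i) (fun b _ hb => by simp [mono_apply, hb])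
    (fun h => absurd (Finset.mem_univ _) h)]
  by_cases h : i = j
  · subst h; simp [mono_apply]
  · simp [mono_apply, h, σ.injective.eq_iff]

theorem mono_one : mono (1 : Fin n → F) 1 = 1 := by
  ext i j; rw [mono_apply, Matrix.one_apply]; simp only [Equiv.Perm.one_apply, Pi.one_apply]; congr

theorem mono_zero (σ : Equiv.Perm (Fin n)) : mono (0 : Fin n → F) σ = 0 := by
  ext i j; simp [mono_apply]

/-- The wreath product data. -/
abbrev Dom (F : Type*) [Field F] (n : ℕ) : Type _ := (Fin n → SpecialLinearGroup (Fin 2) F) × Equiv.Perm (Fin n)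

/-- One entry of every block. -/
def ent (x : Dom F n) (k l : Fin 2) : Fin n → F := fun i => (x.1 i).1 k l

/-- The matrix. -/
def toMat (x : Dom F n) : Matrix (Fin n ⊕ Fin n) (Fin n ⊕ Fin n) F :=
  fromBlocks (mono (ent x 0 0) x.2) (mono (ent x 0 1) x.2) (mono (ent x 1 0) x.2) (mono (ent x 1 1) x.2)

theorem toMat_mem (x : Dom F n) : toMat x ∈ symplecticGroup (Fin n) F := by
  rw [toMat, SymplecticGroup.fromBlocks_mem_iff]
  simp only [transpose_mono_mul]
  refine ⟨?_, ?_, ?_⟩
  · simp [mul_comm]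
  · simp [mul_comm]
  · rw [Matrix.diagonal_sub, ← Matrix.diagonal_one]
    congr 1
    funext i
    have h := (x.1 (x.2 i)).2
    rw [Matrix.det_fin_two] at h
    simp only [ent]
    linear_combination h

/-- The wreath multiplication. -/
def dmul (x y : Dom F n) : Dom F n := (fun i => x.1 i * y.1 (x.2.symm i), x.2 * y.2)

/-- The map into the symplectic group. -/
def emb (x : Dom F n) : symplecticGroup (Fin n) F := ⟨toMat x, toMat_mem x⟩

theorem emb_mul (x y : Dom F n) : emb x * emb y = emb (dmul x y) := by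
  refine Subtype.ext ?_
  show toMat x * toMat y = toMat (dmul x y)
  rw [toMat, toMat, toMat, fromBlocks_multiply]
  simp only [mono_mul, mono_add]
  congr 2 <;> funext i <;> simp [dmul, ent, Matrix.mul_apply, Fin.sum_univ_two]

theorem emb_one : emb (F := F) (n := n) (1, 1) = 1 := by
  refine Subtype.ext ?_
  show toMat _ = 1
  rw [← fromBlocks_one, toMat, ← mono_one, ← mono_zero 1]
  congr 2

theorem emb_injective : Function.Injective (emb (F := F) (n := n)) := by
  intro x y h
  have h0 : toMat x = toMat y := congrArg Subtype.val h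
  obtain ⟨h00, h01, h10, h11⟩ := fromBlocks_inj.1 h0
  have hσ : x.2 = y.2 := by
    refine Equiv.ext fun j => ?_
    by_contra hne
    have e0 := congrFun (congrFun h00 (x.2 j)) j
    have e1 := congrFun (congrFun h10 (x.2 j)) j
    simp only [mono_apply, if_true, hne, if_false] at e0 e1
    have hd := (x.1 (x.2 j)).2
    rw [Matrix.det_fin_two] at hd
    simp only [ent] at e0 e1
    rw [e0, e1] at hd
    simp at hd
  refine Prod.ext (funext fun i => Subtype.ext ?_) hσ
  obtain ⟨j, rfl⟩ := x.2.surjective i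
  ext k l
  have key : ∀ a b : Fin 2, mono (ent x a b) x.2 = mono (ent y a b) y.2 → ent x a b (x.2 j) = ent y a b (x.2 j) := by
    intro a b hab
    have e := congrFun (congrFun hab (x.2 j)) j
    rw [mono_apply, mono_apply, if_pos rfl, if_pos (by rw [hσ])] at e
    exact e
  fin_cases k <;> fin_cases l
  exacts [key 0 0 h00, key 0 1 h01, key 1 0 h10, key 1 1 h11]

/-- Sp_2 wr S_n. -/
def wreath (F : Type*) [Field F] (n : ℕ) : Subgroup (symplecticGroup (Fin n) F) where
  carrier := Set.range emb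
  one_mem' := ⟨(1, 1), emb_one⟩
  mul_mem' := by rintro _ _ ⟨x, rfl⟩ ⟨y, rfl⟩; exact ⟨_, (emb_mul x y).symm⟩
  inv_mem' := by
    rintro _ ⟨x, rfl⟩
    refine ⟨(fun i => (x.1 (x.2 i))⁻¹, x.2⁻¹), (inv_eq_of_mul_eq_one_right ?_).symm⟩
    rw [emb_mul, ← emb_one]
    congr 1
    refine Prod.ext (funext fun i => ?_) (mul_inv_cancel x.2)
    simp [dmul]

theorem card_wreath [Finite F] : Nat.card (wreath F n) =
    (Nat.card F * (Nat.card F ^ 2 - 1)) ^ n * n.factorial := by
  rw [show Nat.card (wreath F n) = Nat.card (Set.range (emb (F := F) (n := n))) from rfl,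
    Nat.card_range_of_injective emb_injective, Nat.card_prod, Nat.card_fun, TwoByTwo.card_sl_two,
    Nat.card_perm, Nat.card_fin]

/-- A scalar sign. -/
def sgn2 (u : ℤˣ) : SpecialLinearGroup (Fin 2) F :=
  ⟨!![((u : ℤ) : F), 0; 0, ((u : ℤ) : F)], by
    rcases Int.units_eq_one_or u with h | h <;> simp [h, Matrix.det_fin_two]⟩

theorem sgn2_comm (u : ℤˣ) (g : SpecialLinearGroup (Fin 2) F) : sgn2 u * g = g * sgn2 u := by
  refine Subtype.ext ?_
  change (sgn2 u).1 * g.1 = g.1 * (sgn2 u).1
  ext i j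
  dsimp only [sgn2]
  fin_cases i <;> fin_cases j <;> simp [Matrix.mul_apply, Fin.sum_univ_two, mul_comm]

/-- Sign changes. -/
def signHom : (Fin n → ℤˣ) →* symplecticGroup (Fin n) F :=
  MonoidHom.mk' (fun ε => emb (fun i => sgn2 (ε i), 1)) fun a b => by
    rw [emb_mul]
    congr 1
    refine Prod.ext (funext fun i => Subtype.ext ?_) (one_mul _).symm
    change _ = (sgn2 (a i)).1 * (sgn2 (b i)).1
    ext k l
    dsimp only [sgn2, Pi.mul_apply]
    fin_cases k <;> fin_cases l <;> simp [Matrix.mul_apply, Fin.sum_univ_two]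

theorem signHom_le : (signHom (F := F) (n := n)).range ≤ wreath F n := by
  rintro _ ⟨ε, rfl⟩; exact ⟨_, rfl⟩

theorem signHom_normal : ((signHom (F := F) (n := n)).range.subgroupOf (wreath F n)).Normal := by
  refine ⟨?_⟩
  rintro ⟨_, _⟩ ⟨ε, hε⟩ ⟨_, x, rfl⟩
  refine ⟨fun i => ε (x.2.symm i), ?_⟩
  simp only [Subgroup.coe_subtype, Subgroup.coe_mul, Subgroup.coe_inv] at hε ⊢
  rw [← hε, eq_mul_inv_iff_mul_eq]
  show emb _ * emb x = emb x * emb _
  rw [emb_mul, emb_mul]
  congr 1
  exact Prod.ext (funext fun i => sgn2_comm _ _) (by simp [dmul])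

theorem signHom_injective (h2 : (2 : F) ≠ 0) : Function.Injective (signHom (F := F) (n := n)) := by
  intro a b h
  funext i
  have h' := congrArg (fun p : Dom F n => (p.1 i).1 0 0) (emb_injective (show emb _ = emb _ from h))
  simp [sgn2] at h'
  rcases Int.units_eq_one_or (a i) with e | e <;> rcases Int.units_eq_one_or (b i) with e' | e' <;>
    simp [e, e'] at h' ⊢ <;>
    first | exact absurd (by linear_combination h') h2 | exact absurd (by linear_combination -h') h2

theorem val_eq [Fintype F] (hF : Odd (Fintype.card F)) :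
    padicValNat 2 (Nat.card (wreath F n)) = padicValNat 2 (Nat.card (symplecticGroup (Fin n) F)) := by
  rw [card_wreath, ClassicalSp.card_sp, Nat.card_eq_fintype_card]
  have hq1 := Fintype.one_lt_card (α := F)
  generalize Fintype.card F = q at hF hq1
  have hq : ¬ 2 ∣ q := by rw [Nat.odd_iff] at hF; omega
  have hpow : ∀ k, k ≠ 0 → q ^ k - 1 ≠ 0 := fun k hk => by
    have := Nat.le_self_pow hk q; omega
  have h0 : ∀ k, padicValNat 2 (q ^ k) = 0 := fun k =>
    padicValNat.eq_zero_of_not_dvd fun h => hq (Nat.prime_two.dvd_of_dvd_pow h)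
  have hterm : ∀ i, padicValNat 2 (q ^ (2 * (i + 1)) - 1) = padicValNat 2 (q ^ 2 - 1) + padicValNat 2 (i + 1) := by
    intro i
    have h1 := padicValNat.pow_two_sub_one hq1 hq (n := 2 * (i + 1)) (by omega) (even_two_mul _)
    have h2 := padicValNat.pow_two_sub_one hq1 hq (n := 2) (by omega) even_two
    rw [padicValNat.mul (by norm_num) (by omega)] at h1
    omega
  have e1 : padicValNat 2 ((q * (q ^ 2 - 1)) ^ n * n.factorial) =
      n * padicValNat 2 (q ^ 2 - 1) + padicValNat 2 n.factorial := by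
    have hne : q * (q ^ 2 - 1) ≠ 0 := mul_ne_zero (by omega) (hpow 2 (by norm_num))
    rw [padicValNat.mul (pow_ne_zero _ hne) n.factorial_ne_zero, padicValNat.pow _ _,
      padicValNat.mul (by omega) (hpow 2 (by norm_num)), padicValNat.eq_zero_of_not_dvd hq, zero_add]
  have e2 : ∀ m, padicValNat 2 (∏ i ∈ Finset.range m, (q ^ (2 * (i + 1)) - 1)) =
      m * padicValNat 2 (q ^ 2 - 1) + padicValNat 2 m.factorial := by
    intro m
    induction m with
    | zero => simp
    | succ m ih =>
      rw [Finset.prod_range_succ, padicValNat.mul (Finset.prod_ne_zero_iff.2 fun i _ => hpow _ (by omega))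
        (hpow _ (by omega)), ih, hterm, Nat.factorial_succ, padicValNat.mul (by omega) m.factorial_ne_zero]
      ring
  rw [e1, padicValNat.mul (pow_ne_zero _ (by omega)) (Finset.prod_ne_zero_iff.2 fun i _ => hpow _ (by omega)),
    h0, zero_add, e2]

/-- The normal subgroup in every Sylow 2-subgroup. -/
theorem exists_normal_elementary [Fintype F] (hF : Odd (Fintype.card F))
    (S : Sylow 2 (symplecticGroup (Fin n) F)) :
    ∃ E : Subgroup ↥(S : Subgroup (symplecticGroup (Fin n) F)), E.Normal ∧ IsMulCommutative E ∧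
      (∀ a ∈ E, a ^ 2 = 1) ∧ Nat.card E = 2 ^ n := by
  classical
  have h2 : (2 : F) ≠ 0 := Ring.two_ne_zero fun h => by
    have := FiniteField.even_card_of_char_two h
    rw [Nat.odd_iff] at hF; omega
  let E₀ : Subgroup (symplecticGroup (Fin n) F) := signHom.range
  have hE₀ : Nat.card E₀ = 2 ^ n := by
    rw [← Nat.card_congr (MonoidHom.ofInjective (signHom_injective (F := F) (n := n) h2)).toEquiv]
    simp
  have := signHom_normal (F := F) (n := n)
  have hE2 : IsPGroup 2 (E₀.subgroupOf (wreath F n)) := IsPGroup.of_card (n := n) (by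
    rw [Nat.card_congr (Subgroup.subgroupOfEquivOfLe signHom_le).toEquiv, hE₀])
  obtain ⟨Q, hQ⟩ := hE2.exists_le_sylow
  let R : Subgroup (symplecticGroup (Fin n) F) := (Q : Subgroup (wreath F n)).map (wreath F n).subtype
  have hR : IsPGroup 2 R := Q.2.map _
  obtain ⟨T, hT⟩ := hR.exists_le_sylow
  have hcard : Nat.card R = Nat.card T := by
    rw [Subgroup.card_subtype, Sylow.card_eq_multiplicity, Sylow.card_eq_multiplicity,
      Nat.factorization_def _ Nat.prime_two, Nat.factorization_def _ Nat.prime_two, val_eq hF]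
  have hRT : R = T := Subgroup.eq_of_le_of_card_ge hT hcard.ge
  obtain ⟨g, hg⟩ := MulAction.exists_smul_eq (symplecticGroup (Fin n) F) T S
  have hS : (S : Subgroup (symplecticGroup (Fin n) F)) = R.map (MulAut.conj g).toMonoidHom := by
    rw [← hg, hRT]; rfl
  let E₁ : Subgroup (symplecticGroup (Fin n) F) := E₀.map (MulAut.conj g).toMonoidHom
  have hE₁S : E₁ ≤ (S : Subgroup (symplecticGroup (Fin n) F)) := by
    rw [hS]
    refine Subgroup.map_mono fun a ha => ?_
    exact ⟨⟨a, signHom_le ha⟩, hQ ha, rfl⟩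
  refine ⟨E₁.subgroupOf S, ⟨?_⟩, ⟨⟨?_⟩⟩, ?_, ?_⟩
  · rintro ⟨_, ha⟩ hmem ⟨b, hb⟩
    obtain ⟨a₀, ha₀, rfl⟩ := Subgroup.mem_subgroupOf.1 hmem
    rw [hS] at hb
    obtain ⟨_, ⟨b₀, -, rfl⟩, rfl⟩ := hb
    have := signHom_normal.conj_mem ⟨a₀, signHom_le ha₀⟩ ha₀ b₀
    exact ⟨_, this, by simp [mul_assoc]⟩
  · rintro ⟨a, ha⟩ ⟨b, hb⟩
    obtain ⟨_, ⟨x, rfl⟩, hx⟩ := Subgroup.mem_subgroupOf.1 ha
    obtain ⟨_, ⟨y, rfl⟩, hy⟩ := Subgroup.mem_subgroupOf.1 hb
    refine Subtype.ext (Subtype.ext ?_)
    show (a : symplecticGroup (Fin n) F) * b = b * a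
    rw [← hx, ← hy, ← map_mul, ← map_mul, ← map_mul, ← map_mul, mul_comm]
  · rintro a ha
    obtain ⟨_, ⟨x, rfl⟩, hx⟩ := Subgroup.mem_subgroupOf.1 ha
    refine Subtype.ext ?_
    rw [SubgroupClass.coe_pow, ← hx, ← map_pow, ← map_pow,
      show x ^ 2 = 1 from funext fun i => Int.units_sq _, map_one, map_one]
    rfl
  · rw [Nat.card_congr (Subgroup.subgroupOfEquivOfLe hE₁S).toEquiv, ← hE₀]
    exact Subgroup.card_map_of_injective (MulAut.conj g).injective

end Cfsg.Agent.SpWreath
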