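/-
Two-parts of orders in the multiplicative group of a finite field of odd order.
-/
import Mathlib.FieldTheory.Finite.Basic
import Mathlib.NumberTheory.Padics.PadicVal.Basic
import Mathlib.RingTheory.IntegralDomain
import Mathlib.GroupTheory.SpecificGroups.Cyclic

set_option autoImplicit false

namespace Cfsg.Agent.LBPow

/-- `n = 2^v k` with `k` odd. -/
theorem exists_odd_part {n : ℕ} (hn : n ≠ 0) : ∃ k, Odd k ∧ n = 2 ^ padicValNat 2 n * k := by
  obtain ⟨k, hk⟩ : 2 ^ padicValNat 2 n ∣ n := pow_padicValNat_dvd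
  refine ⟨k, Nat.odd_iff.2 ?_, hk⟩
  by_contra h
  have h2 : 2 ^ (padicValNat 2 n + 1) ∣ n := by
    obtain ⟨j, rfl⟩ : 2 ∣ k := by omega
    exact ⟨j, by rw [pow_succ]; linear_combination hk⟩
  exact pow_succ_padicValNat_not_dvd hn h2

variable {F : Type*} [Field F] [Fintype F]

theorem pow_two_part {μ : F} {v : ℕ} (hμ : orderOf μ = 2 ^ (v + 1)) : μ ^ 2 ^ v = -1 := by
  have h1 : (μ ^ 2 ^ v) ^ 2 = 1 := by rw [← pow_mul, ← pow_succ, ← hμ, pow_orderOf_eq_one]
  refine (sq_eq_one_iff.1 h1).resolve_left fun h => ?_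
  have := Nat.le_of_dvd (by positivity) (orderOf_dvd_of_pow_eq_one h)
  rw [hμ, pow_succ] at this
  have : 0 < 2 ^ v := by positivity
  omega

theorem exists_two_element (hq : Odd (Fintype.card F)) :
    ∃ v, padicValNat 2 (Fintype.card F - 1) = v + 1 ∧ ∃ w : F, orderOf w = 2 ^ (v + 1) := by
  have hN : Fintype.card F - 1 ≠ 0 := by have := Fintype.one_lt_card (α := F); omega
  obtain ⟨k, hk, hN'⟩ := exists_odd_part hN
  obtain ⟨v, hv⟩ : ∃ v, padicValNat 2 (Fintype.card F - 1) = v + 1 := by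
    refine ⟨padicValNat 2 (Fintype.card F - 1) - 1, ?_⟩
    rcases Nat.eq_zero_or_pos (padicValNat 2 (Fintype.card F - 1)) with h0 | h0
    · rw [h0, pow_zero, one_mul] at hN'
      rw [Nat.odd_iff] at hq hk
      omega
    · omega
  obtain ⟨g, hg⟩ := IsCyclic.exists_generator (α := Fˣ)
  have hgo : orderOf (g : F) = 2 ^ (v + 1) * k := by
    rw [orderOf_units, orderOf_eq_card_of_forall_mem_zpowers hg, Nat.card_units, Nat.card_eq_fintype_card,
      ← hv, ← hN']
  refine ⟨v, hv, (g : F) ^ k, ?_⟩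
  rw [orderOf_pow' _ hk.pos.ne', hgo, Nat.gcd_mul_left_left, Nat.mul_div_cancel _ hk.pos]

end Cfsg.Agent.LBPow
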