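/-
The Sylow 2-subgroups of GL_2(q) and GU_2(q), q odd: quasi-dihedral or wreathed.
-/
import Cfsg.Prelude.Def_CaseTheorems
import Cfsg.Agent.Lib.LinearBlock.PowerResidue
import Cfsg.Agent.Lib.Classical.HermStd
import Mathlib.GroupTheory.Sylow
import Mathlib.LinearAlgebra.Matrix.GeneralLinearGroup.Card
import Mathlib.FieldTheory.Finite.Extension
import Mathlib.LinearAlgebra.Matrix.ToLin

set_option autoImplicit false

namespace Cfsg.Agent.SylTwoRO

open Cfsg Matrix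

section group

variable {G : Type*} [Group G] [Finite G]

omit [Finite G] in
theorem qd_of_equiv {A B : Type*} [Group A] [Group B] (e : A ≃* B) (h : IsQuasiDihedral A) :
    IsQuasiDihedral B := by
  obtain ⟨n, hn, hc, x, y, hx, hy, hxy⟩ := h
  exact ⟨n, hn, by rw [← Nat.card_congr e.toEquiv, hc], e x, e y, by rw [e.orderOf_eq, hx],
    by rw [e.orderOf_eq, hy], by rw [← map_inv, ← map_mul, ← map_mul, hxy, map_pow]⟩

omit [Finite G] in
theorem wr_of_equiv {A B : Type*} [Group A] [Group B] (e : A ≃* B) (h : IsWreathed A) :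
    IsWreathed B := by
  obtain ⟨n, hn, hc, x, y, z, hx, hxy, hd, hz, hzx⟩ := h
  refine ⟨n, hn, by rw [← Nat.card_congr e.toEquiv, hc], e x, e y, e z, by rw [e.orderOf_eq, hx],
    by rw [← map_mul, ← map_mul, hxy], ?_, by rw [e.orderOf_eq, hz],
    by rw [← map_inv, ← map_mul, ← map_mul, hzx]⟩
  change Subgroup.zpowers (e.toMonoidHom x) ⊓ Subgroup.zpowers (e.toMonoidHom y) = ⊥
  rw [← MonoidHom.map_zpowers, ← MonoidHom.map_zpowers, ← Subgroup.map_inf _ _ _ e.injective, hd, Subgroup.map_bot]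

theorem card_sylow_two (Q : Sylow 2 G) {k m : ℕ} (hm : Odd m) (h : Nat.card G = 2 ^ k * m) :
    Nat.card Q = 2 ^ k := by
  rw [Sylow.card_eq_multiplicity, h, Nat.factorization_mul (by positivity) hm.pos.ne']
  simp [Nat.factorization_eq_zero_of_not_dvd (fun h2 => Nat.not_even_iff_odd.2 hm (even_iff_two_dvd.2 h2)),
    Nat.Prime.factorization_pow Nat.prime_two]

omit [Finite G] in
theorem zpowers_normalized {x y : G} {k : ℤ} (h : y * x * y⁻¹ = x ^ k) (h' : ∃ l : ℤ, y⁻¹ * x * y = x ^ l) :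
    Subgroup.zpowers y ≤ Subgroup.normalizer (Subgroup.zpowers x : Set G) := by
  rw [Subgroup.zpowers_le, Subgroup.mem_normalizer_iff]
  obtain ⟨l, hl⟩ := h'
  intro a
  constructor
  · intro ha
    obtain ⟨i, rfl⟩ := Subgroup.mem_zpowers_iff.1 ha
    exact Subgroup.mem_zpowers_iff.2 ⟨k * i, by rw [_root_.zpow_mul, ← h, conj_zpow]⟩
  · intro ha
    obtain ⟨i, hi⟩ := Subgroup.mem_zpowers_iff.1 ha
    refine Subgroup.mem_zpowers_iff.2 ⟨l * i, ?_⟩
    have hc : (y⁻¹ * x * y) ^ i = y⁻¹ * x ^ i * y := by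
      have h9 := (conj_zpow : (y⁻¹ * x * y⁻¹⁻¹) ^ i = _)
      rwa [inv_inv] at h9
    rw [_root_.zpow_mul, ← hl, hc, hi]
    group

theorem isQuasiDihedral_sylow (P : Sylow 2 G) {n m : ℕ} (hn : 3 ≤ n) (hm : Odd m)
    (hcard : Nat.card G = 2 ^ (n + 1) * m) (x y : G) (hx : orderOf x = 2 ^ n) (hy : orderOf y = 2)
    (hxy : y * x * y⁻¹ = x ^ (2 ^ (n - 1) - 1)) : IsQuasiDihedral (P : Subgroup G) := by
  have hyi : y⁻¹ = y := inv_eq_of_mul_eq_one_right (by rw [← pow_two, ← hy, pow_orderOf_eq_one])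
  have hnorm := zpowers_normalized (x := x) (y := y) (k := ((2 ^ (n - 1) - 1 : ℕ) : ℤ))
    (by rw [zpow_natCast, hxy]) ⟨((2 ^ (n - 1) - 1 : ℕ) : ℤ), by
      rw [zpow_natCast, ← hxy, hyi]⟩
  have hH : IsPGroup 2 (Subgroup.zpowers x ⊔ Subgroup.zpowers y : Subgroup G) :=
    (IsPGroup.of_card (n := n) (by rw [Nat.card_zpowers, hx])).to_sup_of_normal_left'
      (IsPGroup.of_card (n := 1) (by rw [Nat.card_zpowers, hy, pow_one])) hnorm
  obtain ⟨Q, hQ⟩ := hH.exists_le_sylow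
  have hxQ : x ∈ (Q : Subgroup G) := hQ (Subgroup.mem_sup_left (Subgroup.mem_zpowers x))
  have hyQ : y ∈ (Q : Subgroup G) := hQ (Subgroup.mem_sup_right (Subgroup.mem_zpowers y))
  refine qd_of_equiv (Sylow.equiv Q P) ⟨n, hn, card_sylow_two Q hm hcard, ⟨x, hxQ⟩, ⟨y, hyQ⟩, ?_, ?_, ?_⟩
  · rw [← Subgroup.orderOf_coe]; exact hx
  · rw [← Subgroup.orderOf_coe]; exact hy
  · exact Subtype.ext hxy

theorem isWreathed_sylow (P : Sylow 2 G) {n m : ℕ} (hn : 2 ≤ n) (hm : Odd m)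
    (hcard : Nat.card G = 2 ^ (2 * n + 1) * m) (x y z : G) (hx : orderOf x = 2 ^ n) (hxy : x * y = y * x)
    (hd : Subgroup.zpowers x ⊓ Subgroup.zpowers y = ⊥) (hz : orderOf z = 2) (hzx : z * x * z⁻¹ = y) :
    IsWreathed (P : Subgroup G) := by
  have hzi : z⁻¹ = z := inv_eq_of_mul_eq_one_right (by rw [← pow_two, ← hz, pow_orderOf_eq_one])
  have hzy : z * y * z⁻¹ = x := by
    rw [← hzx, hzi]; simp only [← mul_assoc]
    rw [show z * z = 1 by rw [← pow_two, ← hz, pow_orderOf_eq_one], one_mul, mul_assoc,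
      show z * z = 1 by rw [← pow_two, ← hz, pow_orderOf_eq_one], mul_one]
  have hy : orderOf y = 2 ^ n := by
    rw [← hzx, show z * x * z⁻¹ = MulAut.conj z x from rfl, MulEquiv.orderOf_eq, hx]
  have hA : IsPGroup 2 (Subgroup.zpowers x ⊔ Subgroup.zpowers y : Subgroup G) :=
    (IsPGroup.of_card (n := n) (by rw [Nat.card_zpowers, hx])).to_sup_of_normal_left'
      (IsPGroup.of_card (n := n) (by rw [Nat.card_zpowers, hy]))
      (zpowers_normalized (k := 1) (by rw [zpow_one, ← hxy, mul_inv_cancel_right]) ⟨1, by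
        rw [zpow_one, mul_assoc, hxy, inv_mul_cancel_left]⟩)
  have hnorm : Subgroup.zpowers z ≤
      Subgroup.normalizer ((Subgroup.zpowers x ⊔ Subgroup.zpowers y : Subgroup G) : Set G) := by
    have hmap : (Subgroup.zpowers x ⊔ Subgroup.zpowers y).map (MulAut.conj z).toMonoidHom =
        Subgroup.zpowers x ⊔ Subgroup.zpowers y := by
      rw [Subgroup.map_sup, MonoidHom.map_zpowers, MonoidHom.map_zpowers]
      simp only [MulEquiv.coe_toMonoidHom, MulAut.conj_apply, hzx, hzy]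
      rw [sup_comm]
    rw [Subgroup.zpowers_le, Subgroup.mem_normalizer_iff]
    intro a
    conv_rhs => rw [← hmap]
    exact (Subgroup.mem_map_iff_mem (MulAut.conj z).injective).symm
  have hH := hA.to_sup_of_normal_left' (IsPGroup.of_card (G := Subgroup.zpowers z) (n := 1) (by rw [Nat.card_zpowers, hz, pow_one])) hnorm
  obtain ⟨Q, hQ⟩ := hH.exists_le_sylow
  have hxQ : x ∈ (Q : Subgroup G) := hQ (Subgroup.mem_sup_left (Subgroup.mem_sup_left (Subgroup.mem_zpowers x)))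
  have hyQ : y ∈ (Q : Subgroup G) := hQ (Subgroup.mem_sup_left (Subgroup.mem_sup_right (Subgroup.mem_zpowers y)))
  have hzQ : z ∈ (Q : Subgroup G) := hQ (Subgroup.mem_sup_right (Subgroup.mem_zpowers z))
  refine wr_of_equiv (Sylow.equiv Q P) ⟨n, hn, card_sylow_two Q hm hcard, ⟨x, hxQ⟩, ⟨y, hyQ⟩, ⟨z, hzQ⟩,
    ?_, Subtype.ext hxy, ?_, ?_, Subtype.ext hzx⟩
  · rw [← Subgroup.orderOf_coe]; exact hx
  · rw [eq_bot_iff]
    rintro a ⟨ha, ha'⟩
    obtain ⟨i, hi⟩ := Subgroup.mem_zpowers_iff.1 ha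
    obtain ⟨j, hj⟩ := Subgroup.mem_zpowers_iff.1 ha'
    have : (a : G) ∈ Subgroup.zpowers x ⊓ Subgroup.zpowers y :=
      ⟨Subgroup.mem_zpowers_iff.2 ⟨i, by rw [← hi]; rfl⟩, Subgroup.mem_zpowers_iff.2 ⟨j, by rw [← hj]; rfl⟩⟩
    rw [hd] at this
    exact Subgroup.mem_bot.2 (Subtype.ext (Subgroup.mem_bot.1 this))
  · rw [← Subgroup.orderOf_coe]; exact hz

end group

variable {F : Type*} [Field F]

/-- Diagonal elements of `GL_2`. -/
def dg : Fˣ × Fˣ →* GL (Fin 2) F where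
  toFun a := ⟨!![(a.1 : F), 0; 0, (a.2 : F)], !![((a.1⁻¹ : Fˣ) : F), 0; 0, ((a.2⁻¹ : Fˣ) : F)],
    by ext i j; fin_cases i <;> fin_cases j <;> simp [Matrix.mul_apply, Fin.sum_univ_two],
    by ext i j; fin_cases i <;> fin_cases j <;> simp [Matrix.mul_apply, Fin.sum_univ_two]⟩
  map_one' := by ext i j; fin_cases i <;> fin_cases j <;> simp
  map_mul' a b := by ext i j; fin_cases i <;> fin_cases j <;> simp [Matrix.mul_apply, Fin.sum_univ_two]

/-- The swap. -/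
def sw : GL (Fin 2) F :=
  ⟨!![(0 : F), 1; 1, 0], !![(0 : F), 1; 1, 0],
    by ext i j; fin_cases i <;> fin_cases j <;> simp [Matrix.mul_apply, Fin.sum_univ_two],
    by ext i j; fin_cases i <;> fin_cases j <;> simp [Matrix.mul_apply, Fin.sum_univ_two]⟩

theorem sw_dg (a b : Fˣ) : sw * dg (a, b) * sw⁻¹ = dg (b, a) := by
  rw [mul_inv_eq_iff_eq_mul]
  ext i j; fin_cases i <;> fin_cases j <;> simp [sw, dg, Matrix.mul_apply, Fin.sum_univ_two]

theorem orderOf_sw : orderOf (sw (F := F)) = 2 := by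
  refine orderOf_eq_prime ?_ fun h => ?_
  · rw [pow_two]; ext i j; fin_cases i <;> fin_cases j <;> simp [sw, Matrix.mul_apply, Fin.sum_univ_two]
  · have := congrArg (fun g : GL (Fin 2) F => (g : Matrix (Fin 2) (Fin 2) F) 0 0) h
    simp [sw] at this

theorem dg_injective : Function.Injective (dg (F := F)) := fun a b h => by
  have h0 := congrArg (fun g : GL (Fin 2) F => (g : Matrix (Fin 2) (Fin 2) F) 0 0) h
  have h1 := congrArg (fun g : GL (Fin 2) F => (g : Matrix (Fin 2) (Fin 2) F) 1 1) h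
  exact Prod.ext (Units.ext (by simpa [dg] using h0)) (Units.ext (by simpa [dg] using h1))

theorem dg_inf (a b : Fˣ) : Subgroup.zpowers (dg (a, 1)) ⊓ Subgroup.zpowers (dg (1, b)) = ⊥ := by
  rw [eq_bot_iff]
  rintro g ⟨hg, hg'⟩
  obtain ⟨i, rfl⟩ := Subgroup.mem_zpowers_iff.1 hg
  obtain ⟨j, hj⟩ := Subgroup.mem_zpowers_iff.1 hg'
  rw [← map_zpow, ← map_zpow] at hj
  have h := dg_injective hj
  have h1 : a ^ i = 1 := by
    have := congrArg Prod.fst h
    simpa using this.symm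
  rw [← map_zpow, Subgroup.mem_bot, show (a, (1 : Fˣ)) ^ i = 1 from Prod.ext h1 (_root_.one_zpow i), map_one]

variable [Fintype F]

theorem exists_unit_order (hq : Odd (Fintype.card F)) {v k : ℕ} (hk : Odd k)
    (hN : Fintype.card F - 1 = 2 ^ v * k) : ∃ w : Fˣ, orderOf w = 2 ^ v := by
  obtain ⟨v', hv', w, hw⟩ := LBPow.exists_two_element hq
  have hw0 : w ≠ 0 := by
    rintro rfl
    rw [orderOf_eq_zero_iff.2] at hw
    · exact absurd hw.symm (by positivity)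
    · rw [isOfFinOrder_iff_pow_eq_one]; rintro ⟨j, hj, h⟩; simp [zero_pow hj.ne'] at h
  refine ⟨Units.mk0 w hw0, ?_⟩
  rw [← orderOf_units, Units.val_mk0, hw, ← hv', hN, padicValNat.mul (by positivity) hk.pos.ne',
    padicValNat.prime_pow, padicValNat.eq_zero_of_not_dvd (Nat.two_dvd_ne_zero.2 (Nat.odd_iff.1 hk)), add_zero]

theorem two_dvd_sub {q : ℕ} (hq : 1 < q) :
    (q % 4 = 3 → ∃ t m, 2 ≤ t ∧ Odd m ∧ q + 1 = 2 ^ t * m) ∧
      (q % 4 = 1 → ∃ t m, 2 ≤ t ∧ Odd m ∧ q - 1 = 2 ^ t * m) := by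
  have key : ∀ N : ℕ, N ≠ 0 → N % 4 = 0 → ∃ t m, 2 ≤ t ∧ Odd m ∧ N = 2 ^ t * m := by
    intro N hN h4
    obtain ⟨m, hm, h⟩ := LBPow.exists_odd_part hN
    refine ⟨_, m, ?_, hm, h⟩
    exact (padicValNat_dvd_iff_le hN).1 (by norm_num; omega)
  exact ⟨fun h => key (q + 1) (by omega) (by omega), fun h => key (q - 1) (by omega) (by omega)⟩

omit [Fintype F] in
theorem orderOf_dg_left (a : Fˣ) : orderOf (dg (a, 1)) = orderOf a := by
  rw [orderOf_injective dg dg_injective, Prod.orderOf, orderOf_one, Nat.lcm_one_right]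

/-- `GL_2(q)`, `q ≡ 1 (mod 4)`. -/
theorem gl_wreathed (P : Sylow 2 (GL (Fin 2) F)) (h : Fintype.card F % 4 = 1) :
    IsWreathed (P : Subgroup (GL (Fin 2) F)) := by
  obtain ⟨t, m, ht, hm, hN⟩ := (two_dvd_sub (Fintype.one_lt_card (α := F))).2 h
  obtain ⟨k, hk⟩ : ∃ k, Fintype.card F = 2 * k + 1 := ⟨Fintype.card F / 2, by omega⟩
  obtain ⟨w, hw⟩ := exists_unit_order ⟨k, hk⟩ hm hN
  obtain ⟨m', hm', hN'⟩ : ∃ m', Odd m' ∧ Fintype.card F + 1 = 2 * m' :=
    ⟨k + 1, Nat.odd_iff.2 (by omega), by omega⟩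
  refine isWreathed_sylow P ht (m := m * m * m' * Fintype.card F) ?_ ?_ (dg (w, 1)) (dg (1, w)) sw
    (by rw [orderOf_dg_left, hw]) (by rw [← map_mul, ← map_mul, mul_comm]) (dg_inf w w) orderOf_sw (sw_dg w 1)
  · exact ((hm.mul hm).mul hm').mul ⟨k, hk⟩
  · rw [Matrix.card_GL_field, Fin.prod_univ_two]
    simp only [Fin.val_zero, Fin.val_one, pow_zero, pow_one]
    generalize hq : Fintype.card F = q at *
    have e1 : q ^ 2 - 1 = (q + 1) * (q - 1) := by simpa using Nat.sq_sub_sq q 1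
    have e2 : q ^ 2 - q = q * (q - 1) := by rw [Nat.mul_sub, pow_two, mul_one]
    rw [e1, e2, hN', hN, two_mul t, pow_succ, pow_add]
    ring

/-- `GL_2(q)`, `q ≡ 3 (mod 4)`. -/
theorem gl_quasiDihedral (P : Sylow 2 (GL (Fin 2) F)) (h : Fintype.card F % 4 = 3) :
    IsQuasiDihedral (P : Subgroup (GL (Fin 2) F)) := by
  obtain ⟨t, m, ht, hm, hN⟩ := (two_dvd_sub (Fintype.one_lt_card (α := F))).1 h
  obtain ⟨p, hp⟩ := CharP.exists F
  have : Fact p.Prime := ⟨CharP.char_is_prime F p⟩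
  let K := FiniteField.Extension F p 2
  let : Fintype K := Fintype.ofFinite K
  have hK : Fintype.card K = Fintype.card F ^ 2 := by
    rw [← Nat.card_eq_fintype_card, ← Nat.card_eq_fintype_card, FiniteField.natCard_extension]
  generalize hq : Fintype.card F = q at *
  obtain ⟨j, hj⟩ : ∃ j, q = 2 * j + 1 := ⟨q / 2, by omega⟩
  have hqo : Odd q := ⟨j, hj⟩
  obtain ⟨i, hi⟩ : ∃ i, j = 2 * i + 1 := ⟨j / 2, by omega⟩
  have e1 : q ^ 2 - 1 = (q + 1) * (q - 1) := by simpa using Nat.sq_sub_sq q 1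
  have hqm : q - 1 = 2 * j := by omega
  have hNK : Fintype.card K - 1 = 2 ^ (t + 1) * (m * j) := by
    rw [hK, e1, hN, hqm]; ring
  have hjo : Odd j := ⟨i, hi⟩
  have hKodd : Odd (Fintype.card K) := by rw [hK]; exact hqo.pow
  obtain ⟨α, hα⟩ := exists_unit_order hKodd (hm.mul hjo) hNK
  let b : Module.Basis (Fin 2) F K := Module.finBasisOfFinrankEq F K (FiniteField.finrank_extension F p 2)
  let e : (Module.End F K)ˣ ≃* GL (Fin 2) F := Units.mapEquiv (algEquivMatrix b).toMulEquiv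
  let X : (Module.End F K)ˣ := Units.map (Algebra.lmul F K).toMonoidHom α
  let Y : (Module.End F K)ˣ :=
    (LinearMap.GeneralLinearGroup.generalLinearEquiv F K).symm (FiniteField.Extension.frob F p 2).toLinearEquiv
  have hY : ∀ z : K, (Y : Module.End F K) z = z ^ q := fun z => by
    change (FiniteField.Extension.frob F p 2) z = _
    rw [FiniteField.Extension.frob_apply, Nat.card_eq_fintype_card, hq]
  have hX : ∀ z : K, (X : Module.End F K) z = (α : K) * z := fun z => rfl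
  have hXo : orderOf X = 2 ^ (t + 1) := by
    rw [orderOf_injective (Units.map (Algebra.lmul F K).toMonoidHom) ?_, hα]
    intro a c hac
    refine Units.ext ?_
    have := congrArg (fun u : (Module.End F K)ˣ => (u : Module.End F K) 1) hac
    simpa using this
  have hY2 : Y ^ 2 = 1 := by
    refine Units.ext (LinearMap.ext fun z => ?_)
    rw [pow_two, Units.val_mul, Module.End.mul_apply, hY, hY, ← pow_mul, ← pow_two, ← hK,
      FiniteField.pow_card]
    rfl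
  have hY1 : Y ≠ 1 := by
    intro hc
    have hall : ∀ z : K, z ^ q = z := fun z => by rw [← hY, hc]; rfl
    classical
    have hsub : (Finset.univ : Finset K) ⊆ (Polynomial.X ^ q - Polynomial.X : Polynomial K).roots.toFinset := by
      intro z _
      rw [Multiset.mem_toFinset, Polynomial.mem_roots (FiniteField.X_pow_card_sub_X_ne_zero K (by omega))]
      simp [hall]
    have h2 := (Finset.card_le_card hsub).trans ((Multiset.toFinset_card_le _).trans
      (Polynomial.card_roots' _))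
    rw [Finset.card_univ, hK, FiniteField.X_pow_card_sub_X_natDegree_eq K (by omega)] at h2
    have : q * 2 ≤ q * q := Nat.mul_le_mul_left q (by omega)
    rw [pow_two] at h2
    omega
  obtain ⟨c, hc⟩ := hm
  have hqe : q = 2 ^ (t + 1) * c + (2 ^ t - 1) := by
    have hpt : 1 ≤ 2 ^ t := Nat.one_le_two_pow
    have hexp : 2 ^ t * (2 * c + 1) = 2 ^ (t + 1) * c + 2 ^ t := by ring
    rw [hc, hexp] at hN
    omega
  have hrel : Y * X * Y⁻¹ = X ^ (2 ^ t - 1) := by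
    have h1 : X ^ q = X ^ (2 ^ t - 1) := by
      rw [hqe, pow_add, pow_mul, ← hXo, pow_orderOf_eq_one, one_pow, one_mul]
    rw [← h1, mul_inv_eq_iff_eq_mul]
    refine Units.ext (LinearMap.ext fun z => ?_)
    rw [Units.val_mul, Units.val_mul, Module.End.mul_apply, Module.End.mul_apply, hY, hX, hY]
    rw [show X ^ q = Units.map (Algebra.lmul F K).toMonoidHom (α ^ q) from (map_pow _ _ _).symm]
    change ((α : K) * z) ^ q = ((α ^ q : Kˣ) : K) * z ^ q
    rw [Units.val_pow_eq_pow_val, mul_pow]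
  refine isQuasiDihedral_sylow P (n := t + 1) (m := q * j * j * m) (by omega) ?_ ?_ (e X) (e Y)
    (by rw [e.orderOf_eq, hXo]) (by rw [e.orderOf_eq, orderOf_eq_prime hY2 hY1])
    (by rw [← map_inv, ← map_mul, ← map_mul, hrel, map_pow, Nat.add_sub_cancel])
  · exact ((hqo.mul hjo).mul hjo).mul ⟨c, hc⟩
  · rw [Matrix.card_GL_field, Fin.prod_univ_two, hq]
    simp only [Fin.val_zero, Fin.val_one, pow_zero, pow_one]
    have e2 : q ^ 2 - q = q * (q - 1) := by rw [Nat.mul_sub, pow_two, mul_one]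
    rw [e1, e2, hN, hqm]; ring

section unitary

variable {q : ℕ}

theorem frob_facts (hF : Fintype.card F = q ^ 2) : ∃ σ : F →+* F, (∀ x, σ x = x ^ q) ∧
    Nat.card (Cfsg.GU 2 F q) = q * (q + 1) * ((q + 1) * (q - 1)) := by
  obtain ⟨σ, hσ, hne, hinv, hfix, hq2⟩ := HermStd.exists_sigma hF
  refine ⟨σ, hσ, ?_⟩
  rw [HermStd.card_GU hne hinv hσ 2 hfix, show Finset.range 2 = {0, 1} from rfl,
    Finset.prod_pair (by norm_num)]
  have e1 : q ^ 2 - 1 = (q + 1) * (q - 1) := by simpa using Nat.sq_sub_sq q 1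
  norm_num [e1]
  ring

omit [Fintype F] in
theorem hermForm_two (u v : Fin 2 → F) : Cfsg.hermForm 2 F q u v = u 0 * v 0 ^ q + u 1 * v 1 ^ q := by
  simp [Cfsg.hermForm, Fin.sum_univ_two]

/-- `GU_2(q)`, `q ≡ 3 (mod 4)`. -/
theorem gu_wreathed (hF : Fintype.card F = q ^ 2) (hq : Odd q) (P : Sylow 2 ↥(Cfsg.GU 2 F q))
    (h : q % 4 = 3) : IsWreathed (P : Subgroup ↥(Cfsg.GU 2 F q)) := by
  obtain ⟨σ, hσ, hcard⟩ := frob_facts hF
  have hqo : Odd q := hq
  obtain ⟨j, hj⟩ := hq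
  obtain ⟨t, m, ht, hm, hN⟩ := (two_dvd_sub (q := q) (by omega)).1 h
  have e1 : q ^ 2 - 1 = (q + 1) * (q - 1) := by simpa using Nat.sq_sub_sq q 1
  have hqm : q - 1 = 2 * j := by omega
  have hjo : Odd j := Nat.odd_iff.2 (by omega)
  have hNF : Fintype.card F - 1 = 2 ^ (t + 1) * (m * j) := by rw [hF, e1, hN, hqm]; ring
  obtain ⟨μ, hμ⟩ := exists_unit_order (by rw [hF]; exact hqo.pow) (hm.mul hjo) hNF
  have hζ : orderOf (μ ^ 2) = 2 ^ t := by
    rw [orderOf_pow' μ (two_ne_zero), hμ, Nat.gcd_eq_right (dvd_pow_self 2 (by omega)), pow_succ,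
      Nat.mul_div_cancel _ (by norm_num)]
  have hζn : ((μ ^ 2 : Fˣ) : F) * ((μ ^ 2 : Fˣ) : F) ^ q = 1 := by
    rw [← pow_succ', ← Units.val_pow_eq_pow_val, hN, pow_mul, ← hζ, pow_orderOf_eq_one, one_pow, Units.val_one]
  have mem : ∀ a b : Fˣ, (a : F) * (a : F) ^ q = 1 → (b : F) * (b : F) ^ q = 1 → dg (a, b) ∈ Cfsg.GU 2 F q := by
    intro a b ha hb u v
    rw [hermForm_two, hermForm_two]
    simp only [dg, Units.coeHom_apply, MonoidHom.coe_mk, OneHom.coe_mk, Matrix.mulVec, dotProduct,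
      Fin.sum_univ_two]
    simp
    linear_combination u 0 * v 0 ^ q * ha + u 1 * v 1 ^ q * hb
  have hone : ((1 : Fˣ) : F) * ((1 : Fˣ) : F) ^ q = 1 := by simp
  have hsw : (sw : GL (Fin 2) F) ∈ Cfsg.GU 2 F q := by
    intro u v
    rw [hermForm_two, hermForm_two]
    simp [sw, Matrix.mulVec, dotProduct, Fin.sum_univ_two, add_comm]
  refine isWreathed_sylow P (n := t) (m := q * m * m * j) ht ?_ ?_ ⟨dg (μ ^ 2, 1), mem _ _ hζn hone⟩
    ⟨dg (1, μ ^ 2), mem _ _ hone hζn⟩ ⟨sw, hsw⟩ ?_ (Subtype.ext ?_) ?_ ?_ (Subtype.ext (sw_dg _ _))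
  · exact ((hqo.mul hm).mul hm).mul hjo
  · rw [hcard, hN, hqm, two_mul t, pow_succ, pow_add]; ring
  · rw [← Subgroup.orderOf_coe, orderOf_dg_left, hζ]
  · simp only [Subgroup.coe_mul]
    rw [← map_mul, ← map_mul, mul_comm]
  · rw [eq_bot_iff]
    rintro a ⟨ha, ha'⟩
    obtain ⟨i, hi⟩ := Subgroup.mem_zpowers_iff.1 ha
    obtain ⟨i', hi'⟩ := Subgroup.mem_zpowers_iff.1 ha'
    have h0 : (a : GL (Fin 2) F) ∈ Subgroup.zpowers (dg (μ ^ 2, 1)) ⊓ Subgroup.zpowers (dg (1, μ ^ 2)) :=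
      ⟨Subgroup.mem_zpowers_iff.2 ⟨i, by rw [← hi]; rfl⟩, Subgroup.mem_zpowers_iff.2 ⟨i', by rw [← hi']; rfl⟩⟩
    rw [dg_inf] at h0
    exact Subgroup.mem_bot.2 (Subtype.ext (Subgroup.mem_bot.1 h0))
  · rw [← Subgroup.orderOf_coe]; exact orderOf_sw

/-- `GU_2(q)`, `q ≡ 1 (mod 4)`. -/
theorem gu_quasiDihedral (hF : Fintype.card F = q ^ 2) (hq : Odd q) (P : Sylow 2 ↥(Cfsg.GU 2 F q))
    (h : q % 4 = 1) : IsQuasiDihedral (P : Subgroup ↥(Cfsg.GU 2 F q)) := by
  obtain ⟨σ, hσ, hcard⟩ := frob_facts hF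
  have hqo : Odd q := hq
  obtain ⟨j, hj⟩ := hq
  have hq1 : 1 < q := by
    rcases Nat.lt_or_ge 1 q with h' | h'
    · exact h'
    · have := Fintype.one_lt_card (α := F)
      interval_cases q <;> omega
  obtain ⟨t, m, ht, hm, hN⟩ := (two_dvd_sub hq1).2 h
  obtain ⟨r, hr⟩ : ∃ r, q + 1 = 2 * r := ⟨j + 1, by omega⟩
  have hro : Odd r := Nat.odd_iff.2 (by omega)
  have e1 : q ^ 2 - 1 = (q + 1) * (q - 1) := by simpa using Nat.sq_sub_sq q 1
  have hNF : Fintype.card F - 1 = 2 ^ (t + 1) * (m * r) := by rw [hF, e1, hN, hr]; ring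
  obtain ⟨μ, hμ⟩ := exists_unit_order (by rw [hF]; exact hqo.pow) (hm.mul hro) hNF
  obtain ⟨s, rfl⟩ : ∃ s, t = s + 1 := ⟨t - 1, by omega⟩
  have hneg : (μ : F) ^ 2 ^ (s + 1) = -1 := LBPow.pow_two_part (v := s + 1) (by rw [orderOf_units, hμ])
  let l : F := (μ : F) ^ 2 ^ s
  have hl : l ^ (q + 1) = -1 := by
    rw [hr, pow_mul, ← pow_mul (μ : F), ← pow_succ, hneg, hro.neg_one_pow]
  have hl0 : l ≠ 0 := pow_ne_zero _ μ.ne_zero
  have h2 : (2 : F) ≠ 0 := by
    intro h20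
    have hr2 : ringChar F = 2 := by
      rcases CharP.char_is_prime_or_zero F (ringChar F) with hp | hp
      · exact ((Nat.prime_dvd_prime_iff_eq hp Nat.prime_two).1
          ((ringChar.spec F 2).1 (by exact_mod_cast h20)))
      · exact absurd hp (CharP.ringChar_ne_zero_of_finite F)
    have h5 := FiniteField.even_card_of_char_two (F := F) hr2
    have h6 := Nat.odd_iff.1 (hqo.pow (n := 2))
    rw [hF] at h5
    omega
  let M : GL (Fin 2) F := ⟨!![1, (2 : F)⁻¹; l, -(l * (2 : F)⁻¹)], !![(2 : F)⁻¹, (2 : F)⁻¹ * l⁻¹; 1, -l⁻¹],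
    by ext i k; fin_cases i <;> fin_cases k <;> simp [Matrix.mul_apply, Fin.sum_univ_two] <;> field_simp <;> ring,
    by ext i k; fin_cases i <;> fin_cases k <;> simp [Matrix.mul_apply, Fin.sum_univ_two] <;> field_simp <;> ring⟩
  let H' : (Fin 2 → F) → (Fin 2 → F) → F := fun u v => u 0 * σ (v 1) + u 1 * σ (v 0)
  have hs2 : σ (2 : F)⁻¹ = (2 : F)⁻¹ := by rw [map_inv₀, map_ofNat]
  have hls : l * σ l = -1 := by rw [hσ, ← pow_succ', hl]
  have hM : ∀ u v, Cfsg.hermForm 2 F q ((M : Matrix (Fin 2) (Fin 2) F) *ᵥ u) ((M : Matrix (Fin 2) (Fin 2) F) *ᵥ v) = H' u v := by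
    intro u v
    rw [hermForm_two, ← hσ, ← hσ]
    simp [M, H', Matrix.mulVec, dotProduct, Fin.sum_univ_two, hs2]
    generalize σ l = l' at hls ⊢
    generalize σ (v 0) = v0
    generalize σ (v 1) = v1
    field_simp
    linear_combination (2 * u 0 - u 1) * (2 * v0 - v1) * hls
  have memc : ∀ g : GL (Fin 2) F,
      (∀ u v, H' ((g : Matrix (Fin 2) (Fin 2) F) *ᵥ u) ((g : Matrix (Fin 2) (Fin 2) F) *ᵥ v) = H' u v) →
      MulAut.conj M g ∈ Cfsg.GU 2 F q := by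
    intro g hg u v
    have hu : ∀ w : Fin 2 → F, (M : Matrix (Fin 2) (Fin 2) F) *ᵥ (((M⁻¹ : GL (Fin 2) F) : Matrix (Fin 2) (Fin 2) F) *ᵥ w) = w := by
      intro w; rw [Matrix.mulVec_mulVec, Units.mul_inv, Matrix.one_mulVec]
    simp only [MulAut.conj_apply, map_mul, Units.coeHom_apply, ← Matrix.mulVec_mulVec]
    rw [hM, hg, ← hM, hu, hu]
  let k : ℕ := 2 ^ (s + 1) - 1
  have hpt : 1 ≤ 2 ^ (s + 1) := Nat.one_le_two_pow
  obtain ⟨c, hc⟩ := hm
  have hqk : q + k = 2 ^ (s + 1 + 1) * (c + 1) := by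
    have hexp : 2 ^ (s + 1) * (2 * c + 1) + 2 ^ (s + 1) = 2 ^ (s + 1 + 1) * (c + 1) := by ring
    rw [hc] at hN
    omega
  have hμqk : (μ : F) ^ (q + k) = 1 := by
    rw [hqk, pow_mul, ← hμ, ← orderOf_units, pow_orderOf_eq_one, one_pow]
  have hkk : μ ^ (k * k) = μ := by
    have hexp : k * k + 2 ^ (s + 1 + 1) = 2 ^ (s + 1 + 1) * 2 ^ s + 1 := by
      have hk : 2 ^ (s + 1) = k + 1 := by omega
      have h3 : 2 ^ (s + 1 + 1) * 2 ^ s = 2 ^ (s + 1) * 2 ^ (s + 1) := by ring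
      have h4 : 2 ^ (s + 1 + 1) = 2 * 2 ^ (s + 1) := by ring
      rw [h3, h4, hk]; ring
    have h1 : μ ^ (k * k) * μ ^ (2 ^ (s + 1 + 1)) = μ := by
      rw [← pow_add, hexp, pow_add, pow_mul, ← hμ, pow_orderOf_eq_one, one_pow, one_mul, pow_one]
    rwa [← hμ, pow_orderOf_eq_one, mul_one] at h1
  have hd : MulAut.conj M (dg (μ, μ ^ k)) ∈ Cfsg.GU 2 F q := by
    refine memc _ fun u v => ?_
    have hab : (μ : F) * σ ((μ ^ k : Fˣ) : F) = 1 := by
      rw [hσ, Units.val_pow_eq_pow_val, ← pow_mul]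
      have h5 : (μ : F) * (μ : F) ^ (k * q) = ((μ : F) ^ (q + k)) ^ k * ((μ : F) * ((μ : F) ^ (k * k))⁻¹) := by
        rw [← pow_mul, add_mul, pow_add, mul_comm k q]
        field_simp
      rw [h5, hμqk, one_pow, one_mul, ← Units.val_pow_eq_pow_val, hkk]
      exact mul_inv_cancel₀ μ.ne_zero
    have hba : ((μ ^ k : Fˣ) : F) * σ (μ : F) = 1 := by
      rw [hσ, Units.val_pow_eq_pow_val, ← pow_add, add_comm, hμqk]
    simp [H', dg, dotProduct, Fin.sum_univ_two] at hab hba ⊢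
    linear_combination u 0 * σ (v 1) * hab + u 1 * σ (v 0) * hba
  have hs : MulAut.conj M sw ∈ Cfsg.GU 2 F q := by
    refine memc _ fun u v => ?_
    simp [H', sw, dotProduct, Fin.sum_univ_two, add_comm]
  refine isQuasiDihedral_sylow P (n := s + 1 + 1) (m := q * r * r * (2 * c + 1)) (by omega) ?_ ?_
    ⟨_, hd⟩ ⟨_, hs⟩ ?_ ?_ (Subtype.ext ?_)
  · exact ((hqo.mul hro).mul hro).mul ⟨c, rfl⟩
  · rw [hcard, hN, hr, hc]; ring
  · rw [← Subgroup.orderOf_coe, MulEquiv.orderOf_eq, orderOf_injective dg dg_injective, Prod.orderOf, hμ]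
    exact Nat.lcm_eq_left (hμ ▸ orderOf_dvd_of_pow_eq_one (by rw [← pow_mul, mul_comm, pow_mul, pow_orderOf_eq_one, one_pow]))
  · rw [← Subgroup.orderOf_coe, MulEquiv.orderOf_eq, orderOf_sw]
  · rw [Nat.add_sub_cancel]
    simp only [Subgroup.coe_mul, Subgroup.coe_inv, SubmonoidClass.coe_pow]
    rw [← map_inv, ← map_mul, ← map_mul, sw_dg, ← map_pow, ← map_pow]
    exact congrArg _ (congrArg _ (Prod.ext rfl (by rw [Prod.pow_snd, ← pow_mul]; exact hkk.symm)))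

end unitary

end Cfsg.Agent.SylTwoRO
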