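/-
Classes of elements of odd prime order in GU_n.
-/
import Cfsg.Agent.Lib.LinearBlock.TwistRootPolys

set_option autoImplicit false
set_option linter.all false

namespace Cfsg.Agent.LBRootGU

open Polynomial LBRootPoly LBRootTwist Matrix UnitarySpectra

variable {F : Type*} [Field F] [Fintype F] [DecidableEq F] {n q r : ℕ}

theorem isConj_gu (p : ℕ) [Fact p.Prime] [CharP F p] (hF : Fintype.card F = q ^ 2) (g h : ↥(Cfsg.GU n F q))
    (hg : (orderOf g).Coprime p) (hh : (orderOf h).Coprime p)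
    (hc : ((g : GL (Fin n) F) : Matrix (Fin n) (Fin n) F).charpoly = ((h : GL (Fin n) F) : Matrix (Fin n) (Fin n) F).charpoly) :
    IsConj g h := by
  rcases Nat.eq_zero_or_pos n with hn | hn
  · subst hn
    have : g = h := Subtype.ext (Units.ext (Matrix.ext fun i => i.elim0))
    rw [this]
  obtain ⟨σ₀, hσ₀, hne, hinv, -, -⟩ := HermStd.exists_sigma hF
  obtain ⟨σ, hσ⟩ : ∃ σ : F ≃+* F, ∀ x, σ x = σ₀ x :=
    ⟨Hermitian.sEquiv hinv, Hermitian.sEquiv_apply hinv⟩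
  have hσσ : ∀ x, σ (σ x) = x := fun x => by rw [hσ, hσ, hinv]
  obtain ⟨μ, hμ⟩ : ∃ μ, σ μ ≠ μ := by
    by_contra hc'
    push Not at hc'
    exact hne (RingHom.ext fun x => (hσ x).symm.trans (hc' x))
  have hmem : ∀ x : GL (Fin n) F, x ∈ Cfsg.GU n F q ↔ adj σ x.1 * x.1 = 1 := by
    intro x
    rw [HermSU.mem_GU_iff hσ₀]
    have e : x.1.map σ₀ = x.1.map σ := by ext i j; exact (hσ _).symm
    rw [e, adj, ← Matrix.transpose_inj, Matrix.transpose_mul, Matrix.transpose_transpose, Matrix.transpose_one]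
  obtain ⟨gm, hgm⟩ : ∃ gm : Matrix (Fin n) (Fin n) F, gm = (g : GL (Fin n) F) := ⟨_, rfl⟩
  obtain ⟨hm, hhm⟩ : ∃ hm : Matrix (Fin n) (Fin n) F, hm = (h : GL (Fin n) F) := ⟨_, rfl⟩
  have hpow : ∀ x : ↥(Cfsg.GU n F q), ((x : GL (Fin n) F) : Matrix (Fin n) (Fin n) F) ^ orderOf x = 1 := fun x => by
    rw [← Units.val_pow_eq_pow_val, ← SubmonoidClass.coe_pow, pow_orderOf_eq_one]; rfl
  have hgu : adj σ gm * gm = 1 := hgm ▸ (hmem _).1 g.2
  have hhu : adj σ hm * hm = 1 := hhm ▸ (hmem _).1 h.2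
  obtain ⟨P, hP⟩ := SemisimpleCl.exists_conjugator
    (SemisimpleCl.isSemisimple_of_pow p (hgm ▸ hpow g) hg)
    (SemisimpleCl.isSemisimple_of_pow p (hhm ▸ hpow h) hh) (hgm ▸ hhm ▸ hc)
  obtain ⟨C, hC⟩ : ∃ C, C = adj σ P.1 * P.1 := ⟨_, rfl⟩
  have hCg : C * gm = gm * C := by
    have h2 := congrArg (adj σ) hP
    rw [adj_mul, adj_mul] at h2
    rw [hC, mul_assoc, hP, ← mul_assoc, ← mul_assoc]
    congr 1
    calc adj σ P.1 * hm = gm * (adj σ gm * adj σ P.1) * hm := by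
          rw [← mul_assoc gm, mul_eq_one_comm.1 hgu, one_mul]
      _ = gm * adj σ P.1 := by rw [h2, mul_assoc gm, mul_assoc (adj σ P.1), hhu, mul_one]
  have hscal : ∀ (a : F) (M : Matrix (Fin n) (Fin n) F), a • (1 : Matrix (Fin n) (Fin n) F) * M =
      M * a • (1 : Matrix (Fin n) (Fin n) F) := fun a M => by
    rw [smul_mul_assoc, mul_smul_comm, one_mul, mul_one]
  obtain ⟨U, hU, hUU⟩ := InvolRing.exists_unitary_conj (adj σ) (adj_mul σ) (adj_add σ)
    (adj_adj σ hσσ) ({C, μ • 1, σ μ • 1} : Set (Matrix (Fin n) (Fin n) F))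
    (by rintro a (rfl | rfl | rfl) b (rfl | rfl | rfl) <;>
      first | rfl | exact hscal _ _ | exact (hscal _ _).symm)
    (by
      rintro a (rfl | rfl | rfl)
      · exact Or.inl (by rw [hC, adj_mul, adj_adj σ hσσ])
      · simp [adj_smul, adj_one]
      · simp [adj_smul, adj_one, hσσ])
    (g := gm) (h := hm) (by rintro a (rfl | rfl | rfl) <;> first | exact hCg | exact hscal _ _)
    P hP (by simp [hC]) (δ := μ • 1) (f := 0) (by simp) (zero_mem _) (adj_zero σ) (mul_zero _)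
    (mul_zero _) (by
      rw [add_zero, adj_smul, adj_one, ← sub_smul]
      refine (Matrix.isUnit_iff_isUnit_det _).2 ?_
      rw [Matrix.det_smul, Matrix.det_one, mul_one]
      exact (IsUnit.mk0 _ (sub_ne_zero.2 fun e => hμ e.symm)).pow _)
  refine isConj_iff.2 ⟨⟨U, (hmem _).2 hUU⟩, ?_⟩
  rw [mul_inv_eq_iff_eq_mul]
  refine Subtype.ext (Units.ext ?_)
  show U.1 * ((g : GL (Fin n) F) : Matrix (Fin n) (Fin n) F) = ((h : GL (Fin n) F) : Matrix (Fin n) (Fin n) F) * U.1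
  rw [← hgm, ← hhm]
  exact hU

theorem card_gu (p : ℕ) [Fact p.Prime] [CharP F p] (hF : Fintype.card F = q ^ 2) (hr : r.Prime) (hr2 : r ≠ 2) (hrp : r ≠ p)
    (n i b s : ℕ) (hi : i = orderOf (q : ZMod r)) (hb : b = if Odd i then i else i / 2) (hs : s * b = r - 1) :
    Nat.card {C : ConjClasses ↥(Cfsg.GU n F q) // ∃ g : ↥(Cfsg.GU n F q), ConjClasses.mk g = C ∧ orderOf g = r} =
      if i % 4 = 2 then Nat.choose (2 * n / i + s) s - 1 else Nat.choose (n / (2 * b) + s / 2) (s / 2) - 1 := by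
  haveI : Fact r.Prime := ⟨hr⟩
  obtain ⟨σ₀, hσ₀, hne, hinv, -, hq2⟩ := HermStd.exists_sigma hF
  -- `q` is a power of `p`
  obtain ⟨a, ha⟩ : ∃ a, q = p ^ a := by
    obtain ⟨k, -, hk⟩ := FiniteField.card F p
    have : q ∣ p ^ (k : ℕ) := by rw [← hk, hF]; exact dvd_pow_self q two_ne_zero
    obtain ⟨a, -, ha⟩ := (Nat.dvd_prime_pow Fact.out).1 this
    exact ⟨a, ha⟩
  have hQ : ∀ x, σ₀ x = x ^ p ^ a := fun x => ha ▸ hσ₀ x
  have hq0 : (q : ZMod r) ≠ 0 := by
    rw [Ne, ZMod.natCast_eq_zero_iff, ha]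
    exact fun h => hrp ((Nat.prime_dvd_prime_iff_eq hr Fact.out).1 (hr.dvd_of_dvd_pow h))
  have hipos : 0 < i := hi ▸ orderOf_pos_iff.2 (isOfFinOrder_iff_pow_eq_one.2
    ⟨r - 1, by have := hr.two_le; omega, ZMod.pow_card_sub_one_eq_one hq0⟩)
  have hK : (Fintype.card F : ZMod r) = (q : ZMod r) ^ 2 := by rw [hF, Nat.cast_pow]
  have hb' : b = orderOf (Fintype.card F : ZMod r) := by
    rw [hK, orderOf_pow' _ two_ne_zero, ← hi, hb]
    split_ifs with ho
    · rw [show i.gcd 2 = 1 from Nat.coprime_two_right.2 ho, Nat.div_one]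
    · rw [Nat.gcd_eq_right (Nat.not_odd_iff_even.1 ho).two_dvd]
  have hcond : (∃ d : ℕ, (Fintype.card F : ZMod r) ^ d = -((p ^ a : ℕ) : ZMod r)) ↔ i % 4 = 2 := by
    haveI : Fact (2 < r) := ⟨lt_of_le_of_ne hr.two_le (Ne.symm hr2)⟩
    rw [hK, ← ha]
    constructor
    · rintro ⟨d, hd⟩
      have hw : (q : ZMod r) ^ (2 * d + 2 * i - 1) = -1 := by
        refine mul_right_cancel₀ hq0 ?_
        rw [← pow_succ, show 2 * d + 2 * i - 1 + 1 = 2 * d + i * 2 by omega, pow_add, pow_mul, hd, pow_mul, hi,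
          pow_orderOf_eq_one, one_pow, mul_one, neg_one_mul]
      obtain ⟨-, hev⟩ := (even_order_iff hr2).1 ⟨_, hw.trans (by rw [Nat.cast_one])⟩
      rw [← hi] at hev
      obtain ⟨j, hj⟩ := hev
      have h2 : i ∣ (2 * d + 2 * i - 1) * 2 := by
        have h3 := orderOf_dvd_of_pow_eq_one (x := (q : ZMod r)) (n := (2 * d + 2 * i - 1) * 2) (by rw [pow_mul, hw, neg_one_sq])
        rwa [← hi] at h3
      obtain ⟨c, hc⟩ := h2
      have hjd : j ∣ 2 * d + 2 * i - 1 := ⟨c, by subst hj; nlinarith⟩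
      have hodd : Odd (2 * d + 2 * i - 1) := ⟨d + i - 1, by omega⟩
      have := hodd.of_dvd_nat hjd
      rw [Nat.odd_iff] at this
      omega
    · intro h4
      refine ⟨(i / 2 + 1) / 2, ?_⟩
      have hneg : (q : ZMod r) ^ (i / 2) = -1 := by
        have h2 : ((q : ZMod r) ^ (i / 2)) ^ 2 = 1 := by
          rw [← pow_mul, show i / 2 * 2 = orderOf (q : ZMod r) by omega, pow_orderOf_eq_one]
        exact (sq_eq_one_iff.1 h2).resolve_left (pow_ne_one_of_lt_orderOf (by omega) (by omega))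
      rw [← pow_mul, show 2 * ((i / 2 + 1) / 2) = i / 2 + 1 by omega, pow_succ, hneg, neg_one_mul]
  let val : ↥(Cfsg.GU n F q) →* Matrix (Fin n) (Fin n) F := (Units.coeHom _).comp (Cfsg.GU n F q).subtype
  rw [card_linear p hr hrp val (fun x y h => Subtype.ext (Units.ext h)) (fun g h => isConj_gu p hF g h)
    (fun f => (f.natDegree = n ∧ Good r f) ∧ rc σ₀ f = f) ?_ ?_,
    card_twist σ₀ p a hinv hQ hr hrp n b s hb' hs]
  · by_cases h4 : i % 4 = 2
    · rw [if_pos (hcond.2 h4), if_pos h4]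
      have ho : ¬ Odd i := fun h => by rw [Nat.odd_iff] at h; omega
      rw [hb, if_neg ho]
      congr 3
      rw [show 2 * n / i = 2 * n / (2 * (i / 2)) by congr 1; omega, Nat.mul_div_mul_left n (i / 2) (by norm_num : 0 < 2)]
    · rw [if_neg (fun h => h4 (hcond.1 h)), if_neg h4]
  · intro g hg
    obtain ⟨σ, hσ⟩ : ∃ σ : F ≃+* F, ∀ x, σ x = σ₀ x :=
      ⟨Hermitian.sEquiv hinv, Hermitian.sEquiv_apply hinv⟩
    have hgu : adj σ (val g) * val g = 1 := by
      have h := (HermSU.mem_GU_iff hσ₀ (g : GL (Fin n) F)).1 g.2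
      have e : (g : GL (Fin n) F).1.map σ₀ = (g : GL (Fin n) F).1.map σ := by ext i j; exact (hσ _).symm
      rw [e, ← Matrix.transpose_inj, Matrix.transpose_mul, Matrix.transpose_transpose, Matrix.transpose_one] at h
      exact h
    have hdeg : (val g).charpoly.natDegree = n := by rw [Matrix.charpoly_natDegree_eq_dim, Fintype.card_fin]
    have hGood : Good r (val g).charpoly := good_charpoly (by rw [← map_pow, hg, map_one])
    refine ⟨⟨hdeg, hGood⟩, (rc_fix_iff σ₀ hinv (Matrix.charpoly_monic _) (coeff_zero_ne hr.ne_zero hGood) hdeg).2 fun j hj => ?_⟩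
    rw [UnitaryClasses.charpoly_symm σ hgu hj, hσ]
  · rintro f ⟨⟨hd, hG⟩, hfix⟩
    obtain ⟨σ, hσ⟩ : ∃ σ : F ≃+* F, ∀ x, σ x = σ₀ x :=
      ⟨Hermitian.sEquiv hinv, Hermitian.sEquiv_apply hinv⟩
    obtain ⟨μ, hμ⟩ : ∃ μ, σ μ ≠ μ := by
      by_contra hc'
      push Not at hc'
      exact hne (RingHom.ext fun x => (hσ x).symm.trans (hc' x))
    have hσ2 : orderOf σ = 2 := by
      haveI : Fact (Nat.Prime 2) := ⟨Nat.prime_two⟩
      refine orderOf_eq_prime (RingEquiv.ext fun x => ?_) fun h => hμ ?_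
      · rw [sq]; show σ (σ x) = x; rw [hσ, hσ, hinv]
      · rw [h]; rfl
    have hne0 := coeff_zero_ne hr.ne_zero hG
    have hsym := (rc_fix_iff σ₀ hinv hG.1 hne0 hd).1 hfix
    obtain ⟨M, hM, hMf⟩ := UnitaryClasses.exists_charpoly_eq σ hσ2 hμ hG.1 hd hne0 fun j hj => by rw [hsym j hj, hσ]
    have hMu : (⟨M, adj σ M, mul_eq_one_comm.1 hM, hM⟩ : GL (Fin n) F) ∈ Cfsg.GU n F q := by
      rw [HermSU.mem_GU_iff hσ₀]
      have e : M.map σ₀ = M.map σ := by ext i j; exact (hσ _).symm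
      show Mᵀ * M.map σ₀ = 1
      rw [e, ← Matrix.transpose_inj, Matrix.transpose_mul, Matrix.transpose_transpose, Matrix.transpose_one]
      exact hM
    exact ⟨hG, ⟨_, hMu⟩, hMf⟩

end Cfsg.Agent.LBRootGU
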