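/-
Conjugacy in the general unitary group is controlled by the general linear group.
-/
import Cfsg.Agent.Lib.LinearBlock.GURootClasses

set_option autoImplicit false
set_option linter.all false

namespace Cfsg.Agent.LBGUConj

open Matrix UnitarySpectra

theorem isConj_of_gl {F : Type*} [Field F] [Fintype F] {n q : ℕ} (hF : Fintype.card F = q ^ 2) (g h : ↥(Cfsg.GU n F q))
    (hc : IsConj (g : GL (Fin n) F) (h : GL (Fin n) F)) : IsConj g h := by
  classical
  rcases Nat.eq_zero_or_pos n with hn | hn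
  · subst hn
    rw [show g = h from Subtype.ext (Units.ext (Matrix.ext fun i => i.elim0))]
  obtain ⟨σ₀, hσ₀, hne, hinv, -, -⟩ := HermStd.exists_sigma hF
  obtain ⟨σ, hσ⟩ : ∃ σ : F ≃+* F, ∀ x, σ x = σ₀ x :=
    ⟨Hermitian.sEquiv hinv, Hermitian.sEquiv_apply hinv⟩
  have hσσ : ∀ x, σ (σ x) = x := fun x => by rw [hσ, hσ, hinv]
  obtain ⟨μ, hμ⟩ : ∃ μ, σ μ ≠ μ := by
    by_contra hc'
    push Not at hc'
    exact hne (RingHom.ext fun x => (hσ x).symm.trans (hc' x))
  have hmem : ∀ x : GL (Fin n) F, x ∈ Cfsg.GU n F q ↔ adj σ x.1 * x.1 = 1 := by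
    intro x
    rw [HermSU.mem_GU_iff hσ₀]
    have e : x.1.map σ₀ = x.1.map σ := by ext i j; exact (hσ _).symm
    rw [e, adj, ← Matrix.transpose_inj, Matrix.transpose_mul, Matrix.transpose_transpose, Matrix.transpose_one]
  obtain ⟨gm, hgm⟩ : ∃ gm : Matrix (Fin n) (Fin n) F, gm = (g : GL (Fin n) F) := ⟨_, rfl⟩
  obtain ⟨hm, hhm⟩ : ∃ hm : Matrix (Fin n) (Fin n) F, hm = (h : GL (Fin n) F) := ⟨_, rfl⟩
  have hgu : adj σ gm * gm = 1 := hgm ▸ (hmem _).1 g.2
  have hhu : adj σ hm * hm = 1 := hhm ▸ (hmem _).1 h.2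
  obtain ⟨P, hP'⟩ := isConj_iff.1 hc
  have hP : P.1 * gm = hm * P.1 := by
    rw [hgm, hhm, ← hP', Units.val_mul, Units.val_mul, mul_assoc, Units.inv_mul, mul_one]
  obtain ⟨C, hC⟩ : ∃ C, C = adj σ P.1 * P.1 := ⟨_, rfl⟩
  have hCg : C * gm = gm * C := by
    have h2 := congrArg (adj σ) hP
    rw [adj_mul, adj_mul] at h2
    rw [hC, mul_assoc, hP, ← mul_assoc, ← mul_assoc]
    congr 1
    calc adj σ P.1 * hm = gm * (adj σ gm * adj σ P.1) * hm := by
          rw [← mul_assoc gm, mul_eq_one_comm.1 hgu, one_mul]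
      _ = gm * adj σ P.1 := by rw [h2, mul_assoc gm, mul_assoc (adj σ P.1), hhu, mul_one]
  have hscal : ∀ (a : F) (M : Matrix (Fin n) (Fin n) F), a • (1 : Matrix (Fin n) (Fin n) F) * M =
      M * a • (1 : Matrix (Fin n) (Fin n) F) := fun a M => by
    rw [smul_mul_assoc, mul_smul_comm, one_mul, mul_one]
  obtain ⟨U, hU, hUU⟩ := InvolRing.exists_unitary_conj (adj σ) (adj_mul σ) (adj_add σ)
    (adj_adj σ hσσ) ({C, μ • 1, σ μ • 1} : Set (Matrix (Fin n) (Fin n) F))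
    (by rintro a (rfl | rfl | rfl) b (rfl | rfl | rfl) <;>
      first | rfl | exact hscal _ _ | exact (hscal _ _).symm)
    (by
      rintro a (rfl | rfl | rfl)
      · exact Or.inl (by rw [hC, adj_mul, adj_adj σ hσσ])
      · simp [adj_smul, adj_one]
      · simp [adj_smul, adj_one, hσσ])
    (g := gm) (h := hm) (by rintro a (rfl | rfl | rfl) <;> first | exact hCg | exact hscal _ _)
    P hP (by simp [hC]) (δ := μ • 1) (f := 0) (by simp) (zero_mem _) (adj_zero σ) (mul_zero _)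
    (mul_zero _) (by
      rw [add_zero, adj_smul, adj_one, ← sub_smul]
      refine (Matrix.isUnit_iff_isUnit_det _).2 ?_
      rw [Matrix.det_smul, Matrix.det_one, mul_one]
      exact (IsUnit.mk0 _ (sub_ne_zero.2 fun e => hμ e.symm)).pow _)
  refine isConj_iff.2 ⟨⟨U, (hmem _).2 hUU⟩, ?_⟩
  rw [mul_inv_eq_iff_eq_mul]
  refine Subtype.ext (Units.ext ?_)
  show U.1 * ((g : GL (Fin n) F) : Matrix (Fin n) (Fin n) F) = ((h : GL (Fin n) F) : Matrix (Fin n) (Fin n) F) * U.1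
  rw [← hgm, ← hhm]
  exact hU

end Cfsg.Agent.LBGUConj
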