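/-
Element orders of PSL(3,q).
-/
import Cfsg.Agent.Lib.Spectra.Projective
import Cfsg.Agent.Lib.Spectra.UnitaryOrders
import Mathlib.FieldTheory.Finite.Extension
import Mathlib.Tactic.LinearCombination

set_option autoImplicit false
set_option linter.style.haveILetI false

namespace Cfsg.Agent.LBPSL3

open Polynomial

variable {F : Type*} [Field F] [Fintype F]

local notation "M3" => Matrix (Fin 3) (Fin 3) F
local notation "PSL3" => Matrix.ProjectiveSpecialLinearGroup (Fin 3) F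

theorem dvd_gcd_mul {N m k : ℕ} (h1 : N ∣ m * k) (h2 : N ∣ 3 * k) : N ∣ Nat.gcd 3 m * k := by
  have := Nat.dvd_gcd h2 h1
  rwa [Nat.gcd_mul_right] at this

theorem pow_eq_one_of_dvd {α : Type*} [Monoid α] {x : α} {m k : ℕ} (h : x ^ m = 1) (hk : m ∣ k) : x ^ k = 1 :=
  orderOf_dvd_iff_pow_eq_one.1 ((orderOf_dvd_of_pow_eq_one h).trans hk)

theorem exists_psl_of_alg {A : Type*} [CommRing A] [Algebra F A] [Module.Finite F A]
    (hd : Module.finrank F A = 3) (u : A) (hN : Algebra.norm F u = 1) :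
    ∃ x : PSL3, ∀ k : ℕ, x ^ k = 1 ↔ ∃ c : F, u ^ k = algebraMap F A c := by
  let b := Module.finBasisOfFinrankEq F A hd
  let s : Matrix.SpecialLinearGroup (Fin 3) F :=
    ⟨Algebra.leftMulMatrix b u, (Algebra.norm_eq_matrix_det b u).symm.trans hN⟩
  refine ⟨QuotientGroup.mk s, fun k => ?_⟩
  rw [← QuotientGroup.mk_pow, Spectra.mk_eq_one_iff, Matrix.SpecialLinearGroup.coe_pow]
  show (∃ c : F, Algebra.leftMulMatrix b u ^ k = _) ↔ _
  rw [← map_pow]
  refine exists_congr fun c => ?_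
  rw [← (Algebra.leftMulMatrix_injective b).eq_iff, AlgHom.commutes, Algebra.algebraMap_eq_smul_one]

theorem exists_singer (p : ℕ) [Fact p.Prime] [CharP F p] {q d : ℕ} (hq : q = Fintype.card F)
    (hd : d = Nat.gcd 3 (q - 1)) : ∃ x : PSL3, orderOf x = (q ^ 2 + q + 1) / d := by
  have hq2 : 2 ≤ q := hq ▸ Fintype.one_lt_card
  haveI : NeZero 3 := ⟨by norm_num⟩
  haveI : Fintype (FiniteField.Extension F p 3) := Fintype.ofFinite _
  have hK : Fintype.card (FiniteField.Extension F p 3) = q ^ 3 := by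
    rw [← Nat.card_eq_fintype_card, Module.natCard_eq_pow_finrank (K := F), FiniteField.finrank_extension,
      Nat.card_eq_fintype_card, ← hq]
  obtain ⟨g, hg⟩ := IsCyclic.exists_ofOrder_eq_natCard (α := (FiniteField.Extension F p 3)ˣ)
  rw [Nat.card_units, Nat.card_eq_fintype_card, hK] at hg
  obtain ⟨N, hN⟩ : ∃ N, N = q ^ 2 + q + 1 := ⟨_, rfl⟩
  have hfac : q ^ 3 - 1 = (q - 1) * N := by
    obtain ⟨r, rfl⟩ : ∃ r, q = r + 1 := ⟨q - 1, by omega⟩
    rw [hN, show (r + 1) ^ 3 = r * ((r + 1) ^ 2 + (r + 1) + 1) + 1 by ring, Nat.add_sub_cancel, Nat.add_sub_cancel]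
  obtain ⟨u, hu⟩ : ∃ u : FiniteField.Extension F p 3, u = (g : FiniteField.Extension F p 3) ^ (q - 1) := ⟨_, rfl⟩
  have huo : orderOf u = N := by
    rw [hu, orderOf_pow_of_dvd (by omega) (by rw [orderOf_units, hg, hfac]; exact dvd_mul_right _ _),
      orderOf_units, hg, hfac, Nat.mul_div_cancel_left _ (by omega)]
  have hN1 : Algebra.norm F u = 1 := by
    apply (algebraMap F (FiniteField.Extension F p 3)).injective
    rw [FiniteField.algebraMap_norm_eq_pow_sum, FiniteField.finrank_extension, map_one, Nat.card_eq_fintype_card,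
      ← hq, show (∑ i ∈ Finset.range 3, q ^ i) = N by simp [Finset.sum_range_succ, hN]; ring, ← huo,
      pow_orderOf_eq_one]
  obtain ⟨x, hx⟩ := exists_psl_of_alg (F := F) (FiniteField.finrank_extension F p 3) u hN1
  refine ⟨x, SympSpectra.orderOf_eq_of_forall fun k => ?_⟩
  rw [hx, ← hN]
  have hu0 : u ≠ 0 := hu ▸ pow_ne_zero _ g.ne_zero
  have hdN : d ∣ N := by
    obtain ⟨r, rfl⟩ : ∃ r, q = r + 1 := ⟨q - 1, by omega⟩
    rw [Nat.add_sub_cancel] at hd
    rw [hN, show (r + 1) ^ 2 + (r + 1) + 1 = r * (r + 3) + 3 by ring]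
    exact dvd_add ((hd ▸ Nat.gcd_dvd_right 3 r).mul_right _) (hd ▸ Nat.gcd_dvd_left 3 r)
  have hdpos : 0 < d := hd ▸ Nat.gcd_pos_of_pos_left _ (by norm_num)
  rw [Nat.div_dvd_iff_dvd_mul hdN hdpos, ← huo, orderOf_dvd_iff_pow_eq_one]
  constructor
  · rintro ⟨c, hc⟩
    have hc0 : c ≠ 0 := fun h => pow_ne_zero k hu0 (by rw [hc, h, map_zero])
    have h1 : u ^ ((q - 1) * k) = 1 := by
      rw [mul_comm, pow_mul, hc, ← map_pow, hq, FiniteField.pow_card_sub_one_eq_one c hc0, map_one]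
    have o1 : N ∣ (q - 1) * k := huo ▸ orderOf_dvd_of_pow_eq_one h1
    have o3 : N ∣ 3 * k := by
      have e : (q - 1) * k * (q + 2) + 3 * k = N * k := by
        obtain ⟨r, rfl⟩ : ∃ r, q = r + 1 := ⟨q - 1, by omega⟩
        rw [Nat.add_sub_cancel, hN]; ring
      exact (Nat.dvd_add_right (o1.mul_right _)).1 (e ▸ dvd_mul_right N k)
    exact orderOf_dvd_iff_pow_eq_one.1 (huo ▸ hd ▸ dvd_gcd_mul o1 o3)
  · intro h
    have h1 : u ^ ((q - 1) * k) = 1 :=
      pow_eq_one_of_dvd h (Nat.mul_dvd_mul_right (hd ▸ Nat.gcd_dvd_right _ _) k)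
    refine (UnitarySpectra.mem_range_of_pow_card (F := F) (x := u ^ k) ?_).imp fun c hc => hc.symm
    rw [← hq, show q = (q - 1) + 1 by omega, pow_succ, ← pow_mul, mul_comm k, h1, one_mul]

theorem exists_split (p : ℕ) [Fact p.Prime] [CharP F p] {q d : ℕ} (hq : q = Fintype.card F)
    (hd : d = Nat.gcd 3 (q - 1)) : ∃ x : PSL3, orderOf x = (q ^ 2 - 1) / d := by
  have hq2 : 2 ≤ q := hq ▸ Fintype.one_lt_card
  haveI : NeZero 2 := ⟨by norm_num⟩
  haveI : Fintype (FiniteField.Extension F p 2) := Fintype.ofFinite _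
  have hK : Fintype.card (FiniteField.Extension F p 2) = q ^ 2 := by
    rw [← Nat.card_eq_fintype_card, Module.natCard_eq_pow_finrank (K := F), FiniteField.finrank_extension,
      Nat.card_eq_fintype_card, ← hq]
  obtain ⟨g, hg⟩ := IsCyclic.exists_ofOrder_eq_natCard (α := (FiniteField.Extension F p 2)ˣ)
  rw [Nat.card_units, Nat.card_eq_fintype_card, hK] at hg
  obtain ⟨γ, hγ⟩ : ∃ γ : FiniteField.Extension F p 2, γ = (g : FiniteField.Extension F p 2) := ⟨_, rfl⟩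
  have hγo : orderOf γ = q ^ 2 - 1 := by rw [hγ, orderOf_units, hg]
  have hγ0 : γ ≠ 0 := hγ ▸ g.ne_zero
  obtain ⟨c, hc⟩ : ∃ c : F, c = Algebra.norm F γ := ⟨_, rfl⟩
  have hcγ : algebraMap F (FiniteField.Extension F p 2) c = γ ^ (q + 1) := by
    rw [hc, FiniteField.algebraMap_norm_eq_pow_sum, FiniteField.finrank_extension, Nat.card_eq_fintype_card, ← hq]
    simp [Finset.sum_range_succ]; ring
  have hc0 : c ≠ 0 := fun h => pow_ne_zero (q + 1) hγ0 (by rw [← hcγ, h, map_zero])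
  obtain ⟨x, hx⟩ := exists_psl_of_alg (F := F) (A := FiniteField.Extension F p 2 × F)
    (by rw [Module.finrank_prod, FiniteField.finrank_extension, Module.finrank_self]) (γ, c⁻¹)
    (by rw [UnitarySpectra.norm_prod_eq]; simp only [Algebra.norm_self, MonoidHom.id_apply]
        rw [← hc, mul_inv_cancel₀ hc0])
  refine ⟨x, SympSpectra.orderOf_eq_of_forall fun k => ?_⟩
  rw [hx]
  have hdpos : 0 < d := hd ▸ Nat.gcd_pos_of_pos_left _ (by norm_num)
  have hfac : q ^ 2 - 1 = (q - 1) * (q + 1) := by rw [mul_comm]; simpa using Nat.sq_sub_sq q 1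
  have hdd : d ∣ q ^ 2 - 1 := (hd ▸ Nat.gcd_dvd_right 3 (q - 1)).trans (hfac ▸ dvd_mul_right _ _)
  rw [Nat.div_dvd_iff_dvd_mul hdd hdpos]
  constructor
  · rintro ⟨C₀, h⟩
    rw [Prod.pow_mk, Prod.algebraMap_apply, Prod.ext_iff] at h
    simp only [Algebra.algebraMap_self, RingHom.id_apply] at h
    obtain ⟨h1, h2⟩ := h
    have hC0 : C₀ ≠ 0 := fun h => pow_ne_zero k hγ0 (by rw [h1, h, map_zero])
    have o1 : q ^ 2 - 1 ∣ (q - 1) * k := hγo ▸ orderOf_dvd_of_pow_eq_one (by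
      rw [mul_comm, pow_mul, h1, ← map_pow, hq, FiniteField.pow_card_sub_one_eq_one C₀ hC0, map_one])
    have o2 : q ^ 2 - 1 ∣ (q - 1) * k + 3 * k := hγo ▸ orderOf_dvd_of_pow_eq_one (by
      rw [show (q - 1) * k + 3 * k = (q + 1) * k + k by rw [← add_mul, show q - 1 + 3 = q + 2 by omega]; ring,
        pow_add, pow_mul, ← hcγ, h1, ← map_pow, ← map_mul, ← h2, inv_pow, mul_inv_cancel₀ (pow_ne_zero k hc0),
        map_one])
    exact hd ▸ dvd_gcd_mul o1 ((Nat.dvd_add_right o1).1 o2)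
  · intro h
    have hγ1 : γ ^ (q ^ 2 - 1) = 1 := hγo ▸ pow_orderOf_eq_one γ
    have h1 : γ ^ ((q - 1) * k) = 1 :=
      pow_eq_one_of_dvd hγ1 (h.trans (Nat.mul_dvd_mul_right (hd ▸ Nat.gcd_dvd_right _ _) k))
    have h3 : γ ^ (3 * k) = 1 :=
      pow_eq_one_of_dvd hγ1 (h.trans (Nat.mul_dvd_mul_right (hd ▸ Nat.gcd_dvd_left _ _) k))
    refine ⟨(c⁻¹) ^ k, Prod.ext ?_ ?_⟩
    · show γ ^ k = algebraMap F _ ((c⁻¹) ^ k)
      rw [map_pow, map_inv₀, hcγ, inv_pow, ← mul_eq_one_iff_eq_inv₀ (pow_ne_zero _ (pow_ne_zero _ hγ0)), ← pow_mul,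
        ← pow_add, show k + (q + 1) * k = (q - 1) * k + 3 * k by
          rw [← add_mul, show q - 1 + 3 = q + 2 by omega]; ring, pow_add, h1, h3, one_mul]
    · show (c⁻¹) ^ k = algebraMap F F ((c⁻¹) ^ k)
      simp

theorem exists_q_sub_one : ∃ x : PSL3, orderOf x = Fintype.card F - 1 := by
  obtain ⟨g, hg⟩ := IsCyclic.exists_ofOrder_eq_natCard (α := Fˣ)
  rw [Nat.card_units, Nat.card_eq_fintype_card] at hg
  obtain ⟨x, hx⟩ := exists_psl_of_alg (F := F) (A := F × F × F) (by simp [Module.finrank_prod])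
    ((g : F), ((g : F)⁻¹, (1 : F)))
    (by rw [UnitarySpectra.norm_prod_eq, UnitarySpectra.norm_prod_eq]; simp [Algebra.norm_self])
  refine ⟨x, SympSpectra.orderOf_eq_of_forall fun k => ?_⟩
  rw [hx, ← hg, orderOf_dvd_iff_pow_eq_one]
  constructor
  · rintro ⟨c, hc⟩
    simp [Prod.algebraMap_apply, Prod.ext_iff] at hc
    ext
    rw [Units.val_pow_eq_pow_val, Units.val_one, hc.1, hc.2.2]
  · intro h
    have h' : (g : F) ^ k = 1 := by rw [← Units.val_pow_eq_pow_val, h, Units.val_one]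
    exact ⟨1, by simp [Prod.algebraMap_apply, Prod.ext_iff, h']⟩

theorem exists_mixed (p : ℕ) [Fact p.Prime] [CharP F p] {q d : ℕ} (hq : q = Fintype.card F)
    (hd : d = Nat.gcd 3 (q - 1)) : ∃ x : PSL3, orderOf x = p * (q - 1) / d := by
  have hpp : p.Prime := Fact.out
  have hq2 : 2 ≤ q := hq ▸ Fintype.one_lt_card
  obtain ⟨w, hord, hNw⟩ := Spectra.exists_unipotent_unit (F := F) p (m := 2) (by omega)
  rw [show Nat.clog p 2 = 1 from Nat.clog_eq_one le_rfl hpp.two_le, pow_one] at hord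
  have : Module.Finite F (AdjoinRoot (X ^ 2 : F[X])) := (monic_X_pow _).finite_adjoinRoot
  have : Nontrivial (AdjoinRoot (X ^ 2 : F[X])) := AdjoinRoot.nontrivial _ (by
    rw [degree_X_pow]; norm_num)
  obtain ⟨g, hg⟩ := IsCyclic.exists_ofOrder_eq_natCard (α := Fˣ)
  rw [Nat.card_units, Nat.card_eq_fintype_card, ← hq, ← orderOf_units] at hg
  obtain ⟨a, ha⟩ : ∃ a : F, a = (g : F) := ⟨_, rfl⟩
  rw [← ha] at hg
  have ha0 : a ≠ 0 := ha ▸ g.ne_zero
  have hwp : (w : AdjoinRoot (X ^ 2 : F[X])) ^ p = 1 := by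
    rw [← Units.val_pow_eq_pow_val, ← hord, pow_orderOf_eq_one, Units.val_one]
  obtain ⟨x, hx⟩ := exists_psl_of_alg (F := F) (A := AdjoinRoot (X ^ 2 : F[X]) × F)
    (by rw [Module.finrank_prod, Spectra.finrank_adjoinRoot_X_pow, Module.finrank_self])
    ((algebraMap F (AdjoinRoot (X ^ 2 : F[X])) a * (w : AdjoinRoot (X ^ 2 : F[X]))), (a ^ 2)⁻¹)
    (by
      rw [UnitarySpectra.norm_prod_eq]
      simp only [map_mul, hNw, mul_one, Algebra.norm_algebraMap, Algebra.norm_self, MonoidHom.id_apply,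
        Spectra.finrank_adjoinRoot_X_pow]
      exact mul_inv_cancel₀ (pow_ne_zero 2 ha0))
  have hdpos : 0 < d := hd ▸ Nat.gcd_pos_of_pos_left _ (by norm_num)
  have hdd : d ∣ q - 1 := hd ▸ Nat.gcd_dvd_right 3 (q - 1)
  refine ⟨x, SympSpectra.orderOf_eq_of_forall fun k => ?_⟩
  rw [hx, Nat.mul_div_assoc _ hdd]
  have hcop : p.Coprime ((q - 1) / d) := by
    refine hpp.coprime_iff_not_dvd.2 fun h => ?_
    obtain ⟨n, -, hn⟩ := FiniteField.card F p
    have h1 : p ∣ q := by rw [hq, hn]; exact dvd_pow_self p n.pos.ne'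
    exact hpp.not_dvd_one ((Nat.dvd_add_right (h.trans (Nat.div_dvd_of_dvd hdd))).1
      (by rwa [Nat.sub_add_cancel (by omega)]))
  rw [show p * ((q - 1) / d) ∣ k ↔ p ∣ k ∧ q - 1 ∣ d * k from
    ⟨fun h => ⟨(dvd_mul_right _ _).trans h, (Nat.div_dvd_iff_dvd_mul hdd hdpos).1 ((dvd_mul_left _ _).trans h)⟩,
     fun h => hcop.mul_dvd_of_dvd_of_dvd h.1 ((Nat.div_dvd_iff_dvd_mul hdd hdpos).2 h.2)⟩]
  constructor
  · rintro ⟨c, hc⟩
    rw [Prod.pow_mk, Prod.algebraMap_apply, Prod.ext_iff] at hc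
    simp only [Algebra.algebraMap_self, RingHom.id_apply] at hc
    obtain ⟨h1, h2⟩ := hc
    rw [mul_pow, ← map_pow] at h1
    have hwk : (w : AdjoinRoot (X ^ 2 : F[X])) ^ k = algebraMap F _ ((a ^ k)⁻¹ * c) := by
      rw [map_mul, ← h1, ← mul_assoc, ← map_mul, inv_mul_cancel₀ (pow_ne_zero k ha0), map_one, one_mul]
    have hc1 : (a ^ k)⁻¹ * c = 1 := Spectra.eq_one_of_pow_char_pow p (T := 1)
      ((algebraMap F (AdjoinRoot (X ^ 2 : F[X]))).injective (by
        rw [pow_one, map_pow, ← hwk, ← pow_mul, mul_comm, pow_mul, hwp, one_pow, map_one]))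
    rw [hc1, map_one] at hwk
    refine ⟨hord ▸ orderOf_dvd_of_pow_eq_one (Units.ext (by rw [Units.val_pow_eq_pow_val, hwk, Units.val_one])),
      ?_⟩
    rw [inv_mul_eq_iff_eq_mul₀ (pow_ne_zero k ha0), mul_one] at hc1
    rw [inv_pow, hc1] at h2
    have o3 : q - 1 ∣ 3 * k := hg ▸ orderOf_dvd_of_pow_eq_one (by
      rw [show 3 * k = 2 * k + k by ring, pow_add, pow_mul]
      conv_lhs => rw [← h2]
      rw [mul_inv_cancel₀ (pow_ne_zero k (pow_ne_zero 2 ha0))])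
    exact hd ▸ dvd_gcd_mul (dvd_mul_right _ _) o3
  · rintro ⟨h1, h2⟩
    have h3 : a ^ (3 * k) = 1 := orderOf_dvd_iff_pow_eq_one.1
      (hg ▸ h2.trans (Nat.mul_dvd_mul_right (hd ▸ Nat.gcd_dvd_left _ _) k))
    refine ⟨a ^ k, ?_⟩
    rw [Prod.pow_mk, Prod.algebraMap_apply]
    refine Prod.ext ?_ ?_
    · show (_ * _) ^ k = algebraMap F _ (a ^ k)
      rw [mul_pow, pow_eq_one_of_dvd hwp h1, mul_one, map_pow]
    · show ((a ^ 2)⁻¹) ^ k = a ^ k
      refine (inv_pow _ k).trans (inv_eq_of_mul_eq_one_right ?_)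
      rw [← h3]; ring

theorem exists_four (p : ℕ) [Fact p.Prime] [CharP F p] (hp : p = 2) : ∃ x : PSL3, orderOf x = 4 := by
  have hX : (X ^ 3 : F[X]).Monic := monic_X_pow 3
  have : Module.Finite F (AdjoinRoot (X ^ 3 : F[X])) := hX.finite_adjoinRoot
  obtain ⟨w, hord, -⟩ := Spectra.exists_unipotent_unit (F := F) p (m := 3) (by omega)
  obtain ⟨g, hg⟩ := Spectra.exists_GL_orderOf (n := 3) (le_of_eq (Spectra.finrank_adjoinRoot_X_pow 3)) w
  obtain ⟨s, -, hs⟩ := Spectra.exists_psl_of_pow_char_pow (n := 3) p (by norm_num) g (T := Nat.clog p 3)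
    (by rw [← hord, ← hg, pow_orderOf_eq_one])
  refine ⟨_, hs.trans (hg.trans (hord.trans ?_))⟩
  subst hp
  rw [show Nat.clog 2 3 = 2 from le_antisymm (Nat.clog_le_of_le_pow (by norm_num)) (by
    by_contra h
    have := Nat.le_pow_clog (by norm_num : 1 < 2) 3
    interval_cases Nat.clog 2 3 <;> simp at this)]
  norm_num

/-- Scalar powers from polynomial divisibility. -/
theorem pow_eq_one_of_dvd_poly {s : Matrix.SpecialLinearGroup (Fin 3) F} {k : ℕ} {C₀ : F}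
    (h : (s : M3).charpoly ∣ (X ^ k - C C₀ : F[X])) : (QuotientGroup.mk s : PSL3) ^ k = 1 := by
  rw [← QuotientGroup.mk_pow, Spectra.mk_eq_one_iff, Matrix.SpecialLinearGroup.coe_pow]
  obtain ⟨r, hr⟩ := h
  have := congrArg (aeval (s : M3)) hr
  rw [map_mul (aeval (s : M3)) _ r, Matrix.aeval_self_charpoly, zero_mul] at this
  exact ⟨C₀, by simpa [Algebra.algebraMap_eq_smul_one, sub_eq_zero] using this⟩

/-- The element orders are bounded by the five numbers. -/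
theorem bound (p : ℕ) [Fact p.Prime] [CharP F p] {q d : ℕ} (hq : q = Fintype.card F)
    (hd : d = Nat.gcd 3 (q - 1)) (s : Matrix.SpecialLinearGroup (Fin 3) F) :
    orderOf (QuotientGroup.mk s : PSL3) ∣ (q ^ 2 + q + 1) / d ∨
    orderOf (QuotientGroup.mk s : PSL3) ∣ (q ^ 2 - 1) / d ∨
    orderOf (QuotientGroup.mk s : PSL3) ∣ q - 1 ∨
    orderOf (QuotientGroup.mk s : PSL3) ∣ p * (q - 1) / d ∨
    (p = 2 ∧ orderOf (QuotientGroup.mk s : PSL3) ∣ 4) := by
  have hpp : p.Prime := Fact.out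
  have hq2 : 2 ≤ q := hq ▸ Fintype.one_lt_card
  have hdpos : 0 < d := hd ▸ Nat.gcd_pos_of_pos_left _ (by norm_num)
  have hdd : d ∣ q - 1 := hd ▸ Nat.gcd_dvd_right 3 (q - 1)
  have hd3 : d ∣ 3 := hd ▸ Nat.gcd_dvd_left 3 (q - 1)
  obtain ⟨P, hP⟩ : ∃ P, P = (s : M3).charpoly := ⟨_, rfl⟩
  have hPm : P.Monic := hP ▸ Matrix.charpoly_monic _
  have hPd : P.natDegree = 3 := by rw [hP, Matrix.charpoly_natDegree_eq_dim, Fintype.card_fin]
  have hP0 : P.coeff 0 = -1 := by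
    have h := s.2
    rw [Matrix.det_eq_sign_charpoly_coeff, Fintype.card_fin, ← hP] at h
    linear_combination -h
  by_cases hroot : ∃ c, P.IsRoot c
  swap
  · -- irreducible cubic
    left
    have hf : Irreducible P := by
      rw [hPm.irreducible_iff_roots_eq_zero_of_degree_le_three (by omega) (by omega)]
      exact Multiset.eq_zero_of_forall_notMem fun c hc => hroot ⟨c, (mem_roots hPm.ne_zero).1 hc⟩
    haveI : Fact (Irreducible P) := ⟨hf⟩
    obtain ⟨hfix, hnorm⟩ := UnitarySpectra.root_pow_card (F := F) hPm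
    have hθ : AdjoinRoot.root P ^ (q ^ 2 + q + 1) = 1 := by
      have h := hnorm (AdjoinRoot.root P)
      rw [UnitarySpectra.norm_root hPm, hPd, hP0, ← hq] at h
      rw [show q ^ 2 + q + 1 = ∑ i ∈ Finset.range 3, q ^ i by simp [Finset.sum_range_succ]; ring, ← h]
      norm_num
    obtain ⟨N, hN⟩ : ∃ N, N = q ^ 2 + q + 1 := ⟨_, rfl⟩
    rw [← hN] at hθ ⊢
    have hdN : d ∣ N := by
      obtain ⟨r, rfl⟩ : ∃ r, q = r + 1 := ⟨q - 1, by omega⟩
      rw [Nat.add_sub_cancel] at hdd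
      rw [hN, show (r + 1) ^ 2 + (r + 1) + 1 = r * (r + 3) + 3 by ring]
      exact dvd_add (hdd.mul_right _) hd3
    have h1 : AdjoinRoot.root P ^ ((q - 1) * (N / d)) = 1 := by
      refine pow_eq_one_of_dvd hθ ?_
      obtain ⟨e, he⟩ := hdd
      rw [he, mul_assoc, mul_comm e, ← mul_assoc, Nat.mul_div_cancel' hdN]
      exact dvd_mul_right _ _
    obtain ⟨C₀, hC⟩ := UnitarySpectra.mem_range_of_pow_card (F := F) (x := AdjoinRoot.root P ^ (N / d)) (by
      rw [← hq, show q = (q - 1) + 1 by omega, pow_succ, ← pow_mul, mul_comm (N / d), h1, one_mul])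
    refine orderOf_dvd_of_pow_eq_one (pow_eq_one_of_dvd_poly (C₀ := C₀) (hP ▸ ?_))
    rw [← AdjoinRoot.mk_eq_zero, map_sub, map_pow, AdjoinRoot.mk_X, AdjoinRoot.mk_C, ← AdjoinRoot.algebraMap_eq,
      hC, sub_self]
  obtain ⟨c, hc⟩ := hroot
  obtain ⟨g, hg⟩ := dvd_iff_isRoot.2 hc
  have hgm : g.Monic := (monic_X_sub_C c).of_mul_monic_left (hg ▸ hPm)
  have hgd : g.natDegree = 2 := by
    have := congrArg natDegree hg
    rw [hPd, (monic_X_sub_C c).natDegree_mul hgm, natDegree_X_sub_C] at this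
    omega
  have hcg : c * g.coeff 0 = 1 := by
    rw [hg, mul_coeff_zero, coeff_sub, coeff_X_zero, coeff_C_zero] at hP0
    linear_combination -hP0
  have hc0 : c ≠ 0 := left_ne_zero_of_mul_eq_one hcg
  have hcq : c ^ (q - 1) = 1 := hq ▸ FiniteField.pow_card_sub_one_eq_one c hc0
  by_cases hroot2 : ∃ a, g.IsRoot a
  swap
  · -- irreducible quadratic factor
    right; left
    have hf : Irreducible g := by
      rw [hgm.irreducible_iff_roots_eq_zero_of_degree_le_three (by omega) (by omega)]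
      exact Multiset.eq_zero_of_forall_notMem fun a ha => hroot2 ⟨a, (mem_roots hgm.ne_zero).1 ha⟩
    haveI : Fact (Irreducible g) := ⟨hf⟩
    obtain ⟨hfix, hnorm⟩ := UnitarySpectra.root_pow_card (F := F) hgm
    obtain ⟨θ, hθdef⟩ : ∃ θ, θ = AdjoinRoot.root g := ⟨_, rfl⟩
    have hθ : θ ^ (q + 1) * algebraMap F (AdjoinRoot g) c = 1 := by
      have h := hnorm θ
      rw [hθdef, UnitarySpectra.norm_root hgm, hgd, ← hq, ← hθdef,
        show ((-1 : F) ^ 2) = 1 by norm_num, one_mul] at h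
      rw [show q + 1 = ∑ i ∈ Finset.range 2, q ^ i by simp [Finset.sum_range_succ]; ring, ← h, ← map_mul,
        mul_comm, hcg, map_one]
    have hθ0 : θ ≠ 0 := fun h => by rw [h, zero_pow (by omega), zero_mul] at hθ; exact zero_ne_one hθ
    have hθq : θ ^ (q ^ 2 - 1) = 1 := by
      have h := hfix θ
      rw [hgd, ← hq] at h
      refine mul_right_cancel₀ hθ0 ?_
      rw [one_mul, ← pow_succ, Nat.sub_add_cancel (Nat.one_le_pow _ _ (by omega)), h]
    have hfac : q ^ 2 - 1 = (q - 1) * (q + 1) := by rw [mul_comm]; simpa using Nat.sq_sub_sq q 1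
    have hdd2 : d ∣ q ^ 2 - 1 := hdd.trans (hfac ▸ dvd_mul_right _ _)
    obtain ⟨k, hk⟩ : ∃ k, k = (q ^ 2 - 1) / d := ⟨_, rfl⟩
    have hdk : q ^ 2 - 1 ∣ d * k := by rw [hk, Nat.mul_div_cancel' hdd2]
    have h3 : θ ^ (3 * k) = 1 := pow_eq_one_of_dvd hθq (hdk.trans (Nat.mul_dvd_mul_right hd3 k))
    have hk1 : θ ^ ((q - 1) * k) = 1 := pow_eq_one_of_dvd hθq (hdk.trans (Nat.mul_dvd_mul_right hdd k))
    have hck : algebraMap F (AdjoinRoot g) (c ^ k) = θ ^ k := by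
      refine mul_left_cancel₀ (pow_ne_zero k (pow_ne_zero (q + 1) hθ0)) ?_
      rw [map_pow, ← mul_pow, hθ, one_pow, ← pow_mul, ← pow_add,
        show (q + 1) * k + k = (q - 1) * k + 3 * k by rw [← add_mul, show q - 1 + 3 = q + 2 by omega]; ring,
        pow_add, hk1, h3, one_mul]
    rw [← hk]
    refine orderOf_dvd_of_pow_eq_one (pow_eq_one_of_dvd_poly (C₀ := c ^ k) (hP ▸ hg ▸ ?_))
    refine IsCoprime.mul_dvd ?_ (dvd_iff_isRoot.2 (by simp)) ?_
    · refine ((irreducible_X_sub_C c).coprime_iff_not_dvd).2 fun h => ?_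
      exact hroot2 ⟨c, dvd_iff_isRoot.1 h⟩
    · rw [← AdjoinRoot.mk_eq_zero, map_sub, map_pow, AdjoinRoot.mk_X, AdjoinRoot.mk_C, ← AdjoinRoot.algebraMap_eq,
        ← hθdef, hck, sub_self]
  -- split
  obtain ⟨a, ha⟩ := hroot2
  obtain ⟨g', hg'⟩ := dvd_iff_isRoot.2 ha
  have hgm' : g'.Monic := (monic_X_sub_C a).of_mul_monic_left (hg' ▸ hgm)
  have hgd' : g'.natDegree = 1 := by
    have := congrArg natDegree hg'
    rw [hgd, (monic_X_sub_C a).natDegree_mul hgm', natDegree_X_sub_C] at this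
    omega
  obtain ⟨b, rfl⟩ : ∃ b, g' = X - C b := ⟨-g'.coeff 0, by
    rw [map_neg, sub_neg_eq_add]; exact hgm'.eq_X_add_C hgd'⟩
  have hP' : P = (X - C c) * (X - C a) * (X - C b) := by rw [hg, hg', mul_assoc]
  have hprod : c * a * b = 1 := by
    rw [hg', mul_coeff_zero, coeff_sub, coeff_sub, coeff_X_zero, coeff_C_zero, coeff_C_zero] at hcg
    linear_combination hcg
  have ha0 : a ≠ 0 := fun h => by rw [h, mul_zero, zero_mul] at hprod; exact zero_ne_one hprod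
  have hb0 : b ≠ 0 := fun h => by rw [h, mul_zero] at hprod; exact zero_ne_one hprod
  have hq1 : ∀ x : F, x ≠ 0 → x ^ (q - 1) = 1 := fun x hx => hq ▸ FiniteField.pow_card_sub_one_eq_one x hx
  have hco : ∀ x y : F, x ≠ y → IsCoprime (X - C x) (X - C y) := fun x y h =>
    isCoprime_X_sub_C_of_isUnit_sub (sub_ne_zero.2 h).isUnit
  by_cases hdist : c ≠ a ∧ c ≠ b ∧ a ≠ b
  · right; right; left
    refine orderOf_dvd_of_pow_eq_one (pow_eq_one_of_dvd_poly (C₀ := 1) (hP ▸ hP' ▸ ?_))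
    have hd1 : ∀ x : F, x ≠ 0 → (X - C x) ∣ (X ^ (q - 1) - C 1 : F[X]) := fun x hx => by
      rw [dvd_iff_isRoot]; simp [hq1 x hx]
    exact IsCoprime.mul_dvd ((hco c b hdist.2.1).mul_left (hco a b hdist.2.2))
      ((hco c a hdist.1).mul_dvd (hd1 c hc0) (hd1 a ha0)) (hd1 b hb0)
  obtain ⟨x, y, hxy, hx0, hPxy⟩ : ∃ x y : F, x * x * y = 1 ∧ x ≠ 0 ∧ P = (X - C x) * (X - C x) * (X - C y) := by
    simp only [not_and_or, ne_eq, not_not] at hdist
    rcases hdist with h | h | h <;> subst h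
    · exact ⟨c, b, hprod, hc0, hP'⟩
    · exact ⟨c, a, by linear_combination hprod, hc0, by rw [hP']; ring⟩
    · exact ⟨a, c, by linear_combination hprod, ha0, by rw [hP']; ring⟩
  rcases eq_or_ne x y with rfl | hne
  · -- triple root
    have h3 : ((s : M3) - x • (1 : M3)) ^ 3 = 0 := by
      have := Matrix.aeval_self_charpoly (s : M3)
      rw [← hP, hPxy, show (X - C x) * (X - C x) * (X - C x) = ((X - C x) ^ 3 : F[X]) by ring, map_pow] at this
      simpa [Algebra.algebraMap_eq_smul_one] using this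
    have hscal : ∀ T : ℕ, 3 ≤ p ^ T → (QuotientGroup.mk s : PSL3) ^ p ^ T = 1 := fun T hT => by
      rw [← QuotientGroup.mk_pow, Spectra.mk_eq_one_iff, Matrix.SpecialLinearGroup.coe_pow]
      have h := pow_eq_zero_of_le hT h3
      rw [sub_pow_char_pow_of_commute _ _ ((Commute.one_right _).smul_right x), _root_.smul_pow, one_pow,
        sub_eq_zero] at h
      exact ⟨_, h⟩
    by_cases hp2 : p = 2
    · refine Or.inr (Or.inr (Or.inr (Or.inr ⟨hp2, orderOf_dvd_of_pow_eq_one ?_⟩)))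
      have := hscal 2 (by rw [hp2]; norm_num)
      rwa [hp2] at this
    · refine Or.inr (Or.inr (Or.inr (Or.inl ?_)))
      have := hscal 1 (by rw [pow_one]; have := hpp.two_le; omega)
      rw [pow_one] at this
      rw [Nat.mul_div_assoc _ hdd]
      exact (orderOf_dvd_of_pow_eq_one this).trans (dvd_mul_right _ _)
  · right; right; right; left
    rw [Nat.mul_div_assoc _ hdd, mul_comm]
    obtain ⟨k, hk⟩ : ∃ k, k = (q - 1) / d := ⟨_, rfl⟩
    rw [← hk]
    have h3 : x ^ (3 * k) = 1 := pow_eq_one_of_dvd (hq1 x hx0)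
      (by rw [hk]; exact (dvd_of_eq (Nat.mul_div_cancel' hdd).symm).trans (Nat.mul_dvd_mul_right hd3 _))
    have hyk : y ^ k = x ^ k := by
      refine mul_left_cancel₀ (pow_ne_zero k (mul_ne_zero hx0 hx0)) ?_
      rw [← mul_pow (x * x) y, hxy, one_pow, ← h3]; ring
    refine orderOf_dvd_of_pow_eq_one (pow_eq_one_of_dvd_poly (C₀ := (x ^ k) ^ p) (hP ▸ hPxy ▸ ?_))
    have hdx : ∀ z : F, z ^ k = x ^ k → (X - C z) ∣ (X ^ k - C (x ^ k) : F[X]) := fun z hz => by
      rw [dvd_iff_isRoot]; simp [hz]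
    rw [pow_mul, map_pow C, ← sub_pow_char]
    refine IsCoprime.mul_dvd ((hco x y hne).mul_left (hco x y hne)) ?_ ?_
    · rw [← sq]; exact (pow_dvd_pow_of_dvd (hdx x rfl) 2).trans (pow_dvd_pow _ hpp.two_le)
    · exact (hdx y hyk).trans (dvd_pow_self _ hpp.ne_zero)

theorem spectrum_eq (p : ℕ) [Fact p.Prime] [CharP F p] :
    Set.range (orderOf : PSL3 → ℕ) =
      {m : ℕ | m ∣ (Fintype.card F ^ 2 + Fintype.card F + 1) / Nat.gcd 3 (Fintype.card F - 1) ∨
        m ∣ (Fintype.card F ^ 2 - 1) / Nat.gcd 3 (Fintype.card F - 1) ∨ m ∣ Fintype.card F - 1 ∨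
        m ∣ p * (Fintype.card F - 1) / Nat.gcd 3 (Fintype.card F - 1) ∨ (p = 2 ∧ m ∣ 4)} := by
  have hmem : ∀ {n : ℕ} (y : PSL3), orderOf y = n → ∀ o, o ∣ n → o ∈ Set.range (orderOf : PSL3 → ℕ) :=
    fun y hy o ho => ⟨y ^ (orderOf y / o), orderOf_pow_orderOf_div (orderOf_pos y).ne' (hy ▸ ho)⟩
  ext m
  constructor
  · rintro ⟨x, rfl⟩
    induction x using QuotientGroup.induction_on with
    | H s => exact bound p rfl rfl s
  · rintro (h | h | h | h | ⟨hp, h⟩)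
    · obtain ⟨x, hx⟩ := exists_singer (F := F) p rfl rfl; exact hmem x hx m h
    · obtain ⟨x, hx⟩ := exists_split (F := F) p rfl rfl; exact hmem x hx m h
    · obtain ⟨x, hx⟩ := exists_q_sub_one (F := F); exact hmem x hx m h
    · obtain ⟨x, hx⟩ := exists_mixed (F := F) p rfl rfl; exact hmem x hx m h
    · obtain ⟨x, hx⟩ := exists_four (F := F) p hp; exact hmem x hx m h

end Cfsg.Agent.LBPSL3
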