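/-
The quaternion group of order eight and monomial 3 × 3 matrices.
-/
import Mathlib.LinearAlgebra.Matrix.Permutation
import Mathlib.Algebra.CharP.Two
import Mathlib.Data.Fin.Tuple.Basic
import Mathlib.GroupTheory.Perm.Fin
import Cfsg.Agent.Lib.TwoGroups.Lifts

set_option autoImplicit false
set_option linter.style.haveILetI false

namespace Cfsg.Agent.LBMon

/-- A group of order 8 and exponent 4 with at most one involution is quaternion. -/
theorem q8_of_unique {S : Type*} [Group S] (h8 : Nat.card S = 8) (h4 : ∀ x : S, x ^ 4 = 1)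
    (hu : ∀ x y : S, x ≠ 1 → y ≠ 1 → x ^ 2 = 1 → y ^ 2 = 1 → x = y) :
    Nonempty (S ≃* QuaternionGroup 2) := by
  haveI : Finite S := Nat.finite_of_card_ne_zero (by omega)
  haveI : Fact (Nat.Prime 2) := ⟨Nat.prime_two⟩
  obtain ⟨z, hz⟩ := exists_prime_orderOf_dvd_card' (G := S) 2 (by rw [h8]; norm_num)
  have hz1 : z ≠ 1 := fun h => by rw [h, orderOf_one] at hz; norm_num at hz
  have hz2 : z ^ 2 = 1 := by rw [← hz]; exact pow_orderOf_eq_one z
  have hsq : ∀ x : S, x ≠ 1 → x ≠ z → x ^ 2 = z := fun x h1 h2 => by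
    refine hu _ _ (fun h => h2 (hu x z h1 hz1 h hz2)) hz1 ?_ hz2
    rw [← pow_mul]; exact h4 x
  have hlt : ∀ s : Set S, s.ncard < 8 → ∃ x, x ∉ s := fun s hs => by
    by_contra! h
    rw [Set.eq_univ_of_forall h, Set.ncard_univ, h8] at hs
    omega
  obtain ⟨a, ha⟩ := hlt {1, z} (lt_of_le_of_lt (Set.ncard_insert_le _ _) (by simp))
  simp only [Set.mem_insert_iff, Set.mem_singleton_iff, not_or] at ha
  have ha2 : a ^ 2 = z := hsq a ha.1 ha.2
  have hoa : orderOf a = 2 * 2 :=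
    orderOf_eq_prime_pow (p := 2) (n := 1) (by rw [pow_one, ha2]; exact hz1) (h4 a)
  obtain ⟨g, hg⟩ := hlt (Subgroup.zpowers a : Set S) (by
    rw [← Nat.card_coe_set_eq]
    show Nat.card (Subgroup.zpowers a) < 8
    rw [Nat.card_zpowers, hoa]; norm_num)
  rw [SetLike.mem_coe] at hg
  have hzA : z ∈ Subgroup.zpowers a := ha2 ▸ Subgroup.npow_mem_zpowers a 2
  have hg2 : g ^ 2 = z := hsq g (fun h => hg (h ▸ one_mem _)) (fun h => hg (h ▸ hzA))
  have hga : g * a ∉ Subgroup.zpowers a := fun h =>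
    hg (by simpa using mul_mem h (inv_mem (Subgroup.mem_zpowers a)))
  have hga2 : (g * a) ^ 2 = g ^ 2 :=
    (hsq _ (fun h => hga (by rw [h]; exact one_mem _)) (fun h => hga (by rw [h]; exact hzA))).trans hg2.symm
  have hconj : g * a * g⁻¹ = a⁻¹ := by
    rw [sq, sq] at hga2
    have e : a * g * a = g := mul_left_cancel (a := g) (by rw [← hga2]; simp [mul_assoc])
    calc g * a * g⁻¹ = a⁻¹ * (a * g * a) * g⁻¹ := by simp [mul_assoc]
      _ = a⁻¹ := by rw [e]; simp
  have htop : (⊤ : Subgroup S) = Subgroup.closure ({a, g} : Set S) := by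
    symm
    have hle : Subgroup.zpowers a < Subgroup.closure ({a, g} : Set S) :=
      lt_of_le_of_ne (Subgroup.zpowers_le.2 (Subgroup.subset_closure (by simp))) fun e =>
        hg (e ▸ Subgroup.subset_closure (by simp))
    have h1 : Nat.card (Subgroup.zpowers a) < Nat.card (Subgroup.closure ({a, g} : Set S)) :=
      lt_of_le_of_ne (Subgroup.card_le_of_le hle.le) fun e =>
        hle.ne (Subgroup.eq_of_le_of_card_ge hle.le e.ge)
    rw [Nat.card_zpowers, hoa] at h1
    have h2 := Subgroup.card_subgroup_dvd_card (Subgroup.closure ({a, g} : Set S))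
    rw [h8] at h2
    have h3 := Nat.le_of_dvd (by norm_num) h2
    refine Subgroup.eq_top_of_card_eq _ ?_
    rw [h8]
    interval_cases h : Nat.card (Subgroup.closure ({a, g} : Set S)) <;> simp_all
  obtain ⟨e⟩ := TwoLift.quaternion_equiv (k := 2) hoa (by rw [← sq, hg2, ha2]) hconj hg htop
  exact ⟨Subgroup.topEquiv.symm.trans e⟩

variable {F : Type*} [Field F]

/-- The shape of a monomial matrix. -/
def Shape (g : Matrix (Fin 3) (Fin 3) F) (σ : Equiv.Perm (Fin 3)) (c : Fin 3 → F) : Prop :=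
  ∀ i j, g i j = if j = σ i then c i else 0

theorem Shape.mul {g h : Matrix (Fin 3) (Fin 3) F} {σ τ : Equiv.Perm (Fin 3)} {c d : Fin 3 → F}
    (hg : Shape g σ c) (hh : Shape h τ d) : Shape (g * h) (τ * σ) (fun i => c i * d (σ i)) := by
  intro i j
  rw [Matrix.mul_apply, Finset.sum_eq_single (σ i) (fun b _ hb => by rw [hg, if_neg hb, zero_mul]) (by simp),
    hg, if_pos rfl, hh, Equiv.Perm.mul_apply, mul_ite, mul_zero]

theorem prod_distinct (c : Fin 3 → F) {a b d : Fin 3} (h1 : a ≠ b) (h2 : a ≠ d) (h3 : b ≠ d) :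
    c a * c b * c d = c 0 * c 1 * c 2 := by
  fin_cases a <;> fin_cases b <;> fin_cases d <;>
    first | (simp at h1; done) | (simp at h2; done) | (simp at h3; done) | (simp only [Fin.zero_eta, Fin.mk_one, Fin.reduceFinMk, Fin.isValue]; done) |
      (simp only [Fin.zero_eta, Fin.mk_one, Fin.reduceFinMk, Fin.isValue]; ring)

theorem Shape.prod [CharP F 2] {g : Matrix (Fin 3) (Fin 3) F} {σ : Equiv.Perm (Fin 3)} {c : Fin 3 → F}
    (hg : Shape g σ c) (hd : g.det = 1) : c 0 * c 1 * c 2 = 1 := by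
  have e : g = Matrix.diagonal c * σ.permMatrix F := by
    ext i j
    rw [Matrix.diagonal_mul, hg]
    simp [PEquiv.toMatrix_apply, eq_comm]
  rw [e, Matrix.det_mul, Matrix.det_diagonal, Matrix.det_permutation, Fin.prod_univ_three] at hd
  rcases Int.units_eq_one_or (Equiv.Perm.sign σ) with h | h <;> rw [h] at hd
  · simpa using hd
  · simpa [CharTwo.neg_eq] using hd

theorem Shape.cube [CharP F 2] {g : Matrix (Fin 3) (Fin 3) F} {σ : Equiv.Perm (Fin 3)} {c : Fin 3 → F}
    (hg : Shape g σ c) (hd : g.det = 1) (h3 : ∀ i, c i ^ 3 = 1) (hσ : σ * σ * σ = 1) : g * g * g = 1 := by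
  ext i j
  rw [((hg.mul hg).mul hg) i j, ← mul_assoc, hσ, Matrix.one_apply]
  rcases eq_or_ne i j with rfl | h
  · rw [if_pos (Equiv.Perm.one_apply i).symm, if_pos rfl]
    show c i * c (σ i) * c ((σ * σ) i) = 1
    have hdec : ∀ σ : Equiv.Perm (Fin 3), σ * σ * σ = 1 → σ = 1 ∨
        ∀ i, i ≠ σ i ∧ i ≠ (σ * σ) i ∧ σ i ≠ (σ * σ) i := by decide
    rcases hdec σ hσ with rfl | h
    · rw [← h3 i]; simp; ring
    · rw [prod_distinct c (h i).1 (h i).2.1 (h i).2.2, hg.prod hd]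
  · rw [if_neg h, if_neg]; simpa using h.symm

theorem Shape.sq [CharP F 2] {g : Matrix (Fin 3) (Fin 3) F} {σ : Equiv.Perm (Fin 3)} {c : Fin 3 → F}
    (hg : Shape g σ c) (hd : g.det = 1) (h3 : ∀ i, c i ^ 3 = 1) (hσ : σ * σ = 1) (hne : σ ≠ 1) :
    ∃ t : F, g * g = t • (1 : Matrix (Fin 3) (Fin 3) F) := by
  have hdec : ∀ σ : Equiv.Perm (Fin 3), σ * σ = 1 → σ ≠ 1 →
      ∃ k, σ k = k ∧ ∀ i, i ≠ k → i ≠ σ i ∧ σ i ≠ k := by decide
  obtain ⟨k, hk, hk'⟩ := hdec σ hσ hne
  refine ⟨c k ^ 2, ?_⟩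
  ext i j
  rw [(hg.mul hg) i j, hσ, Matrix.smul_apply, Matrix.one_apply, smul_eq_mul]
  rcases eq_or_ne i j with rfl | h
  · rw [if_pos (by simp), if_pos rfl, mul_one]
    rcases eq_or_ne i k with rfl | hik
    · show c i * c (σ i) = c i ^ 2
      rw [hk]; ring
    · have := prod_distinct c (hk' i hik).1 hik (hk' i hik).2
      rw [hg.prod hd] at this
      linear_combination (c k ^ 2) * this - c i * c (σ i) * h3 k
  · rw [if_neg h, if_neg, mul_zero]; simpa using h.symm

end Cfsg.Agent.LBMon
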