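/-
Discriminants of quadratic forms in arbitrary bases, and similitudes of the standard forms.
-/
import Cfsg.Agent.Lib.LinearBlock.QuadClass
import Cfsg.Agent.Lib.Orthogonal.Frames
import Mathlib.LinearAlgebra.Matrix.SchurComplement
import Mathlib.NumberTheory.LegendreSymbol.QuadraticChar.Basic

set_option autoImplicit false

namespace Cfsg.Agent.LBQuad

open QuadraticMap Module Cfsg.Agent.Orth Matrix

variable {F : Type*} [Field F]

/-- Gram determinants differ by squares. -/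
theorem gram_det {κ : Type} [Fintype κ] [DecidableEq κ] {ι : Type*} [Fintype ι] [DecidableEq ι]
    (Q : QuadraticForm F (κ → F)) (b : Module.Basis ι F (κ → F)) :
    ∃ p : F, p ≠ 0 ∧ (Matrix.of fun i j : ι => polar Q (b i) (b j)).det
      = p * p * (LinearMap.toMatrix₂' F (polarBilin Q)).det := by
  let e := b.indexEquiv (Pi.basisFun F κ)
  let P : Matrix κ κ F := Matrix.of fun i j => b (e.symm j) i
  have hcol : ∀ k, Matrix.toLin' P (Pi.single k 1) = b (e.symm k) := fun k => by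
    rw [Matrix.toLin'_apply]; ext l; simp [P, Matrix.mulVec_single]
  have hD : P.transpose * LinearMap.toMatrix₂' F (polarBilin Q) * P
      = (Matrix.of fun i j : ι => polar Q (b i) (b j)).submatrix e.symm e.symm := by
    have h1 := LinearMap.toMatrix₂'_compl₁₂ (polarBilin Q) (Matrix.toLin' P) (Matrix.toLin' P)
    rw [LinearMap.toMatrix'_toLin'] at h1
    rw [← h1]
    ext i j
    rw [LinearMap.toMatrix₂'_apply]
    show polar Q (Matrix.toLin' P (Pi.single i 1)) (Matrix.toLin' P (Pi.single j 1)) = _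
    rw [hcol, hcol]; rfl
  refine ⟨P.det, ?_, ?_⟩
  · have hP : P = (Pi.basisFun F κ).toMatrix (b.reindex e) := by
      ext i j; simp [P, Module.Basis.toMatrix_apply]
    intro h0
    have h2 := congrArg Matrix.det (Module.Basis.toMatrix_mul_toMatrix_flip (Pi.basisFun F κ) (b.reindex e))
    rw [← hP, Matrix.det_mul, h0, zero_mul, Matrix.det_one] at h2
    exact zero_ne_one h2
  · rw [← Matrix.det_submatrix_equiv_self e.symm, ← hD, Matrix.det_mul, Matrix.det_mul, Matrix.det_transpose]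
    ring

theorem gram_qPad {k : ℕ} {κ : Type} [Fintype κ] [DecidableEq κ] (QW : QuadraticForm F (κ → F)) :
    (LinearMap.toMatrix₂' F (polarBilin (qPad F k QW))).det
      = (-1) ^ k * (LinearMap.toMatrix₂' F (polarBilin QW)).det := by
  have hM : LinearMap.toMatrix₂' F (polarBilin (qPad F k QW))
      = Matrix.fromBlocks (Matrix.fromBlocks (0 : Matrix (Fin k) (Fin k) F) (1 : Matrix (Fin k) (Fin k) F) (1 : Matrix (Fin k) (Fin k) F) (0 : Matrix (Fin k) (Fin k) F)) 0 0
          (LinearMap.toMatrix₂' F (polarBilin QW)) := by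
    ext a b
    rw [LinearMap.toMatrix₂'_apply, polarBilin_apply_apply, polar_qPad]
    have hl : ∀ x : Fin k ⊕ Fin k, (Pi.single (Sum.inl x) (1 : F) : (Fin k ⊕ Fin k) ⊕ κ → F) ∘ Sum.inr = 0 :=
      fun x => funext fun y => by simp
    have hr : ∀ x : κ, (Pi.single (Sum.inr x) (1 : F) : (Fin k ⊕ Fin k) ⊕ κ → F) ∘ Sum.inr = Pi.single x 1 :=
      fun x => funext fun y => by simp [Pi.single_apply]
    rcases a with (i | i) | i <;> rcases b with (j | j) | j
    all_goals simp [hl, hr, polar, Pi.single_apply, Matrix.one_apply, eq_comm, LinearMap.toMatrix₂'_apply,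
      polarBilin_apply_apply]
  have h2 : (Matrix.fromBlocks (0 : Matrix (Fin k) (Fin k) F) (1 : Matrix (Fin k) (Fin k) F) (1 : Matrix (Fin k) (Fin k) F) (0 : Matrix (Fin k) (Fin k) F)).det = (-1) ^ k := by
    have e : (Matrix.fromBlocks (0 : Matrix (Fin k) (Fin k) F) (1 : Matrix (Fin k) (Fin k) F) (1 : Matrix (Fin k) (Fin k) F) (0 : Matrix (Fin k) (Fin k) F)) * Matrix.fromBlocks (1 : Matrix (Fin k) (Fin k) F) (0 : Matrix (Fin k) (Fin k) F) (1 : Matrix (Fin k) (Fin k) F) (1 : Matrix (Fin k) (Fin k) F)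
        = Matrix.fromBlocks (1 : Matrix (Fin k) (Fin k) F) (1 : Matrix (Fin k) (Fin k) F) (1 : Matrix (Fin k) (Fin k) F) (0 : Matrix (Fin k) (Fin k) F) := by rw [Matrix.fromBlocks_multiply]; simp
    have h := congrArg Matrix.det e
    rw [Matrix.det_mul, Matrix.det_fromBlocks_zero₁₂, Matrix.det_fromBlocks_one₁₁, Matrix.det_one, mul_one, mul_one,
      mul_one, zero_sub, Matrix.det_neg, Matrix.det_one, mul_one, Fintype.card_fin] at h
    exact h
  rw [hM, Matrix.det_fromBlocks_zero₁₂, h2]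

theorem gram_qBin (a b : F) : (LinearMap.toMatrix₂' F (polarBilin (qBin F a b))).det = 4 * b - a ^ 2 := by
  rw [Matrix.det_fin_two]
  simp only [LinearMap.toMatrix₂'_apply, polarBilin_apply_apply, polar_qBin']
  simp; ring

theorem isSquare_sq_mul {p x : F} (hp : p ≠ 0) : IsSquare (p * p * x) ↔ IsSquare x := by
  refine ⟨?_, ?_⟩
  · rintro ⟨s, hs⟩; exact ⟨s / p, by field_simp; linear_combination hs⟩
  · rintro ⟨s, rfl⟩; exact ⟨p * s, by ring⟩

theorem isSquare_neg_one_pow [Fintype F] (hq : Odd (Fintype.card F)) (m : ℕ) :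
    IsSquare ((-1 : F) ^ m) ↔ Even (m * (Fintype.card F - 1) / 2) := by
  obtain ⟨t, ht⟩ := hq
  have h1 : m * (Fintype.card F - 1) / 2 = m * t := by
    rw [ht, show 2 * t + 1 - 1 = t * 2 by omega, ← mul_assoc, Nat.mul_div_cancel _ (by norm_num : (0:ℕ) < 2)]
  rw [h1, Nat.even_mul]
  rcases Nat.even_or_odd m with hm | hm
  · simp [hm, hm.neg_one_pow]
  · rw [hm.neg_one_pow, FiniteField.isSquare_neg_one_iff]
    constructor
    · intro h; right; rw [Nat.even_iff]; omega
    · rintro (h | h)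
      · exact absurd h (Nat.not_even_iff_odd.2 hm)
      · rw [Nat.even_iff] at h; omega

theorem disc_not_square (h2 : (2 : F) ≠ 0) {a c : F}
    (hac : ∀ z₁ z₂ : F, z₁ ^ 2 + a * z₁ * z₂ + c * z₂ ^ 2 = 0 → z₁ = 0 ∧ z₂ = 0) : ¬ IsSquare (a ^ 2 - 4 * c) := by
  rintro ⟨s, hs⟩
  refine one_ne_zero (hac ((-a + s) / 2) 1 ?_).2
  field_simp
  linear_combination -hs

/-- Similitudes extend to padded forms. -/
theorem exists_pad_similar {k : ℕ} {κ : Type} {QW : QuadraticForm F (κ → F)} {c : F} (hc : c ≠ 0)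
    (M : (κ → F) ≃ₗ[F] (κ → F)) (hM : ∀ w, QW (M w) = c * QW w) :
    ∃ S : ((Fin k ⊕ Fin k) ⊕ κ → F) ≃ₗ[F] ((Fin k ⊕ Fin k) ⊕ κ → F), ∀ v, qPad F k QW (S v) = c * qPad F k QW v := by
  let H : (Fin k ⊕ Fin k → F) ≃ₗ[F] (Fin k ⊕ Fin k → F) := (LinearEquiv.sumArrowLequivProdArrow _ _ F F).trans
    (((LinearEquiv.smulOfUnit (Units.mk0 c hc)).prodCongr (LinearEquiv.refl F _)).trans
      (LinearEquiv.sumArrowLequivProdArrow _ _ F F).symm)
  refine ⟨(LinearEquiv.sumArrowLequivProdArrow _ _ F F).trans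
    ((H.prodCongr M).trans (LinearEquiv.sumArrowLequivProdArrow _ _ F F).symm), fun v => ?_⟩
  rw [qPad_apply, qPad_apply, mul_add, Finset.mul_sum, ← hM]
  refine congrArg₂ (· + ·) (Finset.sum_congr rfl fun i _ => ?_) rfl
  show (c * v (.inl (.inl i))) * v (.inl (.inr i)) = _
  ring

variable [Finite F]

theorem exists_bin_similar {ζ : F} (hζ : ∀ t : F, t ^ 2 + t + ζ ≠ 0) {c : F} (hc : c ≠ 0) :
    ∃ M : (Fin 2 → F) ≃ₗ[F] (Fin 2 → F), ∀ w, qBin F 1 ζ (M w) = c * qBin F 1 ζ w := by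
  have hz := bin_aniso hζ
  obtain ⟨v, hv⟩ := exists_value (qBin_nondeg hz) (by simp) c
  let f : (Fin 2 → F) →ₗ[F] (Fin 2 → F) :=
    { toFun := fun w => ![v 0 * w 0 - ζ * v 1 * w 1, v 1 * w 0 + (v 0 + v 1) * w 1]
      map_add' := fun x y => by ext i; fin_cases i <;> simp <;> ring
      map_smul' := fun r x => by ext i; fin_cases i <;> simp <;> ring }
  have hf : ∀ w, qBin F 1 ζ (f w) = c * qBin F 1 ζ w := fun w => by
    rw [← hv, qBin_apply, qBin_apply, qBin_apply]
    simp only [f, LinearMap.coe_mk, AddHom.coe_mk, Matrix.cons_val_zero, Matrix.cons_val_one]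
    ring
  have hinj : Function.Injective f := by
    rw [← LinearMap.ker_eq_bot, LinearMap.ker_eq_bot']
    intro w hw
    have := hf w
    rw [hw, map_zero, eq_comm, mul_eq_zero] at this
    exact qBin_eq_zero hz (this.resolve_left hc)
  exact ⟨LinearEquiv.ofInjectiveEndo f hinj, hf⟩

end Cfsg.Agent.LBQuad
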