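/-
Which unipotent Jordan types preserve a non-degenerate symmetric or alternating form.
-/
import Cfsg.Prelude.Def_JordanBlocks
import Cfsg.Agent.Lib.Transvec.OrthFamily
import Cfsg.Agent.Lib.Spectra.SympModels

set_option autoImplicit false
set_option linter.all false

namespace Cfsg.Agent.LBJordanForms

open Matrix Finset

variable {F : Type*} [Field F]

/-- Entries of an invariant pairing between two lower Jordan blocks, extended by zero. -/
def Rel (a b : ℕ) (g : ℕ → ℕ → F) : Prop :=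
  (∀ i j, a ≤ i ∨ b ≤ j → g i j = 0) ∧
    ∀ i j, i < a → j < b → g (i + 1) j + g i (j + 1) + g (i + 1) (j + 1) = 0

theorem Rel.swap {a b : ℕ} {g : ℕ → ℕ → F} (h : Rel a b g) : Rel b a fun i j => g j i :=
  ⟨fun i j hij => h.1 j i hij.symm, fun i j hi hj => by
    have := h.2 j i hj hi
    linear_combination this⟩

theorem Rel.smul {a b : ℕ} {g : ℕ → ℕ → F} (h : Rel a b g) (c : F) : Rel a b fun i j => c * g i j :=
  ⟨fun i j hij => by simp only [h.1 i j hij, mul_zero], fun i j hi hj => by linear_combination c * h.2 i j hi hj⟩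

theorem Rel.van {a b : ℕ} {g : ℕ → ℕ → F} (h : Rel a b g) {i j : ℕ} (hij : b ≤ i + j) : g i j = 0 := by
  obtain ⟨e, he⟩ : ∃ e, e = b - j := ⟨_, rfl⟩
  induction e using Nat.strong_induction_on generalizing i j with
  | _ e ih =>
    rcases Nat.lt_or_ge j b with hj | hj
    · rcases Nat.lt_or_ge i a with hi | hi
      · obtain ⟨k, rfl⟩ : ∃ k, i = k + 1 := ⟨i - 1, by omega⟩
        have h1 := h.2 k j (by omega) hj
        rw [ih (b - (j + 1)) (by omega) (i := k) (j := j + 1) (by omega) rfl,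
          ih (b - (j + 1)) (by omega) (i := k + 1) (j := j + 1) (by omega) rfl, add_zero, add_zero] at h1
        exact h1
      · exact h.1 i j (Or.inl hi)
    · exact h.1 i j (Or.inr hj)

theorem Rel.van' {a b : ℕ} {g : ℕ → ℕ → F} (h : Rel a b g) {i j : ℕ} (hij : a ≤ i + j) : g i j = 0 :=
  h.swap.van (i := j) (j := i) (by omega)

theorem Rel.anti {a : ℕ} {g : ℕ → ℕ → F} (h : Rel a a g) : ∀ i, i < a → g i (a - 1 - i) = (-1) ^ i * g 0 (a - 1)
  | 0, _ => by simp
  | i + 1, hi => by
    have h1 := h.2 i (a - 1 - (i + 1)) (by omega) (by omega)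
    rw [h.van (i := i + 1) (j := a - 1 - (i + 1) + 1) (by omega), add_zero,
      show a - 1 - (i + 1) + 1 = a - 1 - i by omega, Rel.anti h i (by omega)] at h1
    rw [pow_succ]
    linear_combination h1

/-- Anti-triangular with non-zero anti-diagonal. -/
def Tri (d : ℕ) (g : ℕ → ℕ → F) : Prop :=
  (∀ i j, d ≤ i + j → g i j = 0) ∧ ∀ i, i < d → g i (d - 1 - i) ≠ 0

theorem Tri.inj {d : ℕ} {g : ℕ → ℕ → F} (h : Tri d g) {v : ℕ → F} (hv : ∀ i < d, ∑ j ∈ range d, g i j * v j = 0) :
    ∀ j, j < d → v j = 0 := by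
  intro j
  induction j using Nat.strong_induction_on with
  | _ j ih =>
    intro hj
    have h1 := hv (d - 1 - j) (by omega)
    rw [Finset.sum_eq_single j (fun b hb hne => by
      rw [mem_range] at hb
      rcases Nat.lt_or_ge b j with hbj | hbj
      · rw [ih b hbj hb, mul_zero]
      · rw [h.1 _ _ (by omega), zero_mul]) (fun hh => absurd (mem_range.2 hj) hh)] at h1
    refine (mul_eq_zero.1 h1).resolve_left ?_
    have h2 := h.2 (d - 1 - j) (by omega)
    rwa [show d - 1 - (d - 1 - j) = j by omega] at h2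

/-- The standard pairing of a block with itself. -/
def pair (d i j : ℕ) : F := if i < d then (-1) ^ i * ((d - 1 - i).choose j : F) else 0

theorem pair_rel (d : ℕ) : Rel d d (pair (F := F) d) := by
  refine ⟨fun i j h => ?_, fun i j hi hj => ?_⟩
  · rcases h with h | h
    · simp [pair, not_lt.2 h]
    · simp only [pair]
      split
      · rw [Nat.choose_eq_zero_of_lt (by omega), Nat.cast_zero, mul_zero]
      · rfl
  · simp only [pair, if_pos hi]
    rcases Nat.lt_or_ge (i + 1) d with h | h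
    · rw [if_pos h, if_pos h, show d - 1 - i = (d - 1 - (i + 1)) + 1 by omega, Nat.choose_succ_succ, pow_succ]
      push_cast
      ring
    · rw [if_neg (not_lt.2 h), if_neg (not_lt.2 h), show d - 1 - i = 0 by omega, Nat.choose_zero_succ]
      simp

theorem pair_tri (d : ℕ) : Tri d (pair (F := F) d) := by
  refine ⟨fun i j h => ?_, fun i hi => ?_⟩
  · simp only [pair]
    split
    · rw [Nat.choose_eq_zero_of_lt (by omega), Nat.cast_zero, mul_zero]
    · rfl
  · simp [pair, hi]

/-- The alternating form on a block of even size `2 * m`. -/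
def altSingle (m i j : ℕ) : F :=
  (if i < m ∧ m ≤ j then pair m i (j - m) else 0) - (if j < m ∧ m ≤ i then pair m j (i - m) else 0)

theorem half_rel (m i j : ℕ) (hi : i < 2 * m) (hj : j < 2 * m) :
    (fun i j => if i < m ∧ m ≤ j then pair (F := F) m i (j - m) else 0) (i + 1) j
      + (fun i j => if i < m ∧ m ≤ j then pair (F := F) m i (j - m) else 0) i (j + 1)
      + (fun i j => if i < m ∧ m ≤ j then pair (F := F) m i (j - m) else 0) (i + 1) (j + 1)
      = (if i + 1 = m ∧ j + 1 = m then (-1) ^ i else 0) := by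
  have h0 : ∀ a, pair (F := F) m a 0 = if a < m then (-1) ^ a else 0 := fun a => by simp [pair]
  simp only []
  rcases Nat.lt_or_ge i m with him | him
  · rcases Nat.lt_or_ge (j + 1) m with hjm | hjm
    · rw [if_neg (by omega), if_neg (by omega), if_neg (by omega), if_neg (by omega)]; simp
    · rcases eq_or_lt_of_le hjm with hjm | hjm
      · rw [if_neg (by omega), if_pos (by omega), show j + 1 - m = 0 by omega, h0, if_pos him]
        by_cases hi1 : i + 1 = m
        · rw [if_neg (by omega), if_pos (by omega)]; ring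
        · rw [if_pos (by omega), h0, if_pos (by omega), if_neg (by omega), pow_succ]; ring
      · rw [if_pos (show i < m ∧ m ≤ j + 1 by omega), if_neg (show ¬(i + 1 = m ∧ j + 1 = m) by omega)]
        by_cases hi1 : i + 1 < m
        · rw [if_pos (by omega), if_pos (by omega), show j + 1 - m = j - m + 1 by omega]
          exact (pair_rel m).2 i (j - m) him (by omega)
        · rw [if_neg (by omega), if_neg (by omega), show j + 1 - m = j - m + 1 by omega, pair, if_pos him,
            show m - 1 - i = 0 by omega, Nat.choose_zero_succ]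
          simp
  · rw [if_neg (by omega), if_neg (by omega), if_neg (by omega), if_neg (by omega)]; simp

theorem altSingle_rel (m : ℕ) : Rel (2 * m) (2 * m) (altSingle (F := F) m) := by
  refine ⟨fun i j h => ?_, fun i j hi hj => ?_⟩
  · have hz : ∀ a b, 2 * m ≤ a ∨ 2 * m ≤ b → (if a < m ∧ m ≤ b then pair (F := F) m a (b - m) else 0) = 0 := by
      intro a b hab
      split
      · exact (pair_rel m).1 _ _ (by omega)
      · rfl
    rw [altSingle, hz i j h, hz j i h.symm, sub_zero]
  · have h1 := half_rel (F := F) m i j hi hj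
    have h2 := half_rel (F := F) m j i hj hi
    simp only [] at h1 h2
    simp only [altSingle]
    have h3 : (if i + 1 = m ∧ j + 1 = m then ((-1 : F)) ^ i else 0) = if j + 1 = m ∧ i + 1 = m then (-1) ^ j else 0 := by
      by_cases h : i + 1 = m ∧ j + 1 = m
      · rw [if_pos h, if_pos h.symm, show i = j by omega]
      · rw [if_neg h, if_neg fun h' => h h'.symm]
    linear_combination h1 - h2 + h3

theorem altSingle_tri (m : ℕ) : Tri (2 * m) (altSingle (F := F) m) := by
  refine ⟨fun i j h => ?_, fun i hi => ?_⟩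
  · have hz : ∀ a b, 2 * m ≤ a + b → (if a < m ∧ m ≤ b then pair (F := F) m a (b - m) else 0) = 0 := by
      intro a b hab
      split
      · exact (pair_tri m).1 _ _ (by omega)
      · rfl
    rw [altSingle, hz i j h, hz j i (by omega), sub_zero]
  · rcases Nat.lt_or_ge i m with h | h
    · rw [altSingle, if_pos ⟨h, by omega⟩, if_neg (by omega), sub_zero,
        show 2 * m - 1 - i - m = m - 1 - i by omega]
      exact (pair_tri m).2 i h
    · rw [altSingle, if_neg (by omega), if_pos ⟨by omega, h⟩, zero_sub, neg_ne_zero,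
        show i - m = m - 1 - (2 * m - 1 - i) by omega]
      exact (pair_tri m).2 _ (by omega)

/-- The symmetric form on a block of odd size. -/
def symSingle (d i j : ℕ) : F := pair d i j + pair d j i

theorem symSingle_rel (d : ℕ) : Rel d d (symSingle (F := F) d) :=
  ⟨fun i j h => by rw [symSingle, (pair_rel d).1 i j h, (pair_rel d).1 j i h.symm, add_zero],
    fun i j hi hj => by
      simp only [symSingle]
      linear_combination (pair_rel (F := F) d).2 i j hi hj + (pair_rel (F := F) d).2 j i hj hi⟩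

theorem symSingle_tri (h2 : (2 : F) ≠ 0) {d : ℕ} (hd : Odd d) : Tri d (symSingle (F := F) d) := by
  refine ⟨fun i j h => by rw [symSingle, (pair_tri d).1 i j h, (pair_tri d).1 j i (by omega), add_zero], fun i hi => ?_⟩
  rw [symSingle, pair, if_pos hi, pair, if_pos (by omega), show d - 1 - (d - 1 - i) = i by omega, Nat.choose_self,
    Nat.choose_self, Nat.cast_one, mul_one, mul_one]
  have e : ((-1 : F)) ^ (d - 1 - i) = (-1) ^ i := by
    rcases Nat.even_or_odd i with h | h
    · rw [h.neg_one_pow, Even.neg_one_pow]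
      obtain ⟨a, ha⟩ := h; obtain ⟨b, hb⟩ := hd; exact ⟨b - a, by omega⟩
    · rw [h.neg_one_pow, Odd.neg_one_pow]
      obtain ⟨a, ha⟩ := h; obtain ⟨b, hb⟩ := hd; exact ⟨b - a - 1, by omega⟩
  rw [e, ← two_mul]
  exact mul_ne_zero h2 (pow_ne_zero _ (neg_ne_zero.2 one_ne_zero))

/-! ### Matrices on the index set of a Jordan type -/

variable {t : ℕ} {d : Fin t → ℕ}

local notation "σd" => ((k : Fin t) × Fin (d k))

/-- A family of blocks as functions. -/
def entry (G : Matrix ((k : Fin t) × Fin (d k)) ((k : Fin t) × Fin (d k)) F) (k l : Fin t) (i j : ℕ) : F :=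
  if h : i < d k ∧ j < d l then G ⟨k, ⟨i, h.1⟩⟩ ⟨l, ⟨j, h.2⟩⟩ else 0

theorem mul_jordan (G : Matrix ((k : Fin t) × Fin (d k)) ((k : Fin t) × Fin (d k)) F) (a : (k : Fin t) × Fin (d k))
    (l : Fin t) (j : Fin (d l)) :
    (G * Cfsg.jordanTypeMatrix d F) a ⟨l, j⟩
      = entry G a.1 l a.2 j + entry G a.1 l a.2 (j + 1) := by
  obtain ⟨k, i⟩ := a
  rw [Matrix.mul_apply, Fintype.sum_sigma, Finset.sum_eq_single l (fun b _ hb => by
    refine Finset.sum_eq_zero fun x _ => ?_
    rw [Cfsg.jordanTypeMatrix, Matrix.blockDiagonal'_apply_ne _ _ _ hb, mul_zero]) (by simp)]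
  simp only [Cfsg.jordanTypeMatrix, Matrix.blockDiagonal'_apply_eq, Cfsg.jordanBlock, Matrix.of_apply]
  have key : ∀ x : Fin (d l), G ⟨k, i⟩ ⟨l, x⟩ * (if (x : ℕ) = (j : ℕ) then 1 else if (x : ℕ) = (j : ℕ) + 1 then 1 else 0)
      = (if (x : ℕ) = (j : ℕ) then entry G k l i j else 0) + (if (x : ℕ) = (j : ℕ) + 1 then entry G k l i (j + 1) else 0) := by
    intro x
    by_cases h1 : (x : ℕ) = (j : ℕ)
    · rw [if_pos h1, if_pos h1, if_neg (by omega), add_zero, mul_one, entry, dif_pos ⟨i.2, j.2⟩]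
      rw [show x = j from Fin.ext h1]
    · by_cases h2 : (x : ℕ) = (j : ℕ) + 1
      · rw [if_neg h1, if_pos h2, if_neg h1, if_pos h2, zero_add, mul_one, entry, dif_pos ⟨i.2, h2 ▸ x.2⟩]
        exact congrArg _ (congrArg (Sigma.mk l) (Fin.ext h2))
      · rw [if_neg h1, if_neg h2, if_neg h1, if_neg h2, mul_zero, add_zero]
  rw [Finset.sum_congr rfl fun x _ => key x, Finset.sum_add_distrib]
  congr 1
  · rw [Finset.sum_eq_single j (fun b _ hb => if_neg fun h => hb (Fin.ext h)) (by simp), if_pos rfl]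
  · rcases Nat.lt_or_ge ((j : ℕ) + 1) (d l) with h | h
    · rw [Finset.sum_eq_single ⟨(j : ℕ) + 1, h⟩ (fun b _ hb => if_neg fun e => hb (Fin.ext e)) (by simp), if_pos rfl]
    · rw [entry, dif_neg (by omega)]
      exact Finset.sum_eq_zero fun x _ => ite_self 0

theorem inv_iff (G : Matrix ((k : Fin t) × Fin (d k)) ((k : Fin t) × Fin (d k)) F) :
    (Cfsg.jordanTypeMatrix d F)ᵀ * G * Cfsg.jordanTypeMatrix d F = G ↔ ∀ k l, Rel (d k) (d l) (entry G k l) := by
  have hkey : ∀ (k l : Fin t) (i : Fin (d k)) (j : Fin (d l)),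
      ((Cfsg.jordanTypeMatrix d F)ᵀ * G * Cfsg.jordanTypeMatrix d F) ⟨k, i⟩ ⟨l, j⟩
        = entry G k l i j + (entry G k l (i + 1) j + entry G k l i (j + 1) + entry G k l (i + 1) (j + 1)) := by
    intro k l i j
    have e : ∀ (i' j' : ℕ), entry ((Cfsg.jordanTypeMatrix d F)ᵀ * G) k l i' j'
        = if i' < d k then entry G k l i' j' + entry G k l (i' + 1) j' else 0 := by
      intro i' j'
      rw [show (Cfsg.jordanTypeMatrix d F)ᵀ * G = (Gᵀ * Cfsg.jordanTypeMatrix d F)ᵀ by
        rw [Matrix.transpose_mul, Matrix.transpose_transpose]]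
      have hsw : ∀ a b, entry Gᵀ l k b a = entry G k l a b := fun a b => by
        by_cases h : a < d k ∧ b < d l
        · rw [entry, entry, dif_pos h, dif_pos h.symm]; rfl
        · rw [entry, entry, dif_neg h, dif_neg fun h' => h h'.symm]
      by_cases hi : i' < d k
      · rw [if_pos hi]
        by_cases hj : j' < d l
        · rw [entry, dif_pos ⟨hi, hj⟩, Matrix.transpose_apply, mul_jordan, hsw, hsw]
        · simp [entry, hj]
      · rw [if_neg hi, entry, dif_neg fun h => hi h.1]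
    rw [mul_jordan, e, e, if_pos i.2, if_pos i.2]
    ring
  constructor
  · intro h k l
    refine ⟨fun i j hij => by rw [entry, dif_neg (by omega)], fun i j hi hj => ?_⟩
    have h1 := congrFun (congrFun h ⟨k, ⟨i, hi⟩⟩) ⟨l, ⟨j, hj⟩⟩
    rw [hkey] at h1
    have h2 : entry G k l i j = G ⟨k, ⟨i, hi⟩⟩ ⟨l, ⟨j, hj⟩⟩ := dif_pos ⟨hi, hj⟩
    linear_combination h1 - h2
  · intro h
    ext ⟨k, i⟩ ⟨l, j⟩
    rw [hkey, (h k l).2 i j i.2 j.2, add_zero, entry, dif_pos ⟨i.2, j.2⟩]

theorem quad_zero {ι : Type*} [Fintype ι] {G : Matrix ι ι F} (hG : Gᵀ = -G) (hd : ∀ a, G a a = 0) (v : ι → F) :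
    v ⬝ᵥ (G *ᵥ v) = 0 := by
  classical
  simp only [dotProduct, Matrix.mulVec, Finset.mul_sum]
  rw [← Finset.sum_product']
  refine Finset.sum_involution (fun a _ => (a.2, a.1)) (fun a _ => ?_) (fun a _ hne h => hne ?_)
    (fun a _ => Finset.mem_univ _) (fun a _ => rfl)
  · have e : G a.2 a.1 = -G a.1 a.2 := congrFun (congrFun hG a.1) a.2
    simp only [e]; ring
  · rw [show a.2 = a.1 from congrArg Prod.fst h, hd, zero_mul, mul_zero]

theorem alt_congr {ι κ : Type*} [Fintype ι] [Fintype κ] {G : Matrix ι ι F} (hG : Gᵀ = -G) (hd : ∀ a, G a a = 0)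
    (P : Matrix ι κ F) : (Pᵀ * G * P)ᵀ = -(Pᵀ * G * P) ∧ ∀ a, (Pᵀ * G * P) a a = 0 := by
  refine ⟨by rw [transpose_mul, transpose_mul, transpose_transpose, hG]; simp [Matrix.mul_assoc], fun a => ?_⟩
  have := quad_zero hG hd (fun i => P i a)
  rw [Matrix.mul_assoc]
  exact this

theorem even_card_of_alt {ι : Type*} [Fintype ι] [DecidableEq ι] {G : Matrix ι ι F} (hG : Gᵀ = -G)
    (hd : ∀ a, G a a = 0) (hdet : G.det ≠ 0) : Even (Fintype.card ι) := by
  have h := Transvec.Orth.even_finrank_range_alt (Matrix.toBilin' G) (fun x => by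
    rw [Matrix.toBilin'_apply']; exact quad_zero hG hd x)
  have hk : LinearMap.ker (Matrix.toBilin' G) = ⊥ := by
    rw [Submodule.eq_bot_iff]
    intro x hx
    refine Matrix.eq_zero_of_vecMul_eq_zero hdet (funext fun b => ?_)
    have e := LinearMap.congr_fun (LinearMap.mem_ker.1 hx) (Pi.single b 1)
    rw [Matrix.toBilin'_apply', Matrix.dotProduct_mulVec, dotProduct_single, mul_one] at e
    exact e
  have h1 := (Matrix.toBilin' G).finrank_range_add_finrank_ker
  rw [hk, finrank_bot, add_zero, Module.finrank_fintype_fun_eq_card] at h1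
  rwa [h1] at h

/-- Block sizes of the wrong parity occur an even number of times. -/
theorem even_mult {ε : F} {G : Matrix ((k : Fin t) × Fin (d k)) ((k : Fin t) × Fin (d k)) F} (hG : Gᵀ = ε • G)
    (hdet : G.det ≠ 0) (hinv : (Cfsg.jordanTypeMatrix d F)ᵀ * G * Cfsg.jordanTypeMatrix d F = G)
    (hd : ∀ k, 1 ≤ d k) {j : ℕ} (hε : ε * (-1) ^ (j - 1) = -1)
    (hdiag : (2 : F) ≠ 0 ∨ (Odd j ∧ ∀ a, G a a = 0)) :
    Even (Finset.univ.filter (fun k : Fin t => d k = j)).card := by
  classical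
  have hR := (inv_iff G).1 hinv
  obtain ⟨T, hTd⟩ : ∃ T : Matrix (Fin t) (Fin t) F, T = Matrix.of fun k l => entry G k l (d k - 1) 0 := ⟨_, rfl⟩
  have hTap : ∀ k l, T k l = entry G k l (d k - 1) 0 := fun k l => by rw [hTd]; rfl
  have htri : T.BlockTriangular d := fun k l h => by
    rw [hTap]
    exact (hR k l).van (by omega)
  have hsw : ∀ k l a b, entry G l k b a = ε * entry G k l a b := fun k l a b => by
    by_cases h : a < d k ∧ b < d l
    · rw [entry, entry, dif_pos h, dif_pos h.symm]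
      exact congrFun (congrFun hG ⟨k, ⟨a, h.1⟩⟩) ⟨l, ⟨b, h.2⟩⟩
    · rw [entry, entry, dif_neg h, dif_neg fun h' => h h'.symm, mul_zero]
  have hTdet : T.det ≠ 0 := by
    intro h0
    obtain ⟨c, hc0, hc⟩ := Matrix.exists_vecMul_eq_zero_iff.2 h0
    refine hc0 (funext fun k => ?_)
    let v : ((k : Fin t) × Fin (d k)) → F := fun a => if (a.2 : ℕ) = d a.1 - 1 then c a.1 else 0
    have hv : v ᵥ* G = 0 := by
      funext b
      obtain ⟨l, i'⟩ := b
      show ∑ a, v a * G a ⟨l, i'⟩ = 0
      rw [Fintype.sum_sigma]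
      have : ∀ k, ∑ i : Fin (d k), v ⟨k, i⟩ * G ⟨k, i⟩ ⟨l, i'⟩ = c k * entry G k l (d k - 1) i' := fun k => by
        rw [Finset.sum_eq_single ⟨d k - 1, by have := hd k; omega⟩ (fun i _ hi => by
          rw [show v ⟨k, i⟩ = 0 from if_neg fun e => hi (Fin.ext e), zero_mul]) (by simp)]
        rw [show v ⟨k, ⟨d k - 1, _⟩⟩ = c k from if_pos rfl, entry, dif_pos ⟨by have := hd k; omega, i'.2⟩]
      rw [Finset.sum_congr rfl fun k _ => this k]
      rcases Nat.eq_zero_or_pos (i' : ℕ) with h | h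
      · rw [h]
        have e := congrFun hc l
        simp only [Matrix.vecMul, dotProduct, hTap, Pi.zero_apply] at e
        exact e
      · exact Finset.sum_eq_zero fun k _ => by rw [(hR k l).van' (by omega), mul_zero]
    have := Matrix.eq_zero_of_vecMul_eq_zero hdet hv
    simpa [v] using congrFun this ⟨k, ⟨d k - 1, by have := hd k; omega⟩⟩
  rw [htri.det] at hTdet
  by_cases hj : j ∈ Finset.image d Finset.univ
  · have hdj := Finset.prod_ne_zero_iff.1 hTdet j hj
    rw [show (Finset.univ.filter (fun k : Fin t => d k = j)).card = Fintype.card {k // d k = j} from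
      (Fintype.card_subtype _).symm]
    refine even_card_of_alt ?_ (fun k => ?_) hdj
    · ext ⟨k, hk⟩ ⟨l, hl⟩
      show T l k = -T k l
      have e := (hR k l)
      rw [hk, hl] at e
      have e1 := e.anti (j - 1) (by have := hd k; omega)
      rw [Nat.sub_self] at e1
      rw [hTap, hTap, hsw k l, hk, hl]
      have h3 : ε * entry G k l 0 (j - 1) = -((-1) ^ (j - 1) * entry G k l 0 (j - 1)) := by
        have h4 : ((-1 : F) ^ (j - 1)) * (-1) ^ (j - 1) = 1 := by rw [← pow_add, Even.neg_one_pow ⟨j - 1, rfl⟩]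
        linear_combination ((-1) ^ (j - 1) * entry G k l 0 (j - 1)) * hε - ε * entry G k l 0 (j - 1) * h4
      rw [h3, ← e1]
    · obtain ⟨k, hk⟩ := k
      show T k k = 0
      have e := hR k k
      rw [hk] at e
      have h1 := e.anti (j - 1) (by have := hd k; omega)
      rw [Nat.sub_self] at h1
      rw [hTap, hk]
      rcases hdiag with h2 | ⟨⟨c, hc⟩, h2⟩
      · have h3 := hsw k k 0 (j - 1)
        have h4 : ((-1 : F) ^ (j - 1)) * (-1) ^ (j - 1) = 1 := by rw [← pow_add, Even.neg_one_pow ⟨j - 1, rfl⟩]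
        refine (mul_eq_zero.1 (show (2 : F) * entry G k k (j - 1) 0 = 0 from ?_)).resolve_left h2
        linear_combination h3 + h1 + ((-1) ^ (j - 1) * entry G k k 0 (j - 1)) * hε - (ε * entry G k k 0 (j - 1)) * h4
      · have h3 := e.anti c (by omega)
        rw [show j - 1 - c = c by omega] at h3
        have h5 : entry G k k c c = 0 := by
          rw [entry, dif_pos (by omega)]; exact h2 _
        rw [h5] at h3
        rcases mul_eq_zero.1 h3.symm with h | h
        · exact absurd h (pow_ne_zero _ (neg_ne_zero.2 one_ne_zero))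
        · rw [h1, h, mul_zero]
  · rw [Finset.filter_false_of_mem fun k hk h => hj (Finset.mem_image.2 ⟨k, hk, h⟩), Finset.card_empty]
    exact Even.zero

/-- An involution matching equal block sizes, fixed only where allowed. -/
theorem exists_matching (d : Fin t → ℕ) (P : ℕ → Prop)
    (h : ∀ j, ¬ P j → Even (Finset.univ.filter (fun k : Fin t => d k = j)).card) :
    ∃ π : Fin t → Fin t, (∀ k, π (π k) = k) ∧ (∀ k, d (π k) = d k) ∧ ∀ k, π k = k → P (d k) := by
  classical
  have hf : ∀ j, ∃ f : {k // d k = j} → {k // d k = j}, (∀ x, f (f x) = x) ∧ ∀ x, f x = x → P j := by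
    intro j
    by_cases hP : P j
    · exact ⟨id, fun x => rfl, fun x _ => hP⟩
    · obtain ⟨c, hc⟩ := h j hP
      have e : {k // d k = j} ≃ Fin c × Bool := Fintype.equivOfCardEq (by
        rw [Fintype.card_subtype, hc, Fintype.card_prod, Fintype.card_fin, Fintype.card_bool]; ring)
      refine ⟨fun x => e.symm ((e x).1, !(e x).2), fun x => by simp, fun x hx => ?_⟩
      have := congrArg (fun y => (e y).2) hx
      simp at this
  choose f hf1 hf2 using hf
  have hcoh : ∀ (j : ℕ) (x : {k // d k = j}), ((f (d x.1) ⟨x.1, rfl⟩).1) = (f j x).1 := by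
    rintro j ⟨x, rfl⟩; rfl
  refine ⟨fun k => (f (d k) ⟨k, rfl⟩).1, fun k => ?_, fun k => (f (d k) ⟨k, rfl⟩).2,
    fun k hk => hf2 (d k) ⟨k, rfl⟩ (Subtype.ext hk)⟩
  show (f (d _) ⟨(f (d k) ⟨k, rfl⟩).1, rfl⟩).1 = k
  rw [hcoh, hf1]

/-- The forms, for a given matching and given forms on the unmatched blocks. -/
theorem exists_form_of {ε : F} (hε : ε * ε = 1) (hd0 : ∀ k, 1 ≤ d k) (π : Fin t → Fin t) (hπ : ∀ k, π (π k) = k)
    (hπd : ∀ k, d (π k) = d k) (sg : Fin t → ℕ → ℕ → F)
    (hS : ∀ k, π k = k → Rel (d k) (d k) (sg k) ∧ Tri (d k) (sg k) ∧ ∀ a b, sg k b a = ε * sg k a b) :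
    ∃ G : Matrix ((k : Fin t) × Fin (d k)) ((k : Fin t) × Fin (d k)) F, Gᵀ = ε • G ∧ G.det ≠ 0 ∧
      (Cfsg.jordanTypeMatrix d F)ᵀ * G * Cfsg.jordanTypeMatrix d F = G ∧
      (∀ a b, π a.1 ≠ b.1 → G a b = 0) ∧ ((∀ k, π k = k → ∀ a, sg k a a = 0) → ∀ a, G a a = 0) := by
  classical
  obtain ⟨B, hB⟩ : ∃ B : Fin t → ℕ → ℕ → F, B = fun k =>
      if π k = k then sg k else if k < π k then pair (d k) else fun i j => ε * pair (d k) j i := ⟨_, rfl⟩
  have hBp : ∀ k, Rel (d k) (d k) (B k) ∧ Tri (d k) (B k) ∧ ∀ a b, B (π k) b a = ε * B k a b := by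
    intro k
    by_cases h1 : π k = k
    · rw [h1, hB]; simp only [if_pos h1]
      exact hS k h1
    · have h2 : π (π k) ≠ π k := fun e => h1 (by rw [← e, hπ k] at h1; exact absurd rfl h1)
      by_cases h3 : k < π k
      · have h4 : ¬ π k < π (π k) := by rw [hπ]; exact not_lt.2 h3.le
        refine ⟨?_, ?_, fun a b => ?_⟩
        · rw [hB]; simp only [if_neg h1, if_pos h3]; exact pair_rel _
        · rw [hB]; simp only [if_neg h1, if_pos h3]; exact pair_tri _
        · rw [hB]; simp only [if_neg h2, if_neg h4, if_neg h1, if_pos h3, hπd]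
      · have h4 : π k < π (π k) := by rw [hπ]; exact lt_of_le_of_ne (not_lt.1 h3) h1
        refine ⟨?_, ⟨fun i j hij => ?_, fun i hi => ?_⟩, fun a b => ?_⟩
        · rw [hB]; simp only [if_neg h1, if_neg h3]; exact (pair_rel _).swap.smul ε
        · rw [hB]; simp only [if_neg h1, if_neg h3]; rw [(pair_tri _).1 j i (by omega), mul_zero]
        · rw [hB]; simp only [if_neg h1, if_neg h3]
          refine mul_ne_zero (fun e => by rw [e, zero_mul] at hε; exact zero_ne_one hε) ?_
          have := (pair_tri (F := F) (d k)).2 (d k - 1 - i) (by omega)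
          rwa [show d k - 1 - (d k - 1 - i) = i by omega] at this
        · rw [hB]; simp only [if_neg h2, if_pos h4, if_neg h1, if_neg h3, hπd, ← mul_assoc, hε, one_mul]
  obtain ⟨G, hG⟩ : ∃ G : Matrix ((k : Fin t) × Fin (d k)) ((k : Fin t) × Fin (d k)) F,
      G = Matrix.of fun a b => if π a.1 = b.1 then B a.1 a.2 b.2 else 0 := ⟨_, rfl⟩
  have hGap : ∀ a b, G a b = if π a.1 = b.1 then B a.1 a.2 b.2 else 0 := fun a b => by rw [hG]; rfl
  refine ⟨G, ?_, ?_, ?_, fun a b h => by rw [hGap, if_neg h], fun hs a => ?_⟩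
  · ext a b
    rw [Matrix.transpose_apply, Matrix.smul_apply, smul_eq_mul, hGap, hGap]
    by_cases h1 : π a.1 = b.1
    · rw [if_pos h1, if_pos (by rw [← h1, hπ]), ← (hBp a.1).2.2, h1]
    · rw [if_neg h1, if_neg (fun e => h1 (by rw [← e, hπ])), mul_zero]
  · intro h0
    obtain ⟨v, hv0, hv⟩ := Matrix.exists_mulVec_eq_zero_iff.2 h0
    refine hv0 (funext fun b => ?_)
    obtain ⟨l, i'⟩ := b
    obtain ⟨k, rfl⟩ : ∃ k, l = π k := ⟨π l, (hπ l).symm⟩
    let w : ℕ → F := fun j => if hj : j < d (π k) then v ⟨π k, ⟨j, hj⟩⟩ else 0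
    have hw := (hBp k).2.1.inj (v := w) (fun i hi => by
      have e := congrFun hv ⟨k, ⟨i, hi⟩⟩
      rw [Matrix.mulVec, dotProduct, Fintype.sum_sigma, Finset.sum_eq_single (π k) (fun l _ hl =>
        Finset.sum_eq_zero fun x _ => by rw [hGap, if_neg (Ne.symm hl), zero_mul]) (by simp)] at e
      rw [← hπd k, Finset.sum_range]
      refine Eq.trans (Finset.sum_congr rfl fun x _ => ?_) e
      rw [hGap, if_pos rfl]
      simp [w]) i' (by rw [← hπd k]; exact i'.2)
    simpa [w] using hw
  · rw [inv_iff]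
    intro k l
    by_cases h1 : π k = l
    · subst h1
      have e : entry G k (π k) = B k := funext fun i => funext fun j => by
        rw [entry]
        split
        · rw [hGap, if_pos rfl]
        · rename_i hh
          rw [(hBp k).1.1 i j (by rw [hπd] at hh; omega)]
      rw [e, hπd]
      exact (hBp k).1
    · refine ⟨fun i j hij => by rw [entry, dif_neg (by omega)], fun i j _ _ => ?_⟩
      have e : ∀ i j, entry G k l i j = 0 := fun i j => by
        rw [entry]
        split
        · rw [hGap, if_neg h1]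
        · rfl
      simp [e]
  · rw [hGap]
    split
    · rename_i h1
      rw [hB]; simp only [if_pos h1]
      exact hs _ h1 _
    · rfl

/-- The forms. -/
theorem exists_form {ε : F} (hε : ε * ε = 1) (hd0 : ∀ k, 1 ≤ d k) (single : ℕ → ℕ → ℕ → F) (P : ℕ → Prop)
    (hS : ∀ j, P j → Rel j j (single j) ∧ Tri j (single j) ∧ ∀ a b, single j b a = ε * single j a b)
    (h : ∀ j, ¬ P j → Even (Finset.univ.filter (fun k : Fin t => d k = j)).card) :
    ∃ G : Matrix ((k : Fin t) × Fin (d k)) ((k : Fin t) × Fin (d k)) F, Gᵀ = ε • G ∧ G.det ≠ 0 ∧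
      (Cfsg.jordanTypeMatrix d F)ᵀ * G * Cfsg.jordanTypeMatrix d F = G ∧
      ((∀ j a, P j → single j a a = 0) → ∀ a, G a a = 0) := by
  obtain ⟨π, hπ, hπd, hπP⟩ := exists_matching d P h
  obtain ⟨G, h1, h2, h3, -, h4⟩ := exists_form_of hε hd0 π hπ hπd (fun k => single (d k)) fun k hk => hS _ (hπP k hk)
  exact ⟨G, h1, h2, h3, fun hs => h4 fun k hk a => hs _ a (hπP k hk)⟩

theorem alt_iff (hd : ∀ k, 1 ≤ d k) :
    (∃ G : Matrix ((k : Fin t) × Fin (d k)) ((k : Fin t) × Fin (d k)) F, Gᵀ = -G ∧ (∀ a, G a a = 0) ∧ G.det ≠ 0 ∧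
      (Cfsg.jordanTypeMatrix d F)ᵀ * G * Cfsg.jordanTypeMatrix d F = G) ↔
    ∀ j, Odd j → Even (Finset.univ.filter (fun k : Fin t => d k = j)).card := by
  constructor
  · rintro ⟨G, hG, hG0, hdet, hinv⟩ j hj
    refine even_mult (ε := -1) (by rw [neg_one_smul]; exact hG) hdet hinv hd ?_ (Or.inr ⟨hj, hG0⟩)
    rw [Even.neg_one_pow (Nat.Odd.sub_odd hj odd_one), mul_one]
  · intro h
    obtain ⟨G, hG, hdet, hinv, hG0⟩ := exists_form (F := F) (ε := -1) (by ring) hd
      (fun j => altSingle (j / 2)) Even (fun j hj => by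
        obtain ⟨c, rfl⟩ := hj
        rw [show (c + c) / 2 = c by omega, ← two_mul]
        exact ⟨altSingle_rel c, altSingle_tri c, fun a b => by rw [altSingle, altSingle]; ring⟩)
      (fun j hj => h j (Nat.not_even_iff_odd.1 hj))
    exact ⟨G, by rw [hG, neg_one_smul], hG0 fun j a hj => sub_self _, hdet, hinv⟩

theorem sym_iff (h2 : (2 : F) ≠ 0) (hd : ∀ k, 1 ≤ d k) :
    (∃ G : Matrix ((k : Fin t) × Fin (d k)) ((k : Fin t) × Fin (d k)) F, Gᵀ = G ∧ G.det ≠ 0 ∧
      (Cfsg.jordanTypeMatrix d F)ᵀ * G * Cfsg.jordanTypeMatrix d F = G) ↔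
    ∀ j, Even j → 0 < j → Even (Finset.univ.filter (fun k : Fin t => d k = j)).card := by
  constructor
  · rintro ⟨G, hG, hdet, hinv⟩ j hj hj0
    refine even_mult (ε := 1) (by rw [one_smul]; exact hG) hdet hinv hd ?_ (Or.inl h2)
    rw [Odd.neg_one_pow (Nat.Even.sub_odd hj0 hj odd_one), one_mul]
  · intro h
    obtain ⟨G, hG, hdet, hinv, -⟩ := exists_form (F := F) (ε := 1) (by ring) hd
      symSingle Odd (fun j hj => ⟨symSingle_rel j, symSingle_tri h2 hj, fun a b => by
        rw [symSingle, symSingle]; ring⟩)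
      (fun j hj => by
        rcases Nat.eq_zero_or_pos j with rfl | hj0
        · rw [Finset.filter_false_of_mem fun k _ e => absurd (hd k) (by omega), Finset.card_empty]
          exact Even.zero
        · exact h j (Nat.not_odd_iff_even.1 hj) hj0)
    exact ⟨G, by rw [hG, one_smul], hdet, hinv⟩

/-- An invariant form is transported along a similarity. -/
theorem pull {ι : Type*} [Fintype ι] [DecidableEq ι] (e : ((k : Fin t) × Fin (d k)) ≃ ι) {A G₀ : Matrix ι ι F}
    (hA : IsConj (Matrix.reindex e e (Cfsg.jordanTypeMatrix d F)) A) (hinv : Aᵀ * G₀ * A = G₀) (hdet : G₀.det ≠ 0) :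
    ∃ P : Matrix ι ((k : Fin t) × Fin (d k)) F, (Pᵀ * G₀ * P).det ≠ 0 ∧
      (Cfsg.jordanTypeMatrix d F)ᵀ * (Pᵀ * G₀ * P) * Cfsg.jordanTypeMatrix d F = Pᵀ * G₀ * P := by
  obtain ⟨c, hc⟩ := hA
  have hc' : c.1 * Matrix.reindex e e (Cfsg.jordanTypeMatrix d F) = A * c.1 := hc
  refine ⟨c.1.submatrix id e, ?_, ?_⟩
  · rw [show (c.1.submatrix id e)ᵀ * G₀ * c.1.submatrix id e = (c.1ᵀ * G₀ * c.1).submatrix e e from ?_,
      Matrix.det_submatrix_equiv_self, det_mul, det_mul, det_transpose]
    · have hcu : c.1.det ≠ 0 := ((Matrix.isUnit_iff_isUnit_det _).1 c.isUnit).ne_zero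
      exact mul_ne_zero (mul_ne_zero hcu hdet) hcu
    · ext a b; simp [Matrix.mul_apply]
  · have h1 : c.1.submatrix id e * Cfsg.jordanTypeMatrix d F = A * c.1.submatrix id e := by
      have := congrArg (fun M : Matrix ι ι F => M.submatrix id e) hc'
      rw [Matrix.submatrix_mul _ _ id e e e.bijective, Matrix.submatrix_mul _ _ id id e Function.bijective_id] at this
      simpa using this
    calc (Cfsg.jordanTypeMatrix d F)ᵀ * ((c.1.submatrix id e)ᵀ * G₀ * c.1.submatrix id e) * Cfsg.jordanTypeMatrix d F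
        = (c.1.submatrix id e * Cfsg.jordanTypeMatrix d F)ᵀ * G₀ * (c.1.submatrix id e * Cfsg.jordanTypeMatrix d F) := by
          simp only [transpose_mul, Matrix.mul_assoc]
      _ = (c.1.submatrix id e)ᵀ * (Aᵀ * G₀ * A) * c.1.submatrix id e := by
          rw [h1]; simp only [transpose_mul, Matrix.mul_assoc]
      _ = _ := by rw [hinv]

end Cfsg.Agent.LBJordanForms
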