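/-
The block-size multiplicities of a unipotent isometry, read off from ker N ⊓ range N^i.
-/
import Cfsg.Agent.Lib.LinearBlock.JordanForms

set_option autoImplicit false
set_option linter.all false

namespace Cfsg.Agent.LBType

open Module

variable {F : Type*} [Field F] {V : Type*} [AddCommGroup V] [Module F V]

/-- The socle layer of level `i`. -/
def soc (N : Module.End F V) (i : ℕ) : Submodule F V := LinearMap.ker N ⊓ LinearMap.range (N ^ i)

/-- Its dimension: the number of blocks of size bigger than `i`. -/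
noncomputable def lay (N : Module.End F V) (i : ℕ) : ℕ := finrank F (soc N i)

theorem soc_le (N : Module.End F V) {i j : ℕ} (h : i ≤ j) : soc N j ≤ soc N i := by
  refine inf_le_inf_left _ ?_
  obtain ⟨c, rfl⟩ := Nat.exists_eq_add_of_le h
  rintro _ ⟨v, rfl⟩
  exact ⟨(N ^ c) v, by rw [pow_add, Module.End.mul_apply]⟩

theorem lay_le [FiniteDimensional F V] (N : Module.End F V) {i j : ℕ} (h : i ≤ j) : lay N j ≤ lay N i :=
  Submodule.finrank_mono (soc_le N h)

theorem rank_succ [FiniteDimensional F V] (N : Module.End F V) (i : ℕ) :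
    finrank F (LinearMap.range (N ^ (i + 1))) + lay N i = finrank F (LinearMap.range (N ^ i)) := by
  have h := LinearMap.finrank_range_add_finrank_ker (N.domRestrict (LinearMap.range (N ^ i)))
  rw [LinearMap.range_domRestrict, ← LinearMap.range_comp, ← Module.End.mul_eq_comp, ← pow_succ'] at h
  have e : (LinearMap.ker (N.domRestrict (LinearMap.range (N ^ i)))).map (LinearMap.range (N ^ i)).subtype
      = soc N i := by
    rw [LinearMap.ker_domRestrict, Submodule.map_comap_subtype, soc, inf_comm]
  rw [← LinearEquiv.finrank_eq (Submodule.equivMapOfInjective _ (Submodule.injective_subtype _)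
    (LinearMap.ker (N.domRestrict (LinearMap.range (N ^ i))))) |>.symm, e] at h
  exact h

theorem sum_lay [FiniteDimensional F V] (N : Module.End F V) (m : ℕ) :
    (∑ i ∈ Finset.range m, lay N i) + finrank F (LinearMap.range (N ^ m)) = finrank F V := by
  induction m with
  | zero =>
    rw [Finset.sum_range_zero, zero_add, LinearMap.range_eq_top.2 (fun v => ⟨v, by rw [pow_zero]; rfl⟩), finrank_top]
  | succ m ih => rw [Finset.sum_range_succ, add_assoc, add_comm (lay N m), rank_succ, ih]

/-- The block sizes as a multiset. -/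
noncomputable def parts (N : Module.End F V) (m : ℕ) : Multiset ℕ :=
  ∑ i ∈ Finset.range m, Multiset.replicate (lay N i - lay N (i + 1)) (i + 1)

theorem count_parts (N : Module.End F V) (m e : ℕ) :
    (parts N m).count e = if 1 ≤ e ∧ e ≤ m then lay N (e - 1) - lay N e else 0 := by
  rw [parts, Multiset.count_sum']
  simp only [Multiset.count_replicate]
  split_ifs with h
  · rw [Finset.sum_eq_single (e - 1) (fun b _ hb => if_neg (by omega)) (fun hb => absurd (Finset.mem_range.2 (by omega)) hb),
      if_pos (by omega), Nat.sub_add_cancel h.1]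
  · exact Finset.sum_eq_zero fun b hb => if_neg (by rw [Finset.mem_range] at hb; omega)

theorem sum_parts [FiniteDimensional F V] (N : Module.End F V) (m : ℕ) :
    (parts N m).sum + m * lay N m = ∑ i ∈ Finset.range m, lay N i := by
  induction m with
  | zero => simp [parts]
  | succ m ih =>
    rw [parts, Finset.sum_range_succ, Multiset.sum_add, Multiset.sum_replicate, smul_eq_mul, Finset.sum_range_succ,
      ← parts, ← ih]
    obtain ⟨c, hc⟩ := Nat.exists_eq_add_of_le (lay_le N (Nat.le_succ m))
    rw [hc, Nat.add_sub_cancel_left]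
    ring

theorem lay_of_nilp [FiniteDimensional F V] (N : Module.End F V) {m : ℕ} (hN : N ^ m = 0) : lay N m = 0 := by
  rw [lay, soc, hN, LinearMap.range_zero, inf_bot_eq, finrank_bot]

theorem sum_parts_eq [FiniteDimensional F V] (N : Module.End F V) {m : ℕ} (hN : N ^ m = 0) :
    (parts N m).sum = finrank F V := by
  have h := sum_parts N m
  have h' := sum_lay N m
  rw [lay_of_nilp N hN, mul_zero, add_zero] at h
  rw [hN, LinearMap.range_zero, finrank_bot, add_zero] at h'
  omega

/-- Intertwined endomorphisms have the same layers. -/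
theorem lay_conj {V' : Type*} [AddCommGroup V'] [Module F V'] (N : Module.End F V) (N' : Module.End F V') (e : V ≃ₗ[F] V')
    (h : ∀ v, e (N v) = N' (e v)) (i : ℕ) : lay N' i = lay N i := by
  have hp : ∀ v, e ((N ^ i) v) = (N' ^ i) (e v) := by
    induction i with
    | zero => simp
    | succ i ih => intro v; rw [pow_succ', pow_succ', Module.End.mul_apply, Module.End.mul_apply, h, ih]
  have e1 : soc N' i = (soc N i).map (e : V →ₗ[F] V') := by
    ext w
    obtain ⟨v, rfl⟩ := e.surjective w
    rw [Submodule.mem_map]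
    constructor
    · rintro ⟨h1, u, hu⟩
      obtain ⟨u, rfl⟩ := e.surjective u
      refine ⟨v, ⟨?_, u, ?_⟩, rfl⟩
      · rw [SetLike.mem_coe, LinearMap.mem_ker] at h1
        refine LinearMap.mem_ker.2 (e.injective ?_)
        rw [h, h1, map_zero]
      · exact e.injective (by rw [hp, hu])
    · rintro ⟨v', ⟨h1, u, hu⟩, hv⟩
      obtain rfl := e.injective hv
      exact ⟨LinearMap.mem_ker.2 (by rw [← h, LinearMap.mem_ker.1 h1, map_zero]), e u, by rw [← hp, hu]⟩
  rw [lay, lay, e1, ← LinearEquiv.finrank_eq (Submodule.equivMapOfInjective _ e.injective _)]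

section split

variable (N : Module.End F V) {W : Submodule F V}

theorem pow_restrict_apply (hW : ∀ v ∈ W, N v ∈ W) (i : ℕ) (w : W) : (((N.restrict hW) ^ i) w : V) = (N ^ i) w := by
  induction i with
  | zero => simp
  | succ i ih => rw [pow_succ', pow_succ', Module.End.mul_apply, Module.End.mul_apply, LinearMap.coe_restrict_apply, ih]

theorem soc_restrict (hW : ∀ v ∈ W, N v ∈ W) (i : ℕ) :
    (soc (N.restrict hW) i).map W.subtype = LinearMap.ker N ⊓ W.map (N ^ i) := by
  ext v
  rw [Submodule.mem_map]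
  constructor
  · rintro ⟨w, ⟨h1, u, hu⟩, rfl⟩
    refine ⟨LinearMap.mem_ker.2 ?_, u, u.2, ?_⟩
    · exact congrArg Subtype.val (LinearMap.mem_ker.1 h1)
    · show (N ^ i) (u : V) = _
      rw [← pow_restrict_apply N hW, hu]; rfl
  · rintro ⟨h1, u, hu, rfl⟩
    refine ⟨((N.restrict hW) ^ i) ⟨u, hu⟩, ⟨LinearMap.mem_ker.2 (Subtype.ext ?_), _, rfl⟩, pow_restrict_apply N hW _ _⟩
    rw [LinearMap.coe_restrict_apply, pow_restrict_apply]
    exact LinearMap.mem_ker.1 h1

theorem lay_split [FiniteDimensional F V] {W' : Submodule F V} (hc : IsCompl W W') (hW : ∀ v ∈ W, N v ∈ W)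
    (hW' : ∀ v ∈ W', N v ∈ W') (i : ℕ) : lay N i = lay (N.restrict hW) i + lay (N.restrict hW') i := by
  have hp : ∀ {U : Submodule F V}, (∀ v ∈ U, N v ∈ U) → U.map (N ^ i) ≤ U := by
    intro U hU
    rintro _ ⟨u, hu, rfl⟩
    rw [← pow_restrict_apply N hU i ⟨u, hu⟩]
    exact SetLike.coe_mem _
  have f : ∀ {U : Submodule F V} (hU : ∀ v ∈ U, N v ∈ U),
      lay (N.restrict hU) i = finrank F (LinearMap.ker N ⊓ U.map (N ^ i) : Submodule F V) := fun hU => by
    rw [← soc_restrict N hU i]
    exact LinearEquiv.finrank_eq (Submodule.equivMapOfInjective _ (Submodule.injective_subtype _) _)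
  have hd : (LinearMap.ker N ⊓ W.map (N ^ i)) ⊓ (LinearMap.ker N ⊓ W'.map (N ^ i)) = (⊥ : Submodule F V) := by
    refine le_bot_iff.1 (le_trans (inf_le_inf inf_le_right inf_le_right) ?_)
    exact (inf_le_inf (hp hW) (hp hW')).trans (disjoint_iff.1 hc.disjoint).le
  have hs : (LinearMap.ker N ⊓ W.map (N ^ i)) ⊔ (LinearMap.ker N ⊓ W'.map (N ^ i)) = soc N i := by
    refine le_antisymm (sup_le (inf_le_inf_left _ LinearMap.map_le_range) (inf_le_inf_left _ LinearMap.map_le_range)) ?_
    rintro _ ⟨h1, v, rfl⟩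
    obtain ⟨w, hw, w', hw', rfl⟩ := Submodule.mem_sup.1 (show v ∈ W ⊔ W' by rw [hc.sup_eq_top]; trivial)
    rw [SetLike.mem_coe, LinearMap.mem_ker, map_add, map_add] at h1
    have a := hW _ (hp hW ⟨w, hw, rfl⟩)
    have b := hW' _ (hp hW' ⟨w', hw', rfl⟩)
    have z : N ((N ^ i) w) = 0 := Submodule.disjoint_def.1 hc.disjoint _ a (by
      rw [eq_neg_of_add_eq_zero_left h1]; exact neg_mem b)
    rw [z, zero_add] at h1
    rw [map_add]
    exact Submodule.add_mem_sup ⟨LinearMap.mem_ker.2 z, w, hw, rfl⟩ ⟨LinearMap.mem_ker.2 h1, w', hw', rfl⟩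
  have := Submodule.finrank_sup_add_finrank_inf_eq (LinearMap.ker N ⊓ W.map (N ^ i)) (LinearMap.ker N ⊓ W'.map (N ^ i))
  rw [hs, hd, finrank_bot, add_zero, ← f hW, ← f hW'] at this
  exact this

end split

section form

variable [FiniteDimensional F V] {B : LinearMap.BilinForm F V} {N : Module.End F V}

/-- `B` is preserved by `1 + N`. -/
def Pres (B : LinearMap.BilinForm F V) (N : Module.End F V) : Prop := ∀ u v, B (u + N u) (v + N v) = B u v

omit [FiniteDimensional F V] in
theorem rel (hP : Pres B N) {a b : ℕ} {u v : V} (hu : (N ^ a) u = 0) (hv : (N ^ b) v = 0) :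
    LBJordanForms.Rel a b fun i j => B ((N ^ i) u) ((N ^ j) v) := by
  have hz : ∀ {c i : ℕ} {w : V}, (N ^ c) w = 0 → c ≤ i → (N ^ i) w = 0 := fun {c i w} hw hci => by
    obtain ⟨k, rfl⟩ := Nat.exists_eq_add_of_le hci
    rw [add_comm c, pow_add, Module.End.mul_apply, hw, map_zero]
  refine ⟨fun i j h => ?_, fun i j _ _ => ?_⟩
  · rcases h with h | h
    · show B _ _ = 0
      rw [hz hu h, map_zero, LinearMap.zero_apply]
    · show B _ _ = 0
      rw [hz hv h, map_zero]
  · have := hP ((N ^ i) u) ((N ^ j) v)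
    simp only [map_add, LinearMap.add_apply] at this
    rw [← Module.End.mul_apply N, ← Module.End.mul_apply N, ← pow_succ', ← pow_succ'] at this
    linear_combination this

omit [FiniteDimensional F V] in
theorem image_perp_ker (hP : Pres B N) {m e : ℕ} (hN : N ^ m = 0) (u v : V) (hv : (N ^ e) v = 0) :
    B ((N ^ e) u) v = 0 := by
  have := (rel hP (a := m) (b := e) (u := u) (v := v) (by rw [hN]; rfl) hv).van (i := e) (j := 0) (by omega)
  simpa using this

theorem range_eq_perp (hP : Pres B N) (hB : B.Nondegenerate) (hs : B.IsSymm) {m : ℕ} (hN : N ^ m = 0) (e : ℕ) :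
    LinearMap.range (N ^ e) = B.orthogonal (LinearMap.ker (N ^ e)) := by
  refine Submodule.eq_of_le_of_finrank_le ?_ ?_
  · rintro _ ⟨u, rfl⟩ v hv
    show B v ((N ^ e) u) = 0
    rw [← hs.eq]
    exact image_perp_ker hP hN u v hv
  · rw [LinearMap.BilinForm.finrank_orthogonal hB]
    have := LinearMap.finrank_range_add_finrank_ker (N ^ e)
    omega

/-- Blocks of even size come in pairs. -/
theorem even_lay_sub (hP : Pres B N) (hB : B.Nondegenerate) (hs : B.IsSymm) (h2 : (2 : F) ≠ 0) {m : ℕ} (hN : N ^ m = 0)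
    {e : ℕ} (he : Even e) (he0 : 1 ≤ e) : Even (lay N (e - 1) - lay N e) := by
  have hker : ∀ v : LinearMap.ker (N ^ e), (N ^ (e - 1)) (v : V) ∈ soc N (e - 1) := fun v => by
    refine ⟨LinearMap.mem_ker.2 ?_, v, rfl⟩
    rw [← Module.End.mul_apply, ← pow_succ', Nat.sub_add_cancel he0]
    exact v.2
  let π : LinearMap.ker (N ^ e) →ₗ[F] soc N (e - 1) :=
    ((N ^ (e - 1)).domRestrict (LinearMap.ker (N ^ e))).codRestrict _ hker
  let ψ : soc N (e - 1) →ₗ[F] Module.Dual F (LinearMap.ker (N ^ e)) :=
    (LinearMap.ker (N ^ e)).subtype.dualMap.comp (LinearMap.comp B (soc N (e - 1)).subtype)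
  have hψ : ∀ y x, ψ y x = B (y : V) (x : V) := fun y x => rfl
  have hπ : LinearMap.range π = ⊤ := by
    refine eq_top_iff.2 fun y _ => ?_
    obtain ⟨h1, u, hu⟩ := y.2
    refine ⟨⟨u, LinearMap.mem_ker.2 ?_⟩, Subtype.ext hu⟩
    conv_lhs => rw [← Nat.sub_add_cancel he0, pow_succ', Module.End.mul_apply, hu]
    exact h1
  let β : LinearMap.ker (N ^ e) →ₗ[F] LinearMap.ker (N ^ e) →ₗ[F] F := ψ.comp π
  have halt : ∀ x, β x x = 0 := fun x => by
    have hx := x.2
    have hanti := (rel hP (LinearMap.mem_ker.1 hx) (LinearMap.mem_ker.1 hx)).anti (e - 1) (by omega)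
    rw [Nat.sub_self, Odd.neg_one_pow (Nat.Even.sub_odd he0 he odd_one)] at hanti
    simp only [pow_zero, Module.End.one_apply] at hanti
    rw [hs.eq (x : V)] at hanti
    refine (mul_eq_zero.1 (show (2 : F) * β x x = 0 from ?_)).resolve_left h2
    show (2 : F) * B ((N ^ (e - 1)) (x : V)) (x : V) = 0
    linear_combination hanti
  have hev := Transvec.Orth.even_finrank_range_alt β halt
  have hr : LinearMap.range β = LinearMap.range ψ := LinearMap.range_comp_of_range_eq_top ψ hπ
  rw [hr] at hev
  have hk : (LinearMap.ker ψ).map (soc N (e - 1)).subtype = soc N e := by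
    ext y
    rw [Submodule.mem_map]
    constructor
    · rintro ⟨y, hy, rfl⟩
      refine ⟨y.2.1, ?_⟩
      rw [range_eq_perp hP hB hs hN]
      intro x hx
      show B x (y : V) = 0
      rw [← hs.eq]
      exact LinearMap.congr_fun (LinearMap.mem_ker.1 hy) ⟨x, hx⟩
    · intro hy
      refine ⟨⟨y, soc_le N (Nat.sub_le e 1) hy⟩, LinearMap.mem_ker.2 (LinearMap.ext fun x => ?_), rfl⟩
      obtain ⟨u, hu⟩ := hy.2
      rw [hψ]
      show B y (x : V) = 0
      rw [← hu]
      exact image_perp_ker hP hN u x x.2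
  have hk' : finrank F (LinearMap.ker ψ) = lay N e := by
    rw [lay, ← hk]
    exact LinearEquiv.finrank_eq (Submodule.equivMapOfInjective _ (Submodule.injective_subtype _) _)
  have h := LinearMap.finrank_range_add_finrank_ker ψ
  rw [hk'] at h
  rw [show lay N (e - 1) - lay N e = finrank F (LinearMap.range ψ) from by unfold lay at *; omega]
  exact hev

/-- The first socle layer is totally isotropic when all blocks have size at least two. -/
theorem soc_isotropic (hP : Pres B N) {m : ℕ} (hN : N ^ m = 0) {u v : V} (hu : u ∈ soc N 1) (hv : v ∈ soc N 1) :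
    B u v = 0 := by
  obtain ⟨w, rfl⟩ := hu.2
  exact image_perp_ker hP hN w v (by rw [pow_one]; exact hv.1)

end form

end Cfsg.Agent.LBType
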