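/-
Unipotent elements of Ω with a prescribed Jordan type containing an odd block.
-/
import Cfsg.Agent.Lib.LinearBlock.OrthType
import Cfsg.Agent.Lib.LinearBlock.Disc
import Cfsg.Agent.Lib.Orthogonal.OmegaIndex
import Cfsg.Prelude.Def_GeometricClasses

set_option autoImplicit false
set_option linter.all false

namespace Cfsg.Agent.LBType

open QuadraticMap Module Matrix

variable {F : Type*} [Field F]

theorem frame_gram {κ : Type} [Fintype κ] [DecidableEq κ] (h2 : (2 : F) ≠ 0) {Q : QuadraticForm F (κ → F)}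
    {e : κ → (κ → F)} (he : Orth.IsFrame Q e) :
    ∃ w : F, w ≠ 0 ∧ 2 ^ Fintype.card κ * ∏ i, Q (e i) = w * w * (LinearMap.toMatrix₂' F (polarBilin Q)).det := by
  let b := Basis.mk (he.indep h2) ((he.indep h2).span_eq_top_of_card_eq_finrank'
    (by rw [Module.finrank_fintype_fun_eq_card])).ge
  obtain ⟨w, hw, h⟩ := LBQuad.gram_det Q b
  refine ⟨w, hw, ?_⟩
  rw [← h]
  have : (Matrix.of fun i j : κ => polar Q (b i) (b j)) = Matrix.diagonal fun i => 2 * Q (e i) := by
    ext i j
    simp only [Matrix.of_apply, b, Basis.mk_apply]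
    rcases eq_or_ne i j with rfl | hij
    · rw [Matrix.diagonal_apply_eq, Orth.b_self]
    · rw [Matrix.diagonal_apply_ne _ hij, he.1 i j hij]
  rw [this, Matrix.det_diagonal, Finset.prod_mul_distrib, Finset.prod_const, Finset.card_univ]

/-- Forms whose Gram determinants lie in the same square class are isometric. -/
theorem exists_isometry {ι : Type} [Fintype ι] [DecidableEq ι] [Nonempty ι] [Finite F] (h2 : (2 : F) ≠ 0)
    {Q₁ Q₂ : QuadraticForm F (ι → F)} (h₁ : (polarBilin Q₁).Nondegenerate) (h₂ : (polarBilin Q₂).Nondegenerate)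
    (hsq : IsSquare ((LinearMap.toMatrix₂' F (polarBilin Q₁)).det * (LinearMap.toMatrix₂' F (polarBilin Q₂)).det)) :
    ∃ g : (ι → F) ≃ₗ[F] (ι → F), ∀ v, Q₂ (g v) = Q₁ v := by
  haveI := Fintype.ofFinite F
  obtain ⟨α, hα⟩ := FiniteField.exists_nonsquare (F := F) (fun h => h2 (by
    haveI := ringChar.of_eq h; exact CharTwo.two_eq_zero))
  obtain ⟨n, hn⟩ : ∃ n, Fintype.card ι = n + 1 := ⟨Fintype.card ι - 1, by have := Fintype.card_pos (α := ι); omega⟩
  obtain ⟨σ⟩ : Nonempty (Fin (n + 1) ≃ ι) := ⟨(Fintype.equivFinOfCardEq hn).symm⟩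
  obtain ⟨e₁, he₁, h11, h12⟩ := Orth.exists_normal_frame h₁ h2 (n := n)
    (by rw [Module.finrank_fintype_fun_eq_card, hn]) hα
  obtain ⟨e₂, he₂, h21, h22⟩ := Orth.exists_normal_frame h₂ h2 (n := n)
    (by rw [Module.finrank_fintype_fun_eq_card, hn]) hα
  have hf : ∀ {Q : QuadraticForm F (ι → F)} {e : Fin (n + 1) → (ι → F)}, Orth.IsFrame Q e →
      Orth.IsFrame Q (fun i => e (σ.symm i)) := fun he =>
    ⟨fun i j hij => he.1 _ _ fun h => hij (σ.symm.injective h), fun i => he.2 _⟩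
  have hp : ∀ {Q : QuadraticForm F (ι → F)} {e : Fin (n + 1) → (ι → F)}, (∀ i, i ≠ Fin.last n → Q (e i) = 1) →
      ∏ i, Q (e (σ.symm i)) = Q (e (Fin.last n)) := fun {Q e} h => by
    rw [Equiv.prod_comp σ.symm fun i => Q (e i), Finset.prod_eq_single (Fin.last n) (fun b _ hb => h b hb) (by simp)]
  obtain ⟨w₁, hw₁, hd₁⟩ := frame_gram h2 (hf he₁)
  obtain ⟨w₂, hw₂, hd₂⟩ := frame_gram h2 (hf he₂)
  rw [hp h11] at hd₁
  rw [hp h21] at hd₂
  have hv : IsSquare (Q₁ (e₁ (Fin.last n)) * Q₂ (e₂ (Fin.last n))) := by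
    obtain ⟨s, hs⟩ := hsq
    refine ⟨w₁ * w₂ * s / 2 ^ Fintype.card ι, ?_⟩
    have hc : (2 : F) ^ Fintype.card ι ≠ 0 := pow_ne_zero _ h2
    field_simp
    linear_combination (2 ^ Fintype.card ι * Q₂ (e₂ (Fin.last n))) * hd₁
      + (w₁ ^ 2 * (LinearMap.toMatrix₂' F (polarBilin Q₁)).det) * hd₂ + (w₁ ^ 2 * w₂ ^ 2) * hs
  refine Orth.exists_isometry_of_frames h2 (hf he₁) (hf he₂) fun i => ?_
  show Q₂ (e₂ (σ.symm i)) = Q₁ (e₁ (σ.symm i))
  by_cases hi : σ.symm i = Fin.last n
  · rw [hi]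
    rcases h12 with h | h <;> rcases h22 with h' | h' <;> rw [h, h']
    · exfalso; rw [h, h', one_mul] at hv; exact hα hv
    · exfalso; rw [h, h', mul_one] at hv; exact hα hv
  · rw [h11 _ hi, h21 _ hi]

section model

variable {t : ℕ} {d : Fin t → ℕ}

/-- The nilpotent part of the standard matrix. -/
noncomputable def jn (d : Fin t → ℕ) (F : Type*) [Field F] : Module.End F (((k : Fin t) × Fin (d k)) → F) :=
  Matrix.toLin' (Cfsg.jordanTypeMatrix d F) - 1

theorem jn_apply (v : ((k : Fin t) × Fin (d k)) → F) (a : (k : Fin t) × Fin (d k)) :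
    jn d F v a = if h : (a.2 : ℕ) = 0 then 0 else v ⟨a.1, ⟨a.2 - 1, by omega⟩⟩ := by
  obtain ⟨k, i⟩ := a
  rw [jn, LinearMap.sub_apply, Module.End.one_apply, Matrix.toLin'_apply, Pi.sub_apply, Matrix.mulVec, dotProduct,
    Fintype.sum_sigma, Finset.sum_eq_single k (fun l _ hl => Finset.sum_eq_zero fun x _ => by
      rw [Cfsg.jordanTypeMatrix, Matrix.blockDiagonal'_apply_ne _ _ _ (Ne.symm hl), zero_mul]) (by simp)]
  simp only [Cfsg.jordanTypeMatrix, Matrix.blockDiagonal'_apply_eq, Cfsg.jordanBlock, Matrix.of_apply]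
  rw [← Finset.add_sum_erase _ _ (Finset.mem_univ i), if_pos rfl, one_mul, add_sub_cancel_left]
  split_ifs with h
  · exact Finset.sum_eq_zero fun x hx => by
      rw [if_neg (fun e => Finset.ne_of_mem_erase hx (Fin.ext e.symm)), if_neg (by omega), zero_mul]
  · rw [Finset.sum_eq_single (⟨(i : ℕ) - 1, by omega⟩ : Fin (d k)) (fun x hx hne => by
        rw [if_neg (fun e => Finset.ne_of_mem_erase hx (Fin.ext e.symm)),
          if_neg (fun e => hne (Fin.ext (by simp only; omega))), zero_mul])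
      (fun hn => absurd (Finset.mem_erase.2 ⟨fun e => by have := congrArg Fin.val e; simp only at this; omega, Finset.mem_univ _⟩) hn),
      if_neg (by simp only; omega), if_pos (by simp only; omega), one_mul]

theorem jn_pow_apply (i : ℕ) (v : ((k : Fin t) × Fin (d k)) → F) (a : (k : Fin t) × Fin (d k)) :
    (jn d F ^ i) v a = if h : (a.2 : ℕ) < i then 0 else v ⟨a.1, ⟨a.2 - i, by omega⟩⟩ := by
  induction i generalizing a with
  | zero => simp
  | succ i ih =>
    obtain ⟨k, j⟩ := a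
    rw [pow_succ', Module.End.mul_apply, jn_apply]
    simp only
    by_cases hj : (j : ℕ) = 0
    · rw [dif_pos hj, dif_pos (by omega)]
    · rw [dif_neg hj, ih]
      simp only
      by_cases hlt : (j : ℕ) < i + 1
      · rw [dif_pos (by omega), dif_pos hlt]
      · rw [dif_neg (by omega), dif_neg hlt]
        exact congrArg v (Sigma.ext rfl (heq_of_eq (Fin.ext (by simp only; omega))))

theorem jn_nilp {m : ℕ} (hm : ∀ k, d k ≤ m) : jn d F ^ m = 0 := by
  refine LinearMap.ext fun v => funext fun a => ?_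
  rw [jn_pow_apply, dif_pos (lt_of_lt_of_le a.2.2 (hm a.1))]
  rfl

theorem lay_jn (i : ℕ) : lay (jn d F) i = (Finset.univ.filter fun k : Fin t => i < d k).card := by
  classical
  let E : ({k : Fin t // i < d k} → F) →ₗ[F] (((k : Fin t) × Fin (d k)) → F) :=
    { toFun := fun c a => if h : (a.2 : ℕ) + 1 = d a.1 ∧ i < d a.1 then c ⟨a.1, h.2⟩ else 0
      map_add' := fun c c' => funext fun a => by
        simp only [Pi.add_apply]; split_ifs <;> simp
      map_smul' := fun z c => funext fun a => by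
        simp only [Pi.smul_apply, RingHom.id_apply]; split_ifs <;> simp }
  have hE : Function.Injective E := by
    intro c c' h
    funext ⟨k, hk⟩
    have e := congrFun h ⟨k, ⟨d k - 1, by omega⟩⟩
    simp only [E, LinearMap.coe_mk, AddHom.coe_mk] at e
    rwa [dif_pos ⟨by omega, hk⟩, dif_pos ⟨by omega, hk⟩] at e
  have hr : LinearMap.range E = soc (jn d F) i := by
    refine le_antisymm ?_ ?_
    · rintro _ ⟨c, rfl⟩
      refine ⟨LinearMap.mem_ker.2 (funext fun a => ?_), fun a => if h : (a.2 : ℕ) + i < d a.1 then E c ⟨a.1, ⟨a.2 + i, h⟩⟩ else 0,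
        funext fun a => ?_⟩
      · rw [jn_apply]
        split_ifs with h
        · rfl
        · simp only [E, LinearMap.coe_mk, AddHom.coe_mk]
          rw [dif_neg (by intro hh; have := a.2.2; omega)]
          rfl
      · obtain ⟨k, j⟩ := a
        rw [jn_pow_apply]
        simp only
        split_ifs with h h'
        · simp only [E, LinearMap.coe_mk, AddHom.coe_mk]
          rw [dif_neg (by omega)]
        · exact congrArg (E c) (Sigma.ext rfl (heq_of_eq (Fin.ext (by simp only; omega))))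
        · omega
    · rintro v ⟨h1, u, hu⟩
      refine ⟨fun k => v ⟨k.1, ⟨d k.1 - 1, by have := k.2; omega⟩⟩, funext fun a => ?_⟩
      obtain ⟨k, j⟩ := a
      simp only [E, LinearMap.coe_mk, AddHom.coe_mk]
      split_ifs with h
      · exact congrArg v (Sigma.ext rfl (heq_of_eq (Fin.ext (by simp only; omega))))
      · by_cases hj : (j : ℕ) + 1 = d k
        · rw [← hu, jn_pow_apply, dif_pos (show (j : ℕ) < i by omega)]
        · have e := congrFun (LinearMap.mem_ker.1 h1) ⟨k, ⟨j + 1, by omega⟩⟩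
          rw [jn_apply, dif_neg (by simp only; omega)] at e
          simp only [Nat.add_sub_cancel, Pi.zero_apply] at e
          exact e.symm
  rw [lay, ← hr, LinearMap.finrank_range_of_inj hE, Module.finrank_fintype_fun_eq_card, Fintype.card_subtype]

end model

/-- An element of Ω with given Jordan type, one of whose blocks is odd. -/
theorem exists_elem [Fintype F] (p : ℕ) [Fact p.Prime] [CharP F p] (hp2 : p ≠ 2) {ι : Type} [Fintype ι] [DecidableEq ι]
    {Q : QuadraticForm F (ι → F)} (hQ : (polarBilin Q).Nondegenerate) (hn : 5 ≤ Fintype.card ι) {t : ℕ}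
    (d : Fin t → ℕ) (hd : ∀ k, 1 ≤ d k) (hdp : ∀ k, d k ≤ p) (hsum : ∑ k, d k = Fintype.card ι)
    (hpar : ∀ j, Even j → 0 < j → Even (Finset.univ.filter (fun k : Fin t => d k = j)).card)
    (hodd : ∃ k, Odd (d k)) :
    ∃ x : GL ι F, x ∈ Cfsg.Geo.omegaGL (⇑Q) ∧ x ^ p = 1 ∧
      ∀ i, lay (Matrix.toLin' x.1 - 1) i = (Finset.univ.filter fun k : Fin t => i < d k).card := by
  classical
  have hp : p.Prime := Fact.out
  have h2 : (2 : F) ≠ 0 := Ring.two_ne_zero (fun e => hp2 ((ringChar.eq F p) ▸ e))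
  haveI : Nonempty ι := Fintype.card_pos_iff.1 (by omega)
  obtain ⟨k₀, hk₀⟩ := hodd
  -- a matching fixing k₀
  obtain ⟨π, hπ, hπd, hπP⟩ := LBJordanForms.exists_matching (fun k => if k = k₀ then 0 else d k)
    (fun j => Odd j ∨ j = 0) (fun j hj => by
      push Not at hj
      convert hpar j (Nat.not_odd_iff_even.1 hj.1) (Nat.pos_of_ne_zero hj.2) using 2
      refine Finset.filter_congr fun k _ => ?_
      by_cases hk : k = k₀
      · subst hk
        rw [if_pos rfl]
        exact ⟨fun h => absurd h.symm hj.2, fun h => absurd (h ▸ hk₀) hj.1⟩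
      · rw [if_neg hk])
  have hπk : π k₀ = k₀ := by
    by_contra h
    have e := hπd k₀
    rw [if_neg h, if_pos rfl] at e
    exact absurd e (by have := hd (π k₀); omega)
  have hπd' : ∀ k, d (π k) = d k := fun k => by
    by_cases hk : k = k₀
    · rw [hk, hπk]
    · have h' : π k ≠ k₀ := fun e => hk (by rw [← hπ k, e, hπk])
      have e := hπd k
      rwa [if_neg hk, if_neg h'] at e
  obtain ⟨G, hGt, hGd, hGi, hG0, -⟩ := LBJordanForms.exists_form_of (F := F) (ε := 1) (by ring) hd π hπ hπd'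
    (fun k => LBJordanForms.symSingle (d k)) (fun k hk => by
      have ho : Odd (d k) := by
        by_cases hkk : k = k₀
        · rw [hkk]; exact hk₀
        · have := hπP k hk
          rw [if_neg hkk] at this
          exact this.resolve_right (by have := hd k; omega)
      exact ⟨LBJordanForms.symSingle_rel _, LBJordanForms.symSingle_tri h2 ho, fun a b => by
        rw [LBJordanForms.symSingle, LBJordanForms.symSingle]; ring⟩)
  rw [one_smul] at hGt
  obtain ⟨α, hα⟩ := FiniteField.exists_nonsquare (F := F) (fun h => h2 (by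
    haveI := ringChar.of_eq h; exact CharTwo.two_eq_zero))
  have hα0 : α ≠ 0 := fun h => hα (h ▸ IsSquare.zero)
  let e : ((k : Fin t) × Fin (d k)) ≃ ι := Fintype.equivOfCardEq (by simp [hsum])
  -- the scaled forms
  have main : ∀ c : F, c ≠ 0 →
      IsSquare (c ^ d k₀ * ((2 : F) ^ Fintype.card ι * G.det * (LinearMap.toMatrix₂' F (polarBilin Q)).det)) →
      ∃ g : (((k : Fin t) × Fin (d k)) → F) ≃ₗ[F] (ι → F),
        ∀ v, Q (g (Matrix.toLin' (Cfsg.jordanTypeMatrix d F) v)) = Q (g v) := by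
    intro c hc hsq
    obtain ⟨s, hs⟩ : ∃ s : ((k : Fin t) × Fin (d k)) → F, s = fun a => if a.1 = k₀ then c else 1 := ⟨_, rfl⟩
    obtain ⟨H, hH⟩ : ∃ H, H = Matrix.diagonal s * G := ⟨_, rfl⟩
    have hHap : ∀ a b, H a b = s a * G a b := fun a b => by rw [hH, Matrix.diagonal_mul]
    have hHt : Hᵀ = H := by
      ext a b
      rw [Matrix.transpose_apply, hHap, hHap, show G b a = G a b from congrFun (congrFun hGt a) b]
      by_cases hab : π a.1 = b.1
      · by_cases ha : a.1 = k₀
        · rw [hs]; simp only [if_pos ha, if_pos (show b.1 = k₀ by rw [← hab, ha, hπk])]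
        · have hb : b.1 ≠ k₀ := fun h => ha (by rw [← hπ a.1, hab, h, hπk])
          rw [hs]; simp only [if_neg ha, if_neg hb]
      · rw [hG0 a b hab, mul_zero, mul_zero]
    have hHd : H.det = c ^ d k₀ * G.det := by
      rw [hH, Matrix.det_mul, Matrix.det_diagonal, hs, Fintype.prod_sigma, Finset.prod_eq_single k₀
        (fun b _ hb => Finset.prod_eq_one fun x _ => if_neg hb) (by simp)]
      simp
    have hHi : (Cfsg.jordanTypeMatrix d F)ᵀ * H * Cfsg.jordanTypeMatrix d F = H := by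
      rw [LBJordanForms.inv_iff]
      intro k l
      convert ((LBJordanForms.inv_iff G).1 hGi k l).smul (if k = k₀ then c else 1) using 2 with i
      funext j
      simp only [LBJordanForms.entry]
      split_ifs <;> first | simp [hHap, hs, *] | simp
    obtain ⟨B₀, hB₀⟩ : ∃ B₀ : LinearMap.BilinForm F (ι → F),
        B₀ = Matrix.toLinearMap₂' F (Matrix.reindex e e H) := ⟨_, rfl⟩
    obtain ⟨Q₁, hQ₁⟩ : ∃ Q₁ : QuadraticForm F (ι → F), Q₁ = LinearMap.BilinMap.toQuadraticMap B₀ := ⟨_, rfl⟩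
    have hB₀v : ∀ u v, B₀ u v = u ⬝ᵥ (Matrix.reindex e e H *ᵥ v) := fun u v => by
      rw [hB₀, Matrix.toLinearMap₂'_apply']
    have hM : LinearMap.toMatrix₂' F (polarBilin Q₁) = (2 : F) • Matrix.reindex e e H := by
      ext i j
      rw [LinearMap.toMatrix₂'_apply, polarBilin_apply_apply, hQ₁, LinearMap.BilinMap.polar_toQuadraticMap, hB₀v, hB₀v,
        Matrix.smul_apply, smul_eq_mul]
      simp only [single_one_dotProduct, Matrix.mulVec_single_one, Matrix.col_apply, Matrix.reindex_apply,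
        Matrix.submatrix_apply]
      rw [show H (e.symm j) (e.symm i) = H (e.symm i) (e.symm j) from congrFun (congrFun hHt _) _]
      ring
    have hMd : (LinearMap.toMatrix₂' F (polarBilin Q₁)).det = (2 : F) ^ Fintype.card ι * (c ^ d k₀ * G.det) := by
      rw [hM, Matrix.det_smul, Matrix.det_reindex_self, hHd]
    have h₁ : (polarBilin Q₁).Nondegenerate := by
      have hd0 : (LinearMap.toMatrix₂' F (polarBilin Q₁)).det ≠ 0 :=
        hMd ▸ mul_ne_zero (pow_ne_zero _ h2) (mul_ne_zero (pow_ne_zero _ hc) hGd)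
      exact Orth.nondeg_of fun v hv => by
        refine Matrix.eq_zero_of_vecMul_eq_zero hd0 (funext fun j => ?_)
        have := hv (Pi.single j 1)
        rw [← polarBilin_apply_apply,
          ← Matrix.toLinearMap₂'_toMatrix' (R := F) (S₁ := F) (S₂ := F) (N₂ := F) (polarBilin Q₁),
          Matrix.toLinearMap₂'_apply', Matrix.dotProduct_mulVec, dotProduct_single, mul_one] at this
        exact this
    obtain ⟨g, hg⟩ := exists_isometry h2 h₁ hQ (by
      rw [hMd]; convert hsq using 1; ring)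
    refine ⟨(LinearEquiv.funCongrLeft F F e.symm).trans g, fun v => ?_⟩
    show Q (g _) = Q (g _)
    rw [hg, hg, hQ₁, LinearMap.BilinMap.toQuadraticMap_apply, LinearMap.BilinMap.toQuadraticMap_apply, hB₀v, hB₀v]
    show ((Matrix.toLin' (Cfsg.jordanTypeMatrix d F) v) ∘ e.symm) ⬝ᵥ (Matrix.reindex e e H *ᵥ ((Matrix.toLin' (Cfsg.jordanTypeMatrix d F) v) ∘ e.symm))
      = (v ∘ e.symm) ⬝ᵥ (Matrix.reindex e e H *ᵥ (v ∘ e.symm))
    rw [Matrix.reindex_apply, Matrix.submatrix_mulVec_equiv, Matrix.submatrix_mulVec_equiv, Equiv.symm_symm,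
      Function.comp_assoc, Function.comp_assoc, Equiv.symm_comp_self, Function.comp_id, Function.comp_id,
      comp_equiv_dotProduct_comp_equiv, comp_equiv_dotProduct_comp_equiv, Matrix.toLin'_apply]
    conv_rhs => rw [← hHi]
    rw [← Matrix.mulVec_mulVec, ← Matrix.mulVec_mulVec, Matrix.dotProduct_mulVec v (Cfsg.jordanTypeMatrix d F)ᵀ,
      Matrix.vecMul_transpose]
  obtain ⟨D, hD⟩ : ∃ D : F, D = (2 : F) ^ Fintype.card ι * G.det * (LinearMap.toMatrix₂' F (polarBilin Q)).det := ⟨_, rfl⟩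
  have hD0 : D ≠ 0 := hD ▸ mul_ne_zero (mul_ne_zero (pow_ne_zero _ h2) hGd) (Orth.toMatrix_det_ne_zero Q hQ)
  obtain ⟨g, hg⟩ : ∃ g : (((k : Fin t) × Fin (d k)) → F) ≃ₗ[F] (ι → F),
      ∀ v, Q (g (Matrix.toLin' (Cfsg.jordanTypeMatrix d F) v)) = Q (g v) := by
    by_cases hsq : IsSquare D
    · exact main 1 one_ne_zero (by rw [one_pow, one_mul, ← hD]; exact hsq)
    · obtain ⟨r, hr⟩ := hk₀
      refine main α hα0 ?_
      rw [← hD, hr, pow_succ, pow_mul', _root_.sq, mul_assoc (α ^ r * α ^ r), LBQuad.isSquare_sq_mul (pow_ne_zero _ hα0), mul_comm,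
        Orth.isSquare_mul_nonsquare h2 hD0 hα0 hα]
      exact hsq
  obtain ⟨f, hf⟩ : ∃ f : Module.End F (ι → F), f = g.conj (Matrix.toLin' (Cfsg.jordanTypeMatrix d F)) := ⟨_, rfl⟩
  have hfg : ∀ v, f (g v) = g (Matrix.toLin' (Cfsg.jordanTypeMatrix d F) v) := fun v => by
    rw [hf, LinearEquiv.conj_apply_apply, LinearEquiv.symm_apply_apply]
  have hN : ∀ v, g (jn d F v) = (f - 1) (g v) := fun v => by
    rw [jn, LinearMap.sub_apply, LinearMap.sub_apply, map_sub, Module.End.one_apply, Module.End.one_apply, hfg]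
  obtain ⟨A, hA⟩ : ∃ A, A = LinearMap.toMatrix' f := ⟨_, rfl⟩
  have hAf : Matrix.toLin' A = f := by rw [hA, Matrix.toLin'_toMatrix']
  have hnil : (f - 1) ^ p = 0 := by
    refine LinearMap.ext fun w => ?_
    obtain ⟨v, rfl⟩ := g.surjective w
    have : ∀ i, g ((jn d F ^ i) v) = ((f - 1) ^ i) (g v) := by
      intro i
      induction i with
      | zero => simp
      | succ i ih => rw [pow_succ', pow_succ', Module.End.mul_apply, Module.End.mul_apply, hN, ih]
    rw [← this, jn_nilp hdp]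
    simp
  have hAp : A ^ p = 1 := by
    have e1 : ((A - 1) ^ p) = 0 := by
      refine Matrix.toLin'.injective ?_
      rw [map_zero, ← hnil, ← hAf, show Matrix.toLin' ((A - 1) ^ p) = Matrix.toLinAlgEquiv' ((A - 1) ^ p) from rfl, map_pow, map_sub, map_one]
      rfl
    rw [sub_pow_char_of_commute (p := p) (Commute.one_right A), one_pow, sub_eq_zero] at e1
    exact e1
  have hA1 : A * A ^ (p - 1) = 1 := by rw [← pow_succ', Nat.sub_add_cancel hp.one_le, hAp]
  let x : GL ι F := ⟨A, A ^ (p - 1), hA1, mul_eq_one_comm.1 hA1⟩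
  have hxi : x ∈ Cfsg.isometryGroup F (⇑Q) := Orth.mem_isometryGroup.2 fun w => by
    obtain ⟨v, rfl⟩ := g.surjective w
    show Q (A *ᵥ g v) = Q (g v)
    rw [← Matrix.toLin'_apply, hAf, hfg, hg]
  have hxp : x ^ p = 1 := Units.ext (by rw [Units.val_pow_eq_pow_val]; exact hAp)
  refine ⟨x, ?_, hxp, fun i => ?_⟩
  · obtain ⟨χ, hker, -, -⟩ := Orth.exists_matrix_spinor Q hQ (by omega) (Or.inr (by omega))
    have h4 : Nat.card (Orth.SpinVal F) = 4 := Orth.card_spinVal.1 h2
    haveI : Finite (Orth.SpinVal F) := Nat.finite_of_card_ne_zero (by omega)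
    have hdvd := orderOf_dvd_natCard (χ ⟨x, hxi⟩)
    have hdp' : orderOf (χ ⟨x, hxi⟩) ∣ p := orderOf_dvd_of_pow_eq_one (by
      rw [← map_pow, show (⟨x, hxi⟩ : Cfsg.isometryGroup F (⇑Q)) ^ p = 1 from Subtype.ext hxp, map_one])
    rw [h4] at hdvd
    have h1 : orderOf (χ ⟨x, hxi⟩) = 1 := (hp.eq_one_or_self_of_dvd _ hdp').resolve_right fun e => hp2 (by
      rw [e, show (4 : ℕ) = 2 ^ 2 from rfl] at hdvd
      exact (Nat.prime_dvd_prime_iff_eq hp Nat.prime_two).1 (hp.dvd_of_dvd_pow hdvd))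
    refine Subgroup.mem_map.2 ⟨⟨x, hxi⟩, ?_, rfl⟩
    rw [← hker]
    exact MonoidHom.mem_ker.2 (orderOf_eq_one_iff.1 h1)
  · show lay (Matrix.toLin' A - 1) i = _
    rw [hAf, lay_conj (jn d F) (f - 1) g hN, lay_jn]

end Cfsg.Agent.LBType
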