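/-
Nilpotent endomorphisms with a one-dimensional kernel: kernels of powers, cyclic vectors, commutant.
-/
import Mathlib

set_option autoImplicit false
set_option linter.style.haveILetI false

namespace Cfsg.Agent.LBCyclic

open Module

variable {F V : Type*} [Field F] [AddCommGroup V] [Module F V] [FiniteDimensional F V]

theorem finrank_ker_pow_add_le (N : End F V) (j : ℕ) :
    ∀ i, finrank F (LinearMap.ker (N ^ (j + i))) ≤ finrank F (LinearMap.ker (N ^ j)) + i * finrank F (LinearMap.ker N)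
  | 0 => by simp
  | i + 1 => by
    refine le_trans ?_ (Nat.add_le_add_right (finrank_ker_pow_add_le N j i) (finrank F (LinearMap.ker N)) |>.trans
      (by rw [add_mul, one_mul, add_assoc]))
    let f : ↥(LinearMap.ker (N ^ (j + i + 1))) →ₗ[F] ↥(LinearMap.ker N) :=
      ((N ^ (j + i)).comp (Submodule.subtype _)).codRestrict _ fun x => LinearMap.mem_ker.2 (by
        exact (LinearMap.congr_fun (pow_succ' N (j + i)) x).symm.trans (LinearMap.mem_ker.1 x.2))
    have h1 := f.finrank_range_add_finrank_ker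
    have h2 := (LinearMap.range f).finrank_le
    have h3 : finrank F (LinearMap.ker f) ≤ finrank F (LinearMap.ker (N ^ (j + i))) := by
      refine LinearMap.finrank_le_finrank_of_injective
        (f := ((Submodule.subtype _).comp (LinearMap.ker f).subtype).codRestrict (LinearMap.ker (N ^ (j + i)))
          fun x => LinearMap.mem_ker.2 (congrArg Subtype.val (LinearMap.mem_ker.1 x.2))) ?_
      intro a b hab
      exact Subtype.ext (Subtype.ext (congrArg (fun z : ↥(LinearMap.ker (N ^ (j + i))) => (z : V)) hab))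
    show finrank F ↥(LinearMap.ker (N ^ (j + i + 1))) ≤ _
    omega

variable {N : End F V} {n : ℕ} (hn : finrank F V = n) (hnil : N ^ n = 0) (hker : finrank F (LinearMap.ker N) ≤ 1)
include hn hnil hker

theorem finrank_ker_pow {j : ℕ} (hj : j ≤ n) : finrank F (LinearMap.ker (N ^ j)) = j := by
  have h1 := finrank_ker_pow_add_le N 0 j
  rw [pow_zero, Module.End.one_eq_id, LinearMap.ker_id, finrank_bot, zero_add, zero_add] at h1
  have h2 := finrank_ker_pow_add_le N j (n - j)
  rw [show j + (n - j) = n by omega, hnil, LinearMap.ker_zero, finrank_top, hn] at h2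
  have h3 := Nat.mul_le_mul_left j hker
  have h4 := Nat.mul_le_mul_left (n - j) hker
  omega

theorem eq_ker_pow {W : Submodule F V} (hW : ∀ x ∈ W, N x ∈ W) :
    W = LinearMap.ker (N ^ finrank F W) := by
  refine Submodule.eq_of_le_of_finrank_eq (fun x hx => ?_) ?_
  · have h1 : ∀ (i : ℕ) (y : W), ((N.restrict hW ^ i) y : V) = (N ^ i) y := by
      intro i
      induction i with
      | zero => exact fun y => rfl
      | succ i ih =>
        intro y
        rw [pow_succ, pow_succ, Module.End.mul_apply, Module.End.mul_apply, ih]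
        rfl
    have h2 : (⟨x, hx⟩ : W) ∈ LinearMap.ker (N.restrict hW ^ n) :=
      LinearMap.mem_ker.2 (Subtype.ext (by rw [h1, hnil]; rfl))
    have h3 := LinearMap.mem_ker.1 (Module.End.ker_pow_le_ker_pow_finrank (N.restrict hW) n h2)
    rw [LinearMap.mem_ker, ← h1 _ ⟨x, hx⟩, h3]
    rfl
  · exact (finrank_ker_pow hn hnil hker (hn ▸ W.finrank_le)).symm

theorem range_pow_eq {j : ℕ} (hj : j ≤ n) : LinearMap.range (N ^ (n - j)) = LinearMap.ker (N ^ j) := by
  refine Submodule.eq_of_le_of_finrank_eq ?_ ?_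
  · rintro _ ⟨x, rfl⟩
    rw [LinearMap.mem_ker, ← Module.End.mul_apply, ← pow_add, show j + (n - j) = n by omega, hnil]
    rfl
  · have h := (N ^ (n - j)).finrank_range_add_finrank_ker
    rw [finrank_ker_pow hn hnil hker (Nat.sub_le n j), hn] at h
    rw [finrank_ker_pow hn hnil hker hj]
    omega

theorem exists_gen (h1 : 1 ≤ n) : ∃ v, (N ^ (n - 1)) v ≠ 0 := by
  by_contra! h
  have := finrank_ker_pow hn hnil hker (Nat.sub_le n 1)
  rw [LinearMap.ker_eq_top.2 (LinearMap.ext h), finrank_top, hn] at this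
  omega

theorem span_gen {v : V} (hv : (N ^ (n - 1)) v ≠ 0) :
    ⊤ ≤ Submodule.span F (Set.range fun i : Fin n => (N ^ (i : ℕ)) v) := by
  set W := Submodule.span F (Set.range fun i : Fin n => (N ^ (i : ℕ)) v) with hWdef
  have hn0 : 0 < n := by
    rcases Nat.eq_zero_or_pos n with rfl | h
    · exact absurd (by rw [show (0 : ℕ) - 1 = 0 from rfl, hnil]; rfl) hv
    · exact h
  have hpow : ∀ i, (N ^ i) v ∈ W := fun i => by
    rcases Nat.lt_or_ge i n with h | h
    · exact Submodule.subset_span ⟨⟨i, h⟩, rfl⟩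
    · rw [show i = (i - n) + n by omega, pow_add, hnil, mul_zero]; exact W.zero_mem
  have hW : ∀ x ∈ W, N x ∈ W := fun x hx => by
    induction hx using Submodule.span_induction with
    | mem a ha =>
      obtain ⟨i, rfl⟩ := ha
      rw [← Module.End.mul_apply, ← pow_succ']
      exact hpow _
    | zero => rw [map_zero]; exact W.zero_mem
    | add a b _ _ ha hb => rw [map_add]; exact W.add_mem ha hb
    | smul c a _ ha => rw [map_smul]; exact W.smul_mem c ha
  have heq := eq_ker_pow hn hnil hker hW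
  rcases Nat.lt_or_ge (finrank F W) n with h | h
  · have h1 : v ∈ LinearMap.ker (N ^ finrank F W) := by rw [← heq]; simpa using hpow 0
    refine absurd ?_ hv
    rw [show n - 1 = (n - 1 - finrank F W) + finrank F W by omega, pow_add, Module.End.mul_apply,
      LinearMap.mem_ker.1 h1, map_zero]
  · exact (Submodule.eq_top_of_finrank_eq (le_antisymm W.finrank_le (hn ▸ h))).ge

theorem indep_gen {v : V} (hv : (N ^ (n - 1)) v ≠ 0) : LinearIndependent F fun i : Fin n => (N ^ (i : ℕ)) v :=
  linearIndependent_of_top_le_span_of_card_eq_finrank (span_gen hn hnil hker hv) (by rw [Fintype.card_fin, hn])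

theorem ext_commute {v : V} (hv : (N ^ (n - 1)) v ≠ 0) {S T : End F V} (hS : Commute S N) (hT : Commute T N)
    (h : S v = T v) : S = T := by
  refine LinearMap.ext_on_range (top_le_iff.1 (span_gen hn hnil hker hv)) fun i => ?_
  rw [← Module.End.mul_apply, ← Module.End.mul_apply, (hS.pow_right _).eq, (hT.pow_right _).eq, Module.End.mul_apply,
    Module.End.mul_apply, h]

theorem exists_commute_eq {v : V} (hv : (N ^ (n - 1)) v ≠ 0) (w : V) :
    ∃ c : Fin n → F, (∑ i, c i • N ^ (i : ℕ)) v = w := by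
  obtain ⟨c, hc⟩ := Submodule.mem_span_range_iff_exists_fun F |>.1 (span_gen hn hnil hker hv (Submodule.mem_top (x := w)))
  exact ⟨c, by rw [LinearMap.sum_apply]; simpa using hc⟩

omit [FiniteDimensional F V] hn hnil hker in
theorem commute_sum (c : Fin n → F) : Commute (∑ i, c i • N ^ (i : ℕ)) N :=
  Commute.sum_left _ _ _ fun i _ => ((Commute.refl N).pow_left _).smul_left _

theorem bijective_iff {v : V} (hv : (N ^ (n - 1)) v ≠ 0) {T : End F V} (hT : Commute T N) :
    Function.Bijective T ↔ (N ^ (n - 1)) (T v) ≠ 0 := by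
  have hcomm : (N ^ (n - 1)) (T v) = T ((N ^ (n - 1)) v) := by
    rw [← Module.End.mul_apply, ← Module.End.mul_apply, (hT.pow_right _).eq]
  rw [hcomm]
  refine ⟨fun h h0 => hv (h.injective (by rw [h0, map_zero])), fun h => ?_⟩
  have hinj : Function.Injective T := by
    rw [← LinearMap.ker_eq_bot]
    by_contra hb
    have hW : ∀ x ∈ LinearMap.ker T, N x ∈ LinearMap.ker T := fun x hx => by
      rw [LinearMap.mem_ker, ← Module.End.mul_apply, hT.eq, Module.End.mul_apply, LinearMap.mem_ker.1 hx, map_zero]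
    have heq := eq_ker_pow hn hnil hker hW
    have hd : finrank F (LinearMap.ker T) ≠ 0 := fun h0 => hb (Submodule.finrank_eq_zero.1 h0)
    obtain ⟨d, hd'⟩ := Nat.exists_eq_succ_of_ne_zero hd
    refine h (LinearMap.mem_ker.1 ?_)
    rw [heq, hd', LinearMap.mem_ker, ← Module.End.mul_apply, ← pow_add,
      show d + 1 + (n - 1) = d + n by
        have : 1 ≤ n := by
          have := (LinearMap.ker T).finrank_le
          omega
        omega, pow_add, hnil, mul_zero]
    rfl
  exact ⟨hinj, LinearMap.injective_iff_surjective.1 hinj⟩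

/-- Two such endomorphisms are similar. -/
theorem exists_similar {W : Type*} [AddCommGroup W] [Module F W] [FiniteDimensional F W] {M : End F W}
    (hn' : finrank F W = n) (hnil' : M ^ n = 0) (hker' : finrank F (LinearMap.ker M) ≤ 1) (h1 : 1 ≤ n) :
    ∃ e : V ≃ₗ[F] W, ∀ x, e (N x) = M (e x) := by
  obtain ⟨v, hv⟩ := exists_gen hn hnil hker h1
  obtain ⟨w, hw⟩ := exists_gen hn' hnil' hker' h1
  let b := Module.Basis.mk (indep_gen hn hnil hker hv) (span_gen hn hnil hker hv)
  let b' := Module.Basis.mk (indep_gen hn' hnil' hker' hw) (span_gen hn' hnil' hker' hw)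
  refine ⟨b.equiv b' (Equiv.refl _), fun x => ?_⟩
  have key : (b.equiv b' (Equiv.refl _)).toLinearMap.comp N = M.comp (b.equiv b' (Equiv.refl _)).toLinearMap := by
    refine b.ext fun i => ?_
    have hbe : ∀ k : Fin n, b.equiv b' (Equiv.refl _) ((N ^ (k : ℕ)) v) = (M ^ (k : ℕ)) w := fun k => by
      have h := Module.Basis.equiv_apply b k b' (Equiv.refl _)
      simpa [b, b'] using h
    simp only [LinearMap.comp_apply, LinearEquiv.coe_coe, b, Module.Basis.mk_apply, hbe]
    rw [← Module.End.mul_apply, ← pow_succ', ← Module.End.mul_apply, ← pow_succ']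
    rcases Nat.lt_or_ge ((i : ℕ) + 1) n with h | h
    · exact hbe ⟨_, h⟩
    · rw [show (i : ℕ) + 1 = n by omega, hnil, hnil', LinearMap.zero_apply, LinearMap.zero_apply, map_zero]
  exact LinearMap.congr_fun key x

omit hn hnil hker in
theorem det_one_add_of_nilpotent {S : End F V} (hS : IsNilpotent S) : LinearMap.det (1 + S) = 1 := by
  obtain ⟨k, hk⟩ := hS.neg
  have h := ((LinearMap.charpoly_eq_X_pow_iff (-S)).2 fun x => ⟨k, by rw [hk]; rfl⟩)
  have h2 := LinearMap.eval_charpoly (-S) 1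
  rw [h, Polynomial.eval_pow, Polynomial.eval_X, one_pow, map_one, sub_neg_eq_add] at h2
  exact h2.symm

theorem det_commute {v : V} (hv : (N ^ (n - 1)) v ≠ 0) {T : End F V} (hT : Commute T N)
    (hTb : Function.Bijective T) : ∃ c : F, c ≠ 0 ∧ LinearMap.det T = c ^ n := by
  obtain ⟨c, hc⟩ := exists_commute_eq hn hnil hker hv (T v)
  have hTeq : T = ∑ i, c i • N ^ (i : ℕ) := (ext_commute hn hnil hker hv (commute_sum c) hT hc).symm
  obtain ⟨m, rfl⟩ : ∃ m, n = m + 1 := by
    rcases n with _ | m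
    · exact absurd (by rw [show (0 : ℕ) - 1 = 0 from rfl, hnil]; rfl) hv
    · exact ⟨m, rfl⟩
  have hsum : T = c 0 • (1 : End F V) + N * ∑ i : Fin m, c i.succ • N ^ (i : ℕ) := by
    rw [hTeq, Fin.sum_univ_succ, Finset.mul_sum]
    congr 1
    refine Finset.sum_congr rfl fun i _ => ?_
    rw [Fin.val_succ, mul_smul_comm, ← pow_succ']
  have hnilS : IsNilpotent (N * ∑ i : Fin m, c i.succ • N ^ (i : ℕ)) := Commute.isNilpotent_mul_right
    (Commute.sum_right _ _ _ fun i _ => ((Commute.refl N).pow_right _).smul_right _) ⟨_, hnil⟩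
  have h0 : c 0 ≠ 0 := fun h0 => (bijective_iff hn hnil hker hv hT).1 hTb (by
    rw [hsum, h0, zero_smul, zero_add, Module.End.mul_apply, ← Module.End.mul_apply, Nat.add_sub_cancel, ← pow_succ,
      hnil, LinearMap.zero_apply])
  refine ⟨c 0, h0, ?_⟩
  have hTs : T = c 0 • (1 + (c 0)⁻¹ • (N * ∑ i : Fin m, c i.succ • N ^ (i : ℕ))) := by
    rw [hsum, smul_add, smul_smul, mul_inv_cancel₀ h0, one_smul]
  rw [hTs, LinearMap.det_smul, det_one_add_of_nilpotent (hnilS.smul _), mul_one, hn]

end Cfsg.Agent.LBCyclic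

namespace Cfsg.Agent.LBCyclic

open Module Matrix

variable {F : Type*} [Field F] {ι : Type} [Fintype ι] [DecidableEq ι]

theorem mat_to_end {A : Matrix ι ι F} {n : ℕ} (hι : Fintype.card ι = n) (hnil : A ^ n = 0) (hr : A.rank = n - 1) :
    finrank F (ι → F) = n ∧ (Matrix.toLinAlgEquiv' A : End F (ι → F)) ^ n = 0 ∧
      finrank F (LinearMap.ker (Matrix.toLinAlgEquiv' A : End F (ι → F))) ≤ 1 := by
  refine ⟨by rw [Module.finrank_fintype_fun_eq_card, hι], by rw [← map_pow, hnil, map_zero], ?_⟩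
  have h := A.mulVecLin.finrank_range_add_finrank_ker
  rw [Module.finrank_fintype_fun_eq_card, hι] at h
  have hr' : finrank F (LinearMap.range A.mulVecLin) = n - 1 := hr
  show finrank F (LinearMap.ker A.mulVecLin) ≤ 1
  omega

theorem ker_pow_toLin (A : Matrix ι ι F) (k : ℕ) :
    LinearMap.ker ((A ^ k).mulVecLin) = LinearMap.ker ((Matrix.toLinAlgEquiv' A : End F (ι → F)) ^ k) := by
  rw [← map_pow]; rfl

end Cfsg.Agent.LBCyclic

namespace Cfsg.Agent.LBCyclic

open Module Matrix

variable {F : Type*} [Field F] {n : ℕ}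

theorem commute_of_mem {u g : GL (Fin n) F} (h : g ∈ Subgroup.centralizer ({u} : Set (GL (Fin n) F))) :
    Commute (Matrix.toLinAlgEquiv' (g : Matrix (Fin n) (Fin n) F) : End F (Fin n → F))
      (Matrix.toLinAlgEquiv' ((u : Matrix (Fin n) (Fin n) F) - 1)) := by
  have h1 : (u : Matrix (Fin n) (Fin n) F) * g = g * u :=
    congrArg Units.val (Subgroup.mem_centralizer_singleton_iff.1 h).symm
  have h2 : Commute (g : Matrix (Fin n) (Fin n) F) ((u : Matrix (Fin n) (Fin n) F) - 1) :=
    (show Commute (g : Matrix (Fin n) (Fin n) F) u from h1.symm).sub_right (Commute.one_right _)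
  exact h2.map (Matrix.toLinAlgEquiv' : Matrix (Fin n) (Fin n) F ≃ₐ[F] _)

theorem bijective_gl (g : GL (Fin n) F) :
    Function.Bijective (Matrix.toLinAlgEquiv' (g : Matrix (Fin n) (Fin n) F) : End F (Fin n → F)) := by
  refine Function.bijective_iff_has_inverse.2
    ⟨Matrix.toLinAlgEquiv' ((g⁻¹ : GL (Fin n) F) : Matrix (Fin n) (Fin n) F), fun x => ?_, fun x => ?_⟩ <;>
  · rw [← Module.End.mul_apply, ← map_mul, ← Units.val_mul]
    simp

variable (hn : 1 ≤ n) {u : GL (Fin n) F} (hnil : ((u : Matrix (Fin n) (Fin n) F) - 1) ^ n = 0)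
  (hreg : ((u : Matrix (Fin n) (Fin n) F) - 1).rank = n - 1)
include hn hnil hreg

theorem det_centralizer {g : GL (Fin n) F} (hg : g ∈ Subgroup.centralizer ({u} : Set (GL (Fin n) F))) :
    ∃ c : F, c ≠ 0 ∧ (g : Matrix (Fin n) (Fin n) F).det = c ^ n := by
  obtain ⟨h1, h2, h3⟩ := mat_to_end (Fintype.card_fin n) hnil hreg
  obtain ⟨v, hv⟩ := exists_gen h1 h2 h3 hn
  obtain ⟨c, hc, hd⟩ := det_commute h1 h2 h3 hv (commute_of_mem hg) (bijective_gl g)
  refine ⟨c, hc, ?_⟩
  rw [← hd]
  exact (LinearMap.det_toLin' _).symm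

theorem card_centralizer [Fintype F] :
    Nat.card ↥(Subgroup.centralizer ({u} : Set (GL (Fin n) F))) = Fintype.card F ^ n - Fintype.card F ^ (n - 1) := by
  classical
  obtain ⟨h1, h2, h3⟩ := mat_to_end (Fintype.card_fin n) hnil hreg
  obtain ⟨v, hv⟩ := exists_gen h1 h2 h3 hn
  set N : End F (Fin n → F) := Matrix.toLinAlgEquiv' ((u : Matrix (Fin n) (Fin n) F) - 1) with hN
  let f : ↥(Subgroup.centralizer ({u} : Set (GL (Fin n) F))) → {w // ¬ w ∈ LinearMap.ker (N ^ (n - 1))} :=
    fun g => ⟨Matrix.toLinAlgEquiv' ((g.1 : GL (Fin n) F) : Matrix (Fin n) (Fin n) F) v,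
      fun h => (bijective_iff h1 h2 h3 hv (commute_of_mem g.2)).1 (bijective_gl g.1) (LinearMap.mem_ker.1 h)⟩
  have hf : Function.Bijective f := by
    refine ⟨fun a b hab => ?_, fun w => ?_⟩
    · have := ext_commute h1 h2 h3 hv (commute_of_mem a.2) (commute_of_mem b.2) (congrArg Subtype.val hab)
      exact Subtype.ext (Units.ext (Matrix.toLinAlgEquiv'.injective this))
    · obtain ⟨c, hc⟩ := exists_commute_eq h1 h2 h3 hv w.1
      have hT := commute_sum (N := N) c
      have hTb : Function.Bijective (⇑(∑ i, c i • N ^ (i : ℕ) : End F (Fin n → F))) := (bijective_iff h1 h2 h3 hv hT).2 (by rw [hc]; exact w.2)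
      have hunit : IsUnit (∑ i, c i • N ^ (i : ℕ)) := (Module.End.isUnit_iff _).2 hTb
      obtain ⟨g, hg⟩ := hunit.map (Matrix.toLinAlgEquiv' (n := Fin n) (R := F)).symm
      refine ⟨⟨g, Subgroup.mem_centralizer_singleton_iff.2 (Units.ext ?_)⟩, Subtype.ext ?_⟩
      · have h4 : Commute (g : Matrix (Fin n) (Fin n) F) ((u : Matrix (Fin n) (Fin n) F) - 1) := by
          have h5 := hT.map (Matrix.toLinAlgEquiv' (n := Fin n) (R := F)).symm
          rwa [hN, AlgEquiv.symm_apply_apply, ← hg] at h5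
        have h6 := (h4.add_right (Commute.one_right _)).eq
        rw [sub_add_cancel] at h6
        exact h6
      · show Matrix.toLinAlgEquiv' (g : Matrix (Fin n) (Fin n) F) v = w.1
        rw [hg, AlgEquiv.apply_symm_apply, hc]
  rw [Nat.card_congr (Equiv.ofBijective f hf), Nat.card_eq_fintype_card, Fintype.card_subtype_compl,
    ← Nat.card_eq_fintype_card, ← Nat.card_eq_fintype_card,
    Module.natCard_eq_pow_finrank (K := F) (V := Fin n → F), h1,
    show Nat.card {w // w ∈ LinearMap.ker (N ^ (n - 1))} = Nat.card ↥(LinearMap.ker (N ^ (n - 1))) from rfl,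
    Module.natCard_eq_pow_finrank (K := F) (V := ↥(LinearMap.ker (N ^ (n - 1)))),
    finrank_ker_pow h1 h2 h3 (Nat.sub_le n 1), Nat.card_eq_fintype_card]

theorem exists_conj {u' : GL (Fin n) F} (hnil' : ((u' : Matrix (Fin n) (Fin n) F) - 1) ^ n = 0)
    (hreg' : ((u' : Matrix (Fin n) (Fin n) F) - 1).rank = n - 1) : ∃ g : GL (Fin n) F, g * u * g⁻¹ = u' := by
  obtain ⟨h1, h2, h3⟩ := mat_to_end (Fintype.card_fin n) hnil hreg
  obtain ⟨h1', h2', h3'⟩ := mat_to_end (Fintype.card_fin n) hnil' hreg'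
  obtain ⟨e, he⟩ := exists_similar h1 h2 h3 h1' h2' h3' hn
  let g : GL (Fin n) F :=
    ⟨LinearMap.toMatrix' (e : (Fin n → F) →ₗ[F] (Fin n → F)), LinearMap.toMatrix' (e.symm : (Fin n → F) →ₗ[F] (Fin n → F)),
      by rw [← LinearMap.toMatrix'_comp]; simp, by rw [← LinearMap.toMatrix'_comp]; simp⟩
  have hgu : (g : Matrix (Fin n) (Fin n) F) * ((u : Matrix (Fin n) (Fin n) F) - 1)
      = ((u' : Matrix (Fin n) (Fin n) F) - 1) * g := by
    refine Matrix.toLinAlgEquiv'.injective (LinearMap.ext fun x => ?_)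
    rw [map_mul, map_mul, Module.End.mul_apply, Module.End.mul_apply]
    have hge : ∀ y, Matrix.toLinAlgEquiv' (g : Matrix (Fin n) (Fin n) F) y = e y := fun y => by
      rw [Matrix.toLinAlgEquiv'_apply]
      exact LinearMap.toMatrix'_mulVec _ _
    rw [hge, hge, he]
  refine ⟨g, mul_inv_eq_iff_eq_mul.2 (Units.ext ?_)⟩
  rw [mul_sub, sub_mul, mul_one, one_mul] at hgu
  exact sub_left_injective hgu

end Cfsg.Agent.LBCyclic
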