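/-
Commutants of regular nilpotent matrices with an involution: regular unipotents in classical groups.
-/
import Cfsg.Agent.Lib.LinearBlock.CyclicNilp

set_option autoImplicit false
set_option linter.all false

namespace Cfsg.Agent.LBRegForm

/-! ### Commutative algebras of the form scalar + nilpotent, with an involution -/

section Abstract

variable {F R : Type*} [Field F] [CommRing R] [Algebra F R] [Nontrivial R] (σ : R →ₐ[F] R)

theorem eq_of_nil {a b : F} (h : IsNilpotent (algebraMap F R a - algebraMap F R b)) : a = b := by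
  obtain ⟨k, hk⟩ := h
  rw [← map_sub, ← map_pow] at hk
  exact sub_eq_zero.1 (eq_zero_of_pow_eq_zero ((algebraMap F R).injective (hk.trans (map_zero _).symm)))

theorem norm_scalar {x : R} {a d : F} (ha : IsNilpotent (x - algebraMap F R a))
    (hd : x * σ x = algebraMap F R d) : a * a = d := by
  refine eq_of_nil (R := R) ?_
  have h1 : IsNilpotent (σ (x - algebraMap F R a)) := ha.map σ
  rw [map_sub, AlgHom.commutes] at h1
  have : algebraMap F R (a * a) - algebraMap F R d
      = -((x - algebraMap F R a) * σ x + algebraMap F R a * (σ x - algebraMap F R a)) := by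
    rw [map_mul, ← hd]; ring
  rw [this]
  exact ((Commute.all _ _).isNilpotent_add ((Commute.all _ _).isNilpotent_mul_right ha)
    ((Commute.all _ _).isNilpotent_mul_left h1)).neg

variable (hσ : ∀ r, σ (σ r) = r) (h2 : (2 : F) ≠ 0) (hε : ∀ r : R, ∃ a : F, IsNilpotent (r - algebraMap F R a))
include hσ h2 hε

omit hσ in
theorem skew_nil {t : R} (ht : σ t = -t) : IsNilpotent t := by
  obtain ⟨a, ha⟩ := hε t
  have h1 : IsNilpotent (σ (t - algebraMap F R a)) := ha.map σ
  rw [map_sub, AlgHom.commutes, ht] at h1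
  have h3 := (Commute.all _ _).isNilpotent_add ha h1
  rw [show t - algebraMap F R a + (-t - algebraMap F R a) = algebraMap F R 0 - algebraMap F R (2 * a) by
    rw [map_mul, map_zero, map_ofNat]; ring] at h3
  have := eq_of_nil (R := R) h3
  rcases mul_eq_zero.1 this.symm with h | h
  · exact absurd h h2
  · rwa [h, map_zero, sub_zero] at ha

theorem card_unitary : Nat.card {x : R // x * σ x = 1} = 2 * Nat.card {t : R // σ t = -t} := by
  have h2u : IsUnit (2 : R) := by
    have := (Ne.isUnit h2).map (algebraMap F R)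
    rwa [map_ofNat] at this
  let s : Bool → R := fun b => if b then 1 else -1
  have hs : ∀ b, s b * s b = 1 ∧ σ (s b) = s b := fun b => by cases b <;> simp [s]
  have hinv : ∀ t : R, σ t = -t → IsUnit (1 + t) := fun t ht => (skew_nil σ h2 hε ht).isUnit_one_add
  let g : R → R := fun t => (1 - t) * Ring.inverse (1 + t)
  have hg : ∀ t : R, σ t = -t → g t * σ (g t) = 1 ∧ IsNilpotent (g t - 1) ∧ g t * (1 + t) = 1 - t := by
    intro t ht
    have hv : Ring.inverse (1 + t) * (1 + t) = 1 := Ring.inverse_mul_cancel _ (hinv t ht)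
    have hv' : σ (Ring.inverse (1 + t)) * (1 - t) = 1 := by
      have := congrArg σ hv
      simpa [ht, sub_eq_add_neg] using this
    have hgt : g t * (1 + t) = 1 - t := by rw [mul_assoc, hv, mul_one]
    refine ⟨?_, ?_, hgt⟩
    · show (1 - t) * Ring.inverse (1 + t) * σ ((1 - t) * Ring.inverse (1 + t)) = 1
      rw [map_mul, map_sub, map_one, ht]
      linear_combination (σ (Ring.inverse (1 + t)) * (1 - t)) * hv + hv'
    · have : g t - 1 = t * (-2 * Ring.inverse (1 + t)) := by
        show (1 - t) * Ring.inverse (1 + t) - 1 = _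
        linear_combination hv
      rw [this]
      exact (Commute.all _ _).isNilpotent_mul_right (skew_nil σ h2 hε ht)
  let f : Bool × {t : R // σ t = -t} → {x : R // x * σ x = 1} := fun p => ⟨s p.1 * g p.2.1, by
    rw [map_mul, (hs p.1).2, show s p.1 * g p.2.1 * (s p.1 * σ (g p.2.1)) = (s p.1 * s p.1) * (g p.2.1 * σ (g p.2.1))
      by ring, (hs p.1).1, (hg _ p.2.2).1, one_mul]⟩
  have hf : Function.Bijective f := by
    refine ⟨?_, fun x => ?_⟩
    · rintro ⟨b, t, ht⟩ ⟨c, u, hu⟩ h
      have he : s b * g t = s c * g u := congrArg Subtype.val h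
      have hbc : b = c := by
        by_contra hne
        have h0 : IsNilpotent (algebraMap F R 1 - algebraMap F R (-1)) := by
          have e1 := (Commute.all _ _).isNilpotent_mul_left (x := s b) (hg t ht).2.1
          have e2 := (Commute.all _ _).isNilpotent_mul_left (x := s c) (hg u hu).2.1
          have e3 := (Commute.all _ _).isNilpotent_sub e1 e2
          rw [show s b * (g t - 1) - s c * (g u - 1) = s c - s b by rw [mul_sub, mul_sub, he]; ring] at e3
          rw [map_neg, map_one]
          cases b <;> cases c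
          · exact absurd rfl hne
          · simpa [s] using e3
          · simpa [s, sub_eq_add_neg, add_comm] using e3.neg
          · exact absurd rfl hne
        exact h2 (by linear_combination eq_of_nil h0)
      subst hbc
      have he' : g t = g u := by
        have := congrArg (s b * ·) he
        simpa [← mul_assoc, (hs b).1] using this
      have e1 := (hg t ht).2.2
      have e2 := (hg u hu).2.2
      rw [← he'] at e2
      have : (2 : R) * t = 2 * u := by linear_combination (1 + u) * e1 - (1 + t) * e2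
      simp only [Prod.mk.injEq, true_and, Subtype.mk.injEq]
      exact h2u.mul_left_cancel this
    · obtain ⟨x, hx⟩ := x
      obtain ⟨a, ha⟩ := hε x
      have ha2 := norm_scalar σ ha (hx.trans (map_one (algebraMap F R)).symm)
      obtain ⟨b, hb⟩ : ∃ b, algebraMap F R a = s b := by
        rcases mul_self_eq_one_iff.1 ha2 with h | h
        · exact ⟨true, by simp [s, h]⟩
        · exact ⟨false, by simp [s, h]⟩
      obtain ⟨y, hy⟩ : ∃ y, y = s b * x := ⟨_, rfl⟩
      have hy1 : IsNilpotent (y - 1) := by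
        have := (Commute.all _ _).isNilpotent_mul_left (x := s b) ha
        rwa [mul_sub, hb, (hs b).1, ← hy] at this
      have hyy : y * σ y = 1 := by
        rw [hy, map_mul, (hs b).2, show s b * x * (s b * σ x) = (s b * s b) * (x * σ x) by ring, (hs b).1, hx,
          one_mul]
      have hu : IsUnit (1 + y) := by
        obtain ⟨k, hk⟩ := hy1
        have h3 : IsUnit ((y - 1) + 2) := IsNilpotent.isUnit_add_right_of_commute ⟨k, hk⟩ h2u (Commute.all _ _)
        rwa [show y - 1 + 2 = 1 + y by ring] at h3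
      obtain ⟨t, htd⟩ : ∃ t, t = (1 - y) * Ring.inverse (1 + y) := ⟨_, rfl⟩
      have hvy := Ring.inverse_mul_cancel _ hu
      have htt : t * (1 + y) = 1 - y := by rw [htd, mul_assoc, hvy, mul_one]
      have hst : σ t = -t := by
        have e := congrArg σ htt
        rw [map_mul, map_add, map_sub, map_one] at e
        refine hu.mul_right_cancel ?_
        linear_combination y * e + htt + (-σ t - 1) * hyy
      refine ⟨(b, ⟨t, hst⟩), Subtype.ext ?_⟩
      show s b * g t = x
      have hgy : g t = y := by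
        refine (hinv t hst).mul_right_cancel ?_
        rw [(hg t hst).2.2]
        linear_combination -htt
      rw [hgy, hy, ← mul_assoc, (hs b).1, one_mul]
  rw [← Nat.card_congr (Equiv.ofBijective f hf), Nat.card_prod, Nat.card_eq_fintype_card (α := Bool), Fintype.card_bool]

/-- A symmetric unit is a scalar times the square of a symmetric unit. -/
theorem exists_sqrt [Finite R] {r : R} (hr : σ r = r) (hru : IsUnit r) :
    ∃ (a : F) (b : R), a ≠ 0 ∧ σ b = b ∧ IsUnit b ∧ r = algebraMap F R a * (b * b) := by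
  let S := {b : R // σ b = b ∧ IsNilpotent (b - 1)}
  have h2u : IsUnit (2 : R) := by
    have := (Ne.isUnit h2).map (algebraMap F R)
    rwa [map_ofNat] at this
  let sq : S → S := fun b => ⟨b.1 * b.1, by rw [map_mul, b.2.1], by
    rw [show b.1 * b.1 - 1 = (b.1 - 1) * (b.1 + 1) by ring]
    exact (Commute.all _ _).isNilpotent_mul_right b.2.2⟩
  have hinj : Function.Injective sq := by
    rintro ⟨b, hb⟩ ⟨c, hc⟩ h
    have he : b * b = c * c := congrArg Subtype.val h
    have hu : IsUnit (b + c) := by
      have h3 : IsUnit ((b - 1) + (c - 1) + 2) := IsNilpotent.isUnit_add_right_of_commute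
        ((Commute.all _ _).isNilpotent_add hb.2 hc.2) h2u (Commute.all _ _)
      rwa [show b - 1 + (c - 1) + 2 = b + c by ring] at h3
    exact Subtype.ext (hu.mul_left_cancel (by linear_combination he))
  obtain ⟨a, ha⟩ := hε r
  have ha0 : a ≠ 0 := fun h0 => by
    rw [h0, map_zero, sub_zero] at ha
    exact ha.not_isUnit hru
  have hmem : σ (algebraMap F R a⁻¹ * r) = algebraMap F R a⁻¹ * r ∧ IsNilpotent (algebraMap F R a⁻¹ * r - 1) := by
    refine ⟨by rw [map_mul, AlgHom.commutes, hr], ?_⟩
    have := (Commute.all _ _).isNilpotent_mul_left (x := algebraMap F R a⁻¹) ha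
    rwa [mul_sub, ← map_mul, inv_mul_cancel₀ ha0, map_one] at this
  obtain ⟨⟨b, hb⟩, hbr⟩ := (Finite.injective_iff_surjective.1 hinj) ⟨_, hmem⟩
  have hbr' : b * b = algebraMap F R a⁻¹ * r := congrArg Subtype.val hbr
  refine ⟨a, b, ha0, hb.1, ?_, ?_⟩
  · have := hb.2.isUnit_one_add
    rwa [add_sub_cancel] at this
  · rw [hbr', ← mul_assoc, ← map_mul, mul_inv_cancel₀ ha0, map_one, one_mul]

end Abstract

/-! ### The commutant of a regular nilpotent matrix -/

section Commutant

open Matrix

variable {F : Type*} [Field F] {ι : Type} [Fintype ι] [DecidableEq ι] {n : ℕ} {η : Matrix ι ι F}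
  (hι : Fintype.card ι = n) (hnil : η ^ n = 0) (hr : η.rank = n - 1) (hn : 1 ≤ n)
include hι hnil hr hn

theorem exists_coeff {X : Matrix ι ι F} (h : Commute X η) : ∃ c : Fin n → F, X = ∑ i, c i • η ^ (i : ℕ) := by
  obtain ⟨h1, h2, h3⟩ := LBCyclic.mat_to_end hι hnil hr
  obtain ⟨v, hv⟩ := LBCyclic.exists_gen h1 h2 h3 hn
  obtain ⟨c, hc⟩ := LBCyclic.exists_commute_eq h1 h2 h3 hv (Matrix.toLinAlgEquiv' X v)
  refine ⟨c, Matrix.toLinAlgEquiv'.injective ?_⟩
  have hT := h.map (Matrix.toLinAlgEquiv' : Matrix ι ι F ≃ₐ[F] _)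
  rw [LBCyclic.ext_commute h1 h2 h3 hv hT (LBCyclic.commute_sum c) hc.symm, map_sum]
  exact Finset.sum_congr rfl fun i _ => by rw [map_smul, map_pow]

theorem coeff_inj {c d : Fin n → F} (h : ∑ i, c i • η ^ (i : ℕ) = ∑ i, d i • η ^ (i : ℕ)) : c = d := by
  obtain ⟨h1, h2, h3⟩ := LBCyclic.mat_to_end hι hnil hr
  obtain ⟨v, hv⟩ := LBCyclic.exists_gen h1 h2 h3 hn
  have e := LinearMap.congr_fun (congrArg (Matrix.toLinAlgEquiv' : Matrix ι ι F ≃ₐ[F] _) h) v
  simp only [map_sum, map_smul, map_pow, LinearMap.sum_apply, LinearMap.smul_apply] at e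
  have := Fintype.linearIndependent_iff.1 (LBCyclic.indep_gen h1 h2 h3 hv) (fun i => c i - d i)
    (by simp only [sub_smul, Finset.sum_sub_distrib]; rw [e, sub_self])
  exact funext fun i => sub_eq_zero.1 (this i)

theorem commute_of_commute {X Y : Matrix ι ι F} (hX : Commute X η) (hY : Commute Y η) : Commute X Y := by
  obtain ⟨c, rfl⟩ := exists_coeff hι hnil hr hn hX
  exact Commute.sum_left _ _ _ fun i _ => (hY.symm.pow_left _).smul_left _

theorem exists_scalar {X : Matrix ι ι F} (hX : Commute X η) :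
    ∃ a : F, IsNilpotent (X - a • (1 : Matrix ι ι F)) := by
  obtain ⟨c, rfl⟩ := exists_coeff hι hnil hr hn hX
  obtain ⟨m, rfl⟩ : ∃ m, n = m + 1 := ⟨n - 1, by omega⟩
  refine ⟨c 0, ?_⟩
  rw [Fin.sum_univ_succ, Fin.val_zero, pow_zero, add_sub_cancel_left]
  refine ⟨m + 1, ?_⟩
  rw [show ∑ i : Fin m, c i.succ • η ^ ((i.succ : Fin (m + 1)) : ℕ) = η * ∑ i : Fin m, c i.succ • η ^ (i : ℕ) by
    rw [Finset.mul_sum]
    exact Finset.sum_congr rfl fun i _ => by rw [Fin.val_succ, mul_smul_comm, ← pow_succ'],
    (Commute.sum_right _ _ _ fun i _ => ((Commute.refl η).pow_right _).smul_right _).mul_pow, hnil, zero_mul]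

omit hnil hr hn in
theorem det_of_scalar {X : Matrix ι ι F} {a : F} (ha : a ≠ 0) (hX : IsNilpotent (X - a • (1 : Matrix ι ι F))) :
    X.det = a ^ n := by
  have hn' : IsNilpotent (a⁻¹ • (X - a • (1 : Matrix ι ι F))) := hX.smul _
  have h := LBCyclic.det_one_add_of_nilpotent (hn'.map (Matrix.toLinAlgEquiv' : Matrix ι ι F ≃ₐ[F] _))
  rw [← map_one (Matrix.toLinAlgEquiv' : Matrix ι ι F ≃ₐ[F] _), ← map_add] at h
  have h' : (1 + a⁻¹ • (X - a • (1 : Matrix ι ι F))).det = 1 := by
    rw [← h]; exact (LinearMap.det_toLin' _).symm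
  rw [smul_sub, smul_smul, inv_mul_cancel₀ ha, one_smul, add_sub_cancel, Matrix.det_smul, hι] at h'
  have := congrArg (a ^ n * ·) h'
  simpa [← mul_assoc, ← mul_pow, ha] using this

theorem exists_intertwine {η' : Matrix ι ι F} (hnil' : η' ^ n = 0) (hr' : η'.rank = n - 1) :
    ∃ P : Matrix ι ι F, IsUnit P ∧ P * η = η' * P := by
  obtain ⟨h1, h2, h3⟩ := LBCyclic.mat_to_end hι hnil hr
  obtain ⟨h1', h2', h3'⟩ := LBCyclic.mat_to_end hι hnil' hr'
  obtain ⟨e, he⟩ := LBCyclic.exists_similar h1 h2 h3 h1' h2' h3' hn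
  let T : Module.End F (ι → F) := (e : (ι → F) →ₗ[F] (ι → F))
  have hT : IsUnit T := (Module.End.isUnit_iff T).2 e.bijective
  refine ⟨(Matrix.toLinAlgEquiv' : Matrix ι ι F ≃ₐ[F] _).symm T, hT.map _, Matrix.toLinAlgEquiv'.injective ?_⟩
  rw [map_mul, map_mul, AlgEquiv.apply_symm_apply]
  exact LinearMap.ext fun x => he x

end Commutant

/-! ### An involution on matrices -/

section Symp

open Matrix

variable {F : Type*} [Field F] {ι : Type} [Fintype ι] [DecidableEq ι] (J : Matrix ι ι F)

/-- The adjoint with respect to `J`. -/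
def adj (X : Matrix ι ι F) : Matrix ι ι F := -(J * Xᵀ * J)

variable {J} (hJ : J * J = -1) (hJt : Jᵀ = -J)

theorem adj_add (X Y : Matrix ι ι F) : adj J (X + Y) = adj J X + adj J Y := by
  simp [adj, mul_add, add_mul, neg_add, add_comm]

theorem adj_smul (c : F) (X : Matrix ι ι F) : adj J (c • X) = c • adj J X := by
  simp [adj]

theorem adj_sub (X Y : Matrix ι ι F) : adj J (X - Y) = adj J X - adj J Y := by
  simp only [adj, transpose_sub, mul_sub, sub_mul, neg_sub]
  abel

theorem adj_zero : adj J (0 : Matrix ι ι F) = 0 := by simp [adj]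

theorem adj_neg (X : Matrix ι ι F) : adj J (-X) = -adj J X := by simp [adj]

include hJ

theorem adj_mul (X Y : Matrix ι ι F) : adj J (X * Y) = adj J Y * adj J X := by
  rw [adj, adj, adj, neg_mul_neg, transpose_mul,
    show J * Yᵀ * J * (J * Xᵀ * J) = J * Yᵀ * (J * J) * (Xᵀ * J) by simp only [mul_assoc], hJ]
  simp [mul_assoc]

theorem adj_one : adj J (1 : Matrix ι ι F) = 1 := by simp [adj, hJ]

theorem adj_pow (X : Matrix ι ι F) : ∀ k : ℕ, adj J (X ^ k) = adj J X ^ k
  | 0 => by simp [adj_one hJ]
  | k + 1 => by rw [pow_succ, adj_mul hJ, adj_pow X k, pow_succ']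

include hJt

theorem adj_adj (X : Matrix ι ι F) : adj J (adj J X) = X := by
  rw [adj, adj, transpose_neg, transpose_mul, transpose_mul, transpose_transpose, hJt]
  simp only [neg_mul, mul_neg, neg_neg]
  rw [show J * (J * (X * J)) * J = (J * J) * X * (J * J) by simp only [mul_assoc], hJ]
  simp

end Symp

/-! ### The involution restricted to the commutant -/

section Instance

open Matrix

variable {F : Type*} [Field F] {ι : Type} [Fintype ι] [DecidableEq ι] {J η : Matrix ι ι F}

theorem mem_centralizer {X : Matrix ι ι F} :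
    X ∈ Subalgebra.centralizer F ({η} : Set (Matrix ι ι F)) ↔ Commute X η := by
  rw [Subalgebra.mem_centralizer_iff]
  exact ⟨fun h => (h η rfl).symm, fun h g hg => by rw [Set.mem_singleton_iff] at hg; subst hg; exact h.symm⟩

theorem commute_adj (hJ : J * J = -1) (hηa : adj J η = -η) {X : Matrix ι ι F} (h : Commute X η) :
    Commute (adj J X) η := by
  have e := congrArg (adj J) h.eq
  rw [adj_mul hJ, adj_mul hJ, hηa, neg_mul, mul_neg, neg_inj] at e
  exact e.symm

theorem model {m : ℕ} (hm : 1 ≤ m) (hι : Fintype.card ι = 2 * m) (h2 : (2 : F) ≠ 0) (hJ : J * J = -1)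
    (hJt : Jᵀ = -J) (hnil : η ^ (2 * m) = 0) (hr : η.rank = 2 * m - 1) (hηa : adj J η = -η) [Finite F] :
    Nat.card {X : Matrix ι ι F // Commute X η ∧ X * adj J X = 1} = 2 * Nat.card F ^ m ∧
    (∀ X, Commute X η → adj J X = X → IsUnit X → ∃ (a : F) (b : Matrix ι ι F),
        a ≠ 0 ∧ Commute b η ∧ adj J b = b ∧ IsUnit b ∧ X = a • (b * b)) ∧
    ∀ (X : Matrix ι ι F) (d : F), Commute X η → X * adj J X = d • (1 : Matrix ι ι F) → IsSquare d := by
  classical
  have hn : 1 ≤ 2 * m := by omega
  let A := Subalgebra.centralizer F ({η} : Set (Matrix ι ι F))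
  have hc : ∀ x y : A, x * y = y * x := fun x y => Subtype.ext
    (commute_of_commute hι hnil hr hn (mem_centralizer.1 x.2) (mem_centralizer.1 y.2)).eq
  let _ : CommRing A := { (inferInstance : Ring A) with mul_comm := hc }
  haveI : Nonempty ι := Fintype.card_pos_iff.1 (by omega)
  haveI : Nontrivial A := ⟨⟨0, 1, fun h => zero_ne_one (congrArg Subtype.val h)⟩⟩
  let σ : A →ₐ[F] A :=
    { toFun := fun x => ⟨adj J x.1, mem_centralizer.2 (commute_adj hJ hηa (mem_centralizer.1 x.2))⟩
      map_one' := Subtype.ext (adj_one hJ)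
      map_mul' := fun x y => Subtype.ext (by
        show adj J (x.1 * y.1) = adj J x.1 * adj J y.1
        rw [adj_mul hJ]
        exact (commute_of_commute hι hnil hr hn (commute_adj hJ hηa (mem_centralizer.1 y.2))
          (commute_adj hJ hηa (mem_centralizer.1 x.2))).eq)
      map_zero' := Subtype.ext adj_zero
      map_add' := fun x y => Subtype.ext (adj_add x.1 y.1)
      commutes' := fun c => Subtype.ext (by
        show adj J (algebraMap F (Matrix ι ι F) c) = algebraMap F (Matrix ι ι F) c
        rw [Algebra.algebraMap_eq_smul_one, adj_smul, adj_one hJ]) }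
  have hσ : ∀ r, σ (σ r) = r := fun r => Subtype.ext (adj_adj hJ hJt r.1)
  have halg : ∀ a : F, ((algebraMap F A a : A) : Matrix ι ι F) = a • 1 := fun a =>
    Algebra.algebraMap_eq_smul_one (A := Matrix ι ι F) a
  have hε : ∀ r : A, ∃ a : F, IsNilpotent (r - algebraMap F A a) := fun r => by
    obtain ⟨a, k, hk⟩ := exists_scalar hι hnil hr hn (mem_centralizer.1 r.2)
    exact ⟨a, k, Subtype.ext (by push_cast; rw [Algebra.algebraMap_eq_smul_one, hk])⟩
  refine ⟨?_, fun X hX hXs hXu => ?_, fun X d hX hXd => ?_⟩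
  · have e : {X : Matrix ι ι F // Commute X η ∧ X * adj J X = 1} ≃ {x : A // x * σ x = 1} :=
      ⟨fun X => ⟨⟨X.1, mem_centralizer.2 X.2.1⟩, Subtype.ext X.2.2⟩,
        fun x => ⟨x.1.1, mem_centralizer.1 x.1.2, congrArg Subtype.val x.2⟩, fun X => rfl, fun x => rfl⟩
    rw [Nat.card_congr e, card_unitary σ hσ h2 hε]
    congr 1
    have hadj : ∀ c : Fin (2 * m) → F, adj J (∑ i : Fin (2 * m), c i • η ^ (i : ℕ))
        = ∑ i : Fin (2 * m), ((-1) ^ (i : ℕ) * c i) • η ^ (i : ℕ) := fun c => by
      have hs : ∀ s : Finset (Fin (2 * m)), adj J (∑ i ∈ s, c i • η ^ (i : ℕ))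
          = ∑ i ∈ s, adj J (c i • η ^ (i : ℕ)) := fun s => by
        induction s using Finset.induction_on with
        | empty => simp [adj_zero]
        | insert a s ha ih => rw [Finset.sum_insert ha, Finset.sum_insert ha, adj_add, ih]
      rw [hs]
      refine Finset.sum_congr rfl fun i _ => ?_
      rw [adj_smul, adj_pow hJ, hηa, ← neg_one_smul F η, smul_pow, smul_smul, mul_comm]
    let ext' : (Fin m → F) → Fin (2 * m) → F := fun d i =>
      if (i : ℕ) % 2 = 1 then d ⟨(i : ℕ) / 2, by omega⟩ else 0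
    let g : (Fin m → F) → {t : A // σ t = -t} := fun d =>
      ⟨⟨∑ i, ext' d i • η ^ (i : ℕ), mem_centralizer.2
        (Commute.sum_left _ _ _ fun i _ => ((Commute.refl η).pow_left _).smul_left _)⟩, Subtype.ext (by
          show adj J (∑ i, ext' d i • η ^ (i : ℕ)) = -(∑ i, ext' d i • η ^ (i : ℕ))
          rw [hadj, ← Finset.sum_neg_distrib]
          refine Finset.sum_congr rfl fun i _ => ?_
          rw [← neg_smul]
          congr 1
          rcases Nat.even_or_odd (i : ℕ) with he | ho
          · have : (i : ℕ) % 2 = 0 := Nat.even_iff.1 he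
            simp [ext', this]
          · rw [ho.neg_one_pow, neg_one_mul])⟩
    have hg : Function.Bijective g := by
      refine ⟨fun d d' h => funext fun j => ?_, fun t => ?_⟩
      · have h' := coeff_inj hι hnil hr hn (congrArg (fun x : {t : A // σ t = -t} => x.1.1) h)
        have := congrFun h' ⟨2 * (j : ℕ) + 1, by omega⟩
        simpa [ext', show (2 * (j : ℕ) + 1) / 2 = (j : ℕ) by omega] using this
      · obtain ⟨c, hc'⟩ := exists_coeff hι hnil hr hn (mem_centralizer.1 t.1.2)
        refine ⟨fun j => c ⟨2 * (j : ℕ) + 1, by omega⟩, Subtype.ext (Subtype.ext ?_)⟩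
        have ht : adj J t.1.1 = -t.1.1 := congrArg Subtype.val t.2
        rw [hc', hadj, ← Finset.sum_neg_distrib] at ht
        simp only [← neg_smul] at ht
        have h' := coeff_inj hι hnil hr hn ht
        show ∑ i, ext' (fun j => c ⟨2 * (j : ℕ) + 1, by omega⟩) i • η ^ (i : ℕ) = t.1.1
        rw [hc']
        refine Finset.sum_congr rfl fun i _ => ?_
        congr 1
        rcases Nat.even_or_odd (i : ℕ) with he | ho
        · have h0 := congrFun h' i
          rw [he.neg_one_pow, one_mul] at h0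
          have : (2 : F) * c i = 0 := by linear_combination h0
          have hci := (mul_eq_zero.1 this).resolve_left h2
          simp [ext', Nat.even_iff.1 he, hci]
        · have hio : (i : ℕ) % 2 = 1 := Nat.odd_iff.1 ho
          simp only [ext', if_pos hio]
          congr 1
          exact Fin.ext (by simp only []; omega)
    rw [← Nat.card_congr (Equiv.ofBijective g hg), Nat.card_fun, Nat.card_fin]
  · haveI : Finite A := Finite.of_injective _ Subtype.val_injective
    have hu : IsUnit (⟨X, mem_centralizer.2 hX⟩ : A) := by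
      obtain ⟨u, rfl⟩ := hXu
      have hv : Commute ((u⁻¹ : (Matrix ι ι F)ˣ) : Matrix ι ι F) η := hX.units_inv_left
      exact IsUnit.of_mul_eq_one ⟨_, mem_centralizer.2 hv⟩ (Subtype.ext u.mul_inv)
    obtain ⟨a, b, ha, hb, hbu, hab⟩ := exists_sqrt σ hσ h2 hε (r := ⟨X, mem_centralizer.2 hX⟩) (Subtype.ext hXs) hu
    refine ⟨a, b.1, ha, mem_centralizer.1 b.2, congrArg Subtype.val hb, hbu.map A.val, ?_⟩
    have := congrArg Subtype.val hab
    simpa [halg] using this
  · obtain ⟨a, ha⟩ := hε ⟨X, mem_centralizer.2 hX⟩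
    refine ⟨a, (norm_scalar σ ha (d := d) (Subtype.ext ?_)).symm⟩
    rw [halg]
    exact hXd

end Instance

end Cfsg.Agent.LBRegForm
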