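/-
Regular unipotent elements of symplectic groups in odd characteristic.
-/
import Cfsg.Agent.Lib.LinearBlock.RegUnipForm

set_option autoImplicit false
set_option linter.all false

namespace Cfsg.Agent.LBRegSp

open Matrix LBRegForm

variable {F : Type*} [Field F] {m : ℕ}

local notation "J₀" => Matrix.J (Fin m) F

def IsReg (A : Matrix (Fin m ⊕ Fin m) (Fin m ⊕ Fin m) F) : Prop :=
  (A - 1) ^ (2 * m) = 0 ∧ (A - 1).rank = 2 * m - 1

theorem mem_iff (A : Matrix (Fin m ⊕ Fin m) (Fin m ⊕ Fin m) F) :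
    A ∈ Matrix.symplecticGroup (Fin m) F ↔ A * adj J₀ A = 1 := by
  rw [SymplecticGroup.mem_iff, adj, mul_neg,
    show A * (J₀ * Aᵀ * J₀) = (A * J₀ * Aᵀ) * J₀ by simp only [mul_assoc]]
  constructor
  · intro h
    rw [h, J_squared, neg_neg]
  · intro h
    have := congrArg (· * J₀) h
    rw [neg_mul, mul_assoc, J_squared, mul_neg, mul_one, neg_neg, one_mul] at this
    exact this

theorem coe_inv' (g : Matrix.symplecticGroup (Fin m) F) :
    ((g⁻¹ : Matrix.symplecticGroup (Fin m) F) : Matrix _ _ F) = adj J₀ g.1 := by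
  calc ((g⁻¹ : Matrix.symplecticGroup (Fin m) F) : Matrix _ _ F)
      = ((g⁻¹ : Matrix.symplecticGroup (Fin m) F) : Matrix _ _ F) * (g.1 * adj J₀ g.1) := by
        rw [(mem_iff _).1 g.2, mul_one]
    _ = adj J₀ g.1 := by rw [← mul_assoc, ← Submonoid.coe_mul, inv_mul_cancel, OneMemClass.coe_one, one_mul]

variable (h2 : (2 : F) ≠ 0) {A : Matrix (Fin m ⊕ Fin m) (Fin m ⊕ Fin m) F}
  (hA : A * adj (Matrix.J (Fin m) F) A = 1) (hreg : IsReg A)
include h2 hA hreg

theorem eta :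
    (A - adj J₀ A) ^ (2 * m) = 0 ∧ (A - adj J₀ A).rank = 2 * m - 1 ∧
      adj J₀ (A - adj J₀ A) = -(A - adj J₀ A) := by
  have hu : IsUnit (A + 1) := by
    have h2u : IsUnit ((2 : F) • (1 : Matrix (Fin m ⊕ Fin m) (Fin m ⊕ Fin m) F)) := by
      rw [← Algebra.algebraMap_eq_smul_one]; exact h2.isUnit.map _
    have h := IsNilpotent.isUnit_add_right_of_commute (r := (A - 1)) ⟨_, hreg.1⟩ h2u
      ((Commute.one_right _).smul_right _)
    rwa [two_smul, sub_add_add_cancel] at h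
  have hA' : adj J₀ A * A = 1 := mul_eq_one_comm.1 hA
  have hAu : IsUnit (adj J₀ A) := IsUnit.of_mul_eq_one _ hA'
  have e : A - adj J₀ A = adj J₀ A * (A + 1) * (A - 1) := by
    rw [mul_assoc, show (A + 1) * (A - 1) = A * A - 1 by noncomm_ring, mul_sub, ← mul_assoc, hA', one_mul, mul_one]
  have hc1 : Commute (adj J₀ A) (A - 1) := (show Commute (adj J₀ A) A from hA'.trans hA.symm).sub_right (Commute.one_right _)
  have hc2 : Commute (A + 1) (A - 1) := ((Commute.refl A).sub_right (Commute.one_right _)).add_left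
    ((Commute.one_left _))
  refine ⟨?_, ?_, ?_⟩
  · rw [e, (hc1.mul_left hc2).mul_pow, hreg.1, mul_zero]
  · rw [e, Matrix.rank_mul_eq_right_of_isUnit_det _ _ ((Matrix.isUnit_iff_isUnit_det _).1 (hAu.mul hu))]
    exact hreg.2
  · rw [adj_sub, adj_adj (J_squared _ _) (J_transpose _ _), neg_sub]

theorem commute_iff (hm : 1 ≤ m) (X : Matrix (Fin m ⊕ Fin m) (Fin m ⊕ Fin m) F) :
    Commute X (A - adj J₀ A) ↔ Commute X A := by
  obtain ⟨h1, h3, h4⟩ := eta h2 hA hreg
  have hA' : adj J₀ A * A = 1 := mul_eq_one_comm.1 hA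
  have hcA : Commute A (A - adj J₀ A) :=
    (Commute.refl A).sub_right (show Commute A (adj J₀ A) from hA.trans hA'.symm)
  refine ⟨fun h => commute_of_commute (n := 2 * m) (by simp [two_mul]) h1 h3 (by omega) h hcA, fun h => h.sub_right ?_⟩
  show X * adj J₀ A = adj J₀ A * X
  calc X * adj J₀ A = adj J₀ A * (A * X) * adj J₀ A := by rw [← mul_assoc (adj J₀ A), hA', one_mul]
    _ = adj J₀ A * (X * A) * adj J₀ A := by rw [h.eq]
    _ = adj J₀ A * X := by rw [mul_assoc, mul_assoc X, hA, mul_one]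

theorem card_centralizer [Finite F] (hm : 1 ≤ m) :
    Nat.card {X : Matrix (Fin m ⊕ Fin m) (Fin m ⊕ Fin m) F // Commute X A ∧ X * adj J₀ X = 1}
      = 2 * Nat.card F ^ m := by
  obtain ⟨h1, h3, h4⟩ := eta h2 hA hreg
  rw [← (model hm (by simp [two_mul]) h2 (J_squared _ _) (J_transpose _ _) h1 h3 h4).1]
  exact Nat.card_congr (Equiv.subtypeEquivRight fun X => by rw [commute_iff h2 hA hreg hm])

theorem norm_square [Finite F] (hm : 1 ≤ m) {X : Matrix (Fin m ⊕ Fin m) (Fin m ⊕ Fin m) F} {d : F}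
    (hX : Commute X A) (hd : X * adj J₀ X = d • (1 : Matrix (Fin m ⊕ Fin m) (Fin m ⊕ Fin m) F)) : IsSquare d := by
  obtain ⟨h1, h3, h4⟩ := eta h2 hA hreg
  exact (model hm (by simp [two_mul]) h2 (J_squared _ _) (J_transpose _ _) h1 h3 h4).2.2 X d
    ((commute_iff h2 hA hreg hm X).2 hX) hd

/-- Any other regular unipotent is the conjugate of `A` by a similitude. -/
theorem exists_similitude [Finite F] (hm : 1 ≤ m) {B : Matrix (Fin m ⊕ Fin m) (Fin m ⊕ Fin m) F}
    (hB : B * adj J₀ B = 1) (hregB : IsReg B) :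
    ∃ (Q : Matrix (Fin m ⊕ Fin m) (Fin m ⊕ Fin m) F) (a : F), a ≠ 0 ∧
      adj J₀ Q * Q = a • (1 : Matrix (Fin m ⊕ Fin m) (Fin m ⊕ Fin m) F) ∧ Q * A = B * Q := by
  have hι : Fintype.card (Fin m ⊕ Fin m) = 2 * m := by simp [two_mul]
  have hJ := J_squared (Fin m) F
  have hJt := J_transpose (Fin m) F
  obtain ⟨P, hPu, hP⟩ := exists_intertwine hι hreg.1 hreg.2 (by omega) hregB.1 hregB.2
  have hPA : P * A = B * P := by
    rw [mul_sub, sub_mul, mul_one, one_mul] at hP
    exact sub_left_injective hP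
  obtain ⟨r, hrd⟩ : ∃ r, r = adj J₀ P * P := ⟨_, rfl⟩
  have hB' : adj J₀ B * B = 1 := mul_eq_one_comm.1 hB
  have hrA : Commute r A := by
    have e := congrArg (adj J₀) hPA
    rw [adj_mul hJ, adj_mul hJ] at e
    show r * A = A * r
    calc r * A = (A * adj J₀ A) * (r * A) := by rw [hA, one_mul]
      _ = A * ((adj J₀ A * adj J₀ P) * (P * A)) := by rw [hrd]; simp only [mul_assoc]
      _ = A * ((adj J₀ P * adj J₀ B) * (B * P)) := by rw [e, hPA]
      _ = A * (adj J₀ P * (adj J₀ B * B) * P) := by simp only [mul_assoc]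
      _ = A * r := by rw [hB', mul_one, hrd]
  have hadju : IsUnit (adj J₀ P) := by
    obtain ⟨u, hu⟩ := hPu
    refine IsUnit.of_mul_eq_one (adj J₀ (u⁻¹ : (Matrix (Fin m ⊕ Fin m) (Fin m ⊕ Fin m) F)ˣ)) ?_
    rw [← adj_mul hJ, ← hu, Units.inv_mul, adj_one hJ]
  obtain ⟨h1, h3, h4⟩ := eta h2 hA hreg
  obtain ⟨a, b, ha, hb, hbs, ⟨bu, hbu⟩, hab⟩ := (model hm hι h2 hJ hJt h1 h3 h4).2.1 r
    ((commute_iff h2 hA hreg hm r).2 hrA) (by rw [hrd, adj_mul hJ, adj_adj hJ hJt]) (hrd ▸ hadju.mul hPu)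
  have hbA : Commute b A := (commute_iff h2 hA hreg hm b).1 hb
  obtain ⟨c, hc⟩ : ∃ c : Matrix (Fin m ⊕ Fin m) (Fin m ⊕ Fin m) F, c = ((bu⁻¹ : (Matrix (Fin m ⊕ Fin m) (Fin m ⊕ Fin m) F)ˣ) : Matrix (Fin m ⊕ Fin m) (Fin m ⊕ Fin m) F) := ⟨_, rfl⟩
  have hbc : b * c = 1 := by rw [hc, ← hbu, Units.mul_inv]
  have hcb : c * b = 1 := mul_eq_one_comm.1 hbc
  have hcs : adj J₀ c = c := by
    have e := congrArg (adj J₀) hbc
    rw [adj_mul hJ, hbs, adj_one hJ] at e
    calc adj J₀ c = adj J₀ c * (b * c) := by rw [hbc, mul_one]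
      _ = c := by rw [← mul_assoc, e, one_mul]
  refine ⟨P * c, a, ha, ?_, ?_⟩
  · rw [adj_mul hJ, hcs, show c * adj J₀ P * (P * c) = c * r * c by rw [hrd]; simp only [mul_assoc], hab,
      mul_smul_comm, smul_mul_assoc, ← mul_assoc c b b, hcb, one_mul, hbc]
  · have hcA : c * A = A * c := by rw [hc]; exact (hbu ▸ hbA : Commute (bu : Matrix _ _ F) A).units_inv_left.eq
    rw [mul_assoc, hcA, ← mul_assoc, hPA, mul_assoc]

omit h2 hA hreg

/-- A nonzero entry of the nilpotent `shift`. -/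
def sgn : Fin m ⊕ Fin m → F := Sum.elim (fun _ => 1) (fun _ => -1)

def pos : Fin m ⊕ Fin m → ℕ := Sum.elim (fun i => (i : ℕ)) (fun j => 2 * m - 1 - (j : ℕ))

/-- A regular nilpotent element of the symplectic Lie algebra. -/
def shift : Matrix (Fin m ⊕ Fin m) (Fin m ⊕ Fin m) F :=
  Matrix.of fun s t => if pos s + 1 = pos t then sgn s else 0

theorem shift_pow : ∀ (k : ℕ) (s t : Fin m ⊕ Fin m),
    pos s + k ≠ pos t → ((shift : Matrix (Fin m ⊕ Fin m) (Fin m ⊕ Fin m) F) ^ k) s t = 0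
  | 0, s, t, h => by
    rw [pow_zero, Matrix.one_apply_ne]
    exact fun e => h (by rw [e, add_zero])
  | k + 1, s, t, h => by
    rw [pow_succ, Matrix.mul_apply]
    refine Finset.sum_eq_zero fun r _ => ?_
    by_cases hr : pos r + 1 = pos t
    · rw [shift_pow k s r (by omega), zero_mul]
    · simp [shift, hr]

theorem shift_spec (hm : 1 ≤ m) : (shift : Matrix (Fin m ⊕ Fin m) (Fin m ⊕ Fin m) F) ^ (2 * m) = 0 ∧
    (shift : Matrix (Fin m ⊕ Fin m) (Fin m ⊕ Fin m) F).rank = 2 * m - 1 ∧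
    adj J₀ (shift : Matrix (Fin m ⊕ Fin m) (Fin m ⊕ Fin m) F) = -(shift : Matrix (Fin m ⊕ Fin m) (Fin m ⊕ Fin m) F) := by
  have hb : ∀ t : Fin m ⊕ Fin m, pos t < 2 * m := fun t => by
    rcases t with i | i <;> simp [pos] <;> omega
  have hnil : (shift : Matrix (Fin m ⊕ Fin m) (Fin m ⊕ Fin m) F) ^ (2 * m) = 0 := by
    ext s t
    exact shift_pow _ s t (by have := hb t; omega)
  refine ⟨hnil, ?_, ?_⟩
  · have hinj : Function.Injective (pos (m := m)) := fun s t h => by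
      rcases s with i | i <;> rcases t with j | j <;> simp [pos, Fin.ext_iff] at * <;> omega
    have hsurj : ∀ k, k < 2 * m → ∃ s : Fin m ⊕ Fin m, pos s = k := fun k hk => by
      rcases Nat.lt_or_ge k m with h | h
      · exact ⟨Sum.inl ⟨k, h⟩, rfl⟩
      · exact ⟨Sum.inr ⟨2 * m - 1 - k, by omega⟩, by simp [pos]; omega⟩
    have hker : Module.finrank F (LinearMap.ker (shift : Matrix (Fin m ⊕ Fin m) (Fin m ⊕ Fin m) F).mulVecLin) = 1 := by
      refine le_antisymm ?_ ?_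
      · have hi : Function.Injective ((LinearMap.proj (R := F) (φ := fun _ => F) (Sum.inl ⟨0, by omega⟩ : Fin m ⊕ Fin m)).comp
            (LinearMap.ker (shift : Matrix (Fin m ⊕ Fin m) (Fin m ⊕ Fin m) F).mulVecLin).subtype) := by
          rw [← LinearMap.ker_eq_bot, Submodule.eq_bot_iff]
          rintro ⟨v, hv⟩ h0
          refine Subtype.ext (funext fun t => ?_)
          rcases Nat.eq_zero_or_pos (pos t) with h | h
          · rw [hinj (h.trans (show (0 : ℕ) = pos (Sum.inl (⟨0, by omega⟩ : Fin m)) by simp [pos]))]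
            exact h0
          · obtain ⟨s, hs⟩ := hsurj (pos t - 1) (by have := hb t; omega)
            have e := congrFun (LinearMap.mem_ker.1 hv) s
            rw [Matrix.mulVecLin_apply, Matrix.mulVec, dotProduct,
              Finset.sum_eq_single t (fun r _ hr => by
                simp only [shift, Matrix.of_apply]
                rw [if_neg (fun he => hr (hinj (by omega))), zero_mul]) (by simp)] at e
            simp only [shift, Matrix.of_apply, Pi.zero_apply] at e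
            rw [if_pos (by omega)] at e
            refine (mul_eq_zero.1 e).resolve_left ?_
            rcases s with i | i <;> simp [sgn]
        simpa using LinearMap.finrank_le_finrank_of_injective hi
      · refine Nat.one_le_iff_ne_zero.2 fun h0 => ?_
        have hinj' := LinearMap.ker_eq_bot.1 (Submodule.finrank_eq_zero.1 h0)
        have : IsUnit (shift : Matrix (Fin m ⊕ Fin m) (Fin m ⊕ Fin m) F) := Matrix.mulVec_injective_iff_isUnit.1 hinj'
        have h3 := this.pow (2 * m)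
        rw [hnil] at h3
        haveI : Nonempty (Fin m ⊕ Fin m) := ⟨Sum.inl ⟨0, by omega⟩⟩
        exact not_isUnit_zero h3
    have h := (shift : Matrix (Fin m ⊕ Fin m) (Fin m ⊕ Fin m) F).mulVecLin.finrank_range_add_finrank_ker
    rw [hker, Module.finrank_fintype_fun_eq_card, Fintype.card_sum, Fintype.card_fin] at h
    show Module.finrank F (LinearMap.range (shift : Matrix (Fin m ⊕ Fin m) (Fin m ⊕ Fin m) F).mulVecLin) = _
    omega
  · have s11 : ∀ i j : Fin m, (shift : Matrix (Fin m ⊕ Fin m) (Fin m ⊕ Fin m) F) (Sum.inl i) (Sum.inl j)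
        = if (i : ℕ) + 1 = (j : ℕ) then 1 else 0 := fun i j => rfl
    have s12 : ∀ i j : Fin m, (shift : Matrix (Fin m ⊕ Fin m) (Fin m ⊕ Fin m) F) (Sum.inl i) (Sum.inr j)
        = if (i : ℕ) + 1 = 2 * m - 1 - (j : ℕ) then 1 else 0 := fun i j => rfl
    have s21 : ∀ i j : Fin m, (shift : Matrix (Fin m ⊕ Fin m) (Fin m ⊕ Fin m) F) (Sum.inr i) (Sum.inl j)
        = if 2 * m - 1 - (i : ℕ) + 1 = (j : ℕ) then -1 else 0 := fun i j => rfl
    have s22 : ∀ i j : Fin m, (shift : Matrix (Fin m ⊕ Fin m) (Fin m ⊕ Fin m) F) (Sum.inr i) (Sum.inr j)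
        = if 2 * m - 1 - (i : ℕ) + 1 = 2 * m - 1 - (j : ℕ) then -1 else 0 := fun i j => rfl
    have e : J₀ * (shift : Matrix (Fin m ⊕ Fin m) (Fin m ⊕ Fin m) F)ᵀ
        = -((shift : Matrix (Fin m ⊕ Fin m) (Fin m ⊕ Fin m) F) * J₀) := by
      ext s t
      rcases s with i | i <;> rcases t with j | j <;>
        simp [Matrix.J, Matrix.mul_apply, s11, s12, s21, s22, Matrix.one_apply, Matrix.fromBlocks, Matrix.transpose_apply]
      all_goals (try rw [Finset.sum_eq_single i (fun b _ hb => by simp [Ne.symm hb]) (by simp)])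
      all_goals simp only [if_true]
      all_goals ((repeat' split) <;> first | rfl | omega | simp)
    rw [adj, e, neg_mul, mul_assoc, J_squared, mul_neg, mul_one, neg_neg]

theorem exists_reg (h2 : (2 : F) ≠ 0) (hm : 1 ≤ m) :
    ∃ A : Matrix (Fin m ⊕ Fin m) (Fin m ⊕ Fin m) F, A * adj J₀ A = 1 ∧ IsReg A := by
  obtain ⟨h1, h3, h4⟩ := shift_spec (F := F) hm
  have hJ := J_squared (Fin m) F
  set X : Matrix (Fin m ⊕ Fin m) (Fin m ⊕ Fin m) F := shift
  obtain ⟨v, hv⟩ := IsNilpotent.isUnit_one_sub ⟨2 * m, h1⟩ (r := X)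
  have hcv : Commute (v : Matrix _ _ F) X := by rw [hv]; exact (Commute.one_left X).sub_left (Commute.refl X)
  obtain ⟨w, hw⟩ : ∃ w : Matrix (Fin m ⊕ Fin m) (Fin m ⊕ Fin m) F, w = ((v⁻¹ : (Matrix (Fin m ⊕ Fin m) (Fin m ⊕ Fin m) F)ˣ) : Matrix (Fin m ⊕ Fin m) (Fin m ⊕ Fin m) F) := ⟨_, rfl⟩
  have hcw : Commute w X := hw ▸ hcv.units_inv_left
  have hwm : w * (1 - X) = 1 := by rw [hw, ← hv, Units.inv_mul]
  refine ⟨(1 + X) * w, ?_, ?_⟩
  · have ha : adj J₀ w * (1 + X) = 1 := by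
      have e := congrArg (adj J₀) (mul_eq_one_comm.1 hwm)
      rw [adj_mul hJ, adj_sub, adj_one hJ, h4, sub_neg_eq_add] at e
      exact e
    rw [adj_mul hJ, adj_add, adj_one hJ, h4, ← sub_eq_add_neg,
      show (1 + X) * w * (adj J₀ w * (1 - X)) = (1 + X) * (w * adj J₀ w) * (1 - X) by simp only [mul_assoc]]
    have hc : Commute w (1 + X) := (Commute.one_right _).add_right hcw
    calc (1 + X) * (w * adj J₀ w) * (1 - X) = w * ((1 + X) * adj J₀ w) * (1 - X) := by
          rw [← mul_assoc (1 + X), ← hc.eq, mul_assoc w]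
      _ = 1 := by rw [mul_eq_one_comm.1 ha, mul_one, hwm]
  · have e : (1 + X) * w - 1 = ((2 : F) • X) * w := by
      calc (1 + X) * w - 1 = (1 + X) * w - (1 - X) * w := by rw [mul_eq_one_comm.1 hwm]
        _ = ((2 : F) • X) * w := by rw [← sub_mul, two_smul]; congr 1; abel
    refine ⟨?_, ?_⟩
    · rw [e, (hcw.symm.smul_left (2 : F)).mul_pow, smul_pow, h1, smul_zero, zero_mul]
    · rw [e, Matrix.rank_mul_eq_left_of_isUnit_det _ _ ((Matrix.isUnit_iff_isUnit_det _).1 (hw ▸ Units.isUnit _))]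
      have hd : ((2 : F) • X) = ((2 : F) • (1 : Matrix (Fin m ⊕ Fin m) (Fin m ⊕ Fin m) F)) * X := by
        rw [smul_mul_assoc, one_mul]
      rw [hd, Matrix.rank_mul_eq_right_of_isUnit_det _ _ ?_]
      · exact h3
      · rw [Matrix.det_smul, Matrix.det_one, mul_one]
        exact (h2.isUnit).pow _

end Cfsg.Agent.LBRegSp
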