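/-
Quadratic field structures on a symplectic space that are not self-adjoint: skew square roots of non-squares.
-/
import Cfsg.Agent.Lib.LinearBlock.RegUnipSp
import Cfsg.Agent.Lib.Classical.Symplectic
import Cfsg.Prelude.Def_GeometricClasses

set_option autoImplicit false
set_option linter.all false

namespace Cfsg.Agent.LBGUSp

open Matrix LBRegForm

variable {F : Type*} [Field F] {d : ℕ}

local notation "MM" => Matrix (Fin d ⊕ Fin d) (Fin d ⊕ Fin d) F
local notation "VV" => Fin d ⊕ Fin d → F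
local notation "J₀" => Matrix.J (Fin d) F

theorem form_adj (A : Matrix (Fin d ⊕ Fin d) (Fin d ⊕ Fin d) F) (u v : Fin d ⊕ Fin d → F) :
    Cfsg.sympForm d F (A *ᵥ u) v = Cfsg.sympForm d F u (adj J₀ A *ᵥ v) := by
  rw [ClassicalSp.sympForm_eq, ClassicalSp.sympForm_eq, mulVec_mulVec, adj, mul_neg,
    show J₀ * (J₀ * Aᵀ * J₀) = (J₀ * J₀) * Aᵀ * J₀ by simp only [Matrix.mul_assoc], J_squared, neg_mul, neg_mul,
    neg_neg, one_mul, ← mulVec_mulVec, dotProduct_mulVec u, Matrix.vecMul_transpose]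

theorem form_ext {A B : Matrix (Fin d ⊕ Fin d) (Fin d ⊕ Fin d) F}
    (h : ∀ u v, Cfsg.sympForm d F u (A *ᵥ v) = Cfsg.sympForm d F u (B *ᵥ v)) : A = B := by
  have e : J₀ * A = J₀ * B := by
    ext i j
    have := h (Pi.single i 1) (Pi.single j 1)
    rw [ClassicalSp.sympForm_eq, ClassicalSp.sympForm_eq, mulVec_mulVec, mulVec_mulVec] at this
    simpa using this
  have := congrArg (fun M => -(J₀ * M)) e
  simpa [← Matrix.mul_assoc, J_squared] using this

/-- A skew square root of a non-square scalar. -/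
def IsSkewRoot (δ : F) (ι : Matrix (Fin d ⊕ Fin d) (Fin d ⊕ Fin d) F) : Prop :=
  ι * ι = δ • 1 ∧ adj J₀ ι = -ι

/-- The standard one. -/
def std (d : ℕ) (δ : F) : Matrix (Fin d ⊕ Fin d) (Fin d ⊕ Fin d) F :=
  fromBlocks 0 1 (δ • 1) 0

theorem std_skew (δ : F) : IsSkewRoot δ (std d δ) := by
  refine ⟨?_, ?_⟩
  · simp [std, fromBlocks_multiply, ← fromBlocks_one, fromBlocks_smul]
  · simp [std, adj, Matrix.J, fromBlocks_transpose, fromBlocks_multiply, fromBlocks_neg]

theorem nonsquare_norm [Fintype F] (h2 : (2 : F) ≠ 0) (δ c : F) (hδ : ¬ IsSquare δ) :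
    ∃ a b : F, a * a - δ * (b * b) = c := by
  open Polynomial in
  have hq : Fintype.card F % 2 = 1 := by
    refine Nat.odd_iff.1 (Nat.not_even_iff_odd.1 fun he => ?_)
    have hch := FiniteField.even_card_iff_char_two.2 (Nat.even_iff.1 he)
    haveI : CharP F 2 := hch ▸ ringChar.charP F
    exact h2 CharTwo.two_eq_zero
  have hδ0 : δ ≠ 0 := fun h => hδ (h ▸ IsSquare.zero)
  obtain ⟨a, b, hab⟩ := FiniteField.exists_root_sum_quadratic
    (f := Polynomial.X ^ 2 - Polynomial.C c) (g := Polynomial.C (-δ) * Polynomial.X ^ 2)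
    (Polynomial.degree_X_pow_sub_C two_pos c) (Polynomial.degree_C_mul_X_pow 2 (neg_ne_zero.2 hδ0)) hq
  refine ⟨a, b, ?_⟩
  simp only [Polynomial.eval_sub, Polynomial.eval_pow, Polynomial.eval_X, Polynomial.eval_C, Polynomial.eval_mul] at hab
  linear_combination hab

theorem form_swap (u v : Fin d ⊕ Fin d → F) : Cfsg.sympForm d F v u = -Cfsg.sympForm d F u v := by
  rw [← ClassicalSp.spBilin_apply, ← ClassicalSp.spBilin_apply]
  exact ((ClassicalSp.spBilin_isAlt (m := d) (F := F)).neg_eq u v).symm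

theorem exists_family [Fintype F] (h2 : (2 : F) ≠ 0) {δ : F} (hδ : ¬ IsSquare δ)
    {ι : Matrix (Fin d ⊕ Fin d) (Fin d ⊕ Fin d) F} (hι : IsSkewRoot δ ι) :
    ∀ k ≤ d, ∃ e : Fin k → (Fin d ⊕ Fin d → F), ∀ i j,
      Cfsg.sympForm d F (ι *ᵥ e i) (e j) = (if i = j then δ else 0) ∧ Cfsg.sympForm d F (e i) (e j) = 0 := by
  obtain ⟨hsq, hskew⟩ := hι
  have hδ0 : δ ≠ 0 := fun h => hδ (h ▸ IsSquare.zero)
  let f : LinearMap.BilinForm F (Fin d ⊕ Fin d → F) := ClassicalSp.spBilin d F
  let L : (Fin d ⊕ Fin d → F) →ₗ[F] (Fin d ⊕ Fin d → F) := ι.mulVecLin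
  have hf : ∀ u v, Cfsg.sympForm d F u v = f u v := fun u v => (ClassicalSp.spBilin_apply u v).symm
  have hL : ∀ v, ι *ᵥ v = L v := fun v => rfl
  have hfL : ∀ u v, f (L u) v = -f u (L v) := fun u v => by
    rw [← hf, ← hf, ← hL, ← hL, form_adj, hskew, neg_mulVec, hf, hf, map_neg]
  have hLL : ∀ v, L (L v) = δ • v := fun v => by
    rw [← hL, ← hL, mulVec_mulVec, hsq, smul_mulVec, one_mulVec]
  have hfs : ∀ u v, f v u = -f u v := fun u v => by rw [← hf, ← hf]; exact form_swap u v
  intro k hk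
  induction k with
  | zero => exact ⟨Fin.elim0, fun i => i.elim0⟩
  | succ k ih =>
    obtain ⟨e, he⟩ := ih (by omega)
    have he1 : ∀ i j, f (L (e i)) (e j) = if i = j then δ else 0 := fun i j => by
      rw [← hL, ← hf]; exact (he i j).1
    have he2 : ∀ i j, f (e i) (e j) = 0 := fun i j => by rw [← hf]; exact (he i j).2
    let pr : (Fin d ⊕ Fin d → F) → (Fin d ⊕ Fin d → F) := fun w =>
      w - ∑ i, ((δ⁻¹ * f (L (e i)) w) • e i + (-δ⁻¹ * f (e i) w) • L (e i))
    have hp : ∀ w j, f (L (e j)) (pr w) = 0 ∧ f (e j) (pr w) = 0 := by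
      intro w j
      constructor
      · have hh : ∀ i, f (L (e j)) ((δ⁻¹ * f (L (e i)) w) • e i + (-δ⁻¹ * f (e i) w) • L (e i))
            = if j = i then f (L (e i)) w else 0 := fun i => by
          rw [map_add, map_smul, map_smul, hfL (e j) (L (e i)), hLL, map_smul, he1, he2]
          split <;> simp [hδ0, mul_comm δ⁻¹, mul_assoc]
        simp only [pr, map_sub, map_sum]
        rw [Finset.sum_congr rfl fun i _ => hh i, Finset.sum_ite_eq, if_pos (Finset.mem_univ _), sub_self]
      · have hh : ∀ i, f (e j) ((δ⁻¹ * f (L (e i)) w) • e i + (-δ⁻¹ * f (e i) w) • L (e i))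
            = if j = i then f (e i) w else 0 := fun i => by
          have h1 : f (e j) (L (e i)) = if j = i then -δ else 0 := by
            rw [← neg_neg (f (e j) (L (e i))), ← hfL, he1]
            split <;> simp
          rw [map_add, map_smul, map_smul, he2, h1]
          split <;> simp [hδ0]
          field_simp
        simp only [pr, map_sub, map_sum]
        rw [Finset.sum_congr rfl fun i _ => hh i, Finset.sum_ite_eq, if_pos (Finset.mem_univ _), sub_self]
    obtain ⟨v, hv, hv1, hv2⟩ : ∃ v, f (L v) v ≠ 0 ∧ (∀ j, f (L (e j)) v = 0) ∧ ∀ j, f (e j) v = 0 := by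
      by_contra hc
      have hz : ∀ w, f (L (pr w)) (pr w) = 0 := fun w => by
        by_contra h
        exact hc ⟨pr w, h, fun j => (hp w j).1, fun j => (hp w j).2⟩
      have hadd : ∀ u w, f (L (pr u)) (pr w) = 0 := by
        intro u w
        have h3 := hz (u + w)
        have e3 : pr (u + w) = pr u + pr w := by
          simp only [pr, map_add, mul_add, add_smul, Finset.sum_add_distrib]
          abel
        simp only [e3, map_add, LinearMap.add_apply, hz] at h3
        rw [hfL (pr w) (pr u), hfs (L (pr u)) (pr w), neg_neg, zero_add, add_zero] at h3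
        refine (mul_eq_zero.1 ?_).resolve_left h2
        linear_combination h3
      have hall : ∀ u, pr u = 0 := fun u => by
        have h0 : ∀ w, f (L (pr u)) w = 0 := fun w => by
          have hw : w = pr w + ∑ i, ((δ⁻¹ * f (L (e i)) w) • e i + (-δ⁻¹ * f (e i) w) • L (e i)) := by
            simp only [pr]; abel
          rw [hw, map_add, hadd, zero_add, map_sum]
          refine Finset.sum_eq_zero fun i _ => ?_
          rw [map_add, map_smul, map_smul, hfs (e i) (L (pr u)), hfs (L (e i)) (L (pr u)), hfL (e i) (L (pr u)), hLL,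
            map_smul, (hp u i).2, ← neg_neg (f (e i) (L (pr u))), ← hfL, (hp u i).1]
          simp
        have h4 : L (pr u) = 0 := (ClassicalSp.spBilin_nondeg).1 _ h0
        have := hLL (pr u)
        rw [h4, map_zero] at this
        exact (smul_eq_zero.1 this.symm).resolve_left hδ0
      have hspan : (⊤ : Submodule F (Fin d ⊕ Fin d → F)) ≤ Submodule.span F (Set.range (Sum.elim e fun i => L (e i))) := by
        intro w _
        have hm : ∑ i, ((δ⁻¹ * f (L (e i)) w) • e i + (-δ⁻¹ * f (e i) w) • L (e i)) ∈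
            Submodule.span F (Set.range (Sum.elim e fun i => L (e i))) :=
          Submodule.sum_mem _ fun i _ => Submodule.add_mem _ (Submodule.smul_mem _ _ (Submodule.subset_span ⟨Sum.inl i, rfl⟩))
            (Submodule.smul_mem _ _ (Submodule.subset_span ⟨Sum.inr i, rfl⟩))
        rwa [← sub_eq_zero.1 (hall w)] at hm
      have h5 := (Submodule.finrank_mono hspan).trans (finrank_range_le_card _)
      rw [finrank_top, ClassicalSp.finrank_space, Fintype.card_sum, Fintype.card_fin] at h5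
      omega
    obtain ⟨a, b, hab⟩ := nonsquare_norm h2 δ (δ / f (L v) v) hδ
    obtain ⟨w, hw⟩ : ∃ w, w = a • v + b • L v := ⟨_, rfl⟩
    have hvv : f v v = 0 := ClassicalSp.spBilin_isAlt v
    have hvLv : f v (L v) = -f (L v) v := by rw [hfL, neg_neg]
    have hww : f (L w) w = δ ∧ (∀ j, f (L (e j)) w = 0) ∧ ∀ j, f (e j) w = 0 := by
      refine ⟨?_, fun j => ?_, fun j => ?_⟩
      · rw [hw]
        simp only [map_add, map_smul, hLL, LinearMap.add_apply, LinearMap.smul_apply, smul_eq_mul, hvv, hvLv,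
          show f (L v) (L v) = 0 from ClassicalSp.spBilin_isAlt _]
        have h6 : δ / f (L v) v * f (L v) v = δ := div_mul_cancel₀ δ hv
        linear_combination (f (L v) v) * hab + h6
      · rw [hw, map_add, map_smul, map_smul, hv1, hfL (e j) (L v), hLL, map_smul, hv2]; simp
      · rw [hw, map_add, map_smul, map_smul, hv2, ← neg_neg (f (e j) (L v)), ← hfL, hv1]; simp
    refine ⟨Fin.snoc e w, fun i j => ?_⟩
    rw [hL, hf, hf]
    induction i using Fin.lastCases with
    | last =>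
      induction j using Fin.lastCases with
      | last => simp only [Fin.snoc_last]; exact ⟨by simp [hww.1], ClassicalSp.spBilin_isAlt w⟩
      | cast j =>
        simp only [Fin.snoc_last, Fin.snoc_castSucc]
        refine ⟨?_, by rw [hfs (e j) w, hww.2.2, neg_zero]⟩
        rw [if_neg (Fin.castSucc_lt_last j).ne', hfL, hfs (L (e j)) w, hww.2.1]
        simp
    | cast i =>
      induction j using Fin.lastCases with
      | last =>
        simp only [Fin.snoc_last, Fin.snoc_castSucc]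
        exact ⟨by rw [hww.2.1, if_neg (Fin.castSucc_lt_last i).ne], hww.2.2 i⟩
      | cast j =>
        simp only [Fin.snoc_castSucc, Fin.castSucc_inj]
        exact ⟨he1 i j, he2 i j⟩

/-- All skew square roots of the same non-square are conjugate in the symplectic group. -/
theorem exists_conj_std [Fintype F] (h2 : (2 : F) ≠ 0) {δ : F} (hδ : ¬ IsSquare δ)
    {ι : Matrix (Fin d ⊕ Fin d) (Fin d ⊕ Fin d) F} (hι : IsSkewRoot δ ι) :
    ∃ P ∈ Matrix.symplecticGroup (Fin d) F, P * std d δ = ι * P := by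
  have hδ0 : δ ≠ 0 := fun h => hδ (h ▸ IsSquare.zero)
  obtain ⟨e, he⟩ := exists_family h2 hδ hι d le_rfl
  obtain ⟨c, hc⟩ : ∃ c : Fin d ⊕ Fin d → (Fin d ⊕ Fin d → F), c = Sum.elim e (fun i => δ⁻¹ • (ι *ᵥ e i)) := ⟨_, rfl⟩
  obtain ⟨P, hP⟩ : ∃ P : Matrix (Fin d ⊕ Fin d) (Fin d ⊕ Fin d) F, P = Matrix.of fun a b => c b a := ⟨_, rfl⟩
  have hcol : ∀ b, P *ᵥ Pi.single b 1 = c b := fun b => by
    rw [mulVec_single_one, hP]; rfl
  refine ⟨P, ?_, ?_⟩
  · rw [SymplecticGroup.mem_iff']
    ext a b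
    have e1 : (Pᵀ * J₀ * P) a b = Cfsg.sympForm d F (c a) (c b) := by
      rw [← hcol, ← hcol, ClassicalSp.sympForm_mulVec]
      simp
    rw [e1, hc]
    have hs : ∀ (x : F) u v, Cfsg.sympForm d F (x • u) v = x * Cfsg.sympForm d F u v ∧
        Cfsg.sympForm d F u (x • v) = x * Cfsg.sympForm d F u v := fun x u v => by
      simp only [← ClassicalSp.spBilin_apply, map_smul, LinearMap.smul_apply, smul_eq_mul, and_self]
    rcases a with i | i <;> rcases b with j | j <;> simp only [Sum.elim_inl, Sum.elim_inr]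
    · rw [(he i j).2]; simp [Matrix.J]
    · rw [(hs _ _ _).2, form_swap (ι *ᵥ e j) (e i), (he j i).1]
      by_cases h : i = j
      · subst h; simp [Matrix.J, hδ0]
      · rw [if_neg (Ne.symm h)]; simp [Matrix.J, h]
    · rw [(hs _ _ _).1, (he i j).1]
      by_cases h : i = j
      · subst h; simp [Matrix.J, hδ0]
      · rw [if_neg h]; simp [Matrix.J, h]
    · rw [(hs _ _ _).1, (hs _ _ _).2, form_adj, hι.2, neg_mulVec, mulVec_mulVec, hι.1, smul_mulVec, one_mulVec,
        ← neg_smul, (hs _ _ _).2, (he i j).2]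
      simp [Matrix.J]
  · refine Matrix.ext_of_mulVec_single fun b => ?_
    rw [← mulVec_mulVec, ← mulVec_mulVec, hcol]
    rcases b with j | j
    · have e1 : std d δ *ᵥ Pi.single (Sum.inl j : Fin d ⊕ Fin d) 1 = δ • Pi.single (Sum.inr j) 1 := by
        rw [mulVec_single_one]
        funext a
        rcases a with a | a <;> simp [std, Matrix.one_apply, Pi.single_apply]
      rw [e1, mulVec_smul, hcol, hc, Sum.elim_inr, Sum.elim_inl, smul_smul, mul_inv_cancel₀ hδ0, one_smul]
    · have e1 : std d δ *ᵥ Pi.single (Sum.inr j : Fin d ⊕ Fin d) 1 = Pi.single (Sum.inl j) 1 := by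
        rw [mulVec_single_one]
        funext a
        rcases a with a | a <;> simp [std, Matrix.one_apply, Pi.single_apply]
      rw [e1, hcol, hc, Sum.elim_inl, Sum.elim_inr, mulVec_smul, mulVec_mulVec, hι.1, smul_mulVec, one_mulVec,
        smul_smul, inv_mul_cancel₀ hδ0, one_smul]

/-! ### The field -/

variable {K : Subalgebra F (Matrix (Fin d ⊕ Fin d) (Fin d ⊕ Fin d) F)}

/-- A non-self-adjoint adjoint-closed quadratic field is generated by a skew root of a non-square. -/
theorem exists_skew [Fintype F] (h2 : (2 : F) ≠ 0) (hK : Cfsg.Geo.IsFieldSubalgebra 2 K)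
    (hKf : Cfsg.Geo.IsAdjointClosedFor (Cfsg.sympForm d F) K) (hKns : ¬ Cfsg.Geo.IsSelfAdjointFor (Cfsg.sympForm d F) K) :
    ∃ ι ∈ K, ∃ δ : F, ¬ IsSquare δ ∧ IsSkewRoot δ ι ∧ ∀ k ∈ K, ∃ a b : F, k = a • 1 + b • ι := by
  classical
  have hadj : ∀ k ∈ K, adj J₀ k ∈ K := by
    intro k hk
    obtain ⟨k', hk', h⟩ := hKf k hk
    rwa [show adj J₀ k = k' from form_ext fun u v => by rw [← form_adj, h]]
  obtain ⟨k, hk, hkne⟩ : ∃ k ∈ K, adj J₀ k ≠ k := by
    by_contra hc
    push Not at hc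
    exact hKns fun k hk u v => by rw [form_adj, hc k hk]
  obtain ⟨ι, hιd⟩ : ∃ ι, ι = k - adj J₀ k := ⟨_, rfl⟩
  have hι : ι ∈ K := hιd ▸ sub_mem hk (hadj k hk)
  have hskew : adj J₀ ι = -ι := by rw [hιd, adj_sub, adj_adj (J_squared _ _) (J_transpose _ _), neg_sub]
  have hι0 : ι ≠ 0 := hιd ▸ sub_ne_zero.2 (Ne.symm hkne)
  have hns : ∀ z : F, ι ≠ z • 1 := fun z hz => hι0 (by
    have e := hskew
    rw [hz, adj_smul, adj_one (J_squared _ _), ← neg_smul] at e
    have h0 : (z - -z) • (1 : Matrix (Fin d ⊕ Fin d) (Fin d ⊕ Fin d) F) = 0 := by rw [sub_smul, ← e, sub_self]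
    rw [hz]
    rcases smul_eq_zero.1 h0 with h | h
    · rw [show z = 0 from (mul_eq_zero.1 (show (2 : F) * z = 0 by linear_combination h)).resolve_left h2, zero_smul]
    · rw [h, smul_zero])
  have hone : (1 : Matrix (Fin d ⊕ Fin d) (Fin d ⊕ Fin d) F) ≠ 0 := fun h => hns 0 (by
    rw [zero_smul, ← mul_one ι, h, mul_zero])
  let v : Fin 2 → ↥(Subalgebra.toSubmodule K) := ![⟨1, K.one_mem⟩, ⟨ι, hι⟩]
  have hli : LinearIndependent F v := by
    rw [LinearIndependent.pair_iff]
    intro a b hab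
    have h' : a • (1 : Matrix (Fin d ⊕ Fin d) (Fin d ⊕ Fin d) F) + b • ι = 0 := congrArg Subtype.val hab
    by_cases hb : b = 0
    · rw [hb, zero_smul, add_zero, smul_eq_zero] at h'
      exact ⟨h'.resolve_right hone, hb⟩
    · refine absurd ?_ (hns (-(b⁻¹ * a)))
      have := congrArg (fun M => b⁻¹ • M) h'
      simp only [smul_add, smul_smul, inv_mul_cancel₀ hb, one_smul, smul_zero] at this
      rw [neg_smul, eq_neg_iff_add_eq_zero, add_comm]
      exact this
  have hgen : ∀ k ∈ K, ∃ a b : F, k = a • 1 + b • ι := by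
    intro k hk
    have hsp := hli.span_eq_top_of_card_eq_finrank (by rw [Fintype.card_fin]; exact hK.finrank_eq.symm)
    obtain ⟨c, hc⟩ := (Submodule.mem_span_range_iff_exists_fun F).1
      (hsp ▸ Submodule.mem_top : (⟨k, hk⟩ : ↥(Subalgebra.toSubmodule K)) ∈ Submodule.span F (Set.range v))
    rw [Fin.sum_univ_two] at hc
    exact ⟨c 0, c 1, (congrArg Subtype.val hc).symm⟩
  obtain ⟨a, b, hab⟩ := hgen _ (mul_mem hι hι)
  have hb : b = 0 := by
    have e := congrArg (adj J₀) hab
    rw [adj_mul (J_squared _ _), hskew, neg_mul_neg, adj_add, adj_smul, adj_smul, adj_one (J_squared _ _), hskew,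
      hab] at e
    have h0 : (2 * b) • ι = 0 := by
      rw [mul_smul, two_smul]
      have := add_left_cancel e
      rw [smul_neg, eq_neg_iff_add_eq_zero] at this
      exact this
    exact (mul_eq_zero.1 ((smul_eq_zero.1 h0).resolve_right hι0)).resolve_left h2
  rw [hb, zero_smul, add_zero] at hab
  refine ⟨ι, hι, a, fun ⟨c, hc⟩ => ?_, ⟨hab, hskew⟩, hgen⟩
  have h1 : (ι - c • 1) * (ι + c • 1) = 0 := by
    simp only [sub_mul, mul_add, mul_smul_comm, smul_mul_assoc, hab, hc, mul_one, one_mul, smul_smul, smul_add, smul_sub]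
    abel
  have hm1 : ι - c • 1 ∈ K := sub_mem hι (K.smul_mem K.one_mem c)
  have hm2 : ι + c • 1 ∈ K := add_mem hι (K.smul_mem K.one_mem c)
  obtain ⟨y, -, hy⟩ := hK.inv _ hm1 (sub_ne_zero.2 (hns c))
  refine hns (-c) ?_
  rw [neg_smul, eq_neg_iff_add_eq_zero]
  calc ι + c • 1 = (y * (ι - c • 1)) * (ι + c • 1) := by rw [mul_eq_one_comm.1 hy, one_mul]
    _ = 0 := by rw [mul_assoc, h1, mul_zero]

/-- Scaling the root. -/
theorem rescale [Fintype F] (h2 : (2 : F) ≠ 0) {δ ε : F} (hδ : ¬ IsSquare δ) (hε : ¬ IsSquare ε)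
    {ι : Matrix (Fin d ⊕ Fin d) (Fin d ⊕ Fin d) F} (hι : IsSkewRoot δ ι) :
    ∃ c : F, c ≠ 0 ∧ IsSkewRoot ε (c • ι) := by
  classical
  have hδ0 : δ ≠ 0 := fun h => hδ (h ▸ IsSquare.zero)
  have hε0 : ε ≠ 0 := fun h => hε (h ▸ IsSquare.zero)
  have h : IsSquare (ε * δ) := by
    rw [← quadraticChar_one_iff_isSquare (mul_ne_zero hε0 hδ0), map_mul, quadraticChar_neg_one_iff_not_isSquare.2 hδ,
      quadraticChar_neg_one_iff_not_isSquare.2 hε]
    norm_num
  obtain ⟨e, he⟩ := h
  refine ⟨e / δ, div_ne_zero (fun h => mul_ne_zero hε0 hδ0 (by rw [he, h, mul_zero])) hδ0, ?_, ?_⟩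
  · rw [smul_mul_assoc, mul_smul_comm, hι.1, smul_smul, smul_smul]
    congr 1
    field_simp
    linear_combination -he
  · rw [adj_smul, hι.2, smul_neg]

end Cfsg.Agent.LBGUSp
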