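/-
Classes of elements of order p in GL_n in characteristic p.
-/
import Cfsg.Agent.Lib.Classical.NilpotentJordan
import Cfsg.Agent.Lib.LinearBlock.RootUnityPolys

set_option autoImplicit false
set_option linter.all false

namespace Cfsg.Agent.LBUnipPrime

open Module Matrix NilJordan

variable {F : Type*} [Field F]

theorem pow_eq_zero_iff_parts {V : Type*} [AddCommGroup V] [Module F V] [FiniteDimensional F V] {n : ℕ}
    (hV : finrank F V = n) {f : Module.End F V} {s : Nat.Partition n} (h : Inv f s) (j : ℕ) :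
    f ^ j = 0 ↔ ∀ a ∈ s.parts, a ≤ j := by
  have key : ∀ u : Multiset ℕ, (u.map fun a => min a j).sum ≤ u.sum ∧
      ((u.map fun a => min a j).sum = u.sum ↔ ∀ a ∈ u, a ≤ j) := by
    intro u
    induction u using Multiset.induction_on with
    | empty => simp
    | cons a u ih =>
      simp only [Multiset.map_cons, Multiset.sum_cons, Multiset.forall_mem_cons, ← ih.2]
      have := ih.1
      refine ⟨by omega, ⟨fun e => ⟨by omega, by omega⟩, fun e => by omega⟩⟩
  rw [← (key s.parts).2, ← h j, s.parts_sum, ← hV, ← LinearMap.ker_eq_top]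
  exact ⟨fun e => by rw [e, finrank_top], fun e => Submodule.eq_top_of_finrank_eq e⟩

/-- The map `g - 1` as an endomorphism. -/
noncomputable def shifted {n : ℕ} (g : GL (Fin n) F) : Module.End F (Fin n → F) := Matrix.toLinAlgEquiv' (g.1 - 1)

theorem isConj_iff_sim {n : ℕ} (g h : GL (Fin n) F) :
    IsConj g h ↔ Sim (Matrix.toLinAlgEquiv' (g.1 - 1) : Module.End F (Fin n → F)) (Matrix.toLinAlgEquiv' (h.1 - 1)) := by
  rw [isConj_iff]
  constructor
  · rintro ⟨u, rfl⟩
    refine ⟨(Matrix.GeneralLinearGroup.toLin u).toLinearEquiv, fun v => ?_⟩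
    show u.1 *ᵥ ((g.1 - 1) *ᵥ v) = ((u * g * u⁻¹ : GL (Fin n) F).1 - 1) *ᵥ (u.1 *ᵥ v)
    rw [mulVec_mulVec, mulVec_mulVec, Units.val_mul, Units.val_mul]
    congr 1
    rw [mul_sub, sub_mul, Matrix.mul_assoc _ (u⁻¹).1 u.1, Units.inv_mul, mul_one, mul_one, one_mul]
  · rintro ⟨e, he⟩
    refine ⟨Units.map (Matrix.toLinAlgEquiv' (R := F) (n := Fin n)).symm.toRingHom.toMonoidHom
      (LinearMap.GeneralLinearGroup.ofLinearEquiv e), ?_⟩
    set u := Units.map (Matrix.toLinAlgEquiv' (R := F) (n := Fin n)).symm.toRingHom.toMonoidHom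
      (LinearMap.GeneralLinearGroup.ofLinearEquiv e) with hu
    have hu' : Matrix.toLinAlgEquiv' u.1 = (e : Module.End F (Fin n → F)) :=
      Matrix.toLinAlgEquiv'.apply_symm_apply _
    have hm : u.1 * (g.1 - 1) = (h.1 - 1) * u.1 :=
      Matrix.toLinAlgEquiv'.injective (by
        rw [map_mul, map_mul, hu']
        exact LinearMap.ext he)
    rw [mul_inv_eq_iff_eq_mul]
    apply Units.ext
    rw [Units.val_mul, Units.val_mul]
    rw [mul_sub, sub_mul, mul_one, one_mul] at hm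
    exact sub_left_inj.1 hm

/-- Unipotent elements of order dividing `p` with the same kernel dimensions are conjugate. -/
theorem isConj_of_finrank [Fintype F] {p : ℕ} [Fact p.Prime] [CharP F p] {n : ℕ} {g h : GL (Fin n) F} (hg : g ^ p = 1) (hh : h ^ p = 1)
    (hd : ∀ j, finrank F (LinearMap.ker ((Matrix.toLinAlgEquiv' (g.1 - 1) : Module.End F (Fin n → F)) ^ j)) =
      finrank F (LinearMap.ker ((Matrix.toLinAlgEquiv' (h.1 - 1) : Module.End F (Fin n → F)) ^ j))) : IsConj g h := by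
  rcases Nat.eq_zero_or_pos n with rfl | hn
  · rw [Subsingleton.elim g h]
  haveI : Nonempty (Fin n) := ⟨⟨0, hn⟩⟩
  have hnil : ∀ x : GL (Fin n) F, x ^ p = 1 → IsNilpotent (Matrix.toLinAlgEquiv' (x.1 - 1) : Module.End F (Fin n → F)) := by
    intro x hx
    refine ⟨p, ?_⟩
    rw [← map_pow, sub_pow_char_of_commute p (Commute.one_right _), one_pow, ← Units.val_pow_eq_pow_val, hx, Units.val_one,
      sub_self, map_zero]
  have hfin : finrank F (Fin n → F) = n := Module.finrank_fin_fun F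
  obtain ⟨s, hs⟩ := exists_inv hfin _ (hnil g hg)
  rw [isConj_iff_sim]
  exact sim_of_inv hfin hfin (hnil g hg) (hnil h hh) hs (fun j => (hd j).symm.trans (hs j))

variable [Fintype F]

theorem card_order_p {p : ℕ} [Fact p.Prime] [CharP F p] (n : ℕ) :
    Nat.card {C : ConjClasses (GL (Fin n) F) // ∃ g : GL (Fin n) F, ConjClasses.mk g = C ∧ orderOf g = p} =
      (Finset.univ.filter (fun μ : Nat.Partition n => ∀ a ∈ μ.parts, a ≤ p)).card - 1 := by
  classical
  rw [LBRootPoly.card_order_r Fact.out]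
  congr 1
  rw [← Fintype.card_subtype, ← Nat.card_eq_fintype_card]
  have hp1 : 1 ≤ p := (Fact.out : p.Prime).one_lt.le
  rcases Nat.eq_zero_or_pos n with rfl | hn
  · rw [Nat.card_eq_one_iff_unique.2 ⟨⟨fun a b => Subtype.ext ?_⟩, ⟨⟨ConjClasses.mk 1, 1, rfl, one_pow p⟩⟩⟩,
      Nat.card_eq_one_iff_unique.2 ⟨⟨fun a b => Subtype.ext (Subsingleton.elim _ _)⟩, ⟨⟨default, fun a ha => by
        have := Multiset.le_sum_of_mem ha
        rw [Nat.Partition.parts_sum] at this
        omega⟩⟩⟩]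
    · obtain ⟨x, hx⟩ := ConjClasses.mk_surjective a.1
      obtain ⟨y, hy⟩ := ConjClasses.mk_surjective b.1
      rw [← hx, ← hy, Subsingleton.elim x y]
  haveI : Nonempty (Fin n) := ⟨⟨0, hn⟩⟩
  let φ : GL (Fin n) F → Module.End F (Fin n → F) := fun g => Matrix.toLinAlgEquiv' (g.1 - 1)
  have key : ∀ g : GL (Fin n) F, φ g ^ p = 0 ↔ g ^ p = 1 := by
    intro g
    rw [← map_pow, map_eq_zero_iff _ (AlgEquiv.injective _), sub_pow_char_of_commute p (Commute.one_right _), one_pow,
      sub_eq_zero, Units.ext_iff, Units.val_pow_eq_pow_val, Units.val_one]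
  have hnil : ∀ g : GL (Fin n) F, g ^ p = 1 → IsNilpotent (φ g) := fun g hg => ⟨p, (key g).2 hg⟩
  have hconj : ∀ g h : GL (Fin n) F, IsConj g h ↔ Sim (φ g) (φ h) := isConj_iff_sim
  have hfin : finrank F (Fin n → F) = n := Module.finrank_fin_fun F
  have hex : ∀ C : {C : ConjClasses (GL (Fin n) F) // ∃ g, ConjClasses.mk g = C ∧ g ^ p = 1},
      ∃ s : {μ : Nat.Partition n // ∀ a ∈ μ.parts, a ≤ p}, Inv (φ C.2.choose) s.1 := fun C => by
    obtain ⟨s, hs⟩ := exists_inv hfin _ (hnil _ C.2.choose_spec.2)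
    exact ⟨⟨s, (pow_eq_zero_iff_parts hfin hs p).1 ((key _).2 C.2.choose_spec.2)⟩, hs⟩
  refine Nat.card_eq_of_bijective (fun C => (hex C).choose) ⟨fun C D hCD => ?_, fun s => ?_⟩
  · apply Subtype.ext
    rw [← C.2.choose_spec.1, ← D.2.choose_spec.1, ConjClasses.mk_eq_mk_iff_isConj, hconj]
    exact sim_of_inv hfin hfin (hnil _ C.2.choose_spec.2) (hnil _ D.2.choose_spec.2)
      (hex C).choose_spec (by simp only at hCD; rw [hCD]; exact (hex D).choose_spec)
  · obtain ⟨f, hfn, hs⟩ := exists_of_partition hfin s.1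
    set M := (Matrix.toLinAlgEquiv' (R := F) (n := Fin n)).symm f with hM
    obtain ⟨u, hu⟩ := (hfn.map (Matrix.toLinAlgEquiv' (R := F) (n := Fin n)).symm).isUnit_one_add
    have hφ : φ u = f := by
      show Matrix.toLinAlgEquiv' (u.1 - 1) = f
      rw [hu, add_sub_cancel_left, AlgEquiv.apply_symm_apply]
    have hup : u ^ p = 1 := (key u).1 (by rw [hφ]; exact (pow_eq_zero_iff_parts hfin hs p).2 s.2)
    refine ⟨⟨ConjClasses.mk u, u, rfl, hup⟩, ?_⟩
    generalize hC : (⟨ConjClasses.mk u, u, rfl, hup⟩ :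
      {C : ConjClasses (GL (Fin n) F) // ∃ g, ConjClasses.mk g = C ∧ g ^ p = 1}) = C
    have hc : IsConj C.2.choose u := by
      rw [← ConjClasses.mk_eq_mk_iff_isConj, C.2.choose_spec.1, ← hC]
    refine Subtype.ext (inv_unique (f := φ C.2.choose) (hex C).choose_spec fun j => ?_)
    rw [((hconj _ _).1 hc).finrank_ker, hφ]
    exact hs j

end Cfsg.Agent.LBUnipPrime
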