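/-
Matrices squaring to a scalar: characteristic polynomials and conjugacy by elements of SL_n.
-/
import Cfsg.Agent.Lib.Classical.SemisimpleClasses
import Cfsg.Agent.Lib.LinearBlock.UnipotentPrime

set_option autoImplicit false
set_option linter.all false

namespace Cfsg.Agent.LBInvCl

open Polynomial Matrix UniqueFactorizationMonoid

universe u

variable {F : Type u} [Field F] {n : ℕ}

/-- A monic polynomial with a single monic irreducible factor is a power of it. -/
theorem eq_pow_of_factors {f g : F[X]} (hf : f.Monic) (hg : g.Monic)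
    (h : ∀ u : F[X], u.Monic → Irreducible u → u ∣ f → u = g) : ∃ k, f = g ^ k := by
  classical
  refine ⟨(normalizedFactors f).card, ?_⟩
  rw [← LBRootPoly.prod_of_monic hf]
  have : normalizedFactors f = Multiset.replicate (normalizedFactors f).card g :=
    Multiset.eq_replicate.2 ⟨rfl, fun u hu => h u (LBRootPoly.monic_of_mem hu) (irreducible_of_normalized_factor u hu)
      (dvd_of_mem_normalizedFactors hu)⟩
  conv_lhs => rw [this, Multiset.prod_replicate]
  rw [LBRootPoly.prod_of_monic hf]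

theorem dvd_sq_sub {x : Matrix (Fin n) (Fin n) F} {z : F} (hx : x * x = z • 1) {u : F[X]} (hu : Irreducible u)
    (hd : u ∣ x.charpoly) : u ∣ X ^ 2 - C z := by
  refine (Spectra.dvd_minpoly_of_dvd_charpoly x hu hd).trans (minpoly.dvd F x ?_)
  rw [map_sub, map_pow, aeval_X, aeval_C, Algebra.algebraMap_eq_smul_one, pow_two, hx, sub_self]

theorem irreducible_sq_sub {z : F} (hz : ¬ IsSquare z) : Irreducible (X ^ 2 - C z : F[X]) :=
  (X_pow_sub_C_irreducible_iff_of_prime Nat.prime_two).2 fun b hb => hz ⟨b, by rw [← hb, pow_two]⟩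

theorem charpoly_nonsquare {x : Matrix (Fin n) (Fin n) F} {z : F} (hx : x * x = z • 1) (hz : ¬ IsSquare z) :
    ∃ k, n = 2 * k ∧ x.charpoly = (X ^ 2 - C z) ^ k := by
  obtain ⟨k, hk⟩ := eq_pow_of_factors (charpoly_monic x) (monic_X_pow_sub_C z two_ne_zero) fun u hum hui hud =>
    eq_of_monic_of_associated hum (monic_X_pow_sub_C z two_ne_zero)
      (hui.associated_of_dvd (irreducible_sq_sub hz) (dvd_sq_sub hx hui hud))
  refine ⟨k, ?_, hk⟩
  have := congrArg natDegree hk
  rw [natDegree_pow, natDegree_X_pow_sub_C, charpoly_natDegree_eq_dim, Fintype.card_fin] at this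
  rw [this, mul_comm]

theorem charpoly_square {x : Matrix (Fin n) (Fin n) F} {a : F} (hx : x * x = (a * a) • 1) :
    ∃ k, k ≤ n ∧ x.charpoly = (X - C a) ^ k * (X - C (-a)) ^ (n - k) := by
  classical
  by_cases ha : a = -a
  · obtain ⟨k, hk⟩ := eq_pow_of_factors (charpoly_monic x) (monic_X_sub_C a) fun u hum hui hud => by
      have h := dvd_sq_sub hx hui hud
      rw [show (X ^ 2 - C (a * a) : F[X]) = (X - C a) * (X - C (-a)) by rw [C_neg, C_mul]; ring, ← ha] at h
      have h' := (hui.prime.dvd_or_dvd h).elim id id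
      exact eq_of_monic_of_associated hum (monic_X_sub_C a) (hui.associated_of_dvd (irreducible_X_sub_C a) h')
    have := congrArg natDegree hk
    rw [natDegree_pow, natDegree_X_sub_C, mul_one, charpoly_natDegree_eq_dim, Fintype.card_fin] at this
    exact ⟨n, le_rfl, by rw [hk, Nat.sub_self, pow_zero, mul_one, this]⟩
  have hne : (X - C a : F[X]) ≠ X - C (-a) := fun e => ha (C_injective (sub_right_injective e))
  have hprod : x.charpoly = (normalizedFactors x.charpoly).prod := (LBRootPoly.prod_of_monic (charpoly_monic x)).symm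
  have hmem : ∀ u ∈ normalizedFactors x.charpoly, u = X - C a ∨ u = X - C (-a) := fun u hu => by
    have hui := irreducible_of_normalized_factor u hu
    have h := dvd_sq_sub hx hui (dvd_of_mem_normalizedFactors hu)
    rw [show (X ^ 2 - C (a * a) : F[X]) = (X - C a) * (X - C (-a)) by rw [C_neg, C_mul]; ring] at h
    rcases hui.prime.dvd_or_dvd h with h | h
    · exact Or.inl (eq_of_monic_of_associated (LBRootPoly.monic_of_mem hu) (monic_X_sub_C _)
        (hui.associated_of_dvd (irreducible_X_sub_C _) h))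
    · exact Or.inr (eq_of_monic_of_associated (LBRootPoly.monic_of_mem hu) (monic_X_sub_C _)
        (hui.associated_of_dvd (irreducible_X_sub_C _) h))
  obtain ⟨k, hk⟩ : ∃ k, k = (normalizedFactors x.charpoly).count (X - C a) := ⟨_, rfl⟩
  obtain ⟨l, hl⟩ : ∃ l, l = (normalizedFactors x.charpoly).count (X - C (-a)) := ⟨_, rfl⟩
  have hs : normalizedFactors x.charpoly = Multiset.replicate k (X - C a) + Multiset.replicate l (X - C (-a)) := by
    ext u
    rw [Multiset.count_add, Multiset.count_replicate, Multiset.count_replicate]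
    by_cases h1 : u = X - C a
    · subst h1; rw [if_pos rfl, if_neg (Ne.symm hne), add_zero, hk]
    · by_cases h2 : u = X - C (-a)
      · subst h2; rw [if_neg hne, if_pos rfl, zero_add, hl]
      · rw [if_neg (Ne.symm h1), if_neg (Ne.symm h2), Multiset.count_eq_zero.2 fun h => (hmem u h).elim h1 h2]
  rw [hs, Multiset.prod_add, Multiset.prod_replicate, Multiset.prod_replicate] at hprod
  have := congrArg natDegree hprod
  rw [natDegree_mul (pow_ne_zero _ (X_sub_C_ne_zero _)) (pow_ne_zero _ (X_sub_C_ne_zero _)), natDegree_pow, natDegree_pow,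
    natDegree_X_sub_C, natDegree_X_sub_C, charpoly_natDegree_eq_dim, Fintype.card_fin] at this
  exact ⟨k, by omega, by rw [hprod, show n - k = l by omega]⟩

/-- With odd characteristic, matrices squaring to a non-zero scalar are semisimple. -/
theorem semisimple_of_sq [Fintype F] (p : ℕ) [Fact p.Prime] [CharP F p] (hp : p ≠ 2) {x : Matrix (Fin n) (Fin n) F} {z : F}
    (hz : z ≠ 0) (hx : x * x = z • 1) : Module.End.IsSemisimple (Matrix.toLin' x) := by
  have hq : 0 < Fintype.card F - 1 := Nat.sub_pos_of_lt Fintype.one_lt_card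
  refine SemisimpleCl.isSemisimple_of_pow p (m := 2 * (Fintype.card F - 1)) ?_ ?_
  · rw [pow_mul, pow_two, hx, _root_.smul_pow, one_pow, FiniteField.pow_card_sub_one_eq_one z hz, one_smul]
  · have hpp : p.Prime := Fact.out
    refine Nat.Coprime.mul_left ((Nat.coprime_primes Nat.prime_two hpp).2 hp.symm) ?_
    obtain ⟨e, -, he⟩ := FiniteField.card F p
    refine (hpp.coprime_iff_not_dvd.2 fun h => ?_).symm
    have h2 : p ∣ Fintype.card F := he ▸ dvd_pow_self p e.ne_zero
    have := Nat.dvd_sub h2 h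
    rw [show Fintype.card F - (Fintype.card F - 1) = 1 by omega] at this
    exact hpp.ne_one (Nat.dvd_one.1 this)

theorem det_eq_of_charpoly {x y : Matrix (Fin n) (Fin n) F} (h : x.charpoly = y.charpoly) : x.det = y.det := by
  rw [det_eq_sign_charpoly_coeff, det_eq_sign_charpoly_coeff, h]

/-- A conjugating matrix can be given determinant one when the centraliser has every determinant. -/
theorem sl_conj {x h : Matrix (Fin n) (Fin n) F} (g : GL (Fin n) F) (hg : g.1 * x = h * g.1)
    (hy : ∀ t : F, t ≠ 0 → ∃ y : Matrix (Fin n) (Fin n) F, y * x = x * y ∧ y.det = t) :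
    ∃ P : Matrix.SpecialLinearGroup (Fin n) F, (P⁻¹).1 * x * P.1 = h := by
  obtain ⟨y, hyx, hyd⟩ := hy (g.1.det)⁻¹ (inv_ne_zero (GeneralLinearGroup.det g).ne_zero)
  obtain ⟨A, hA⟩ : ∃ A : Matrix.SpecialLinearGroup (Fin n) F, A.1 = g.1 * y := ⟨⟨g.1 * y, by
    rw [det_mul, hyd]; exact mul_inv_cancel₀ (GeneralLinearGroup.det g).ne_zero⟩, rfl⟩
  refine ⟨A⁻¹, ?_⟩
  rw [inv_inv]
  have e : A.1 * x = h * A.1 := by
    rw [hA, Matrix.mul_assoc, hyx, ← Matrix.mul_assoc, hg, Matrix.mul_assoc]
  rw [e, Matrix.mul_assoc, ← Matrix.SpecialLinearGroup.coe_mul, mul_inv_cancel, Matrix.SpecialLinearGroup.coe_one, mul_one]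

/-- Semisimple matrices with equal characteristic polynomial are conjugate by SL. -/
theorem sl_conj_semisimple [Fintype F] (hn : 0 < n) {x h : Matrix (Fin n) (Fin n) F}
    (hx : Module.End.IsSemisimple (Matrix.toLin' x)) (hh : Module.End.IsSemisimple (Matrix.toLin' h))
    (hc : x.charpoly = h.charpoly) : ∃ P : Matrix.SpecialLinearGroup (Fin n) F, (P⁻¹).1 * x * P.1 = h := by
  obtain ⟨g, hg⟩ := SemisimpleCl.exists_conjugator hx hh hc
  refine sl_conj g hg fun t ht => ?_
  obtain ⟨y, hy, hyd⟩ := SemisimpleCl.exists_commute_det (Matrix.toLin' x) hx (by simp [hn]) t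
  refine ⟨LinearMap.toMatrix' y, ?_, by rw [LinearMap.det_toMatrix', hyd]⟩
  apply Matrix.toLin'.injective
  rw [Matrix.toLin'_mul, Matrix.toLin'_mul, Matrix.toLin'_toMatrix']
  exact hy

/-- Units with `a ^ n = -1`. -/
theorem exists_pow_eq_neg_one [Fintype F] (h2 : (2 : F) ≠ 0) {m : ℕ} (hm : m ≠ 0)
    (h : padicValNat 2 m < padicValNat 2 (Fintype.card F - 1)) : ∃ a : F, a ^ m = -1 := by
  obtain ⟨g, hg⟩ := IsCyclic.exists_ofOrder_eq_natCard (α := Fˣ)
  rw [Nat.card_units, Nat.card_eq_fintype_card] at hg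
  obtain ⟨u, hu⟩ : 2 ^ (padicValNat 2 m + 1) ∣ Fintype.card F - 1 :=
    (pow_dvd_pow 2 h).trans pow_padicValNat_dvd
  obtain ⟨v, hv⟩ : 2 ^ padicValNat 2 m ∣ m := pow_padicValNat_dvd
  have hvodd : Odd v := by
    rw [← Nat.not_even_iff_odd]
    rintro ⟨w, hw⟩
    have : 2 ^ (padicValNat 2 m + 1) ∣ m := ⟨w, hv.trans (by rw [hw]; ring)⟩
    exact pow_succ_padicValNat_not_dvd hm this
  have hq1 : 0 < Fintype.card F - 1 := Nat.sub_pos_of_lt Fintype.one_lt_card
  have hw : (g : F) ^ (2 ^ padicValNat 2 m * u) = -1 := by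
    have hsq : ((g : F) ^ (2 ^ padicValNat 2 m * u)) ^ 2 = 1 := by
      rw [← pow_mul, show 2 ^ padicValNat 2 m * u * 2 = Fintype.card F - 1 by rw [hu, pow_succ]; ring,
        FiniteField.pow_card_sub_one_eq_one _ g.ne_zero]
    refine (sq_eq_one_iff.1 hsq).resolve_left fun e => ?_
    have : orderOf g ∣ 2 ^ padicValNat 2 m * u :=
      orderOf_dvd_of_pow_eq_one (Units.ext (by rw [Units.val_pow_eq_pow_val, e, Units.val_one]))
    rw [hg] at this
    have hle := Nat.le_of_dvd (Nat.pos_of_ne_zero fun e0 => by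
      rw [hu, pow_succ, mul_right_comm, e0, zero_mul] at hq1; exact lt_irrefl _ hq1) this
    rw [hu, pow_succ, mul_right_comm] at hle
    have : 0 < 2 ^ padicValNat 2 m * u := by
      rw [hu, pow_succ, mul_right_comm] at hq1; exact Nat.pos_of_mul_pos_right hq1
    omega
  refine ⟨(g : F) ^ u, ?_⟩
  rw [← pow_mul, hv, show u * (2 ^ padicValNat 2 m * v) = 2 ^ padicValNat 2 m * u * v by ring, pow_mul, hw, hvodd.neg_one_pow]

theorem pow_ne_neg_one [Fintype F] (h2 : (2 : F) ≠ 0) {m : ℕ} (hm : m ≠ 0)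
    (h : padicValNat 2 (Fintype.card F - 1) ≤ padicValNat 2 m) (a : F) : a ^ m ≠ -1 := by
  intro ha
  have ha0 : a ≠ 0 := fun e => by
    rw [e, zero_pow hm] at ha
    exact one_ne_zero (neg_eq_zero.1 ha.symm)
  obtain ⟨u, hu⟩ : 2 ^ padicValNat 2 (Fintype.card F - 1) ∣ Fintype.card F - 1 := pow_padicValNat_dvd
  obtain ⟨v, hv⟩ : 2 ^ padicValNat 2 (Fintype.card F - 1) ∣ m := (pow_dvd_pow 2 h).trans pow_padicValNat_dvd
  have huodd : Odd u := by
    rw [← Nat.not_even_iff_odd]
    rintro ⟨w, hw⟩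
    have : 2 ^ (padicValNat 2 (Fintype.card F - 1) + 1) ∣ Fintype.card F - 1 :=
      ⟨w, hu.trans (by rw [hw]; ring)⟩
    exact pow_succ_padicValNat_not_dvd (Nat.sub_pos_of_lt Fintype.one_lt_card).ne' this
  have h1 : a ^ (m * u) = 1 := by
    rw [hv, show 2 ^ padicValNat 2 (Fintype.card F - 1) * v * u = 2 ^ padicValNat 2 (Fintype.card F - 1) * u * v by ring,
      ← hu, pow_mul, FiniteField.pow_card_sub_one_eq_one a ha0, one_pow]
  rw [pow_mul, ha, huodd.neg_one_pow] at h1
  exact h2 (by linear_combination -h1)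

end Cfsg.Agent.LBInvCl
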