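/-
A matrix similar to its conjugate-inverse-transpose over a finite field is similar to a unitary matrix.
-/
import Cfsg.Agent.Lib.Classical.HermStd

set_option autoImplicit false
set_option linter.style.haveILetI false

namespace Cfsg.Agent.LBUnitary

open Matrix Hermitian Module

/-- Hilbert 90 for an involution of a finite commutative ring. -/
theorem hilbert90 {B : Type*} [CommRing B] [Finite B] (t : B →+* B) (ht : ∀ x, t (t x) = x) (S : B)
    (hS : S * t S = 1) (hres : ∀ m : Ideal B, m.IsMaximal → m.comap t = m → ∃ c, c + S * t c ∉ m) :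
    ∃ f : B, IsUnit f ∧ S * t f = f := by
  classical
  haveI : Finite (Ideal B) := Finite.of_injective (fun I : Ideal B => (I : Set B)) SetLike.coe_injective
  haveI := Fintype.ofFinite (Ideal B)
  let f : B → B := fun c => c + S * t c
  have hf : ∀ c, S * t (f c) = f c := fun c => by
    simp only [f, map_add, map_mul, ht]
    linear_combination c * hS
  have hadd : ∀ c d, f (c + d) = f c + f d := fun c d => by simp only [f, map_add]; ring
  have havoid : ∀ (m : Ideal B), m.IsMaximal → ∀ s : Finset (Ideal B), (∀ J ∈ s, J.IsMaximal ∧ J ≠ m) →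
      ∃ e, e ∉ m ∧ ∀ J ∈ s, e ∈ J := by
    intro m hm s
    induction s using Finset.induction with
    | empty => exact fun _ => ⟨1, fun h => hm.ne_top ((Ideal.eq_top_iff_one _).2 h), fun J hJ => absurd hJ (Finset.notMem_empty J)⟩
    | insert J s _ ih =>
      intro h
      obtain ⟨e, he, he'⟩ := ih fun J' hJ' => h J' (Finset.mem_insert_of_mem hJ')
      obtain ⟨hJ, hne⟩ := h J (Finset.mem_insert_self _ _)
      obtain ⟨a, haJ, ham⟩ : ∃ a, a ∈ J ∧ a ∉ m :=
        Set.not_subset.1 fun hle => hne (hJ.eq_of_le hm.ne_top hle)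
      refine ⟨a * e, fun h' => (hm.isPrime.mem_or_mem h').elim ham he, fun J' hJ' => ?_⟩
      rcases Finset.mem_insert.1 hJ' with rfl | hJ'
      · exact J'.mul_mem_right e haJ
      · exact J'.mul_mem_left a (he' J' hJ')
  have hcomap : ∀ m : Ideal B, (m.comap t).comap t = m := fun m => by ext x; simp [Ideal.mem_comap, ht]
  have hcmax : ∀ m : Ideal B, m.IsMaximal → (m.comap t).IsMaximal := fun m hm => by
    haveI := hm
    exact Ideal.comap_isMaximal_of_surjective t (fun x => ⟨t x, ht x⟩)
  suffices h : ∀ s : Finset (Ideal B), (∀ m ∈ s, m.IsMaximal) → ∃ c, ∀ m ∈ s, f c ∉ m by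
    obtain ⟨c, hc⟩ := h (Finset.univ.filter fun m => m.IsMaximal) fun m hm => (Finset.mem_filter.1 hm).2
    refine ⟨f c, ?_, hf c⟩
    by_contra hu
    obtain ⟨m, hm, hmem⟩ := exists_max_ideal_of_mem_nonunits hu
    exact hc m (Finset.mem_filter.2 ⟨Finset.mem_univ _, hm⟩) hmem
  intro s
  induction s using Finset.induction with
  | empty => exact fun _ => ⟨0, fun m hm => absurd hm (Finset.notMem_empty m)⟩
  | insert m s hms ih =>
    intro hs
    have hm := hs m (Finset.mem_insert_self _ _)
    obtain ⟨c, hc⟩ := ih fun J hJ => hs J (Finset.mem_insert_of_mem hJ)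
    by_cases hcm : f c ∈ m
    swap
    · exact ⟨c, fun J hJ => (Finset.mem_insert.1 hJ).elim (fun h => h ▸ hcm) (hc J)⟩
    have htm : m.comap t ∉ s := fun h => hc _ h (by
      rw [Ideal.mem_comap]
      have h2 : t (f c) = t S * f c := by
        conv_lhs => rw [← hf c]
        rw [map_mul, ht]
      rw [h2]; exact m.mul_mem_left _ hcm)
    let s' := s ∪ s.image fun J => J.comap t
    have hs' : ∀ J ∈ s', J.IsMaximal ∧ J ≠ m := by
      intro J hJ
      rcases Finset.mem_union.1 hJ with hJ | hJ
      · exact ⟨hs J (Finset.mem_insert_of_mem hJ), fun h => hms (h ▸ hJ)⟩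
      · obtain ⟨J₀, hJ₀, rfl⟩ := Finset.mem_image.1 hJ
        exact ⟨hcmax J₀ (hs J₀ (Finset.mem_insert_of_mem hJ₀)), fun h => htm (h ▸ (hcomap J₀).symm ▸ hJ₀)⟩
    obtain ⟨e, hem, he⟩ := havoid m hm s' hs'
    have hein : ∀ J ∈ s, e ∈ J ∧ t e ∈ J := fun J hJ => ⟨he J (Finset.mem_union_left _ hJ),
      Ideal.mem_comap.1 (he _ (Finset.mem_union_right _ (Finset.mem_image_of_mem _ hJ)))⟩
    obtain ⟨d, hdm, hds⟩ : ∃ d, f d ∉ m ∧ ∀ J ∈ s, f d ∈ J := by
      by_cases hfix : m.comap t = m
      · obtain ⟨c₀, hc₀⟩ := hres m hm hfix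
        refine ⟨e * t e * c₀, ?_, fun J hJ => ?_⟩
        · have h1 : f (e * t e * c₀) = e * t e * (c₀ + S * t c₀) := by simp only [f, map_mul, ht]; ring
          rw [h1]
          exact fun h' => (hm.isPrime.mem_or_mem h').elim
            (fun h'' => (hm.isPrime.mem_or_mem h'').elim hem fun h3 => hem (hfix ▸ Ideal.mem_comap.2 h3)) hc₀
        · exact J.add_mem (J.mul_mem_right _ (J.mul_mem_right _ (hein J hJ).1))
            (J.mul_mem_left _ (by rw [map_mul, map_mul, ht]; exact J.mul_mem_right _ (J.mul_mem_left _ (hein J hJ).1)))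
      · obtain ⟨g, hg, hgm⟩ : ∃ g, g ∈ m.comap t ∧ g ∉ m :=
          Set.not_subset.1 fun hle => hfix ((hcmax m hm).eq_of_le hm.ne_top hle)
        refine ⟨e * g, fun h' => ?_, fun J hJ => J.add_mem (J.mul_mem_right _ (hein J hJ).1)
          (J.mul_mem_left _ (by rw [map_mul]; exact J.mul_mem_right _ (hein J hJ).2))⟩
        have h1 : S * t (e * g) ∈ m := m.mul_mem_left _ (by rw [map_mul]; exact m.mul_mem_left _ (Ideal.mem_comap.1 hg))
        exact (hm.isPrime.mem_or_mem ((Submodule.add_mem_iff_left _ h1).1 h')).elim hem hgm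
    refine ⟨c + d, fun J hJ h' => ?_⟩
    rw [hadd] at h'
    rcases Finset.mem_insert.1 hJ with rfl | hJ
    · exact hdm ((Submodule.add_mem_iff_right _ hcm).1 h')
    · exact hc J hJ ((Submodule.add_mem_iff_left _ (hds J hJ)).1 h')

variable {K : Type*} [Field K] {σ : K →+* K} {ι : Type} [Fintype ι] [DecidableEq ι]

/-- Conjugate transpose for `σ`. -/
def star' (σ : K →+* K) (M : Matrix ι ι K) : Matrix ι ι K := (M.map σ).transpose

theorem star_mul' (M N : Matrix ι ι K) : star' σ (M * N) = star' σ N * star' σ M := by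
  simp [star', Matrix.map_mul, Matrix.transpose_mul]

theorem star_add' (M N : Matrix ι ι K) : star' σ (M + N) = star' σ M + star' σ N := by
  rw [star', Matrix.map_add _ (map_add σ)]; rfl

theorem star_one' : star' σ (1 : Matrix ι ι K) = 1 := by simp [star']

theorem star_smul' (c : K) (M : Matrix ι ι K) : star' σ (c • M) = σ c • star' σ M := by
  ext i j; simp [star']

theorem star_star' (hinv : ∀ a, σ (σ a) = a) (M : Matrix ι ι K) : star' σ (star' σ M) = M := by
  ext i j; simp [star', hinv]

theorem star_algebraMap (c : K) :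
    star' σ (algebraMap K (Matrix ι ι K) c) = algebraMap K (Matrix ι ι K) (σ c) := by
  rw [Algebra.algebraMap_eq_smul_one, Algebra.algebraMap_eq_smul_one, star_smul', star_one']

theorem det_star' (M : Matrix ι ι K) : (star' σ M).det = σ M.det := by
  rw [star', Matrix.det_transpose]
  exact (σ.map_det M).symm

/-- An invariant form can be made Hermitian. -/
theorem exists_hermitian [Finite K] (hne : σ ≠ RingHom.id K) (hinv : ∀ a, σ (σ a) = a) {A P : Matrix ι ι K}
    (hA : A.det ≠ 0) (hP : P.det ≠ 0) (h : star' σ A * P * A = P) :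
    ∃ H : Matrix ι ι K, H.det ≠ 0 ∧ star' σ H = H ∧ star' σ A * H * A = H := by
  classical
  have hPu : IsUnit P.det := hP.isUnit
  have hP' : (star' σ P).det ≠ 0 := by rw [det_star']; exact (map_ne_zero σ).2 hP
  have h' : star' σ A * star' σ P * A = star' σ P := by
    conv_rhs => rw [← h]
    rw [star_mul', star_mul', star_star' hinv, mul_assoc]
  set S := P⁻¹ * star' σ P with hSdef
  have hPS : P * S = star' σ P := by rw [hSdef, ← mul_assoc, Matrix.mul_nonsing_inv _ hPu, one_mul]
  have hSA : S * A = A * S := by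
    have e1 : star' σ A * P * (S * A) = star' σ A * P * (A * S) := by
      calc star' σ A * P * (S * A) = star' σ A * (P * S) * A := by simp only [mul_assoc]
        _ = star' σ P := by rw [hPS, h']
        _ = P * S := hPS.symm
        _ = (star' σ A * P * A) * S := by rw [h]
        _ = star' σ A * P * (A * S) := by simp only [mul_assoc]
    have hu : IsUnit (star' σ A * P) := by
      rw [Matrix.isUnit_iff_isUnit_det, Matrix.det_mul, det_star']
      exact (mul_ne_zero ((map_ne_zero σ).2 hA) hP).isUnit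
    exact hu.mul_left_cancel e1
  have hSd : S.det ≠ 0 := by
    intro h0
    apply hP'
    rw [← hPS, Matrix.det_mul, h0, mul_zero]
  let T : Matrix ι ι K → Matrix ι ι K := fun X => P⁻¹ * star' σ X * P
  have hTmul : ∀ X Y, T (X * Y) = T Y * T X := fun X Y => by
    simp only [T, star_mul']
    calc P⁻¹ * (star' σ Y * star' σ X) * P = P⁻¹ * star' σ Y * (P * P⁻¹) * star' σ X * P := by
          rw [Matrix.mul_nonsing_inv _ hPu, mul_one]; simp only [mul_assoc]
      _ = P⁻¹ * star' σ Y * P * (P⁻¹ * star' σ X * P) := by simp only [mul_assoc]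
  have hTS : S * T S = 1 := by
    have h2 : star' σ S * star' σ P = P := by rw [← star_mul', hPS, star_star' hinv]
    have h3 : T S * S = 1 := by
      simp only [T]
      calc P⁻¹ * star' σ S * P * S = P⁻¹ * (star' σ S * (P * S)) := by simp only [mul_assoc]
        _ = 1 := by rw [hPS, h2, Matrix.nonsing_inv_mul _ hPu]
    exact mul_eq_one_comm.1 h3
  let B := Algebra.adjoin K ({S} : Set (Matrix ι ι K))
  have hrep : ∀ z ∈ B, ∃ g : Polynomial K, Polynomial.aeval S g = z := fun z hz =>
    (AlgHom.mem_range _).1 ((Algebra.adjoin_singleton_eq_range_aeval K S).le hz)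
  have hcomm : ∀ a ∈ ({S} : Set (Matrix ι ι K)), ∀ b ∈ ({S} : Set (Matrix ι ι K)), a * b = b * a := by
    rintro a rfl b rfl; rfl
  letI : CommRing B := { (inferInstance : Ring B) with
    mul_comm := fun x y => Subtype.ext (by
      obtain ⟨f, hf⟩ := hrep x x.2
      obtain ⟨g, hg⟩ := hrep y y.2
      show (x : Matrix ι ι K) * y = y * x
      rw [← hf, ← hg, ← map_mul, ← map_mul, mul_comm]) }
  have hSu : IsUnit S := (Matrix.isUnit_iff_isUnit_det S).2 hSd.isUnit
  obtain ⟨u, hu⟩ := hSu
  have hTSmem : T S ∈ B := by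
    have e : T S = S ^ (orderOf u - 1) := by
      refine (u.isUnit.mul_left_cancel ?_)
      rw [hu, hTS, ← pow_succ', Nat.sub_add_cancel (orderOf_pos u)]
      rw [← hu, ← Units.val_pow_eq_pow_val, pow_orderOf_eq_one, Units.val_one]
    rw [e]
    exact B.pow_mem (Algebra.self_mem_adjoin_singleton K S) _
  have hTalg : ∀ c, T (algebraMap K _ c) = algebraMap K _ (σ c) := fun c => by
    simp only [T]
    rw [star_algebraMap, ← Algebra.commutes (σ c) P⁻¹, mul_assoc, Matrix.nonsing_inv_mul _ hPu, mul_one]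
  have hTadd : ∀ X Y, T (X + Y) = T X + T Y := fun X Y => by simp only [T, star_add', mul_add, add_mul]
  have hTB : ∀ X ∈ B, T X ∈ B := fun X hX => by
    induction hX using Algebra.adjoin_induction with
    | mem y hy => rw [Set.mem_singleton_iff.1 hy]; exact hTSmem
    | algebraMap c => rw [hTalg]; exact B.algebraMap_mem _
    | add y z _ _ hy hz => rw [hTadd]; exact B.add_mem hy hz
    | mul y z _ _ hy hz => rw [hTmul]; exact B.mul_mem hz hy
  have hT1 : T 1 = 1 := by simp only [T, star_one', mul_one]; exact Matrix.nonsing_inv_mul _ hPu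
  have hT0 : T 0 = 0 := by
    have := hTadd 0 0
    rwa [add_zero, left_eq_add] at this
  let t : B →+* B :=
    { toFun := fun x => ⟨T x, hTB x x.2⟩
      map_one' := Subtype.ext hT1
      map_mul' := fun x y => by
        rw [mul_comm (⟨T x, hTB x x.2⟩ : B)]
        exact Subtype.ext (hTmul x y)
      map_zero' := Subtype.ext hT0
      map_add' := fun x y => Subtype.ext (hTadd x y) }
  have htt : ∀ x, t (t x) = x := fun x => by
    refine Subtype.ext ?_
    show P⁻¹ * star' σ (P⁻¹ * star' σ (x : Matrix ι ι K) * P) * P = x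
    rw [star_mul', star_mul', star_star' hinv]
    have hx : S * (x : Matrix ι ι K) = (x : Matrix ι ι K) * S := by
      obtain ⟨f, hf⟩ := hrep x x.2
      rw [← hf]
      simpa using congrArg (Polynomial.aeval S) (mul_comm (Polynomial.X : Polynomial K) f)
    have h2 : star' σ P⁻¹ * P = T S := by
      have e2 : star' σ P * star' σ P⁻¹ = 1 := by rw [← star_mul', Matrix.nonsing_inv_mul _ hPu, star_one']
      have e3 : P * (S * (star' σ P⁻¹ * P)) = P * (S * T S) := by
        rw [hTS, mul_one, ← mul_assoc, hPS, ← mul_assoc, e2, one_mul]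
      exact ((show IsUnit S from hu ▸ u.isUnit).mul_left_cancel (((Matrix.isUnit_iff_isUnit_det P).2 hPu).mul_left_cancel e3))
    calc P⁻¹ * (star' σ P * ((x : Matrix ι ι K) * star' σ P⁻¹)) * P = (P⁻¹ * star' σ P) * x * (star' σ P⁻¹ * P) := by
          simp only [mul_assoc]
      _ = x * (S * T S) := by rw [← hSdef, h2, hx, mul_assoc]
      _ = x := by rw [hTS, mul_one]
  let Sb : B := ⟨S, Algebra.self_mem_adjoin_singleton K S⟩
  obtain ⟨ξ, hξ⟩ : ∃ ξ, σ ξ ≠ ξ := by
    by_contra! hall
    exact hne (RingHom.ext hall)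
  obtain ⟨f, hfu, hf⟩ := hilbert90 t htt Sb (Subtype.ext hTS) (fun m hm _ => by
    by_contra! hall
    have h1 := hall (algebraMap K B ξ)
    have h2 := hall 1
    rw [map_one, mul_one] at h2
    rw [show t (algebraMap K B ξ) = algebraMap K B (σ ξ) from Subtype.ext (hTalg ξ)] at h1
    have h3 := m.sub_mem h1 (m.mul_mem_left (algebraMap K B (σ ξ)) h2)
    rw [show algebraMap K B ξ + Sb * algebraMap K B (σ ξ) - algebraMap K B (σ ξ) * (1 + Sb)
      = algebraMap K B (ξ - σ ξ) by rw [map_sub]; ring] at h3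
    exact hm.ne_top (Ideal.eq_top_of_isUnit_mem _ h3 ((sub_ne_zero.2 hξ.symm).isUnit.map _)))
  have hfv : S * (P⁻¹ * star' σ (f : Matrix ι ι K) * P) = f := congrArg Subtype.val hf
  have hPf : star' σ (f : Matrix ι ι K) * P = P * T f := by
    simp only [T, ← mul_assoc]; rw [Matrix.mul_nonsing_inv _ hPu, one_mul]
  refine ⟨P * f, ?_, ?_, ?_⟩
  · rw [Matrix.det_mul]
    refine mul_ne_zero hP ?_
    exact ((Matrix.isUnit_iff_isUnit_det _).1 (hfu.map B.val)).ne_zero
  · rw [star_mul', ← hPS, ← mul_assoc, hPf, mul_assoc]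
    congr 1
    have hTf : T f ∈ B := hTB f f.2
    have hc : T f * S = S * T f := congrArg Subtype.val (mul_comm (⟨T f, hTf⟩ : B) Sb)
    rw [hc]; exact hfv
  · have hfA : (f : Matrix ι ι K) * A = A * f := by
      obtain ⟨g, hg⟩ := hrep f f.2
      rw [← hg]
      exact Algebra.commute_of_mem_adjoin_singleton_of_commute
        (Polynomial.aeval_mem_adjoin_singleton K S) (show Commute A S from hSA.symm) |>.symm
    calc star' σ A * (P * f) * A = star' σ A * P * (f * A) := by simp only [mul_assoc]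
      _ = (star' σ A * P * A) * f := by rw [hfA]; simp only [mul_assoc]
      _ = P * f := by rw [h]

theorem herm_dot {n q : ℕ} (hσ : ∀ x : K, σ x = x ^ q) (u v : Fin n → K) :
    Cfsg.hermForm n K q u v = u ⬝ᵥ (σ ∘ v) := by simp [Cfsg.hermForm, dotProduct, hσ]

theorem herm_mulVec {n q : ℕ} (hσ : ∀ x : K, σ x = x ^ q) (B : Matrix (Fin n) (Fin n) K) (u v : Fin n → K) :
    Cfsg.hermForm n K q (B *ᵥ u) (B *ᵥ v) = u ⬝ᵥ ((B.transpose * B.map σ) *ᵥ (σ ∘ v)) := by
  rw [herm_dot hσ, show σ ∘ (B *ᵥ v) = B.map σ *ᵥ (σ ∘ v) from funext fun i => RingHom.map_mulVec σ B v i,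
    ← Matrix.mulVec_mulVec, Matrix.dotProduct_mulVec u B.transpose, Matrix.vecMul_transpose]

/-- A Hermitian matrix is `C* C`. -/
theorem exists_sqrt [Finite K] (hne : σ ≠ RingHom.id K) (hinv : ∀ a, σ (σ a) = a) {n : ℕ}
    {H : Matrix (Fin n) (Fin n) K} (hd : H.det ≠ 0) (hH : star' σ H = H) :
    ∃ C : GL (Fin n) K, star' σ (C : Matrix (Fin n) (Fin n) K) * (C : Matrix (Fin n) (Fin n) K) = H := by
  classical
  let h : (Fin n → K) → (Fin n → K) → K := fun x y => (σ ∘ y) ⬝ᵥ (H *ᵥ x)
  have hh : IsHerm σ h := by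
    refine ⟨hne, hinv, fun x y v => ?_, fun c x v => ?_, fun v w => ?_, fun v hv => ?_⟩
    · simp [h, Matrix.mulVec_add, dotProduct_add]
    · simp [h, Matrix.mulVec_smul, dotProduct_smul]
    · simp only [h]
      rw [RingHom.map_dotProduct, show σ ∘ (σ ∘ w) = w from funext fun i => hinv _,
        show σ ∘ (H *ᵥ v) = H.map σ *ᵥ (σ ∘ v) from funext fun i => RingHom.map_mulVec σ H v i,
        Matrix.dotProduct_mulVec w (H.map σ), show Matrix.vecMul w (H.map σ) = (H.map σ).transpose *ᵥ w from
          (Matrix.mulVec_transpose _ _).symm, show (H.map σ).transpose = H from hH, dotProduct_comm]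
    · refine Matrix.eq_zero_of_mulVec_eq_zero hd (funext fun i => ?_)
      have := hv (Pi.single i 1)
      simpa [h, dotProduct, Pi.single_apply, apply_ite σ] using this
  obtain ⟨b, hb⟩ := exists_orthonormal hh (n := n) (by simp)
  let M : Matrix (Fin n) (Fin n) K := Matrix.of fun i j => b j i
  have hM : star' σ M * H * M = 1 := by
    ext i j
    have h1 : (star' σ M * H * M) i j = h (b j) (b i) := by
      simp only [h, dotProduct, Matrix.mul_apply, Matrix.mulVec, star', Matrix.transpose_apply, Matrix.map_apply,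
        Function.comp_apply, M, Matrix.of_apply, Finset.mul_sum, Finset.sum_mul]
      rw [Finset.sum_comm]
      exact Finset.sum_congr rfl fun a _ => Finset.sum_congr rfl fun c _ => by ring
    rw [h1, hb, Matrix.one_apply]; simp only [eq_comm]
  have hMd : M.det ≠ 0 := fun h0 => by
    have := congrArg Matrix.det hM
    rw [Matrix.det_mul, h0, mul_zero, Matrix.det_one] at this
    exact zero_ne_one this
  let C := (Matrix.GeneralLinearGroup.mkOfDetNeZero M hMd)⁻¹
  refine ⟨C, ?_⟩
  have h2 : (C : Matrix (Fin n) (Fin n) K) = M⁻¹ := by simp [C, Matrix.coe_units_inv]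
  have hMu : IsUnit M.det := hMd.isUnit
  calc star' σ (C : Matrix (Fin n) (Fin n) K) * (C : Matrix (Fin n) (Fin n) K)
      = star' σ M⁻¹ * (star' σ M * H * M) * M⁻¹ := by rw [hM, mul_one, h2]
    _ = (star' σ M⁻¹ * star' σ M) * H * (M * M⁻¹) := by simp only [mul_assoc]
    _ = H := by rw [← star_mul', Matrix.mul_nonsing_inv _ hMu, star_one', one_mul, mul_one]

theorem mem_GU {n q : ℕ} (hσ : ∀ x : K, σ x = x ^ q) (hinv : ∀ a, σ (σ a) = a) (B : GL (Fin n) K) :
    B ∈ Cfsg.GU n K q ↔ star' σ (B : Matrix (Fin n) (Fin n) K) * (B : Matrix (Fin n) (Fin n) K) = 1 := by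
  classical
  set M := (B : Matrix (Fin n) (Fin n) K) with hM
  have key : M.transpose * M.map σ = 1 ↔ star' σ M * M = 1 := by
    constructor
    · intro h
      have := congrArg Matrix.transpose h
      rwa [Matrix.transpose_mul, Matrix.transpose_transpose, Matrix.transpose_one] at this
    · intro h
      have := congrArg Matrix.transpose h
      rwa [Matrix.transpose_mul, star', Matrix.transpose_transpose, Matrix.transpose_one] at this
  rw [← key]
  refine ⟨fun h => ?_, fun h u v => ?_⟩
  · ext i j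
    have h1 := h (Pi.single i 1) (Pi.single j 1)
    change Cfsg.hermForm n K q (M *ᵥ Pi.single i 1) (M *ᵥ Pi.single j 1) = _ at h1
    rw [herm_mulVec hσ, herm_dot hσ, show σ ∘ (Pi.single j (1 : K) : Fin n → K) = Pi.single j 1 from
      funext fun k => by simp [Pi.single_apply, apply_ite σ], single_dotProduct, single_dotProduct, one_mul, one_mul,
      Matrix.mulVec_single_one] at h1
    rw [Matrix.one_apply]
    simpa [Pi.single_apply] using h1
  · show Cfsg.hermForm n K q (M *ᵥ u) (M *ᵥ v) = _
    rw [herm_mulVec hσ, h, Matrix.one_mulVec, herm_dot hσ]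

end Cfsg.Agent.LBUnitary
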