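/-
Elements of odd prime order of Sp_2d(q) outside the subgroups of type GU_d(q).
-/
import Cfsg.Agent.Lib.LinearBlock.GUSpK
import Cfsg.Agent.Lib.LinearBlock.EvenRootClasses
import Cfsg.Agent.Lib.LinearBlock.InvolutionClasses
import Cfsg.Agent.Lib.LinearBlock.SpOrthChar2
import Cfsg.Agent.Lib.Classical.SympCharpoly
import Cfsg.Agent.Lib.Classical.SympClasses
import Cfsg.Agent.Lib.Classical.HermStd
import Cfsg.Agent.Lib.LinearBlock.UnitarySimilar

set_option autoImplicit false
set_option linter.all false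

namespace Cfsg.Agent.LBGUSp

open Matrix LBRegForm Polynomial LBRootPoly LBRootTwist LBEvenRoot

variable {F : Type*} [Field F] [Fintype F] {d r : ℕ}

local notation "MM" => Matrix (Fin d ⊕ Fin d) (Fin d ⊕ Fin d) F
local notation "J₀" => Matrix.J (Fin d) F

omit [Fintype F] in
/-- A skew root of a non-square cannot act on an odd-dimensional space. -/
theorem even_finrank_of_sq {V : Type*} [AddCommGroup V] [Module F V] [FiniteDimensional F V] {T : V →ₗ[F] V}
    {δ : F} (hδ : ¬ IsSquare δ) (hT : ∀ v, T (T v) = δ • v) : Even (Module.finrank F V) := by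
  by_contra ho
  rw [Nat.not_even_iff_odd] at ho
  have h := congrArg LinearMap.det (show T.comp T = δ • LinearMap.id from LinearMap.ext hT)
  rw [LinearMap.det_comp, LinearMap.det_smul, LinearMap.det_id, mul_one] at h
  obtain ⟨k, hk⟩ := ho
  rw [hk, pow_succ, pow_mul] at h
  have hδ0 : δ ≠ 0 := fun e => hδ (e ▸ IsSquare.zero)
  refine hδ ⟨LinearMap.det T / δ ^ k, ?_⟩
  field_simp
  linear_combination -h

/-- An element with a simple irreducible root-of-unity factor commutes with no skew root. -/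
theorem no_skew_commute (p : ℕ) [Fact p.Prime] [CharP F p] (hodd : Odd (Fintype.card F)) [Fact r.Prime] (hrp : r ≠ p)
    (hi : Odd (orderOf (Fintype.card F : ZMod r)) ∨ 4 ∣ orderOf (Fintype.card F : ZMod r))
    {A : Matrix (Fin d ⊕ Fin d) (Fin d ⊕ Fin d) F} (hA : A * adj J₀ A = 1) (hAr : A ^ r = 1) {g : F[X]} (hg1 : g ≠ X - C 1) (hgm : g.Monic)
    (hgi : Irreducible g) (hgd : g ∣ X ^ r - 1) (hdiv : g ∣ A.charpoly) (hsimple : ¬ g * g ∣ A.charpoly)
    {δ : F} (hδ : ¬ IsSquare δ) {ι : Matrix (Fin d ⊕ Fin d) (Fin d ⊕ Fin d) F} (hι : IsSkewRoot δ ι) :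
    ι * A ≠ A * ι := by
  classical
  intro hcomm
  have hr : r.Prime := Fact.out
  haveI : Fact (Irreducible g) := ⟨hgi⟩
  haveI : Module.Finite F (AdjoinRoot g) := hgm.finite_adjoinRoot
  obtain ⟨f, hf⟩ : ∃ f : Module.End F (Fin d ⊕ Fin d → F), f = Matrix.toLinAlgEquiv' A := ⟨_, rfl⟩
  obtain ⟨f', hf'⟩ : ∃ f : Module.End F (Fin d ⊕ Fin d → F), f = Matrix.toLinAlgEquiv' (adj J₀ A) := ⟨_, rfl⟩
  obtain ⟨T, hT⟩ : ∃ T : Module.End F (Fin d ⊕ Fin d → F), T = Matrix.toLinAlgEquiv' ι := ⟨_, rfl⟩
  have happ : ∀ M v, (Matrix.toLinAlgEquiv' M : Module.End F (Fin d ⊕ Fin d → F)) v = M *ᵥ v := fun M v =>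
    Matrix.toLinAlgEquiv'_apply M v
  have hfr : f ^ r = 1 := by rw [hf, ← map_pow, hAr, map_one]
  have hss : Module.End.IsSemisimple f := by
    refine Module.End.isSemisimple_of_squarefree_aeval_eq_zero
      (separable_X_pow_sub_C 1 (cast_ne_zero' p hr hrp) one_ne_zero).squarefree ?_
    rw [map_sub, map_pow, aeval_X, map_one, map_one, hfr, sub_self]
  have hch : f.charpoly = A.charpoly := by rw [hf]; exact Matrix.charpoly_toLin' A
  obtain ⟨W, C', hWC, e, hC, he⟩ := SemisimpleCl.exists_split f hss hgi (hch ▸ hdiv)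
  have hCinv : ∀ x ∈ C', f x ∈ C' := fun x hx => (Module.End.mem_invtSubmodule f).1 hC hx
  have hcp := SemisimpleCl.split_charpoly hWC e hCinv he
  have hev : ∀ (P : F[X]) k, aeval f P (e k : Fin d ⊕ Fin d → F) = (e (AdjoinRoot.mk g P * k) : Fin d ⊕ Fin d → F) := by
    intro P
    induction P using Polynomial.induction_on' with
    | add a b ha hb => intro k; rw [map_add, LinearMap.add_apply, ha, hb, map_add, add_mul, map_add]; rfl
    | monomial n c =>
      intro k
      rw [aeval_monomial, ← C_mul_X_pow_eq_monomial, map_mul (AdjoinRoot.mk g), map_pow (AdjoinRoot.mk g), AdjoinRoot.mk_C, AdjoinRoot.mk_X,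
        ← Algebra.smul_def, ← AdjoinRoot.algebraMap_eq, ← Algebra.smul_def, smul_mul_assoc, map_smul,
        Submodule.coe_smul, LinearMap.smul_apply]
      congr 1
      induction n generalizing k with
      | zero => simp
      | succ n ih => rw [pow_succ, Module.End.mul_apply, he, ih, pow_succ, mul_assoc]
  have hgC : ¬ g ∣ (f.restrict hCinv).charpoly := fun h => hsimple (by
    rw [← hch, hcp]
    refine mul_dvd_mul ?_ h
    have h1 := LinearMap.congr_fun (LinearMap.aeval_self_charpoly (SemisimpleCl.mulRoot g)) 1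
    have h2 : ∀ P : F[X], aeval (SemisimpleCl.mulRoot g) P = LinearMap.mulLeft F (AdjoinRoot.mk g P) := fun P => by
      rw [← AdjoinRoot.aeval_eq]
      exact (Polynomial.aeval_algHom_apply (Algebra.lmul F (AdjoinRoot g)) (AdjoinRoot.root g) P)
    rw [h2, LinearMap.mulLeft_apply, mul_one, LinearMap.zero_apply] at h1
    exact AdjoinRoot.mk_eq_zero.1 h1)
  obtain ⟨a, b, hab⟩ := (hgi.coprime_iff_not_dvd).2 hgC
  have hCg : ∀ x ∈ C', aeval f g (aeval f a x) = x ∧ (aeval f g x = 0 → x = 0) := by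
    intro x hx
    have hz : aeval f (f.restrict hCinv).charpoly x = 0 := by
      have h1 := LinearMap.congr_fun (LinearMap.aeval_self_charpoly (f.restrict hCinv)) ⟨x, hx⟩
      have h2 : ∀ (P : F[X]) (y : C'), ((aeval (f.restrict hCinv) P y : C') : Fin d ⊕ Fin d → F) = aeval f P (y : Fin d ⊕ Fin d → F) := by
        intro P
        induction P using Polynomial.induction_on' with
        | add a b ha hb => intro y; rw [map_add, map_add, LinearMap.add_apply, LinearMap.add_apply, Submodule.coe_add, ha, hb]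
        | monomial n c =>
          intro y
          rw [aeval_monomial, aeval_monomial, ← Algebra.smul_def, ← Algebra.smul_def, LinearMap.smul_apply,
            LinearMap.smul_apply, Submodule.coe_smul]
          congr 1
          induction n generalizing y with
          | zero => simp
          | succ n ih => rw [pow_succ, pow_succ, Module.End.mul_apply, Module.End.mul_apply, ih]; rfl
      rw [← h2 _ ⟨x, hx⟩, h1]; rfl
    have h3 : ∀ y, aeval f (a * g + b * (f.restrict hCinv).charpoly) y = y := fun y => by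
      rw [hab, map_one, Module.End.one_apply]
    have h4 := h3 x
    rw [map_add, map_mul, map_mul, LinearMap.add_apply, Module.End.mul_apply, Module.End.mul_apply, hz, map_zero,
      add_zero] at h4
    refine ⟨?_, fun h0 => by rw [h0, map_zero] at h4; exact h4.symm⟩
    rw [← Module.End.mul_apply, ← map_mul, mul_comm, map_mul, Module.End.mul_apply]
    exact h4
  have hker : ∀ v, aeval f g v = 0 → v ∈ W := by
    intro v hv
    obtain ⟨w, hw, x, hx, rfl⟩ := Submodule.mem_sup.1 (hWC.sup_eq_top ▸ Submodule.mem_top : v ∈ W ⊔ C')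
    obtain ⟨k, hk⟩ := e.surjective ⟨w, hw⟩
    have hw0 : aeval f g w = 0 := by
      rw [show w = (e k : Fin d ⊕ Fin d → F) by rw [hk], hev, AdjoinRoot.mk_self, zero_mul, map_zero, Submodule.coe_zero]
    rw [map_add, hw0, zero_add] at hv
    rw [(hCg x hx).2 hv, add_zero]
    exact hw
  have hTc : ∀ (P : F[X]) v, T (aeval f P v) = aeval f P (T v) := fun P v => by
    have hc : Commute T f := by
      rw [hT, hf]; exact (show Commute ι A from hcomm).map (Matrix.toLinAlgEquiv' : MM ≃ₐ[F] _)
    have : Commute T (aeval f P) := Polynomial.induction_on' P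
      (fun a b ha hb => by rw [map_add]; exact ha.add_right hb)
      fun n c => by rw [aeval_monomial]; exact (Algebra.commute_algebraMap_right _ _).mul_right (hc.pow_right _)
    exact LinearMap.congr_fun this.eq v
  obtain ⟨c, hc⟩ : ∃ c, (e c : Fin d ⊕ Fin d → F) = T (e 1 : Fin d ⊕ Fin d → F) := by
    have h1 : T (e 1 : Fin d ⊕ Fin d → F) ∈ W := hker _ (by
      rw [← hTc, hev, AdjoinRoot.mk_self, zero_mul, map_zero, Submodule.coe_zero, map_zero])
    exact ⟨e.symm ⟨_, h1⟩, by rw [LinearEquiv.apply_symm_apply]⟩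
  have hTe : ∀ k, T (e k : Fin d ⊕ Fin d → F) = (e (c * k) : Fin d ⊕ Fin d → F) := by
    intro k
    obtain ⟨P, rfl⟩ := AdjoinRoot.mk_surjective k
    rw [show (e (AdjoinRoot.mk g P) : Fin d ⊕ Fin d → F) = aeval f P (e 1 : Fin d ⊕ Fin d → F) by rw [hev, mul_one],
      hTc, ← hc, hev, mul_comm]
  have hTT : ∀ v, T (T v) = δ • v := fun v => by
    rw [hT, ← Module.End.mul_apply, ← map_mul, hι.1, map_smul, map_one]; rfl
  have hc2 : c * c = algebraMap F (AdjoinRoot g) δ := by
    refine e.injective (Subtype.ext ?_)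
    rw [Algebra.algebraMap_eq_smul_one, map_smul, Submodule.coe_smul, ← hTT, hTe, hTe, mul_one]
  have hdeg := natDegree_factor hr hgm hgi hgd hg1
  have hfin : Module.finrank F (AdjoinRoot g) = g.natDegree := by
    rw [(AdjoinRoot.powerBasis hgi.ne_zero).finrank, AdjoinRoot.powerBasis_dim]
  rcases hi with hi | hi
  · refine Nat.not_even_iff_odd.2 hi ?_
    rw [← hdeg, ← hfin]
    refine even_finrank_of_sq (T := LinearMap.mulLeft F c) hδ fun v => ?_
    rw [LinearMap.mulLeft_apply, LinearMap.mulLeft_apply, ← mul_assoc, hc2, ← Algebra.smul_def]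
  · obtain ⟨l, hl⟩ := hi
    obtain ⟨q, hq⟩ : ∃ q, q = Fintype.card F := ⟨_, rfl⟩
    rw [← hq] at hl
    have hord : 0 < orderOf (q : ZMod r) := hq ▸ hdeg ▸ hgi.natDegree_pos
    haveI : Finite (AdjoinRoot g) := Module.finite_of_finite F
    let φ : AdjoinRoot g →ₐ[F] AdjoinRoot g := FiniteField.frobeniusAlgHom F (AdjoinRoot g) ^ (2 * l)
    have hφ : ∀ x, φ x = x ^ q ^ (2 * l) := fun x => by
      simp only [φ]
      rw [AlgHom.coe_pow, FiniteField.coe_frobeniusAlgHom, pow_iterate, hq]
    have hθ : AdjoinRoot.root g ^ r = 1 := by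
      have h := AdjoinRoot.mk_eq_zero.2 hgd
      rwa [map_sub, map_pow, map_one, AdjoinRoot.mk_X, sub_eq_zero] at h
    have hQ : r ∣ q ^ (2 * l) + 1 := by
      rw [← ZMod.natCast_eq_zero_iff]
      push_cast
      have h1 : ((q : ZMod r) ^ (2 * l) - 1) * ((q : ZMod r) ^ (2 * l) + 1) = 0 := by
        have := pow_orderOf_eq_one (q : ZMod r)
        rw [hl, show 4 * l = 2 * l + 2 * l by ring, pow_add] at this
        linear_combination this
      refine (mul_eq_zero.1 h1).resolve_left fun h0 => ?_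
      have := Nat.le_of_dvd (by omega) (orderOf_dvd_of_pow_eq_one (sub_eq_zero.1 h0))
      omega
    have hcQ : φ c = c := by
      rw [hφ, pow_mul]
      have h1 : c ^ q ^ 2 = c := by
        obtain ⟨k, hk⟩ := hodd
        rw [← hq] at hk
        rw [show q ^ 2 = 2 * ((q - 1) * (k + 1)) + 1 by rw [hk]; simp only [Nat.add_sub_cancel]; ring, pow_succ,
          pow_mul, pow_two, hc2, ← map_pow, pow_mul, hq, FiniteField.pow_card_sub_one_eq_one δ (fun h => hδ (h ▸ IsSquare.zero)),
          one_pow, map_one, one_mul]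
      generalize l = j
      induction j with
      | zero => simp
      | succ j ih => rw [pow_succ, pow_mul, ih, h1]
    have hf'e : ∀ k, f' (e k : Fin d ⊕ Fin d → F) = (e (φ (AdjoinRoot.root g) * k) : Fin d ⊕ Fin d → F) := by
      intro k
      have hinv : adj J₀ A = A ^ (r - 1) := by
        calc adj J₀ A = A ^ r * adj J₀ A := by rw [hAr, one_mul]
          _ = A ^ (r - 1) := by
            conv_lhs => rw [show r = r - 1 + 1 from (Nat.sub_add_cancel hr.one_le).symm, pow_succ]
            rw [Matrix.mul_assoc, hA, mul_one]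
      rw [hf', hinv, map_pow, ← hf, show f ^ (r - 1) = aeval f ((X : F[X]) ^ (r - 1)) by rw [map_pow, aeval_X], hev,
        map_pow, AdjoinRoot.mk_X, hφ]
      obtain ⟨t, ht⟩ := hQ
      have ht0 : 0 < t := Nat.pos_of_ne_zero fun e => by rw [e, mul_zero] at ht; omega
      congr 3
      calc AdjoinRoot.root g ^ (r - 1) = AdjoinRoot.root g ^ (r - 1) * (AdjoinRoot.root g ^ r) ^ (t - 1) := by
            rw [hθ, one_pow, mul_one]
        _ = AdjoinRoot.root g ^ q ^ (2 * l) := by
            rw [← pow_mul, ← pow_add]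
            congr 1
            have h5 : r * t = r * (t - 1) + r := by
              conv_lhs => rw [← Nat.sub_add_cancel (show 1 ≤ t from ht0), mul_add, mul_one]
            have := hr.one_le
            omega
    have hev' : ∀ (P : F[X]) k, aeval f' P (e k : Fin d ⊕ Fin d → F)
        = (e (φ (AdjoinRoot.mk g P) * k) : Fin d ⊕ Fin d → F) := by
      intro P
      induction P using Polynomial.induction_on' with
      | add a b ha hb => intro k; rw [map_add, LinearMap.add_apply, ha, hb, map_add, map_add, add_mul, map_add]; rfl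
      | monomial n z =>
        intro k
        rw [aeval_monomial, ← C_mul_X_pow_eq_monomial, map_mul (AdjoinRoot.mk g), map_pow (AdjoinRoot.mk g), AdjoinRoot.mk_C, AdjoinRoot.mk_X, map_mul φ,
          ← AdjoinRoot.algebraMap_eq, AlgHom.commutes, map_pow φ, ← Algebra.smul_def, ← Algebra.smul_def, smul_mul_assoc,
          map_smul, Submodule.coe_smul, LinearMap.smul_apply]
        congr 1
        induction n generalizing k with
        | zero => simp
        | succ n ih => rw [pow_succ, Module.End.mul_apply, hf'e, ih, pow_succ, mul_assoc]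
    let B : LinearMap.BilinForm F (Fin d ⊕ Fin d → F) := ClassicalSp.spBilin d F
    have hBa : ∀ (P : F[X]) u v, B (aeval f P u) v = B u (aeval f' P v) := by
      intro P
      induction P using Polynomial.induction_on' with
      | add a b ha hb => intro u v; simp only [map_add, LinearMap.add_apply, ha, hb]
      | monomial n z =>
        intro u v
        simp only [aeval_monomial, ← Algebra.smul_def, LinearMap.smul_apply, map_smul]
        congr 1
        induction n generalizing u v with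
        | zero => simp
        | succ n ih =>
          rw [pow_succ, pow_succ', Module.End.mul_apply, Module.End.mul_apply, ih, hf, hf', happ, happ,
            ClassicalSp.spBilin_apply, ClassicalSp.spBilin_apply, form_adj]
    have hWW : ∀ a b, B (e a : Fin d ⊕ Fin d → F) (e b : Fin d ⊕ Fin d → F) = 0 := by
      intro a b
      obtain ⟨P, hP⟩ := AdjoinRoot.mk_surjective c
      have hc0 : c ≠ 0 := fun h0 => by
        rw [h0, mul_zero] at hc2
        exact hδ ⟨0, by rw [(algebraMap F (AdjoinRoot g)).injective (hc2.symm.trans (map_zero _).symm), mul_zero]⟩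
      obtain ⟨b', rfl⟩ : ∃ b', b = c * b' := ⟨c⁻¹ * b, by rw [← mul_assoc, mul_inv_cancel₀ hc0, one_mul]⟩
      have h1 := hBa P (e a : Fin d ⊕ Fin d → F) (e b' : Fin d ⊕ Fin d → F)
      rw [hev, hev', hP, hcQ] at h1
      have h2' : B (T (e a : Fin d ⊕ Fin d → F)) (e b' : Fin d ⊕ Fin d → F)
          = -B (e a : Fin d ⊕ Fin d → F) (T (e b' : Fin d ⊕ Fin d → F)) := by
        rw [hT, happ, happ, ClassicalSp.spBilin_apply, ClassicalSp.spBilin_apply, form_adj, hι.2, neg_mulVec,
          ← ClassicalSp.spBilin_apply, map_neg, ClassicalSp.spBilin_apply]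
      rw [hTe, hTe, h1] at h2'
      have h22 : (2 : F) ≠ 0 := by
        intro h0
        have hch2 : ringChar F = 2 := CharP.ringChar_of_prime_eq_zero Nat.prime_two h0
        have := FiniteField.even_card_iff_char_two.1 hch2
        rw [Nat.odd_iff] at hodd
        omega
      exact (mul_eq_zero.1 (show (2 : F) * _ = 0 by linear_combination h2')).resolve_left h22
    have hWx : ∀ v, B (e 1 : Fin d ⊕ Fin d → F) v = 0 := by
      intro v
      obtain ⟨w, hw, x, hx, rfl⟩ := Submodule.mem_sup.1 (hWC.sup_eq_top ▸ Submodule.mem_top : v ∈ W ⊔ C')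
      obtain ⟨k, hk⟩ := e.surjective ⟨w, hw⟩
      rw [map_add, show w = (e k : Fin d ⊕ Fin d → F) by rw [hk], hWW, zero_add]
      rw [← (hCg x hx).1, ← (ClassicalSp.spBilin_isAlt (m := d) (F := F)).neg_eq]
      rw [hBa, hev', AdjoinRoot.mk_self, map_zero, zero_mul, map_zero, Submodule.coe_zero, map_zero, neg_zero]
    have h0 : e 1 = 0 := Subtype.ext ((ClassicalSp.spBilin_nondeg).1 _ hWx)
    exact one_ne_zero ((LinearEquiv.map_eq_zero_iff e).1 h0)

/-- A witness of order `r ≠ p`. -/
theorem exists_witness (p : ℕ) [Fact p.Prime] [CharP F p] (hodd : Odd (Fintype.card F)) [Fact r.Prime] (hr2 : r ≠ 2)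
    (hrp : r ≠ p) (hi : (Odd (orderOf (Fintype.card F : ZMod r)) ∧ orderOf (Fintype.card F : ZMod r) ≤ d) ∨
      (4 ∣ orderOf (Fintype.card F : ZMod r) ∧ orderOf (Fintype.card F : ZMod r) ≤ 2 * d)) :
    ∃ A : Matrix (Fin d ⊕ Fin d) (Fin d ⊕ Fin d) F, A * adj J₀ A = 1 ∧ A ^ r = 1 ∧
      ∀ (δ : F), ¬ IsSquare δ → ∀ ι, IsSkewRoot δ ι → ι * A ≠ A * ι := by
  classical
  have hr : r.Prime := Fact.out
  have hp : p.Prime := Fact.out
  obtain ⟨g, hg⟩ : (factors F r).Nonempty := by
    rw [← Finset.card_pos]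
    refine Nat.pos_of_ne_zero fun e => ?_
    have hcard := card_factors (F := F) p hr hrp
    rw [e, zero_mul] at hcard
    have := hr.two_le; omega
  obtain ⟨hg1, hgm, hgi, hgd⟩ := (mem_factors hr.ne_zero).1 hg
  have hgdeg := natDegree_factor hr hgm hgi hgd hg1
  have hg0 := factor_coeff_zero hr.ne_zero hgd
  obtain ⟨hn1, hnm, hni, hnd⟩ := (mem_factors hr.ne_zero).1 (rc_mem_factors (RingHom.id F) hid hr hg)
  have hndeg := natDegree_factor hr hnm hni hnd hn1
  obtain ⟨i, hid'⟩ : ∃ i, i = orderOf (Fintype.card F : ZMod r) := ⟨_, rfl⟩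
  rw [← hid'] at hi hgdeg hndeg
  have hX1 : ∀ u : F[X], u.Monic → Irreducible u → ∀ k, u ∣ (X - C 1 : F[X]) ^ k → u = X - C 1 := fun u hu hui k h =>
    eq_of_monic_of_associated hu (monic_X_sub_C 1) (hui.associated_of_dvd (irreducible_X_sub_C 1) (hui.prime.dvd_of_dvd_pow h))
  have hXr : (X - C 1 : F[X]) ∣ X ^ r - 1 := by
    rw [dvd_iff_isRoot]; simp
  obtain ⟨h, hh, hdeg, hrc, hnot, h0⟩ : ∃ h : F[X], Good r (g * h) ∧ (g * h).natDegree = 2 * d ∧
      rc (RingHom.id F) (g * h) = g * h ∧ ¬ g ∣ h ∧ (g * h).coeff 0 = 1 := by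
    rcases hi with ⟨hodd', hle⟩ | ⟨h4, hle⟩
    · have hne : rc (RingHom.id F) g ≠ g := fun e => Nat.not_even_iff_odd.2 hodd' (hid' ▸ (rc_self_iff' p hr hr2 hrp hg).1 e)
      refine ⟨rc (RingHom.id F) g * (X - C 1) ^ (2 * d - 2 * i), ⟨hgm.mul (hnm.mul ((monic_X_sub_C 1).pow _)),
        fun u hum hui hud => ?_⟩, ?_, ?_, ?_, ?_⟩
      · rcases hui.prime.dvd_or_dvd hud with e | e
        · exact e.trans hgd
        rcases hui.prime.dvd_or_dvd e with e | e
        · exact e.trans hnd
        · exact (hX1 u hum hui _ e) ▸ hXr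
      · rw [hgm.natDegree_mul (hnm.mul ((monic_X_sub_C 1).pow _)), hnm.natDegree_mul ((monic_X_sub_C 1).pow _),
          natDegree_pow, natDegree_X_sub_C, hgdeg, hndeg]
        omega
      · rw [rc_mul, rc_mul, rc_pow, rc_X_sub_one, rc_rc _ hid hgm hg0]
        ring
      · intro e
        rcases hgi.prime.dvd_or_dvd e with e | e
        · exact hne (eq_of_monic_of_associated hgm hnm (hgi.associated_of_dvd hni e)).symm
        · exact hg1 (hX1 g hgm hgi _ e)
      · have hc : (rc (RingHom.id F) g).coeff 0 = (g.coeff 0)⁻¹ := by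
          rw [rc_coeff _ _ (Nat.zero_le _), Nat.sub_zero, hgm.coeff_natDegree]; simp
        rw [mul_coeff_zero, mul_coeff_zero, hc, coeff_zero_eq_eval_zero ((X - C 1 : F[X]) ^ _), eval_pow, eval_sub,
          eval_X, eval_C, zero_sub, Even.neg_one_pow ⟨d - i, by omega⟩, mul_one, mul_inv_cancel₀ hg0]
    · have hev : Even i := by obtain ⟨c, hc⟩ := h4; exact ⟨2 * c, by omega⟩
      have hself := (rc_self_iff' p hr hr2 hrp hg).2 (hid' ▸ hev)
      refine ⟨(X - C 1) ^ (2 * d - i), ⟨hgm.mul ((monic_X_sub_C 1).pow _), fun u hum hui hud => ?_⟩, ?_, ?_, ?_, ?_⟩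
      · rcases hui.prime.dvd_or_dvd hud with e | e
        · exact e.trans hgd
        · exact (hX1 u hum hui _ e) ▸ hXr
      · rw [hgm.natDegree_mul ((monic_X_sub_C 1).pow _), natDegree_pow, natDegree_X_sub_C, hgdeg]
        omega
      · rw [rc_mul, rc_pow, rc_X_sub_one, hself]
      · exact fun e => hg1 (hX1 g hgm hgi _ e)
      · rw [mul_coeff_zero, coeff_zero_eq_eval_zero ((X - C 1 : F[X]) ^ _), eval_pow, eval_sub, eval_X, eval_C,
          zero_sub, Even.neg_one_pow (by obtain ⟨c, hc⟩ := hev; exact ⟨d - c, by omega⟩), mul_one]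
        have hsy := (rc_fix_iff _ hid hgm hg0 rfl).1 hself
        have e2 := hsy 0 (Nat.zero_le _)
        rw [Nat.sub_zero, hgm.coeff_natDegree, RingHom.id_apply] at e2
        rcases mul_self_eq_one_iff.1 e2.symm with h1 | h1
        · exact h1
        exfalso
        have h22 : (2 : F) ≠ 0 := fun h0 => by
          have := FiniteField.even_card_iff_char_two.1 (CharP.ringChar_of_prime_eq_zero Nat.prime_two h0)
          rw [Nat.odd_iff] at hodd
          omega
        have hs : g.eval 1 = ∑ j ∈ Finset.range (g.natDegree + 1), g.coeff j := by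
          rw [eval_eq_sum_range]; simp
        have h2 : ∑ j ∈ Finset.range (g.natDegree + 1), g.coeff j = -∑ j ∈ Finset.range (g.natDegree + 1), g.coeff j := by
          conv_lhs => rw [← Finset.sum_range_reflect]
          rw [← Finset.sum_neg_distrib]
          refine Finset.sum_congr rfl fun j hj => ?_
          rw [Finset.mem_range] at hj
          rw [show g.natDegree + 1 - 1 - j = g.natDegree - j by omega, hsy j (by omega), h1, RingHom.id_apply, neg_one_mul]
        have hroot : g.IsRoot 1 := by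
          rw [IsRoot.def, hs]
          exact (mul_eq_zero.1 (show (2 : F) * _ = 0 by linear_combination h2)).resolve_left h22
        exact hg1 (eq_of_monic_of_associated hgm (monic_X_sub_C 1)
          ((irreducible_X_sub_C (1 : F)).associated_of_dvd hgi (dvd_iff_isRoot.2 hroot)).symm)
  have hne0 := coeff_zero_ne hr.ne_zero hh
  have hsym := (rc_fix_iff _ hid hh.1 hne0 hdeg).1 hrc
  have hlead : (g * h).coeff (2 * d) = 1 := hdeg ▸ hh.1.coeff_natDegree
  obtain ⟨A, hA⟩ := SympClasses.exists_charpoly_eq hh.1 hdeg h0 fun j hj => by rw [hsym j hj, h0, one_mul]; rfl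
  obtain ⟨j, hj⟩ := SemisimpleCl.exists_coprime_pow (F := F) p A
  obtain ⟨B, hB⟩ : ∃ B, B = A ^ Fintype.card F ^ j := ⟨_, rfl⟩
  rw [← hB] at hj
  have hk : ∀ n, ((A : Matrix (Fin d ⊕ Fin d) (Fin d ⊕ Fin d) F) ^ Fintype.card F ^ n).charpoly =
      (A : Matrix (Fin d ⊕ Fin d) (Fin d ⊕ Fin d) F).charpoly := by
    intro n
    induction n with
    | zero => simp
    | succ n ih => rw [pow_succ, pow_mul, FiniteField.Matrix.charpoly_pow_card, ih]
  have hMc : (B : Matrix (Fin d ⊕ Fin d) (Fin d ⊕ Fin d) F).charpoly = g * h := by rw [hB, SubmonoidClass.coe_pow, hk, hA]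
  have hMr : (B : Matrix (Fin d ⊕ Fin d) (Fin d ⊕ Fin d) F) ^ r = 1 :=
    LBRootPoly.pow_eq_one p (by rw [← SubmonoidClass.coe_pow, pow_orderOf_eq_one]; rfl) hj (hMc.symm ▸ hh) hr.ne_zero
  have hMA := (LBRegSp.mem_iff _).1 B.2
  have hi' : Odd (orderOf (Fintype.card F : ZMod r)) ∨ 4 ∣ orderOf (Fintype.card F : ZMod r) :=
    hid' ▸ hi.imp And.left And.left
  refine ⟨B.1, hMA, hMr, fun δ hδ ι hι => no_skew_commute p hodd hrp hi' hMA hMr hg1 hgm hgi hgd
    (hMc ▸ dvd_mul_right g h) (fun e => hnot ?_) hδ hι⟩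
  rw [hMc] at e
  exact (mul_dvd_mul_iff_left hgm.ne_zero).1 e

end Cfsg.Agent.LBGUSp
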