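/-
Elements of prime order of PSp_2d(q) and the subgroups of type GU_d(q).
-/
import Cfsg.Agent.Lib.LinearBlock.GUSpElusive
import Cfsg.Agent.Lib.LinearBlock.InvolutionClasses

set_option autoImplicit false
set_option linter.all false

namespace Cfsg.Agent.LBGUSp

open Matrix LBRegForm

variable {F : Type*} [Field F] [Fintype F] {d r : ℕ}

local notation "MM" => Matrix (Fin d ⊕ Fin d) (Fin d ⊕ Fin d) F
local notation "J₀" => Matrix.J (Fin d) F

omit [Fintype F] in
theorem spGL_iff (x : GL (Fin d ⊕ Fin d) F) : x ∈ Cfsg.spGL d F ↔ (x : Matrix (Fin d ⊕ Fin d) (Fin d ⊕ Fin d) F) * adj J₀ x.1 = 1 :=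
  Iff.trans (ClassicalSp.mem_iff_preserves x.1).symm (LBRegSp.mem_iff x.1)

variable {K : Subalgebra F (Matrix (Fin d ⊕ Fin d) (Fin d ⊕ Fin d) F)} {ι : Matrix (Fin d ⊕ Fin d) (Fin d ⊕ Fin d) F}

omit [Fintype F] in
theorem mem_normalizer (hι : ι ∈ K) (hgen : ∀ k ∈ K, ∃ a b : F, k = a • 1 + b • ι) {y : GL (Fin d ⊕ Fin d) F} {e : F}
    (he : e * e = 1) (h : y.1 * ι = e • (ι * y.1)) : y ∈ Cfsg.Geo.subalgebraNormalizer K := by
  have h' : y.1 * ι * (y⁻¹).1 = e • ι := by rw [h, smul_mul_assoc, mul_assoc, Units.mul_inv, mul_one]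
  have h'' : (y⁻¹).1 * ι * y.1 = e • ι := by
    calc (y⁻¹).1 * ι * y.1 = (e * e) • ((y⁻¹).1 * ι * y.1) := by rw [he, one_smul]
      _ = e • ((y⁻¹).1 * (e • (ι * y.1))) := by rw [mul_smul_comm, mul_smul, ← mul_assoc]
      _ = e • ι := by rw [← h, ← mul_assoc, Units.inv_mul, one_mul]
  intro k
  constructor
  · intro hk
    obtain ⟨a, b, rfl⟩ := hgen k hk
    rw [mul_add, add_mul, mul_smul_comm, smul_mul_assoc, mul_one, Units.mul_inv, mul_smul_comm, smul_mul_assoc, h']
    exact add_mem (K.smul_mem K.one_mem a) (K.smul_mem (K.smul_mem hι e) b)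
  · intro hk
    obtain ⟨a, b, hab⟩ := hgen _ hk
    have e1 : k = (y⁻¹).1 * (y.1 * k * (y⁻¹).1) * y.1 := by simp [mul_assoc]
    rw [e1, hab, mul_add, add_mul, mul_smul_comm, smul_mul_assoc, mul_one, Units.inv_mul, mul_smul_comm, smul_mul_assoc, h'']
    exact add_mem (K.smul_mem K.one_mem a) (K.smul_mem (K.smul_mem hι e) b)

/-- An element of odd order normalising the field commutes with its skew root. -/
theorem commute_of_normalizes (h2 : (2 : F) ≠ 0) {δ : F} (hδ : ¬ IsSquare δ) (hι : IsSkewRoot δ ι) (hιK : ι ∈ K)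
    (hgen : ∀ k ∈ K, ∃ a b : F, k = a • 1 + b • ι) {y : GL (Fin d ⊕ Fin d) F} (hd : 1 ≤ d) (hy : y.1 * adj J₀ y.1 = 1)
    (hN : y ∈ Cfsg.Geo.subalgebraNormalizer K) (hr : Odd r) (hyr : y ^ r = 1) : ι * y.1 = y.1 * ι := by
  have hJ := J_squared (Fin d) F
  have hJt := J_transpose (Fin d) F
  haveI : Nonempty (Fin d ⊕ Fin d) := ⟨Sum.inl ⟨0, by omega⟩⟩
  obtain ⟨a, b, hab⟩ := hgen _ ((hN ι).1 hιK)
  have hyinv : (y⁻¹).1 = adj J₀ y.1 := by
    calc (y⁻¹).1 = (y⁻¹).1 * (y.1 * adj J₀ y.1) := by rw [hy, mul_one]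
      _ = adj J₀ y.1 := by rw [← mul_assoc, Units.inv_mul, one_mul]
  have hskew : adj J₀ (a • 1 + b • ι) = -(a • 1 + b • ι) := by
    rw [← hab, hyinv, adj_mul hJ, adj_mul hJ, adj_adj hJ hJt, hι.2, neg_mul, mul_neg, mul_assoc]
  have ha : a = 0 := by
    rw [adj_add, adj_smul, adj_smul, adj_one hJ, hι.2, neg_add, smul_neg] at hskew
    have h0 := add_right_cancel hskew
    rw [← neg_smul, ← sub_eq_zero, ← sub_smul, smul_eq_zero] at h0
    exact (mul_eq_zero.1 (show (2 : F) * a = 0 by linear_combination (h0.resolve_right one_ne_zero))).resolve_left h2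
  rw [ha, zero_smul, zero_add] at hab
  have hb : b * b = 1 := by
    have e1 : (b • ι) * (b • ι) = δ • (1 : Matrix (Fin d ⊕ Fin d) (Fin d ⊕ Fin d) F) := by
      rw [← hab, show y.1 * ι * (y⁻¹).1 * (y.1 * ι * (y⁻¹).1) = y.1 * (ι * ((y⁻¹).1 * y.1) * ι) * (y⁻¹).1 by
        simp only [mul_assoc], Units.inv_mul, mul_one, hι.1, mul_smul_comm, mul_one, smul_mul_assoc, Units.mul_inv]
    rw [smul_mul_assoc, mul_smul_comm, hι.1, smul_smul, smul_smul, ← sub_eq_zero, ← sub_smul, smul_eq_zero] at e1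
    have h0 := e1.resolve_right one_ne_zero
    have hδ0 : δ ≠ 0 := fun h => hδ (h ▸ IsSquare.zero)
    exact mul_right_cancel₀ hδ0 (by linear_combination h0)
  have hbr : b = 1 := by
    have hk : ∀ k : ℕ, (y ^ k).1 * ι = b ^ k • (ι * (y ^ k).1) := by
      intro k
      induction k with
      | zero => simp
      | succ k ih =>
        have e1 : y.1 * ι = b • (ι * y.1) := by
          rw [← smul_mul_assoc, ← hab, mul_assoc (y.1 * ι), Units.inv_mul, mul_one]
        rw [pow_succ' y, Units.val_mul, mul_assoc, ih, mul_smul_comm, ← mul_assoc, e1, smul_mul_assoc, smul_smul,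
          pow_succ, mul_assoc]
    have e2 := hk r
    rw [hyr, Units.val_one, one_mul, mul_one, ← sub_eq_zero, ← one_smul F ι, smul_smul, ← sub_smul, smul_eq_zero] at e2
    have hι0 : ι ≠ 0 := fun h => by
      have e1 := hι.1
      rw [h, mul_zero] at e1
      exact hδ (((smul_eq_zero.1 e1.symm).resolve_right one_ne_zero) ▸ IsSquare.zero)
    have hbr := e2.resolve_right hι0
    obtain ⟨k, hk⟩ := hr
    rw [hk, pow_succ, pow_mul, pow_two, hb, one_pow, one_mul, mul_one] at hbr
    exact (sub_eq_zero.1 hbr).symm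
  rw [hbr, one_smul] at hab
  conv_lhs => rw [← hab]
  rw [mul_assoc, Units.inv_mul, mul_one]

/-- A transvection commutes with no skew root. -/
theorem transvection_witness (h2 : (2 : F) ≠ 0) (hd : 1 ≤ d) (p : ℕ) [Fact p.Prime] [CharP F p] :
    ∃ A : Matrix (Fin d ⊕ Fin d) (Fin d ⊕ Fin d) F, A * adj J₀ A = 1 ∧ A ^ p = 1 ∧
      ∀ (δ : F), ¬ IsSquare δ → ∀ ι, IsSkewRoot δ ι → ι * A ≠ A * ι := by
  let i0 : Fin d := ⟨0, hd⟩
  obtain ⟨N, hN⟩ : ∃ N : Matrix (Fin d ⊕ Fin d) (Fin d ⊕ Fin d) F, N = Matrix.single (Sum.inl i0) (Sum.inr i0) 1 := ⟨_, rfl⟩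
  have hNN : N * N = 0 := by
    rw [hN, Matrix.single_mul_single_of_ne]
    exact Sum.inr_ne_inl
  have hNa : adj J₀ N = -N := by
    have hN' : N = fromBlocks 0 (Matrix.single i0 i0 1) 0 0 := by
      rw [hN]
      ext s t
      rcases s with i | i <;> rcases t with j | j <;> simp [Matrix.single_apply]
    rw [hN']
    simp [adj, Matrix.J, fromBlocks_transpose, fromBlocks_multiply, fromBlocks_neg]
  refine ⟨1 + N, ?_, ?_, fun δ hδ ι hι hc => ?_⟩
  · rw [adj_add, adj_one (J_squared _ _), hNa, mul_add, mul_one, mul_neg, add_mul, one_mul, hNN]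
    abel
  · haveI : CharP (Matrix (Fin d ⊕ Fin d) (Fin d ⊕ Fin d) F) p := by
      haveI : Nonempty (Fin d ⊕ Fin d) := ⟨Sum.inl i0⟩
      infer_instance
    rw [add_pow_char_of_commute _ (Commute.one_left _), one_pow]
    have hp2 := (Fact.out : p.Prime).two_le
    rw [show p = 2 + (p - 2) by omega, pow_add, pow_two, hNN, zero_mul, add_zero]
  · have hcN : ι * N = N * ι := by
      rw [mul_add, add_mul, mul_one, one_mul] at hc
      exact add_left_cancel hc
    let W := LinearMap.ker N.mulVecLin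
    let T : W →ₗ[F] W := ι.mulVecLin.restrict fun v hv => by
      rw [LinearMap.mem_ker, Matrix.mulVecLin_apply] at hv
      rw [LinearMap.mem_ker, Matrix.mulVecLin_apply, Matrix.mulVecLin_apply, mulVec_mulVec, ← hcN, ← mulVec_mulVec, hv,
        mulVec_zero]
    have he := even_finrank_of_sq (T := T) hδ fun v => Subtype.ext (by
      show ι *ᵥ (ι *ᵥ v.1) = δ • v.1
      rw [mulVec_mulVec, hι.1, smul_mulVec, one_mulVec])
    have h1 := N.mulVecLin.finrank_range_add_finrank_ker
    have hr : N.rank = 1 := by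
      refine le_antisymm ?_ ?_
      · rw [hN, show Matrix.single (Sum.inl i0) (Sum.inr i0) (1 : F)
            = vecMulVec (Pi.single (Sum.inl i0) 1) (Pi.single (Sum.inr i0) 1) by
          ext a b; simp [vecMulVec, Matrix.single_apply, Pi.single_apply, ite_and, eq_comm]; split_ifs <;> simp_all]
        exact Matrix.rank_vecMulVec_le _ _
      · refine Nat.one_le_iff_ne_zero.2 fun h0 => ?_
        have h := Submodule.finrank_eq_zero.1 h0
        have h' := LinearMap.congr_fun (LinearMap.range_eq_bot.1 h) (Pi.single (Sum.inr i0) 1)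
        rw [Matrix.mulVecLin_apply, mulVec_single_one] at h'
        simpa [hN] using congrFun h' (Sum.inl i0)
    rw [ClassicalSp.finrank_space, show Module.finrank F (LinearMap.range N.mulVecLin) = 1 from hr] at h1
    obtain ⟨k, hk⟩ := he
    have hk' : Module.finrank F (LinearMap.ker N.mulVecLin) = k + k := hk
    omega

/-- The index divides the quotient of the symplectic and unitary orders. -/
theorem index_dvd {q : ℕ} (hq : Fintype.card F = q) (h2 : (2 : F) ≠ 0) (hK : Cfsg.Geo.IsFieldSubalgebra 2 K)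
    (hKf : Cfsg.Geo.IsAdjointClosedFor (Cfsg.sympForm d F) K) (hKns : ¬ Cfsg.Geo.IsSelfAdjointFor (Cfsg.sympForm d F) K) :
    (Cfsg.Geo.subalgebraNormalizer K).relIndex (Cfsg.spGL d F) ∣
      q ^ (d * d) * ∏ i ∈ Finset.range d, (if Even i then q ^ (i + 1) - 1 else q ^ (i + 1) + 1) := by
  classical
  subst hq
  obtain ⟨ι, hι, δ, hδ, hsk, hgen⟩ := exists_skew h2 hK hKf hKns
  obtain ⟨P, hP, hPc⟩ := exists_conj_std h2 hδ hsk
  have hirr := LBInvCl.irreducible_sq_sub hδ
  haveI : Fact (Irreducible (Polynomial.X ^ 2 - Polynomial.C δ : Polynomial F)) := ⟨hirr⟩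
  let E := AdjoinRoot (Polynomial.X ^ 2 - Polynomial.C δ : Polynomial F)
  have hmon : (Polynomial.X ^ 2 - Polynomial.C δ : Polynomial F).Monic := Polynomial.monic_X_pow_sub_C δ two_ne_zero
  haveI : Module.Finite F E := hmon.finite_adjoinRoot
  haveI : Finite E := Module.finite_of_finite F
  letI : Fintype E := Fintype.ofFinite E
  have hE : Fintype.card E = Fintype.card F ^ 2 := by
    rw [← Nat.card_eq_fintype_card, Module.natCard_eq_pow_finrank (K := F), (AdjoinRoot.powerBasis hirr.ne_zero).finrank,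
      AdjoinRoot.powerBasis_dim, Polynomial.natDegree_X_pow_sub_C, Nat.card_eq_fintype_card]
  obtain ⟨σ, hσ, hne, hinv, hfix, -⟩ := HermStd.exists_sigma hE
  let θ : E := AdjoinRoot.root _
  have hθ : θ * θ = algebraMap F E δ := by
    have h := AdjoinRoot.mk_self (f := (Polynomial.X ^ 2 - Polynomial.C δ : Polynomial F))
    rw [map_sub, map_pow, AdjoinRoot.mk_X, AdjoinRoot.mk_C, sub_eq_zero] at h
    exact (pow_two θ).symm.trans h
  let ψ : F × F →ₗ[F] E := (Algebra.linearMap F E).coprod (LinearMap.toSpanSingleton F E θ)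
  have hψ : ∀ a b, ψ (a, b) = algebraMap F E a + algebraMap F E b * θ := fun a b => by
    simp [ψ, LinearMap.toSpanSingleton_apply, Algebra.smul_def]
  have hψi : Function.Injective ψ := by
    rw [← LinearMap.ker_eq_bot, Submodule.eq_bot_iff]
    rintro ⟨a, b⟩ hab
    rw [LinearMap.mem_ker, hψ] at hab
    have hb : b = 0 := by
      by_contra hb
      refine hδ ⟨a / b, (algebraMap F E).injective ?_⟩
      have hbE : algebraMap F E b ≠ 0 := (map_ne_zero _).2 hb
      have e : θ = -(algebraMap F E a) / algebraMap F E b := by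
        rw [eq_div_iff hbE]; linear_combination hab
      rw [← hθ, e, map_mul, map_div₀]; ring
    rw [hb, map_zero, zero_mul, add_zero, map_eq_zero] at hab
    rw [hab, hb]; rfl
  let Ψ : (F × F) ≃ₗ[F] E := LinearEquiv.ofBijective ψ ⟨hψi, (LinearMap.injective_iff_surjective_of_finrank_eq_finrank (by
    rw [Module.finrank_prod, Module.finrank_self, (AdjoinRoot.powerBasis hirr.ne_zero).finrank,
      AdjoinRoot.powerBasis_dim, Polynomial.natDegree_X_pow_sub_C])).1 hψi⟩
  let re : E →ₗ[F] F := (LinearMap.fst F F F).comp Ψ.symm.toLinearMap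
  let im : E →ₗ[F] F := (LinearMap.snd F F F).comp Ψ.symm.toLinearMap
  have hre : ∀ a b, re (algebraMap F E a + algebraMap F E b * θ) = a ∧ im (algebraMap F E a + algebraMap F E b * θ) = b := by
    intro a b
    have : Ψ.symm (algebraMap F E a + algebraMap F E b * θ) = (a, b) := by
      rw [← hψ]; exact Ψ.symm_apply_apply (a, b)
    simp [re, im, this]
  have hdec : ∀ x : E, algebraMap F E (re x) + algebraMap F E (im x) * θ = x := fun x => by
    rw [← hψ]; exact Ψ.apply_symm_apply x
  have hmul : ∀ x y : E, re (x * y) = re x * re y + δ * (im x * im y) ∧ im (x * y) = re x * im y + im x * re y := by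
    intro x y
    have e : x * y = algebraMap F E (re x * re y + δ * (im x * im y)) + algebraMap F E (re x * im y + im x * re y) * θ := by
      conv_lhs => rw [← hdec x, ← hdec y]
      simp only [map_add, map_mul]
      linear_combination (algebraMap F E (im x) * algebraMap F E (im y)) * hθ
    rw [e]
    exact hre _ _
  have hone : re 1 = 1 ∧ im 1 = 0 := by
    have := hre 1 0
    simpa using this
  have hσF : ∀ a : F, σ (algebraMap F E a) = algebraMap F E a := fun a => by
    rw [hσ, ← map_pow, FiniteField.pow_card]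
  have hσθ : σ θ = -θ := by
    have h : σ θ * σ θ = θ * θ := by rw [← map_mul, hθ, hσF]
    rcases mul_self_eq_mul_self_iff.1 h with h | h
    · refine absurd (RingHom.ext fun x => ?_) hne
      rw [← hdec x, map_add, map_mul, hσF, hσF, h]; rfl
    · exact h
  have hσri : ∀ x, re (σ x) = re x ∧ im (σ x) = -im x := fun x => by
    have e : σ x = algebraMap F E (re x) + algebraMap F E (-im x) * θ := by
      conv_lhs => rw [← hdec x]
      rw [map_add, map_mul, hσF, hσF, hσθ, map_neg]; ring
    rw [e]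
    exact hre _ _
  let φ : Matrix (Fin d) (Fin d) E → Matrix (Fin d ⊕ Fin d) (Fin d ⊕ Fin d) F := fun M =>
    fromBlocks (M.map re) (M.map im) (δ • M.map im) (M.map re)
  have hφm : ∀ M N, φ (M * N) = φ M * φ N := fun M N => by
    have h1 : (M * N).map re = M.map re * N.map re + δ • (M.map im * N.map im) := by
      ext i j
      simp [Matrix.mul_apply, map_sum, (hmul _ _).1, Finset.sum_add_distrib, Finset.mul_sum]
    have h3 : (M * N).map im = M.map re * N.map im + M.map im * N.map re := by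
      ext i j
      simp [Matrix.mul_apply, map_sum, (hmul _ _).2, Finset.sum_add_distrib]
    simp only [φ, h1, h3, fromBlocks_multiply, smul_add, smul_mul_assoc, mul_smul_comm]
    congr 1 <;> abel
  have hφ1 : φ 1 = 1 := by
    have h1 : (1 : Matrix (Fin d) (Fin d) E).map re = 1 := by
      ext i j; rw [Matrix.map_apply, Matrix.one_apply, Matrix.one_apply, apply_ite re, hone.1, map_zero]
    have h3 : (1 : Matrix (Fin d) (Fin d) E).map im = 0 := by
      ext i j; rw [Matrix.map_apply, Matrix.one_apply, apply_ite im, hone.2, map_zero, ite_self]; rfl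
    simp only [φ, h1, h3, smul_zero, fromBlocks_one]
  have hφs : ∀ M, adj J₀ (φ M) = φ (LBUnitary.star' σ M) := fun M => by
    have h1 : (LBUnitary.star' σ M).map re = (M.map re)ᵀ := by
      ext i j; simp [LBUnitary.star', (hσri _).1]
    have h3 : (LBUnitary.star' σ M).map im = -(M.map im)ᵀ := by
      ext i j; simp [LBUnitary.star', (hσri _).2]
    simp only [φ, h1, h3, adj, Matrix.J, fromBlocks_transpose, transpose_smul, fromBlocks_multiply, fromBlocks_neg]
    congr 1 <;> simp [smul_neg]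
  have hφstd : ∀ M, φ M * std d δ = std d δ * φ M := fun M => by
    simp only [φ, std, fromBlocks_multiply, mul_zero, zero_mul, mul_one, one_mul, mul_smul_comm, smul_mul_assoc,
      add_zero, zero_add, smul_zero]
  have hPa := (LBRegSp.mem_iff P).1 hP
  have hPa' : adj J₀ P * P = 1 := mul_eq_one_comm.1 hPa
  let H := (Cfsg.Geo.subalgebraNormalizer K).subgroupOf (Cfsg.spGL d F)
  let c : Matrix (Fin d ⊕ Fin d) (Fin d ⊕ Fin d) F →* Matrix (Fin d ⊕ Fin d) (Fin d ⊕ Fin d) F :=
    { toFun := fun X => P * X * adj J₀ P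
      map_one' := by rw [mul_one, hPa]
      map_mul' := fun X Y => by
        rw [show P * X * adj J₀ P * (P * Y * adj J₀ P) = P * (X * (adj J₀ P * P) * Y) * adj J₀ P by simp only [mul_assoc],
          hPa', mul_one] }
  let Φ : Matrix (Fin d) (Fin d) E →* Matrix (Fin d ⊕ Fin d) (Fin d ⊕ Fin d) F :=
    c.comp { toFun := φ, map_one' := hφ1, map_mul' := hφm }
  let G : GL (Fin d) E →* GL (Fin d ⊕ Fin d) F := Units.map Φ
  have hcP : c (std d δ) = ι := by
    show P * std d δ * adj J₀ P = ι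
    rw [hPc, mul_assoc, hPa, mul_one]
  have hmem : ∀ M : ↥(Cfsg.GU d E (Fintype.card F)), G M.1 ∈ Cfsg.spGL d F ∧ G M.1 ∈ Cfsg.Geo.subalgebraNormalizer K := by
    intro M
    have hM := (LBUnitary.mem_GU hσ hinv M.1).1 M.2
    refine ⟨(spGL_iff _).2 ?_, mem_normalizer hι hgen (e := 1) (one_mul 1) ?_⟩
    · show P * φ M.1.1 * adj J₀ P * adj J₀ (P * φ M.1.1 * adj J₀ P) = 1
      rw [adj_mul (J_squared _ _), adj_mul (J_squared _ _), adj_adj (J_squared _ _) (J_transpose _ _), hφs,
        show P * φ M.1.1 * adj J₀ P * (P * (φ (LBUnitary.star' σ M.1.1) * adj J₀ P))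
          = P * (φ M.1.1 * (adj J₀ P * P) * φ (LBUnitary.star' σ M.1.1)) * adj J₀ P by simp only [mul_assoc],
        hPa', mul_one, ← hφm, mul_eq_one_comm.1 hM, hφ1, mul_one, hPa]
    · rw [one_smul, ← hcP]
      show c (φ M.1.1) * c (std d δ) = c (std d δ) * c (φ M.1.1)
      rw [← map_mul, ← map_mul, hφstd]
  let Gr : ↥(Cfsg.GU d E (Fintype.card F)) →* ↥H :=
    { toFun := fun M => ⟨⟨G M.1, (hmem M).1⟩, (hmem M).2⟩
      map_one' := Subtype.ext (Subtype.ext (map_one G))
      map_mul' := fun a b => Subtype.ext (Subtype.ext (map_mul G a.1 b.1)) }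
  have hGi : Function.Injective Gr := by
    intro M M' h
    have e : c (φ M.1.1) = c (φ M'.1.1) := congrArg (fun x : ↥H => x.1.1.1) h
    have e2 : φ M.1.1 = φ M'.1.1 := by
      have key : ∀ X, adj J₀ P * (P * X * adj J₀ P) * P = X := fun X => by
        rw [show adj J₀ P * (P * X * adj J₀ P) * P = (adj J₀ P * P) * X * (adj J₀ P * P) by simp only [mul_assoc],
          hPa', one_mul, mul_one]
      rw [← key (φ M.1.1), ← key (φ M'.1.1)]
      exact congrArg (fun X => adj J₀ P * X * P) e
    refine Subtype.ext (Units.ext (Matrix.ext fun i j => ?_))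
    have er := congrFun (congrFun e2 (Sum.inl i)) (Sum.inl j)
    have ei := congrFun (congrFun e2 (Sum.inl i)) (Sum.inr j)
    simp only [φ, fromBlocks_apply₁₁, fromBlocks_apply₁₂, Matrix.map_apply] at er ei
    rw [← hdec (M.1.1 i j), ← hdec (M'.1.1 i j), er, ei]
  have hdvd : Nat.card ↥(Cfsg.GU d E (Fintype.card F)) ∣ Nat.card ↥H := Subgroup.card_dvd_of_injective Gr hGi
  have hidx : (Cfsg.Geo.subalgebraNormalizer K).relIndex (Cfsg.spGL d F) * Nat.card ↥H = Nat.card (Cfsg.spGL d F) := by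
    rw [Subgroup.relIndex, mul_comm]
    exact Subgroup.card_mul_index H
  have hcardS : Nat.card (Cfsg.spGL d F) = Nat.card (Matrix.symplecticGroup (Fin d) F) := by
    refine Nat.card_congr
      { toFun := fun g => ⟨g.1.1, (ClassicalSp.mem_iff_preserves _).2 g.2⟩
        invFun := fun A => ⟨GeneralLinearGroup.mkOfDetNeZero A.1 (SymplecticGroup.symplectic_det A.2).ne_zero,
          (ClassicalSp.mem_iff_preserves A.1).1 A.2⟩
        left_inv := fun g => Subtype.ext (Units.ext rfl)
        right_inv := fun A => Subtype.ext rfl }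
  rw [hcardS, ClassicalSp.card_sp, Nat.card_eq_fintype_card (α := F)] at hidx
  rw [HermStd.card_GU hne hinv hσ d hfix] at hdvd
  obtain ⟨q, hqd⟩ : ∃ q, q = Fintype.card F := ⟨_, rfl⟩
  rw [← hqd] at hdvd hidx ⊢
  have hq2 : 2 ≤ q := hqd ▸ Fintype.one_lt_card
  have hsplit : ∏ i ∈ Finset.range d, (q ^ (2 * (i + 1)) - 1) =
      (∏ i ∈ Finset.range d, (if Even i then q ^ (i + 1) + 1 else q ^ (i + 1) - 1)) *
      ∏ i ∈ Finset.range d, (if Even i then q ^ (i + 1) - 1 else q ^ (i + 1) + 1) := by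
    rw [← Finset.prod_mul_distrib]
    refine Finset.prod_congr rfl fun i _ => ?_
    have h := Nat.sq_sub_sq (q ^ (i + 1)) 1
    rw [one_pow, ← pow_mul, mul_comm (i + 1) 2] at h
    split <;> rw [h] <;> ring
  rw [hsplit] at hidx
  have h1 := mul_dvd_mul_left ((Cfsg.Geo.subalgebraNormalizer K).relIndex (Cfsg.spGL d F)) hdvd
  rw [hidx] at h1
  have hpos : 0 < ∏ i ∈ Finset.range d, (if Even i then q ^ (i + 1) + 1 else q ^ (i + 1) - 1) := by
    refine Finset.prod_pos fun i _ => ?_
    have : 1 < q ^ (i + 1) := Nat.one_lt_pow (by omega) (by omega)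
    split <;> omega
  refine Nat.dvd_of_mul_dvd_mul_right hpos ?_
  refine (dvd_trans ?_ h1).trans ⟨q ^ (d * d - d ^ 2), ?_⟩
  · exact Dvd.intro (q ^ (d * (d - 1) / 2)) (by ring)
  · rw [show d * d - d ^ 2 = 0 by rw [pow_two, Nat.sub_self], pow_zero, pow_two]; ring

/-- Every `x` with `x² = ±1` has a conjugate normalising the field. -/
theorem exists_conj_normalizes {p : ℕ} [Fact p.Prime] [CharP F p] (hp : p ≠ 2) (hd : 1 ≤ d) (h2 : (2 : F) ≠ 0)
    (hK : Cfsg.Geo.IsFieldSubalgebra 2 K)
    (hKf : Cfsg.Geo.IsAdjointClosedFor (Cfsg.sympForm d F) K) (hKns : ¬ Cfsg.Geo.IsSelfAdjointFor (Cfsg.sympForm d F) K)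
    (x : GL (Fin d ⊕ Fin d) F) (hx : x ∈ Cfsg.spGL d F) {z : F}
    (hz : x.1 * x.1 = z • 1) :
    ∃ g ∈ Cfsg.spGL d F, g⁻¹ * x * g ∈ Cfsg.Geo.subalgebraNormalizer K := by
  classical
  haveI : Nonempty (Fin d ⊕ Fin d) := ⟨Sum.inl ⟨0, by omega⟩⟩
  have hJ := J_squared (Fin d) F
  have hxa := (spGL_iff x).1 hx
  have hz2 : z * z = 1 := by
    have e : (x.1 * x.1) * adj J₀ (x.1 * x.1) = 1 := by
      rw [adj_mul hJ, show x.1 * x.1 * (adj J₀ x.1 * adj J₀ x.1) = x.1 * (x.1 * adj J₀ x.1) * adj J₀ x.1 by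
        simp only [mul_assoc], hxa, mul_one, hxa]
    rw [hz, adj_smul, adj_one hJ, smul_mul_assoc, one_mul, smul_smul, ← sub_eq_zero,
      ← one_smul F (1 : Matrix (Fin d ⊕ Fin d) (Fin d ⊕ Fin d) F), smul_smul, mul_one, ← sub_smul, smul_eq_zero] at e
    exact sub_eq_zero.1 (e.resolve_right one_ne_zero)
  obtain ⟨ι, hι, δ, hδ, hsk, hgen⟩ := exists_skew h2 hK hKf hKns
  -- a root to use
  have hcase : ∃ (ε : F), ¬ IsSquare ε ∧ ∃ y : Matrix (Fin d ⊕ Fin d) (Fin d ⊕ Fin d) F,
      y * adj J₀ y = 1 ∧ y * y = z • 1 ∧ (∃ e : F, e * e = 1 ∧ y * std d ε = e • (std d ε * y)) ∧ x.1.charpoly = y.charpoly := by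
    obtain ⟨eq', heq'⟩ : ∃ e, e = Matrix.reindexAlgEquiv F F (finSumFinEquiv : Fin d ⊕ Fin d ≃ Fin (d + d)) := ⟨_, rfl⟩
    have hch : ∀ M, (eq' M).charpoly = M.charpoly := fun M => by
      rw [heq', Matrix.coe_reindexAlgEquiv, Matrix.charpoly_reindex]
    have hsq : ∀ M : Matrix (Fin d ⊕ Fin d) (Fin d ⊕ Fin d) F, M * M = z • 1 → eq' M * eq' M = z • 1 := fun M h => by
      rw [← map_mul, h, map_smul, map_one]
    open Polynomial in
    by_cases hzs : IsSquare z
    · obtain ⟨a, ha⟩ := hzs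
      have ha0 : a ≠ 0 := fun h => by rw [ha, h] at hz2; simp at hz2
      have hane : a ≠ -a := fun h => mul_ne_zero h2 ha0 (by linear_combination h)
      have hform : ∀ M : Matrix (Fin d ⊕ Fin d) (Fin d ⊕ Fin d) F, M * M = z • 1 →
          ∃ k ≤ d + d, M.charpoly = (X - C a) ^ k * (X - C (-a)) ^ (d + d - k) := fun M h => by
        obtain ⟨k, hk, he⟩ := LBInvCl.charpoly_square (a := a) (ha ▸ hsq M h)
        exact ⟨k, hk, hch M ▸ he⟩
      obtain ⟨k, hk, hxc⟩ := hform _ hz
      obtain ⟨ε, hε⟩ := FiniteField.exists_nonsquare (F := F) (fun hc => hp (by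
        rw [ringChar.eq F p] at hc; exact hc))
      refine ⟨ε, hε, ?_⟩
      have hswap : ∀ M : Matrix (Fin d ⊕ Fin d) (Fin d ⊕ Fin d) F, M * adj J₀ M = 1 → M * M = z • 1 →
          M.charpoly = (z • M).charpoly := fun M hM1 hM2 => by
        have hinv : adj J₀ M = z • M := by
          have e : (z • M) * M = 1 := by rw [smul_mul_assoc, hM2, smul_smul, hz2, one_smul]
          calc adj J₀ M = (z • M) * M * adj J₀ M := by rw [e, one_mul]
            _ = z • M := by rw [mul_assoc, hM1, mul_one]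
        rw [← hinv]
        let u : (Matrix (Fin d ⊕ Fin d) (Fin d ⊕ Fin d) F)ˣ := ⟨J₀, -J₀, by rw [mul_neg, hJ, neg_neg], by rw [neg_mul, hJ, neg_neg]⟩
        rw [show adj J₀ M = u.1 * Mᵀ * (u⁻¹).1 by show _ = J₀ * Mᵀ * -J₀; rw [adj, mul_neg],
          Matrix.coe_units_inv, Matrix.charpoly_units_conj, Matrix.charpoly_transpose]
      rcases mul_self_eq_one_iff.1 hz2 with hz1 | hz1
      · -- z = 1
        have ha1 : a * a = 1 := ha.symm.trans hz1
        have hdet : (-1 : F) ^ k = 1 := by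
          have e := congrArg (fun f => Polynomial.eval 0 f) hxc
          simp only [← coeff_zero_eq_eval_zero, Polynomial.eval_mul, Polynomial.eval_pow, Polynomial.eval_sub,
            Polynomial.eval_X, Polynomial.eval_C, zero_sub, neg_neg] at e
          rw [(SympClasses.charpoly_palindrome ⟨x.1, (LBRegSp.mem_iff x.1).2 hxa⟩).1] at e
          rw [neg_pow, mul_assoc, ← pow_add, show k + (d + d - k) = 2 * d by omega, pow_mul, pow_two, ha1, one_pow,
            mul_one] at e
          exact e.symm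
        have hke : Even k := by
          rcases Nat.even_or_odd k with h | h
          · exact h
          · rw [h.neg_one_pow] at hdet
            exact absurd (by linear_combination -hdet) h2
        obtain ⟨j, hj⟩ := hke
        let s : Fin d → F := fun i => if (i : ℕ) < j then a else -a
        refine ⟨fromBlocks (diagonal s) 0 0 (diagonal s), ?_, ?_, ⟨1, one_mul 1, ?_⟩, ?_⟩
        · have hss : (diagonal s * diagonal s : Matrix (Fin d) (Fin d) F) = 1 := by
            rw [diagonal_mul_diagonal, ← diagonal_one]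
            exact congrArg diagonal (funext fun i => by simp only [s]; split <;> simp [ha1])
          rw [adj, Matrix.J, fromBlocks_transpose, fromBlocks_multiply, fromBlocks_multiply, fromBlocks_neg, fromBlocks_multiply]
          simp [hss, fromBlocks_one]
        · have hss : (diagonal s * diagonal s : Matrix (Fin d) (Fin d) F) = 1 := by
            rw [diagonal_mul_diagonal, ← diagonal_one]
            exact congrArg diagonal (funext fun i => by simp only [s]; split <;> simp [ha1])
          rw [fromBlocks_multiply]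
          simp [hss, hz1, fromBlocks_one]
        · rw [std, fromBlocks_multiply, fromBlocks_multiply]
          simp
        · rw [hxc, charpoly_fromBlocks_zero₂₁, charpoly_diagonal,
            Fin.prod_univ_eq_prod_range (fun i => (X - C (if i < j then a else -a) : Polynomial F)) d]
          rw [show ∏ i ∈ Finset.range d, (X - C (if i < j then a else -a) : Polynomial F)
              = (X - C a) ^ j * (X - C (-a)) ^ (d - j) by
            obtain ⟨t, ht⟩ : ∃ t, d = j + t := ⟨d - j, by omega⟩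
            rw [ht, Finset.prod_range_add, Nat.add_sub_cancel_left]
            congr 1
            · rw [Finset.prod_congr rfl fun i hi => by rw [if_pos (Finset.mem_range.1 hi)], Finset.prod_const, Finset.card_range]
            · rw [Finset.prod_congr rfl fun i _ => by rw [if_neg (show ¬ j + i < j by omega)], Finset.prod_const, Finset.card_range]]
          rw [hj, show d + d - (j + j) = (d - j) + (d - j) by omega, pow_add, pow_add]
          ring
      · -- z = -1, square
        have heq : ∀ M : Matrix (Fin d ⊕ Fin d) (Fin d ⊕ Fin d) F, M * adj J₀ M = 1 → M * M = z • 1 →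
            M.charpoly = (X - C a) ^ d * (X - C (-a)) ^ d := by
          intro M hM1 hM2
          obtain ⟨k, hk, hc⟩ := hform M hM2
          have hsw := hswap M hM1 hM2
          rw [hz1, neg_one_smul] at hsw
          have hneg : (-M).charpoly = (X - C (-a)) ^ k * (X - C a) ^ (d + d - k) := by
            have hg : (-M).charpoly = M.charpoly.comp (-X) := by
              show (charmatrix (-M)).det = (Polynomial.compRingHom (-X)) (charmatrix M).det
              rw [RingHom.map_det, RingHom.mapMatrix_apply,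
                show (charmatrix M).map (Polynomial.compRingHom (-X)) = -(charmatrix (-M)) by
                  ext i j
                  simp only [Matrix.map_apply, Matrix.neg_apply, charmatrix_apply, Matrix.diagonal_apply]
                  split <;> simp
                  ring,
                Matrix.det_neg, Fintype.card_sum, Fintype.card_fin, Even.neg_one_pow ⟨d, rfl⟩, one_mul]
            rw [hg, hc, mul_comp, pow_comp, pow_comp, sub_comp, sub_comp, X_comp, C_comp, C_comp,
              show (-X - C a : Polynomial F) = -(X - C (-a)) by rw [map_neg]; ring,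
              show (-X - C (-a) : Polynomial F) = -(X - C a) by rw [map_neg]; ring, neg_pow (X - C (-a)),
              neg_pow (X - C a), mul_mul_mul_comm, ← pow_add, show k + (d + d - k) = d + d by omega,
              Even.neg_one_pow ⟨d, rfl⟩, one_mul]
          rw [← hsw, hc] at hneg
          have e := congrArg (Polynomial.rootMultiplicity a) hneg
          rw [rootMultiplicity_mul (mul_ne_zero (pow_ne_zero _ (X_sub_C_ne_zero _)) (pow_ne_zero _ (X_sub_C_ne_zero _))),
            rootMultiplicity_mul (mul_ne_zero (pow_ne_zero _ (X_sub_C_ne_zero _)) (pow_ne_zero _ (X_sub_C_ne_zero _))),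
            rootMultiplicity_X_sub_C_pow, rootMultiplicity_X_sub_C_pow,
            rootMultiplicity_eq_zero (by simp [IsRoot.def, sub_eq_zero, hane, h2, ha0, ← two_mul]),
            rootMultiplicity_eq_zero (by simp [IsRoot.def, sub_eq_zero, hane, h2, ha0, ← two_mul])] at e
          rw [hc, show d + d - k = d by omega, show k = d by omega]
        have hy : (fromBlocks (a • 1) 0 0 ((-a) • 1) : Matrix (Fin d ⊕ Fin d) (Fin d ⊕ Fin d) F) * adj J₀ (fromBlocks (a • 1) 0 0 ((-a) • 1)) = 1 := by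
          simp [adj, Matrix.J, fromBlocks_transpose, fromBlocks_multiply, fromBlocks_neg, smul_smul, ← ha, hz1]
        have hy' : (fromBlocks (a • 1) 0 0 ((-a) • 1) : Matrix (Fin d ⊕ Fin d) (Fin d ⊕ Fin d) F) * fromBlocks (a • 1) 0 0 ((-a) • 1) = z • 1 := by
          simp [fromBlocks_multiply, smul_smul, ← ha, ← fromBlocks_one, fromBlocks_smul]
        refine ⟨_, hy, hy', ⟨-1, by ring, ?_⟩, by rw [heq _ hxa hz, heq _ hy hy']⟩
        simp [std, fromBlocks_multiply, fromBlocks_neg, smul_smul, mul_comm a]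
    · have hz1 : z = -1 := by
        rcases mul_self_eq_one_iff.1 hz2 with h | h
        · exact absurd (h ▸ IsSquare.one) hzs
        · exact h
      have hyJ : J₀ * adj J₀ J₀ = 1 := by
        rw [show adj J₀ J₀ = -J₀ by rw [adj, J_transpose, mul_neg, neg_mul, neg_neg, hJ, neg_mul, one_mul], mul_neg,
          hJ, neg_neg]
      have hyJ2 : J₀ * J₀ = z • (1 : Matrix (Fin d ⊕ Fin d) (Fin d ⊕ Fin d) F) := by rw [hJ, hz1, neg_one_smul]
      refine ⟨z, hzs, J₀, hyJ, hyJ2, ⟨1, one_mul 1, ?_⟩, ?_⟩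
      · simp [std, Matrix.J, fromBlocks_multiply, hz1]
      · obtain ⟨k, hk, hxc⟩ := LBInvCl.charpoly_nonsquare (hsq _ hz) hzs
        obtain ⟨l, hl, hyc⟩ := LBInvCl.charpoly_nonsquare (hsq _ hyJ2) hzs
        rw [hch] at hxc hyc
        rw [hxc, hyc, show k = l by omega]
  obtain ⟨ε, hε, y, hya, hyz, ⟨e, he, hye⟩, hcharp⟩ := hcase
  obtain ⟨c, hc0, hc⟩ := rescale h2 hδ hε hsk
  obtain ⟨P, hP, hPc⟩ := exists_conj_std h2 hε hc
  let Pg : Matrix.symplecticGroup (Fin d) F := ⟨P, hP⟩
  let xs : Matrix.symplecticGroup (Fin d) F := ⟨x.1, (LBRegSp.mem_iff x.1).2 hxa⟩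
  let ys : Matrix.symplecticGroup (Fin d) F := ⟨y, (LBRegSp.mem_iff y).2 hya⟩
  have hord : ∀ w : Matrix.symplecticGroup (Fin d) F, w.1 * w.1 = z • 1 → (orderOf w).Coprime p := by
    intro w hw
    have h4 : w ^ 4 = 1 := Subtype.ext (by
      rw [SubmonoidClass.coe_pow, show (4 : ℕ) = 2 * 2 from rfl, pow_mul, pow_two, pow_two, hw, smul_mul_assoc, one_mul,
        smul_smul, hz2, one_smul]; rfl)
    refine Nat.Coprime.of_dvd_left (orderOf_dvd_of_pow_eq_one h4) ?_
    rw [show (4 : ℕ) = 2 ^ 2 from rfl]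
    exact Nat.Coprime.pow_left 2 ((Nat.coprime_primes Nat.prime_two Fact.out).2 (Ne.symm hp))
  obtain ⟨Q, hQ⟩ := isConj_iff.1 (SympClasses.isConj_of_charpoly p xs ys (hord _ hz) (hord _ hyz) hcharp)
  let toG : Matrix.symplecticGroup (Fin d) F →* GL (Fin d ⊕ Fin d) F :=
    (Units.map (Submonoid.subtype _)).comp toUnits.toMonoidHom
  have htoG : ∀ w, (toG w).1 = w.1 := fun w => rfl
  have htoGmem : ∀ w, toG w ∈ Cfsg.spGL d F := fun w => (ClassicalSp.mem_iff_preserves _).1 w.2
  refine ⟨(toG (Pg * Q))⁻¹, inv_mem (htoGmem _), ?_⟩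
  rw [inv_inv, show x = toG xs from Units.ext rfl, ← map_inv, ← map_mul, ← map_mul,
    show Pg * Q * xs * (Pg * Q)⁻¹ = Pg * (Q * xs * Q⁻¹) * Pg⁻¹ by group, hQ]
  refine mem_normalizer hι hgen he ?_
  rw [htoG, Submonoid.coe_mul, Submonoid.coe_mul, LBRegSp.coe_inv']
  show P * y * adj J₀ P * ι = e • (ι * (P * y * adj J₀ P))
  have hPa := (LBRegSp.mem_iff P).1 hP
  have hstd : P * std d ε * adj J₀ P = c • ι := by rw [hPc, mul_assoc, hPa, mul_one]
  have hPa' : adj J₀ P * P = 1 := mul_eq_one_comm.1 hPa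
  have key : P * y * adj J₀ P * (c • ι) = e • ((c • ι) * (P * y * adj J₀ P)) := by
    rw [← hstd, show P * y * adj J₀ P * (P * std d ε * adj J₀ P) = P * (y * (adj J₀ P * P) * std d ε) * adj J₀ P by
        simp only [mul_assoc],
      show P * std d ε * adj J₀ P * (P * y * adj J₀ P) = P * (std d ε * (adj J₀ P * P) * y) * adj J₀ P by
        simp only [mul_assoc], hPa', mul_one, mul_one, hye, mul_smul_comm, smul_mul_assoc]
  rw [mul_smul_comm, smul_mul_assoc, smul_comm e c] at key
  exact smul_right_injective _ hc0 key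

end Cfsg.Agent.LBGUSp
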