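/-
Symplectic matrices of prime order with a small moved space.
-/
import Cfsg.Agent.Lib.LinearBlock.GUSpMain

set_option autoImplicit false
set_option linter.all false

namespace Cfsg.Agent.LBSpExt

open Matrix Polynomial LBRootPoly LBRootTwist LBEvenRoot

variable {F : Type*} [Field F] [Fintype F] {r : ℕ}

omit [Fintype F] in
theorem rank_reindex' {a b : Type*} [Fintype a] [Fintype b] (E : a ≃ b) (M : Matrix a a F) :
    (Matrix.reindex E E M).rank = M.rank := Matrix.rank_reindex E E M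

omit [Fintype F] in
/-- A fixed-point-free symplectic block inside a larger group. -/
theorem exists_embed {j c : ℕ} (A : Matrix (Fin j ⊕ Fin j) (Fin j ⊕ Fin j) F) (hA : A ∈ Matrix.symplecticGroup (Fin j) F)
    (hr : A ^ r = 1) (hfix : (A - 1).det ≠ 0) :
    ∃ X : Matrix (Fin (j + c) ⊕ Fin (j + c)) (Fin (j + c) ⊕ Fin (j + c)) F,
      X ∈ Matrix.symplecticGroup (Fin (j + c)) F ∧ X ^ r = 1 ∧ (X - 1).rank = 2 * j := by
  classical
  let E : (Fin j ⊕ Fin j) ⊕ (Fin c ⊕ Fin c) ≃ Fin (j + c) ⊕ Fin (j + c) :=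
    (Equiv.sumSumSumComm _ _ _ _).trans (Equiv.sumCongr finSumFinEquiv finSumFinEquiv)
  let R := Matrix.reindexAlgEquiv F F E
  have hJ : Matrix.J (Fin (j + c)) F = R (fromBlocks (Matrix.J (Fin j) F) 0 0 (Matrix.J (Fin c) F)) := by
    ext s t
    obtain ⟨s, rfl⟩ := E.surjective s
    obtain ⟨t, rfl⟩ := E.surjective t
    rw [Matrix.coe_reindexAlgEquiv, Matrix.reindex_apply, Matrix.submatrix_apply, Equiv.symm_apply_apply, Equiv.symm_apply_apply]
    rcases s with (s | s) | (s | s) <;> rcases t with (t | t) | (t | t) <;>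
      simp [E, Matrix.J, Matrix.one_apply, Equiv.sumSumSumComm, Fin.ext_iff] <;> omega
  have hT : ∀ M, (R M)ᵀ = R Mᵀ := fun M => Matrix.transpose_reindex E E M
  refine ⟨R (fromBlocks A 0 0 1), ?_, ?_, ?_⟩
  · rw [SymplecticGroup.mem_iff] at hA ⊢
    rw [hJ, hT, ← map_mul, ← map_mul, fromBlocks_transpose, fromBlocks_multiply, fromBlocks_multiply]
    simp [hA]
  · have hp : ∀ n : ℕ, (fromBlocks A 0 0 (1 : Matrix (Fin c ⊕ Fin c) (Fin c ⊕ Fin c) F)) ^ n = fromBlocks (A ^ n) 0 0 1 := by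
      intro n
      induction n with
      | zero => simp [fromBlocks_one]
      | succ n ih => rw [pow_succ, pow_succ, ih, fromBlocks_multiply]; simp
    rw [← map_pow, hp, hr, fromBlocks_one, map_one]
  · have e : R (fromBlocks A 0 0 1) - 1 = R (fromBlocks (A - 1) 0 0 (1 : Matrix (Fin c ⊕ Fin c) (Fin c ⊕ Fin c) F) * diagonal (Sum.elim 1 0)) := by
      rw [← fromBlocks_diagonal, fromBlocks_multiply]
      rw [show (1 : Matrix (Fin (j + c) ⊕ Fin (j + c)) (Fin (j + c) ⊕ Fin (j + c)) F)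
          = R (fromBlocks (1 : Matrix (Fin j ⊕ Fin j) (Fin j ⊕ Fin j) F) 0 0 (1 : Matrix (Fin c ⊕ Fin c) (Fin c ⊕ Fin c) F)) from by
        rw [fromBlocks_one]; exact (map_one R).symm]
      rw [← map_sub, sub_eq_add_neg, fromBlocks_neg, fromBlocks_add]
      simp [← sub_eq_add_neg]
    rw [e, Matrix.coe_reindexAlgEquiv, rank_reindex', Matrix.rank_mul_eq_right_of_isUnit_det _ _ (by
      rw [det_fromBlocks_zero₂₁, det_one, mul_one]; exact hfix.isUnit), rank_diagonal]
    rw [Fintype.card_congr (Equiv.subtypeSum (p := fun i => Sum.elim (1 : Fin j ⊕ Fin j → F) (0 : Fin c ⊕ Fin c → F) i ≠ 0))]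
    simp [Fintype.card_sum, two_mul]

omit [Fintype F] in
/-- A transvection. -/
theorem exists_transvection {d : ℕ} (hd : 1 ≤ d) (p : ℕ) [Fact p.Prime] [CharP F p] :
    ∃ X : Matrix (Fin d ⊕ Fin d) (Fin d ⊕ Fin d) F, X ∈ Matrix.symplecticGroup (Fin d) F ∧ X ^ p = 1 ∧ (X - 1).rank = 1 := by
  obtain ⟨v, hv⟩ : ∃ v : Fin d ⊕ Fin d → F, v = Pi.single (Sum.inl ⟨0, hd⟩) 1 := ⟨_, rfl⟩
  obtain ⟨w, hw⟩ : ∃ w, w = Matrix.J (Fin d) F *ᵥ v := ⟨_, rfl⟩
  have hvw : w ⬝ᵥ v = 0 := by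
    rw [hw, dotProduct_comm, hv, single_dotProduct, mulVec_single_one]; simp [Matrix.J]
  refine ⟨Cfsg.sympTransvection d v 1, ClassicalSp.sympTransvection_mem v 1, ?_, ?_⟩
  · haveI : Nonempty (Fin d ⊕ Fin d) := ⟨Sum.inl ⟨0, hd⟩⟩
    rw [Cfsg.sympTransvection, ← hw, one_smul, add_pow_char_of_commute _ (Commute.one_left _), one_pow]
    have hN : vecMulVec v w * vecMulVec v w = 0 := by
      rw [vecMulVec_mul_vecMulVec, hvw, zero_smul, vecMulVec_zero]
    have hp2 := (Fact.out : p.Prime).two_le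
    rw [show p = 2 + (p - 2) by omega, pow_add, pow_two, hN, zero_mul, add_zero]
  · rw [Cfsg.sympTransvection, ← hw, one_smul, add_sub_cancel_left]
    refine le_antisymm (rank_vecMulVec_le _ _) (Nat.one_le_iff_ne_zero.2 fun h0 => ?_)
    have h := LinearMap.congr_fun (LinearMap.range_eq_bot.1 (Submodule.finrank_eq_zero.1 h0)) (Pi.single (Sum.inr ⟨0, hd⟩) 1)
    rw [Matrix.mulVecLin_apply, mulVec_single_one, hw, hv, mulVec_single_one] at h
    simpa [Matrix.J, vecMulVec] using congrFun h (Sum.inl ⟨0, hd⟩)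

/-- A fixed-point-free element of order dividing r in dimension twice the order of q². -/
theorem exists_fpf (p : ℕ) [Fact p.Prime] [CharP F p] [Fact r.Prime] (hr2 : r ≠ 2) (hrp : r ≠ p) {i j : ℕ}
    (hi : i = orderOf (Fintype.card F : ZMod r)) (hij : (Odd i ∧ j = i) ∨ i = 2 * j) :
    ∃ A : Matrix (Fin j ⊕ Fin j) (Fin j ⊕ Fin j) F, A ∈ Matrix.symplecticGroup (Fin j) F ∧ A ^ r = 1 ∧ (A - 1).det ≠ 0 := by
  classical
  have hr : r.Prime := Fact.out
  obtain ⟨g, hg⟩ : (factors F r).Nonempty := by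
    rw [← Finset.card_pos]
    refine Nat.pos_of_ne_zero fun e => ?_
    have hcard := card_factors (F := F) p hr hrp
    rw [e, zero_mul] at hcard
    have := hr.two_le; omega
  obtain ⟨hg1, hgm, hgi, hgd⟩ := (mem_factors hr.ne_zero).1 hg
  have hgdeg : g.natDegree = i := hi ▸ natDegree_factor hr hgm hgi hgd hg1
  have hg0 := factor_coeff_zero hr.ne_zero hgd
  obtain ⟨hn1, hnm, hni, hnd⟩ := (mem_factors hr.ne_zero).1 (rc_mem_factors (RingHom.id F) hid hr hg)
  have hndeg : (rc (RingHom.id F) g).natDegree = i := hi ▸ natDegree_factor hr hnm hni hnd hn1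
  have hroot : ∀ u : F[X], u.Monic → Irreducible u → u ≠ X - C 1 → ¬ u.IsRoot 1 := fun u hm hu hne h =>
    hne (eq_of_monic_of_associated hm (monic_X_sub_C 1)
      ((irreducible_X_sub_C (1 : F)).associated_of_dvd hu (dvd_iff_isRoot.2 h)).symm)
  obtain ⟨f, hf, hdeg, hrc, h0, hf1⟩ : ∃ f : F[X], Good r f ∧ f.natDegree = 2 * j ∧
      rc (RingHom.id F) f = f ∧ f.coeff 0 = 1 ∧ ¬ f.IsRoot 1 := by
    rcases hij with ⟨hodd, rfl⟩ | hev
    · refine ⟨g * rc (RingHom.id F) g, ⟨hgm.mul hnm, fun u hum hui hud => ?_⟩, ?_, ?_, ?_, ?_⟩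
      · rcases hui.prime.dvd_or_dvd hud with e | e
        · exact e.trans hgd
        · exact e.trans hnd
      · rw [hgm.natDegree_mul hnm, hgdeg, hndeg, two_mul]
      · rw [rc_mul, rc_rc _ hid hgm hg0, mul_comm]
      · have hc : (rc (RingHom.id F) g).coeff 0 = (g.coeff 0)⁻¹ := by
          rw [rc_coeff _ _ (Nat.zero_le _), Nat.sub_zero, hgm.coeff_natDegree]; simp
        rw [mul_coeff_zero, hc, mul_inv_cancel₀ hg0]
      · rw [IsRoot.def, eval_mul]
        exact mul_ne_zero (hroot g hgm hgi hg1) (hroot _ hnm hni hn1)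
    · have hself := (rc_self_iff' p hr hr2 hrp hg).2 (hi ▸ ⟨j, by omega⟩)
      refine ⟨g, ⟨hgm, fun u hum hui hud => hud.trans hgd⟩, by omega, hself, ?_, hroot g hgm hgi hg1⟩
      have hsy := (rc_fix_iff _ hid hgm hg0 rfl).1 hself
      have e2 := hsy 0 (Nat.zero_le _)
      rw [Nat.sub_zero, hgm.coeff_natDegree, RingHom.id_apply] at e2
      rcases mul_self_eq_one_iff.1 e2.symm with h1 | h1
      · exact h1
      by_cases h22 : (2 : F) = 0
      · rw [h1]; linear_combination -h22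
      exfalso
      refine hroot g hgm hgi hg1 ?_
      have h2 : ∑ t ∈ Finset.range (g.natDegree + 1), g.coeff t = -∑ t ∈ Finset.range (g.natDegree + 1), g.coeff t := by
        conv_lhs => rw [← Finset.sum_range_reflect]
        rw [← Finset.sum_neg_distrib]
        refine Finset.sum_congr rfl fun t ht => ?_
        rw [Finset.mem_range] at ht
        rw [show g.natDegree + 1 - 1 - t = g.natDegree - t by omega, hsy t (by omega), h1, RingHom.id_apply, neg_one_mul]
      rw [IsRoot.def, show g.eval 1 = ∑ t ∈ Finset.range (g.natDegree + 1), g.coeff t by rw [eval_eq_sum_range]; simp]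
      exact (mul_eq_zero.1 (show (2 : F) * _ = 0 by linear_combination h2)).resolve_left h22
  have hsym := (rc_fix_iff _ hid hf.1 (coeff_zero_ne hr.ne_zero hf) hdeg).1 hrc
  obtain ⟨A, hA⟩ := SympClasses.exists_charpoly_eq hf.1 hdeg h0 fun t ht => by rw [hsym t ht, h0, one_mul]; rfl
  obtain ⟨e, he⟩ := SemisimpleCl.exists_coprime_pow (F := F) p A
  obtain ⟨B, hB⟩ : ∃ B, B = A ^ Fintype.card F ^ e := ⟨_, rfl⟩
  rw [← hB] at he
  have hk : ∀ n, ((A : Matrix (Fin j ⊕ Fin j) (Fin j ⊕ Fin j) F) ^ Fintype.card F ^ n).charpoly =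
      (A : Matrix (Fin j ⊕ Fin j) (Fin j ⊕ Fin j) F).charpoly := by
    intro n
    induction n with
    | zero => simp
    | succ n ih => rw [pow_succ, pow_mul, FiniteField.Matrix.charpoly_pow_card, ih]
  have hMc : (B : Matrix (Fin j ⊕ Fin j) (Fin j ⊕ Fin j) F).charpoly = f := by rw [hB, SubmonoidClass.coe_pow, hk, hA]
  refine ⟨B.1, B.2, LBRootPoly.pow_eq_one p (by rw [← SubmonoidClass.coe_pow, pow_orderOf_eq_one]; rfl) he (hMc.symm ▸ hf) hr.ne_zero,
    fun h => hf1 ?_⟩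
  rw [IsRoot.def, ← hMc, Matrix.eval_charpoly, map_one, ← neg_sub, det_neg, h, mul_zero]

end Cfsg.Agent.LBSpExt
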