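/-
Elements of odd prime order of SL_n without a non-degenerate alternating similitude form.
-/
import Cfsg.Agent.Lib.Spectra.SympModels
import Cfsg.Agent.Lib.Classical.SL
import Cfsg.Agent.Lib.LinearBlock.RootUnityPolys
import Cfsg.Prelude.Def_GeometricClasses

set_option autoImplicit false
set_option linter.all false

namespace Cfsg.Agent.LBLinSymp

open Matrix Polynomial LBRootPoly

variable {F : Type*} [Field F] {r n : ℕ}

/-! ### From forms to Gram matrices -/

theorem toBilin_exists {f : (Fin n → F) → (Fin n → F) → F} (hf : Cfsg.Geo.IsBilinearForm f) :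
    ∃ G : Matrix (Fin n) (Fin n) F, ∀ u v, f u v = u ⬝ᵥ (G *ᵥ v) := by
  let B : LinearMap.BilinForm F (Fin n → F) := LinearMap.mk₂ F f hf.add_left hf.smul_left hf.add_right hf.smul_right
  exact ⟨LinearMap.BilinForm.toMatrix' B, fun u v => by
    rw [← Matrix.toBilin'_apply', Matrix.toBilin'_toMatrix']; rfl⟩

theorem gram_props {f : (Fin n → F) → (Fin n → F) → F} (hf : Cfsg.Geo.IsSymplecticForm f)
    {G : Matrix (Fin n) (Fin n) F} (hG : ∀ u v, f u v = u ⬝ᵥ (G *ᵥ v)) : G.det ≠ 0 ∧ Gᵀ = -G := by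
  refine ⟨fun h => ?_, ?_⟩
  · obtain ⟨v, hv, hv'⟩ := Matrix.exists_mulVec_eq_zero_iff.2 h
    obtain ⟨x, hx⟩ := (hf.nondegenerate v hv).1
    exact hx (by rw [hG, hv', dotProduct_zero])
  · ext a b
    have h := hf.skew (Pi.single b 1) (Pi.single a 1)
    rw [hG, hG, mulVec_single_one, mulVec_single_one, single_one_dotProduct, single_one_dotProduct] at h
    exact h

theorem similitude_gram {f : (Fin n → F) → (Fin n → F) → F} {G : Matrix (Fin n) (Fin n) F}
    (hG : ∀ u v, f u v = u ⬝ᵥ (G *ᵥ v)) {M : Matrix (Fin n) (Fin n) F} {c : F}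
    (h : ∀ u v, f (M *ᵥ u) (M *ᵥ v) = c * f u v) : Mᵀ * G * M = c • G := by
  ext a b
  have h' := h (Pi.single a 1) (Pi.single b 1)
  rw [hG, hG, mulVec_mulVec, mulVec_single_one, mulVec_single_one, mulVec_single_one, single_one_dotProduct] at h'
  rw [Matrix.mul_assoc, Matrix.mul_apply, Matrix.smul_apply, smul_eq_mul]
  exact h'

/-- The multiplier of a similitude of odd prime order is an `r`-th root of unity whose `n`-th power is one. -/
theorem multiplier {G x : Matrix (Fin n) (Fin n) F} {c : F} (hG : G.det ≠ 0) (hn : 0 < n) (hx : x.det = 1)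
    (hxr : x ^ r = 1) (h : xᵀ * G * x = c • G) : c ^ r = 1 ∧ c ^ n = 1 := by
  have hk : ∀ k, (x ^ k)ᵀ * G * x ^ k = c ^ k • G := by
    intro k
    induction k with
    | zero => simp
    | succ k ih =>
      rw [pow_succ, transpose_mul, show xᵀ * (x ^ k)ᵀ * G * (x ^ k * x) = xᵀ * ((x ^ k)ᵀ * G * x ^ k) * x by
        simp only [Matrix.mul_assoc], ih, Matrix.mul_smul, Matrix.smul_mul, h, smul_smul, pow_succ]
  refine ⟨?_, ?_⟩
  · have e := hk r
    rw [hxr, transpose_one, one_mul, mul_one] at e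
    obtain ⟨a, b, hab⟩ : ∃ a b, G a b ≠ 0 := by
      by_contra hc
      simp only [not_exists, not_not] at hc
      refine hG ?_
      rw [show G = 0 from Matrix.ext hc]
      haveI : Nonempty (Fin n) := ⟨⟨0, hn⟩⟩
      exact det_zero
    have := congrFun (congrFun e a) b
    rw [Matrix.smul_apply, smul_eq_mul] at this
    exact (mul_right_cancel₀ hab (by rw [one_mul]; exact this)).symm
  · have e := congrArg Matrix.det h
    rw [det_mul, det_mul, det_transpose, hx, one_mul, mul_one, det_smul, Fintype.card_fin] at e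
    exact (mul_right_cancel₀ hG (by rw [one_mul]; exact e)).symm

/-! ### Semisimple witnesses -/

theorem perm_of_det_ne_zero {ι : Type*} [Fintype ι] [DecidableEq ι] {G : Matrix ι ι F} (hG : G.det ≠ 0) :
    ∃ π : Equiv.Perm ι, ∀ a, G (π a) a ≠ 0 := by
  by_contra hc
  simp only [not_exists, not_forall, not_not] at hc
  refine hG ?_
  rw [det_apply]
  refine Finset.sum_eq_zero fun π _ => ?_
  obtain ⟨a, ha⟩ := hc π
  rw [Finset.prod_eq_zero (f := fun i => G (π i) i) (Finset.mem_univ a) ha, smul_zero]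

/-- A root of unity in the field: the diagonal witness. -/
theorem exists_diag [Fact r.Prime] (hr2 : r ≠ 2) (hn : 4 ≤ n) (he : Even n) (hgap : ¬ (n = 6 ∧ r = 3)) {ω : F}
    (hω : IsPrimitiveRoot ω r) :
    ∃ x : Matrix (Fin n) (Fin n) F, x.det = 1 ∧ x ^ r = 1 ∧ x ≠ 1 ∧
      ∀ (G : Matrix (Fin n) (Fin n) F) (c : F), G.det ≠ 0 → xᵀ * G * x ≠ c • G := by
  classical
  have hr : r.Prime := Fact.out
  have hr3 : 3 ≤ r := by have := hr.two_le; omega
  have hω1 : ω ≠ 1 := hω.ne_one hr.one_lt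
  have hω0 : ω ≠ 0 := hω.ne_zero hr.ne_zero
  have hω2 : ω ^ 2 ≠ 1 := hω.pow_ne_one_of_pos_of_lt (by norm_num) (by omega)
  let lam : Fin n → F := fun a => if a.1 < 2 then ω else if a.1 = 2 then (ω ^ 2)⁻¹ else 1
  have hval : ∀ a, lam a = ω ∨ lam a = (ω ^ 2)⁻¹ ∨ lam a = 1 := fun a => by
    simp only [lam]; split_ifs <;> simp
  have hd : (diagonal lam).det = 1 := by
    obtain ⟨k, rfl⟩ : ∃ k, n = k + 3 := ⟨n - 3, by omega⟩
    rw [det_diagonal, Fin.prod_univ_succ, Fin.prod_univ_succ, Fin.prod_univ_succ,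
      show lam 0 = ω from rfl, show lam (Fin.succ 0) = ω from rfl,
      show lam (Fin.succ (Fin.succ 0)) = (ω ^ 2)⁻¹ from rfl,
      Finset.prod_eq_one fun i _ => show lam (Fin.succ (Fin.succ (Fin.succ i))) = 1 by simp [lam]]
    field_simp
  have hxr : diagonal lam ^ r = 1 := by
    rw [diagonal_pow, ← diagonal_one]
    refine congrArg diagonal (funext fun a => ?_)
    rw [Pi.pow_apply]
    rcases hval a with e | e | e <;> rw [e]
    · exact hω.pow_eq_one
    · rw [inv_pow, ← pow_mul, mul_comm, pow_mul, hω.pow_eq_one, one_pow, inv_one]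
    · exact one_pow r
  refine ⟨diagonal lam, hd, hxr, fun e => ?_, fun G c hG h => ?_⟩
  · have := congrFun (congrFun e ⟨0, by omega⟩) ⟨0, by omega⟩
    simp [lam] at this
    exact hω1 this
  · obtain ⟨hcr, hcn⟩ := multiplier hG (by omega) hd hxr h
    obtain ⟨π, hπ⟩ := perm_of_det_ne_zero hG
    have hpair : ∀ a, lam (π a) * lam a = c := by
      intro a
      have e := congrFun (congrFun h (π a)) a
      rw [diagonal_transpose, mul_diagonal, diagonal_mul, Matrix.smul_apply, smul_eq_mul] at e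
      exact mul_right_cancel₀ (hπ a) (by rw [← e]; ring)
    by_cases hc : c = 1
    · subst hc
      have h0 : lam ⟨0, by omega⟩ = ω := by simp [lam]
      have hb := hpair ⟨0, by omega⟩
      rw [h0] at hb
      rcases hval (π ⟨0, by omega⟩) with e | e | e <;> rw [e] at hb
      · exact hω2 (by rw [pow_two, hb])
      · exact hω1 (by field_simp at hb; exact hb.symm)
      · exact hω1 (by rwa [one_mul] at hb)
    · have hrn : r ∣ n := by
        have ho : orderOf c = r := orderOf_eq_prime hcr hc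
        exact ho ▸ orderOf_dvd_of_pow_eq_one hcn
      have hn6 : 6 ≤ n := by
        by_contra hlt
        obtain ⟨k, hk⟩ := he
        have h4 : n = 2 ^ 2 := by omega
        exact hr2 ((Nat.prime_dvd_prime_iff_eq hr Nat.prime_two).1 (hr.dvd_of_dvd_pow (h4 ▸ hrn)))
      let S : Finset (Fin n) := Finset.univ.filter fun a => 3 ≤ a.1
      let T : Finset (Fin n) := Finset.univ.filter fun a => lam a = c
      let U : Finset (Fin n) := Finset.univ.filter fun a => a.1 < 3
      have hST : S.card ≤ T.card := Finset.card_le_card_of_injOn π (fun a ha => by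
        simp only [S, Finset.coe_filter, Finset.mem_univ, true_and, Set.mem_setOf_eq] at ha
        simp only [T, Finset.coe_filter, Finset.mem_univ, true_and, Set.mem_setOf_eq]
        have := hpair a
        rwa [show lam a = 1 by simp only [lam]; rw [if_neg (by omega), if_neg (by omega)], mul_one] at this)
        π.injective.injOn
      have hTU : T ⊆ U := fun a ha => by
        simp only [T, Finset.mem_filter, Finset.mem_univ, true_and] at ha
        simp only [U, Finset.mem_filter, Finset.mem_univ, true_and]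
        by_contra hlt
        exact hc (by rw [← ha]; simp only [lam]; rw [if_neg (by omega), if_neg (by omega)])
      have hU : U.card = 3 := by
        rw [show U = (Finset.univ : Finset (Fin 3)).map (Fin.castLEEmb (by omega)) by
          ext a
          simp only [U, Finset.mem_filter, Finset.mem_univ, true_and, Finset.mem_map, Fin.castLEEmb_apply]
          exact ⟨fun ha => ⟨⟨a.1, ha⟩, Fin.ext rfl⟩, fun ⟨b, hb⟩ => hb ▸ b.2⟩]
        simp
      have hS : S.card + U.card = n := by
        have := Finset.card_filter_add_card_filter_not (s := (Finset.univ : Finset (Fin n))) (fun a => 3 ≤ a.1)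
        simpa [S, U, Finset.card_univ, not_le] using this
      have hTeq : T = U := Finset.eq_of_subset_of_card_le hTU (by omega)
      have h0 : (⟨0, by omega⟩ : Fin n) ∈ T := hTeq ▸ by simp [U]
      have h2 : (⟨2, by omega⟩ : Fin n) ∈ T := hTeq ▸ by simp [U]
      simp only [T, Finset.mem_filter, Finset.mem_univ, true_and] at h0 h2
      have e3 : ω ^ 3 = 1 := by
        have := h0.trans h2.symm
        simp [lam] at this
        field_simp at this
        linear_combination this
      refine hgap ⟨?_, ?_⟩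
      · have := Finset.card_le_card hTU
        omega
      · exact ((Nat.prime_dvd_prime_iff_eq hr Nat.prime_three).1 ((hω.pow_eq_one_iff_dvd 3).1 e3))

/-- An irreducible root-of-unity factor of odd degree: no similitude form. -/
theorem exists_field_elem [Fintype F] (p : ℕ) [Fact p.Prime] [CharP F p] [Fact r.Prime] (hr2 : r ≠ 2) (hrp : r ≠ p)
    (hodd : Odd (orderOf (Fintype.card F : ZMod r))) (hge : 3 ≤ orderOf (Fintype.card F : ZMod r))
    (hle : orderOf (Fintype.card F : ZMod r) ≤ n) :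
    ∃ x : Matrix (Fin n) (Fin n) F, x.det = 1 ∧ x ^ r = 1 ∧ x ≠ 1 ∧
      ∀ (G : Matrix (Fin n) (Fin n) F) (c : F), G.det ≠ 0 → xᵀ * G * x ≠ c • G := by
  classical
  have hr : r.Prime := Fact.out
  obtain ⟨g, hg⟩ : (factors F r).Nonempty := by
    rw [← Finset.card_pos]
    refine Nat.pos_of_ne_zero fun e => ?_
    have hcard := card_factors (F := F) p hr hrp
    rw [e, zero_mul] at hcard
    have := hr.two_le; omega
  obtain ⟨hg1, hgm, hgi, hgd⟩ := (mem_factors hr.ne_zero).1 hg
  have hgdeg := natDegree_factor hr hgm hgi hgd hg1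
  haveI : Fact (Irreducible g) := ⟨hgi⟩
  haveI : Module.Finite F (AdjoinRoot g) := hgm.finite_adjoinRoot
  haveI : Finite (AdjoinRoot g) := Module.finite_of_finite F
  obtain ⟨pb, hpb⟩ : ∃ pb, pb = AdjoinRoot.powerBasis hgi.ne_zero := ⟨_, rfl⟩
  have hdim : pb.dim = g.natDegree := by rw [hpb, AdjoinRoot.powerBasis_dim]
  have hgen : pb.gen = AdjoinRoot.root g := by rw [hpb, AdjoinRoot.powerBasis_gen]
  have hgenr : pb.gen ^ r = 1 := by
    have h := AdjoinRoot.mk_eq_zero.2 hgd
    rwa [map_sub, map_pow, map_one, AdjoinRoot.mk_X, sub_eq_zero, ← hgen] at h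
  let M : Matrix (Fin pb.dim) (Fin pb.dim) F := Algebra.leftMulMatrix pb.basis pb.gen
  have hMr : M ^ r = 1 := by simp only [M]; rw [← map_pow, hgenr, map_one]
  have hMc : M.charpoly = g := by
    simp only [M]
    rw [charpoly_leftMulMatrix, hgen, AdjoinRoot.minpoly_root hgi.ne_zero, hgm.leadingCoeff, inv_one, C_1, mul_one]
  have hq1 : ∀ z : F, z ^ r = 1 → z = 1 := fun z hz => by
    by_contra hne
    have hz0 : z ≠ 0 := fun e => by rw [e, zero_pow hr.ne_zero] at hz; exact zero_ne_one hz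
    have hord : r ∣ Fintype.card F - 1 := by
      rw [← orderOf_eq_prime hz hne]
      exact orderOf_dvd_of_pow_eq_one (FiniteField.pow_card_sub_one_eq_one z hz0)
    have : (Fintype.card F : ZMod r) = 1 := by
      rw [← Nat.cast_one, ZMod.natCast_eq_natCast_iff]
      exact ((Nat.modEq_iff_dvd' (Fintype.card_pos)).2 hord).symm
    rw [this, orderOf_one] at hge
    omega
  have hMd : M.det = 1 := hq1 _ (by rw [← det_pow, hMr, det_one])
  let e : Fin pb.dim ⊕ Fin (n - pb.dim) ≃ Fin n := finSumFinEquiv.trans (finCongr (by omega))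
  let x : Matrix (Fin n) (Fin n) F := reindexAlgEquiv F F e (fromBlocks M 0 0 1)
  have hxd : x.det = 1 := by
    simp only [x]
    rw [det_reindexAlgEquiv, det_fromBlocks_zero₂₁, hMd, det_one, one_mul]
  have hxr : x ^ r = 1 := by
    simp only [x]
    rw [← map_pow, fromBlocks_diagonal_pow, hMr, one_pow, fromBlocks_one, map_one]
  have hxc : x.charpoly = g * (X - C 1) ^ (n - pb.dim) := by
    simp only [x]
    rw [reindexAlgEquiv_apply, charpoly_reindex, charpoly_fromBlocks_zero₂₁, hMc, Matrix.charpoly_one, Fintype.card_fin, C_1]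
  refine ⟨x, hxd, hxr, fun e1 => ?_, fun G c hG h => ?_⟩
  · rw [e1, Matrix.charpoly_one, ← C_1] at hxc
    have : g ∣ (X - C (1 : F)) ^ Fintype.card (Fin n) := hxc ▸ dvd_mul_right _ _
    exact hg1 (eq_of_monic_of_associated hgm (monic_X_sub_C 1)
      (hgi.associated_of_dvd (irreducible_X_sub_C 1) (hgi.prime.dvd_of_dvd_pow this)))
  · obtain rfl : c = 1 := hq1 c (multiplier hG (by omega) hxd hxr h).1
    rw [one_smul] at h
    let φ := algebraMap F (AdjoinRoot g)
    let ζ : AdjoinRoot g := AdjoinRoot.root g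
    have hζr : ζ ^ r = 1 := (congrArg (· ^ r) hgen.symm).trans hgenr
    have hζ1 : ζ ≠ 1 := fun h1 => by
      apply hg1
      have h' : g ∣ X - C 1 := AdjoinRoot.mk_eq_zero.1 (by
        rw [map_sub, AdjoinRoot.mk_X, map_one, map_one]; exact sub_eq_zero.2 h1)
      exact eq_of_monic_of_associated hgm (monic_X_sub_C 1) (hgi.associated_of_dvd (irreducible_X_sub_C 1) h')
    have hζ0 : ζ ≠ 0 := fun h1 => by rw [h1, zero_pow hr.ne_zero] at hζr; exact zero_ne_one hζr
    have hev : ∀ z : AdjoinRoot g, (scalar (Fin n) z - x.map φ).det = aeval z x.charpoly := fun z => by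
      rw [← eval_charpoly, charpoly_map, Polynomial.eval_map, ← aeval_def]
    have h1 : (scalar (Fin n) ζ - x.map φ).det = 0 := by
      rw [hev, hxc, map_mul, AdjoinRoot.aeval_eq, AdjoinRoot.mk_self, zero_mul]
    have hG' : (G.map φ).det ≠ 0 := by
      rw [← RingHom.mapMatrix_apply, ← RingHom.map_det]; exact (_root_.map_ne_zero φ).2 hG
    have hh : (x.map φ)ᵀ * G.map φ * x.map φ = G.map φ := by
      rw [← transpose_map, ← Matrix.map_mul, ← Matrix.map_mul, h]
    have h2 : (scalar (Fin n) ζ⁻¹ - x.map φ).det = 0 := by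
      have e2 : (x.map φ)ᵀ * G.map φ * (scalar (Fin n) ζ⁻¹ - x.map φ) =
          (-ζ⁻¹) • ((scalar (Fin n) ζ - x.map φ)ᵀ * G.map φ) := by
        have hs : ∀ z : AdjoinRoot g, scalar (Fin n) z = z • (1 : Matrix (Fin n) (Fin n) (AdjoinRoot g)) :=
          fun z => (smul_one_eq_diagonal z).symm
        rw [mul_sub, hh, hs, hs, transpose_sub, transpose_smul, transpose_one, sub_mul, smul_sub, Matrix.mul_smul,
          Matrix.smul_mul, mul_one, one_mul, smul_smul, neg_mul, inv_mul_cancel₀ hζ0, neg_smul, neg_smul, one_smul]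
        abel
      have := congrArg Matrix.det e2
      rw [det_mul, det_mul, det_smul, det_mul, det_transpose (scalar (Fin n) ζ - x.map φ), h1, zero_mul, mul_zero,
        det_transpose] at this
      refine (mul_eq_zero.1 this).resolve_left (mul_ne_zero ?_ hG')
      rw [← RingHom.mapMatrix_apply, ← RingHom.map_det, hxd, map_one]
      exact one_ne_zero
    rw [hev, hxc, map_mul, map_pow, map_sub, aeval_X, aeval_C, map_one] at h2
    have hroot : aeval ζ⁻¹ g = 0 := (mul_eq_zero.1 h2).resolve_right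
      (pow_ne_zero _ (sub_ne_zero.2 fun h1 => hζ1 (inv_eq_one.1 h1)))
    let ψ : AdjoinRoot g →ₐ[F] AdjoinRoot g := AdjoinRoot.liftAlgHom g (Algebra.ofId F _) ζ⁻¹ hroot
    have hψ : ψ ζ = ζ⁻¹ := AdjoinRoot.liftAlgHom_root _ _ _ _
    let E : AdjoinRoot g ≃ₐ[F] AdjoinRoot g := AlgEquiv.ofBijective ψ (Algebra.IsAlgebraic.algHom_bijective ψ)
    have hE2 : E ^ 2 = 1 := by
      apply AlgEquiv.coe_algHom_injective
      refine AdjoinRoot.algHom_ext ?_
      show ψ (ψ ζ) = ζ
      rw [hψ, map_inv₀, hψ, inv_inv]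
    have hEd : E ^ g.natDegree = 1 := by
      have hfr : Module.finrank F (AdjoinRoot g) = g.natDegree := by rw [pb.finrank, hdim]
      rw [← hfr, ← IsGalois.card_aut_eq_finrank]
      exact pow_card_eq_one'
    have hE1 : E = 1 := by
      have := pow_gcd_eq_one.2 ⟨hE2, hEd⟩
      rwa [hgdeg, Nat.coprime_two_left.2 hodd, pow_one] at this
    have : ζ⁻¹ = ζ := by rw [← hψ]; exact congrArg (fun σ : AdjoinRoot g ≃ₐ[F] AdjoinRoot g => σ ζ) hE1
    have hsq : ζ ^ 2 = 1 := by rw [pow_two]; nth_rw 1 [← this]; exact inv_mul_cancel₀ hζ0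
    have := pow_gcd_eq_one.2 ⟨hsq, hζr⟩
    rw [Nat.coprime_two_left.2 (hr.odd_of_ne_two hr2), pow_one] at this
    exact hζ1 this

/-- A single unipotent block of size three: no alternating similitude form. -/
theorem exists_unipotent (p : ℕ) [Fact p.Prime] [CharP F p] (hp2 : p ≠ 2) (hn : 4 ≤ n) :
    ∃ x : Matrix (Fin n) (Fin n) F, x.det = 1 ∧ x ^ p = 1 ∧ (∀ z : F, x ≠ z • 1) ∧
      ∀ (G : Matrix (Fin n) (Fin n) F) (c : F), G.det ≠ 0 → Gᵀ = -G → xᵀ * G * x ≠ c • G := by
  have hp : p.Prime := Fact.out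
  let i0 : Fin n := ⟨0, by omega⟩
  let i1 : Fin n := ⟨1, by omega⟩
  let i2 : Fin n := ⟨2, by omega⟩
  obtain ⟨N, hNdef⟩ : ∃ N : Matrix (Fin n) (Fin n) F, N = Matrix.single i0 i1 1 + Matrix.single i1 i2 1 := ⟨_, rfl⟩
  have h01 : i0 ≠ i1 := by simp [i0, i1]
  have h02 : i0 ≠ i2 := by simp [i0, i2]
  have h12 : i1 ≠ i2 := by simp [i1, i2]
  have hN2 : N * N = Matrix.single i0 i2 1 := by
    simp [hNdef, add_mul, mul_add, Matrix.single_mul_single_of_ne, Matrix.single_mul_single_same, h01.symm, h02.symm, h12.symm]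
  have hN3 : N ^ 3 = 0 := by
    rw [pow_succ, pow_two, hN2]
    simp [hNdef, mul_add, Matrix.single_mul_single_of_ne, h02.symm, h12.symm]
  have hxp : (1 + N) ^ p = 1 := by
    haveI : Nonempty (Fin n) := ⟨i0⟩
    rw [(Commute.one_left N).add_pow_prime_eq hp, one_pow, CharP.cast_eq_zero, zero_mul, zero_mul, zero_mul, add_zero,
      pow_eq_zero_of_le (show 3 ≤ p by have := hp.two_le; omega) hN3, add_zero]
  have hxd : (1 + N).det = 1 := by
    rw [det_of_upperTriangular]
    · refine Finset.prod_eq_one fun a _ => ?_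
      rw [hNdef, Matrix.add_apply, Matrix.add_apply, Matrix.single_apply, Matrix.single_apply, Matrix.one_apply_eq,
        if_neg (fun e => h01 (e.1.trans e.2.symm)), if_neg (fun e => h12 (e.1.trans e.2.symm)), add_zero, add_zero]
    · intro a b hab
      simp only [id] at hab
      rw [hNdef, Matrix.add_apply, Matrix.add_apply, Matrix.single_apply, Matrix.single_apply,
        Matrix.one_apply_ne (ne_of_gt hab),
        if_neg (fun e => by rw [← e.1, ← e.2] at hab; simp [i0, i1, Fin.lt_def] at hab),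
        if_neg (fun e => by rw [← e.1, ← e.2] at hab; simp [i1, i2, Fin.lt_def] at hab), add_zero, add_zero]
  refine ⟨1 + N, hxd, hxp, fun z e => ?_, fun G c hG hskew h => ?_⟩
  · have := congrFun (congrFun e i0) i1
    simp [hNdef, Matrix.single_apply, h01, h01.symm] at this
  · obtain rfl : c = 1 := by
      have := (multiplier hG (by omega) hxd hxp h).1
      exact frobenius_inj F p (by rw [frobenius_def, frobenius_def, one_pow, this])
    rw [one_smul] at h
    -- the adjoint of the nilpotent part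
    have e1 : Nᵀ * G = G * (-N + N * N) := by
      have hx' : (1 + N) * (1 - N + N * N) = 1 := by
        have : N * N * N = 0 := by rw [← hN3, pow_succ, pow_two]
        simp only [mul_add, add_mul, mul_sub, sub_mul, one_mul, mul_one, ← mul_assoc, this]
        abel
      calc Nᵀ * G = (1 + N)ᵀ * G * ((1 + N) * (1 - N + N * N)) - G := by
            rw [hx', mul_one, transpose_add, transpose_one, add_mul, one_mul]; abel
        _ = G * (-N + N * N) := by
            rw [← mul_assoc, h, mul_add, mul_sub, mul_one, mul_add, mul_neg]; abel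
    have e2 : (N * N)ᵀ * G = G * (N * N) := by
      have hsq : (-N + N * N) * (-N + N * N) = N * N := by
        have : N * N * N = 0 := by rw [← hN3, pow_succ, pow_two]
        simp only [mul_add, add_mul, mul_neg, neg_mul, neg_neg, ← mul_assoc, this, zero_mul]
        abel
      rw [transpose_mul, mul_assoc, e1, ← mul_assoc, e1, mul_assoc, hsq]
    rw [hN2, transpose_single] at e2
    have hcol : ∀ b, G i0 b = 0 := by
      have h22 := congrFun (congrFun e2 i2) i2
      simp at h22
      have hg : G i2 i0 = -G i0 i2 := by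
        have := congrFun (congrFun hskew i0) i2
        simpa using this
      intro b
      by_cases hb : b = i2
      · subst hb
        rw [hg] at h22
        have h2 : (2 : F) ≠ 0 := by
          intro h2
          have : ((2 : ℕ) : F) = 0 := by exact_mod_cast h2
          rw [CharP.cast_eq_zero_iff F p] at this
          exact hp2 ((Nat.prime_dvd_prime_iff_eq hp Nat.prime_two).1 this)
        have : (2 : F) * G i0 i2 = 0 := by linear_combination h22
        exact (mul_eq_zero.1 this).resolve_left h2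
      · have := congrFun (congrFun e2 i2) b
        simpa [hb, Ne.symm hb] using this
    exact hG (det_eq_zero_of_row_eq_zero i0 hcol)

/-! ### The index -/

theorem prod_pow_sub_one (q : ℕ) (m : ℕ) :
    ∏ j ∈ Finset.range (2 * m), (q ^ (j + 1) - 1) =
      (∏ k ∈ Finset.range m, (q ^ (2 * k + 1) - 1)) * ∏ k ∈ Finset.range m, (q ^ (2 * (k + 1)) - 1) := by
  induction m with
  | zero => simp
  | succ m ih =>
    rw [Nat.mul_succ, Finset.prod_range_succ, Finset.prod_range_succ, ih, Finset.prod_range_succ, Finset.prod_range_succ,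
      show 2 * m + 1 + 1 = 2 * (m + 1) by ring]
    ring

theorem sp_embed {m : ℕ} [Fintype F] {f : (Fin n → F) → (Fin n → F) → F} (hf : Cfsg.Geo.IsSymplecticForm f)
    (hnm : n = 2 * m) :
    Nat.card (Matrix.symplecticGroup (Fin m) F) ∣
      Nat.card ↥((Cfsg.Geo.similarityGroup f).comap (Matrix.SpecialLinearGroup.toGL : Matrix.SpecialLinearGroup (Fin n) F →* GL (Fin n) F)) := by
  let B : LinearMap.BilinForm F (Fin n → F) :=
    LinearMap.mk₂ F f hf.bilinear.add_left hf.bilinear.smul_left hf.bilinear.add_right hf.bilinear.smul_right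
  have hA : B.IsAlt := hf.alternating
  have hB : B.Nondegenerate := by
    refine ⟨fun v hv => ?_, fun v hv => ?_⟩ <;> by_contra h0
    · obtain ⟨x, hx⟩ := (hf.nondegenerate v h0).2
      exact hx (hv x)
    · obtain ⟨x, hx⟩ := (hf.nondegenerate v h0).1
      exact hx (hv x)
  obtain ⟨b, hb⟩ := SympSpectra.exists_std_basis hA hB (n := m) (by simp [hnm])
  let E : Matrix (Fin m ⊕ Fin m) (Fin m ⊕ Fin m) F ≃ₐ[F] Matrix (Fin n) (Fin n) F :=
    (Matrix.toLinAlgEquiv b).trans LinearMap.toMatrixAlgEquiv'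
  have hdet : ∀ A, (E A).det = A.det := fun A => by
    simp only [E, AlgEquiv.trans_apply]
    rw [show LinearMap.toMatrixAlgEquiv' (Matrix.toLinAlgEquiv b A) = LinearMap.toMatrix' (Matrix.toLin b b A) from rfl,
      LinearMap.det_toMatrix', LinearMap.det_toLin]
  have happ : ∀ A v, b.equivFun (E A *ᵥ v) = A *ᵥ b.equivFun v := fun A v => by
    have : E A *ᵥ v = Matrix.toLin b b A v := by
      show LinearMap.toMatrix' (Matrix.toLin b b A) *ᵥ v = _
      exact LinearMap.toMatrix'_mulVec (R := F) (f := Matrix.toLin b b A) (v := v)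
    rw [this, Module.Basis.equivFun_apply, Module.Basis.equivFun_apply, Matrix.toLin_apply, Module.Basis.repr_sum_self]
  let φ : Matrix.symplecticGroup (Fin m) F →* Matrix.SpecialLinearGroup (Fin n) F :=
    MonoidHom.mk' (fun A => ⟨E A.1, by rw [hdet]; exact SymplecticGroup.det_eq_one A.2⟩)
      fun A A' => Subtype.ext (map_mul E A.1 A'.1)
  have hφi : Function.Injective φ := fun A A' h => Subtype.ext (E.injective (congrArg Subtype.val h))
  rw [Nat.card_congr (MonoidHom.ofInjective hφi).toEquiv]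
  refine Subgroup.card_dvd_of_le ?_
  rintro _ ⟨A, rfl⟩
  refine ⟨1, fun u v => ?_⟩
  show B (E A.1 *ᵥ u) (E A.1 *ᵥ v) = 1 * B u v
  rw [one_mul, hb, hb, happ, happ, ClassicalSp.spBilin_apply, ClassicalSp.spBilin_apply]
  exact (ClassicalSp.mem_iff_preserves A.1).1 A.2 _ _

theorem index_dvd [Fintype F] {m : ℕ} (hm : 1 ≤ m) {f : (Fin n → F) → (Fin n → F) → F}
    (hf : Cfsg.Geo.IsSymplecticForm f) (hnm : n = 2 * m) :
    ∃ N, ((Cfsg.Geo.similarityGroup f).comap (Matrix.SpecialLinearGroup.toGL : Matrix.SpecialLinearGroup (Fin n) F →* GL (Fin n) F)).index ∣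
      Fintype.card F ^ N * ∏ k ∈ Finset.range (m - 1), (Fintype.card F ^ (2 * (k + 1) + 1) - 1) := by
  obtain ⟨H, hH⟩ : ∃ H, H = (Cfsg.Geo.similarityGroup f).comap
      (Matrix.SpecialLinearGroup.toGL : Matrix.SpecialLinearGroup (Fin n) F →* GL (Fin n) F) := ⟨_, rfl⟩
  haveI : Nonempty (Fin n) := ⟨⟨0, by omega⟩⟩
  have hd := sp_embed hf hnm
  rw [← hH] at hd ⊢
  have hdiv : (Nat.card F - 1) * (H.index * Nat.card (Matrix.symplecticGroup (Fin m) F)) ∣ Nat.card (GL (Fin n) F) := by
    rw [← ClassicalSL.card_sl_mul, ← Subgroup.index_mul_card H]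
    exact mul_dvd_mul_left _ (mul_dvd_mul_left _ hd)
  have hq : 2 ≤ Fintype.card F := Fintype.one_lt_card
  rw [ClassicalSp.card_sp, Nat.card_eq_fintype_card (α := F)] at hdiv
  obtain ⟨N, hN⟩ : ∃ N, Nat.card (GL (Fin n) F) =
      Fintype.card F ^ N * ∏ j ∈ Finset.range n, (Fintype.card F ^ (j + 1) - 1) := by
    refine ⟨∑ i ∈ Finset.range n, i, ?_⟩
    rw [Matrix.card_GL_field, Fin.prod_univ_eq_prod_range (fun i => Fintype.card F ^ n - Fintype.card F ^ i) n,
      ← Finset.prod_range_reflect (fun j => Fintype.card F ^ (j + 1) - 1) n, ← Finset.prod_pow_eq_pow_sum,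
      ← Finset.prod_mul_distrib]
    refine Finset.prod_congr rfl fun i hi => ?_
    rw [Finset.mem_range] at hi
    rw [Nat.mul_sub, mul_one, ← pow_add, show i + (n - 1 - i + 1) = n by omega]
  rw [hN, show Finset.range n = Finset.range (2 * m) by rw [hnm], prod_pow_sub_one] at hdiv
  obtain ⟨k, rfl⟩ : ∃ k, m = k + 1 := ⟨m - 1, by omega⟩
  rw [Finset.prod_range_succ' (fun k => Fintype.card F ^ (2 * k + 1) - 1)] at hdiv
  simp only [mul_zero, zero_add, pow_one] at hdiv
  obtain ⟨P, hP⟩ : ∃ P, P = ∏ j ∈ Finset.range (k + 1), (Fintype.card F ^ (2 * (j + 1)) - 1) := ⟨_, rfl⟩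
  have hPpos : 0 < (Fintype.card F - 1) * P := Nat.mul_pos (by omega)
    (hP ▸ Finset.prod_pos fun i _ => Nat.sub_pos_of_lt (Nat.one_lt_pow (by omega) (by omega)))
  rw [← hP] at hdiv
  refine ⟨N, Nat.dvd_of_mul_dvd_mul_left hPpos ?_⟩
  refine dvd_trans ?_ (hdiv.trans (dvd_of_eq ?_))
  · exact ⟨Fintype.card F ^ (k + 1) ^ 2, by ring⟩
  · rw [Nat.add_sub_cancel]; ring

/-- The main statement, in matrices. -/
theorem exists_derangement [Fintype F] (p : ℕ) [Fact p.Prime] [CharP F p] [Fact r.Prime] (hr2 : r ≠ 2) (hn : 4 ≤ n) (he : Even n)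
    (hgap : ¬ (n = 6 ∧ r = 3)) {f : (Fin n → F) → (Fin n → F) → F} (hf : Cfsg.Geo.IsSymplecticForm f)
    (hΩ : r ∣ ((Cfsg.Geo.similarityGroup f).comap (Matrix.SpecialLinearGroup.toGL : Matrix.SpecialLinearGroup (Fin n) F →* GL (Fin n) F)).index) :
    ∃ x : Matrix (Fin n) (Fin n) F, x.det = 1 ∧ x ^ r = 1 ∧ (∀ z : F, x ≠ z • 1) ∧
      ∀ (G : Matrix (Fin n) (Fin n) F) (c : F), G.det ≠ 0 → Gᵀ = -G → xᵀ * G * x ≠ c • G := by
  have hr : r.Prime := Fact.out
  by_cases hrp : r = p
  · subst hrp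
    exact exists_unipotent r hr2 hn
  obtain ⟨m, hm⟩ := he
  obtain ⟨N, hN⟩ := index_dvd (show 1 ≤ m by omega) hf (show n = 2 * m by omega)
  have hpr : ¬ r ∣ Fintype.card F ^ N := fun h => hrp (by
    obtain ⟨k, -, hk⟩ := FiniteField.card F p
    rw [hk] at h
    exact (Nat.prime_dvd_prime_iff_eq hr Fact.out).1 (hr.dvd_of_dvd_pow (hr.dvd_of_dvd_pow h)))
  obtain ⟨k, hk, hkd⟩ := (hr.prime.exists_mem_finset_dvd ((hr.dvd_mul.1 (hΩ.trans hN)).resolve_left hpr))
  rw [Finset.mem_range] at hk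
  have hpow : (Fintype.card F : ZMod r) ^ (2 * (k + 1) + 1) = 1 := by
    have := (ZMod.natCast_eq_natCast_iff _ _ _).2 ((Nat.modEq_iff_dvd' (Nat.one_le_pow _ _ Fintype.card_pos)).2 hkd).symm
    rwa [Nat.cast_pow, Nat.cast_one] at this
  have hdvd := orderOf_dvd_of_pow_eq_one hpow
  have hodd : Odd (orderOf (Fintype.card F : ZMod r)) := Odd.of_dvd_nat ⟨k + 1, rfl⟩ hdvd
  have hle : orderOf (Fintype.card F : ZMod r) ≤ n := (Nat.le_of_dvd (by omega) hdvd).trans (by omega)
  suffices ∃ x : Matrix (Fin n) (Fin n) F, x.det = 1 ∧ x ^ r = 1 ∧ x ≠ 1 ∧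
      ∀ (G : Matrix (Fin n) (Fin n) F) (c : F), G.det ≠ 0 → xᵀ * G * x ≠ c • G by
    obtain ⟨x, hd, hxr, h1, hx⟩ := this
    refine ⟨x, hd, hxr, fun z e => ?_, fun G c hG _ => hx G c hG⟩
    exact hx (1 : Matrix (Fin n) (Fin n) F) (z * z) (by simp) (by rw [e]; simp [smul_smul])
  rcases Nat.lt_or_ge (orderOf (Fintype.card F : ZMod r)) 3 with h3 | h3
  · have h1 : orderOf (Fintype.card F : ZMod r) = 1 := by
      obtain ⟨t, ht⟩ := hodd; omega
    rw [orderOf_eq_one_iff, ← Nat.cast_one, ZMod.natCast_eq_natCast_iff] at h1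
    have hd1 : r ∣ Nat.card Fˣ := by
      rw [Nat.card_units, Nat.card_eq_fintype_card]
      exact (Nat.modEq_iff_dvd' Fintype.card_pos).1 h1.symm
    obtain ⟨u, hu⟩ := exists_prime_orderOf_dvd_card' r hd1
    exact exists_diag hr2 hn ⟨m, hm⟩ hgap (ω := (u : F))
      ((hu ▸ IsPrimitiveRoot.orderOf u).map_of_injective (f := Units.coeHom F) Units.val_injective)
  · exact exists_field_elem p hr2 hrp hodd h3 hle

theorem result_of [Fintype F] (p : ℕ) [Fact p.Prime] [CharP F p] [Fact r.Prime] (hr2 : r ≠ 2) (hn : 4 ≤ n) (he : Even n)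
    (hgap : ¬ (n = 6 ∧ r = 3)) {f : (Fin n → F) → (Fin n → F) → F} (hf : Cfsg.Geo.IsSymplecticForm f)
    (hΩ : r ∣ ((Cfsg.Geo.similarityGroup f).comap (Matrix.SpecialLinearGroup.toGL : Matrix.SpecialLinearGroup (Fin n) F →* GL (Fin n) F)).index) :
    ∃ x : Matrix.SpecialLinearGroup (Fin n) F,
      (∃ z : F, ((x ^ r : Matrix.SpecialLinearGroup (Fin n) F) : Matrix (Fin n) (Fin n) F) = z • (1 : Matrix (Fin n) (Fin n) F)) ∧
      (∀ z : F, (x : Matrix (Fin n) (Fin n) F) ≠ z • (1 : Matrix (Fin n) (Fin n) F)) ∧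
      ∀ P : Matrix.SpecialLinearGroup (Fin n) F, P⁻¹ * x * P ∉ ((Cfsg.Geo.similarityGroup f).comap (Matrix.SpecialLinearGroup.toGL : Matrix.SpecialLinearGroup (Fin n) F →* GL (Fin n) F)) := by
  obtain ⟨x, hd, hxr, hns, hx⟩ := exists_derangement p hr2 hn he hgap hf hΩ
  refine ⟨⟨x, hd⟩, ⟨1, (Matrix.SpecialLinearGroup.coe_pow _ _).trans (hxr.trans (one_smul F _).symm)⟩, hns, fun P hP => ?_⟩
  obtain ⟨c, hc⟩ := hP
  obtain ⟨G, hG⟩ := toBilin_exists hf.bilinear
  obtain ⟨hGd, hGs⟩ := gram_props hf hG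
  have hM := similitude_gram hG hc
  obtain ⟨A, hA⟩ : ∃ A : Matrix (Fin n) (Fin n) F, A = (P⁻¹).1 := ⟨_, rfl⟩
  have hAP : P.1 * A = 1 := by rw [hA, ← Matrix.SpecialLinearGroup.coe_mul, mul_inv_cancel]; rfl
  refine hx (Aᵀ * G * A) c ?_ ?_ ?_
  · rw [det_mul, det_mul, det_transpose, hA, (P⁻¹).2, one_mul, mul_one]; exact hGd
  · rw [transpose_mul, transpose_mul, transpose_transpose, hGs]; simp [Matrix.mul_assoc]
  · have e : (A * x * P.1)ᵀ * G * (A * x * P.1) = (c : F) • G := by rw [hA]; exact hM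
    calc xᵀ * (Aᵀ * G * A) * x = (P.1 * A)ᵀ * (xᵀ * (Aᵀ * G * A) * x) * (P.1 * A) := by rw [hAP, transpose_one, one_mul, mul_one]
      _ = Aᵀ * ((A * x * P.1)ᵀ * G * (A * x * P.1)) * A := by simp only [transpose_mul, Matrix.mul_assoc]
      _ = (c : F) • (Aᵀ * G * A) := by rw [e, Matrix.mul_smul, Matrix.smul_mul]

end Cfsg.Agent.LBLinSymp
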