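/-
Involutions of PSL_n and the similitude group of an alternating form.
-/
import Cfsg.Agent.Lib.LinearBlock.LinSympDerange
import Cfsg.Agent.Lib.LinearBlock.InvolutionClasses

set_option autoImplicit false
set_option linter.all false

namespace Cfsg.Agent.LBLinSympInv

open Matrix Polynomial

universe u

variable {F : Type u} [Field F] {n m : ℕ}

/-- Transport of matrices from the standard symplectic space. -/
theorem exists_transport {f : (Fin n → F) → (Fin n → F) → F} (hf : Cfsg.Geo.IsSymplecticForm f) (hnm : n = 2 * m) :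
    ∃ E : Matrix (Fin m ⊕ Fin m) (Fin m ⊕ Fin m) F ≃ₐ[F] Matrix (Fin n) (Fin n) F,
      (∀ A, (E A).det = A.det) ∧ (∀ A, (E A).charpoly = A.charpoly) ∧
      (∀ A, Module.finrank F (LinearMap.range (Matrix.toLinAlgEquiv' (E A) : Module.End F (Fin n → F))) = A.rank) ∧
      ∀ (A : Matrix (Fin m ⊕ Fin m) (Fin m ⊕ Fin m) F) (c : F),
        (∀ u v, Cfsg.sympForm m F (A *ᵥ u) (A *ᵥ v) = c * Cfsg.sympForm m F u v) →
        ∀ u v, f (E A *ᵥ u) (E A *ᵥ v) = c * f u v := by
  let B : LinearMap.BilinForm F (Fin n → F) :=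
    LinearMap.mk₂ F f hf.bilinear.add_left hf.bilinear.smul_left hf.bilinear.add_right hf.bilinear.smul_right
  have hA : B.IsAlt := hf.alternating
  have hB : B.Nondegenerate := by
    refine ⟨fun v hv => ?_, fun v hv => ?_⟩ <;> by_contra h0
    · obtain ⟨x, hx⟩ := (hf.nondegenerate v h0).2
      exact hx (hv x)
    · obtain ⟨x, hx⟩ := (hf.nondegenerate v h0).1
      exact hx (hv x)
  obtain ⟨b, hb⟩ := SympSpectra.exists_std_basis hA hB (n := m) (by simp [hnm])
  let E : Matrix (Fin m ⊕ Fin m) (Fin m ⊕ Fin m) F ≃ₐ[F] Matrix (Fin n) (Fin n) F :=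
    (Matrix.toLinAlgEquiv b).trans LinearMap.toMatrixAlgEquiv'
  have hE : ∀ A, E A = LinearMap.toMatrix' (Matrix.toLin b b A) := fun A => rfl
  refine ⟨E, fun A => by rw [hE, LinearMap.det_toMatrix', LinearMap.det_toLin], fun A => ?_, fun A => ?_, fun A c hc u v => ?_⟩
  · rw [hE, ← Matrix.charpoly_toLin', Matrix.toLin'_toMatrix', Matrix.charpoly_toLin]
  · rw [hE, show (Matrix.toLinAlgEquiv' (LinearMap.toMatrix' (Matrix.toLin b b A)) : Module.End F (Fin n → F)) =
      Matrix.toLin b b A from Matrix.toLin'_toMatrix' _, Matrix.rank_eq_finrank_range_toLin A b b]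
  · have happ : ∀ v, b.equivFun (E A *ᵥ v) = A *ᵥ b.equivFun v := fun v => by
      rw [hE, LinearMap.toMatrix'_mulVec, Module.Basis.equivFun_apply, Module.Basis.equivFun_apply, Matrix.toLin_apply,
        Module.Basis.repr_sum_self]
    show B (E A *ᵥ u) (E A *ᵥ v) = c * B u v
    rw [hb, hb, happ, happ, ClassicalSp.spBilin_apply, ClassicalSp.spBilin_apply]
    exact hc _ _

theorem sympForm_diag (s : Fin m → F) (c : F) (hs : ∀ j, s j * s j = c) (u v : Fin m ⊕ Fin m → F) :
    Cfsg.sympForm m F (fromBlocks (diagonal s) 0 0 (diagonal s) *ᵥ u) (fromBlocks (diagonal s) 0 0 (diagonal s) *ᵥ v) =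
      c * Cfsg.sympForm m F u v := by
  simp only [ClassicalSp.sympForm_eq, J, fromBlocks_mulVec, dotProduct, Fintype.sum_sum_type, Finset.mul_sum,
    Sum.elim_inl, Sum.elim_inr, zero_mulVec, neg_mulVec, one_mulVec, add_zero, zero_add, Pi.add_apply, Pi.neg_apply,
    mulVec_diagonal, Function.comp_apply, mul_add, ← hs]
  refine congrArg₂ _ (Finset.sum_congr rfl fun j _ => ?_) (Finset.sum_congr rfl fun j _ => ?_) <;> rw [← hs j] <;> ring

theorem sympForm_swap (z : F) (u v : Fin m ⊕ Fin m → F) :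
    Cfsg.sympForm m F (fromBlocks 0 (z • (1 : Matrix (Fin m) (Fin m) F)) (1 : Matrix (Fin m) (Fin m) F) 0 *ᵥ u)
      (fromBlocks 0 (z • (1 : Matrix (Fin m) (Fin m) F)) (1 : Matrix (Fin m) (Fin m) F) 0 *ᵥ v) = -z * Cfsg.sympForm m F u v := by
  simp only [ClassicalSp.sympForm_eq, J, fromBlocks_mulVec, dotProduct, Fintype.sum_sum_type, Finset.mul_sum,
    Sum.elim_inl, Sum.elim_inr, zero_mulVec, neg_mulVec, one_mulVec, smul_mulVec, add_zero, zero_add, Pi.add_apply,
    Pi.neg_apply, Function.comp_apply, Pi.smul_apply, smul_eq_mul, mul_add]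
  rw [add_comm]
  refine congrArg₂ _ (Finset.sum_congr rfl fun j _ => ?_) (Finset.sum_congr rfl fun j _ => ?_) <;> ring

theorem sympForm_unip (a : F) (s : Fin m → F) (u v : Fin m ⊕ Fin m → F) :
    Cfsg.sympForm m F ((a • fromBlocks (1 : Matrix (Fin m) (Fin m) F) (diagonal s) 0 1) *ᵥ u)
        ((a • fromBlocks (1 : Matrix (Fin m) (Fin m) F) (diagonal s) 0 1) *ᵥ v) = (a * a) * Cfsg.sympForm m F u v := by
  simp only [ClassicalSp.sympForm_eq, J, fromBlocks_mulVec, smul_mulVec, dotProduct, Fintype.sum_sum_type,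
    Sum.elim_inl, Sum.elim_inr, zero_mulVec, neg_mulVec, one_mulVec, add_zero, zero_add, Pi.add_apply, Pi.neg_apply,
    mulVec_diagonal, Function.comp_apply, Pi.smul_apply, smul_eq_mul]
  rw [← Finset.sum_add_distrib, ← Finset.sum_add_distrib, Finset.mul_sum]
  exact Finset.sum_congr rfl fun j _ => by ring

/-- The witness when `-1` is an `n`-th power. -/
theorem exists_witness (h2 : (2 : F) ≠ 0) (hn : 4 ≤ n) (he : Even n) {a : F} (ha : a ^ n = -1) :
    ∃ x : Matrix (Fin n) (Fin n) F, x.det = 1 ∧ (∃ z : F, x * x = z • 1) ∧ (∀ z : F, x ≠ z • 1) ∧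
      ∀ (G : Matrix (Fin n) (Fin n) F) (c : F), G.det ≠ 0 → Gᵀ = -G → xᵀ * G * x ≠ c • G := by
  have ha0 : a ≠ 0 := fun e => by rw [e, zero_pow (by omega)] at ha; exact one_ne_zero (neg_eq_zero.1 ha.symm)
  obtain ⟨lam, hlam⟩ : ∃ lam : Fin n → F, lam = fun j => if j.1 = 0 then a else -a := ⟨_, rfl⟩
  have hna : a ≠ -a := fun e => ha0 ((mul_eq_zero.1 (show (2 : F) * a = 0 by linear_combination e)).resolve_left h2)
  refine ⟨diagonal lam, ?_, ⟨a * a, ?_⟩, fun z e => ?_, fun G c hG hs h => ?_⟩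
  · obtain ⟨k, rfl⟩ : ∃ k, n = k + 1 := ⟨n - 1, by omega⟩
    have hodd : Odd k := by obtain ⟨w, hw⟩ := he; exact ⟨w - 1, by omega⟩
    rw [det_diagonal, Fin.prod_univ_succ, Finset.prod_eq_pow_card (b := -a) (fun i _ => by simp [hlam]), Finset.card_univ,
      Fintype.card_fin, hodd.neg_pow, hlam]
    simp only [Fin.val_zero, if_true]
    rw [mul_neg, ← pow_succ', ha, neg_neg]
  · rw [diagonal_mul_diagonal, smul_one_eq_diagonal]
    refine congrArg diagonal (funext fun j => ?_)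
    rw [hlam]; simp only; split_ifs <;> ring
  · have h0 := congrFun (congrFun e ⟨0, by omega⟩) ⟨0, by omega⟩
    have h1 := congrFun (congrFun e ⟨1, by omega⟩) ⟨1, by omega⟩
    simp [hlam] at h0 h1
    exact hna (h0.trans h1.symm)
  · obtain ⟨π, hπ⟩ := LBLinSymp.perm_of_det_ne_zero hG
    have hpair : ∀ j, lam (π j) * lam j = c := by
      intro j
      have e := congrFun (congrFun h (π j)) j
      rw [diagonal_transpose, mul_diagonal, diagonal_mul, Matrix.smul_apply, smul_eq_mul] at e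
      exact mul_right_cancel₀ (hπ j) (by rw [← e]; ring)
    have hfix : ∀ j, π j ≠ j := fun j e => by
      have e' := hπ j
      rw [e] at e'
      have := congrFun (congrFun hs j) j
      rw [transpose_apply, Matrix.neg_apply] at this
      exact e' ((mul_eq_zero.1 (show (2 : F) * G j j = 0 by linear_combination this)).resolve_left h2)
    let z0 : Fin n := ⟨0, by omega⟩
    have hl : ∀ j : Fin n, j ≠ z0 → lam j = -a := fun j hj => by
      rw [hlam]; exact if_neg fun e => hj (Fin.ext e)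
    have h0 : lam z0 = a := by rw [hlam]; exact if_pos rfl
    have hc : c = -(a * a) := by rw [← hpair z0, h0, hl _ (hfix z0)]; ring
    have key : ∀ j, j ≠ z0 → π j = z0 := fun j hj => by
      by_contra hne
      have := hpair j
      rw [hl j hj, hl _ hne, hc] at this
      exact ha0 (mul_self_eq_zero.1 ((mul_eq_zero.1 (show (2 : F) * (a * a) = 0 by linear_combination this)).resolve_left h2))
    have := π.injective ((key ⟨1, by omega⟩ (by simp [z0])).trans (key ⟨2, by omega⟩ (by simp [z0])).symm)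
    simp at this

variable [Fintype F]

theorem main_odd (p : ℕ) [Fact p.Prime] [CharP F p] (hp : p ≠ 2) (hn : 4 ≤ n) (hnm : n = 2 * m)
    (hv : padicValNat 2 (Fintype.card F - 1) ≤ padicValNat 2 n)
    {f : (Fin n → F) → (Fin n → F) → F} (hf : Cfsg.Geo.IsSymplecticForm f) {x : Matrix (Fin n) (Fin n) F}
    (hxd : x.det = 1) {z : F} (hxz : x * x = z • 1) :
    ∃ (h : Matrix (Fin n) (Fin n) F) (P : Matrix.SpecialLinearGroup (Fin n) F), (P⁻¹).1 * x * P.1 = h ∧
      ∃ c : F, c ≠ 0 ∧ ∀ u v, f (h *ᵥ u) (h *ᵥ v) = c * f u v := by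
  have h2 : (2 : F) ≠ 0 := by
    intro h2
    have : ((2 : ℕ) : F) = 0 := by exact_mod_cast h2
    rw [CharP.cast_eq_zero_iff F p] at this
    exact hp ((Nat.prime_dvd_prime_iff_eq Fact.out Nat.prime_two).1 this)
  haveI : Nonempty (Fin n) := ⟨⟨0, by omega⟩⟩
  have hz : z ≠ 0 := fun e => by
    have := congrArg Matrix.det hxz
    rw [det_mul, hxd, e, zero_smul, det_zero, mul_one] at this
    exact one_ne_zero this
  obtain ⟨E, hEd, hEc, -, hEf⟩ := exists_transport hf hnm
  suffices ∃ (A : Matrix (Fin m ⊕ Fin m) (Fin m ⊕ Fin m) F) (c : F), c ≠ 0 ∧ A * A = z • 1 ∧ A.charpoly = x.charpoly ∧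
      ∀ u v, Cfsg.sympForm m F (A *ᵥ u) (A *ᵥ v) = c * Cfsg.sympForm m F u v by
    obtain ⟨A, c, hc, hA2, hAc, hAf⟩ := this
    have hx := LBInvCl.semisimple_of_sq p hp hz hxz
    have hA : E A * E A = z • 1 := by rw [← map_mul, hA2, map_smul, map_one]
    obtain ⟨P, hP⟩ := LBInvCl.sl_conj_semisimple (by omega) hx (LBInvCl.semisimple_of_sq p hp hz hA) (by rw [hEc, hAc])
    exact ⟨E A, P, hP, c, hc, hEf A c hAf⟩
  by_cases hsq : IsSquare z
  · obtain ⟨a, rfl⟩ := hsq
    have ha : a ≠ 0 := fun e => hz (by rw [e, mul_zero])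
    obtain ⟨k, hkn, hk⟩ := LBInvCl.charpoly_square hxz
    have hkev : Even k := by
      by_contra hko
      rw [Nat.not_even_iff_odd] at hko
      have hd := det_eq_sign_charpoly_coeff x
      rw [hxd, hk, Fintype.card_fin, mul_coeff_zero, coeff_zero_eq_eval_zero, coeff_zero_eq_eval_zero, eval_pow, eval_pow,
        eval_sub, eval_sub, eval_X, eval_C, eval_C, zero_sub, zero_sub, neg_neg, hko.neg_pow] at hd
      refine LBInvCl.pow_ne_neg_one h2 (by omega) hv a ?_
      have hodd : Odd (n - k) := by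
        obtain ⟨w, hw⟩ := hko; exact ⟨m - w - 1, by omega⟩
      have he : Even n := ⟨m, by omega⟩
      rw [he.neg_one_pow, one_mul, neg_mul, ← pow_add, Nat.add_sub_cancel' hkn] at hd
      rw [hd, neg_neg]
    obtain ⟨j, hj⟩ := hkev
    let s : Fin m → F := fun i => if i.1 < j then a else -a
    have hs : ∀ i, s i * s i = a * a := fun i => by simp only [s]; split_ifs <;> ring
    refine ⟨fromBlocks (diagonal s) 0 0 (diagonal s), a * a, hz, ?_, ?_, sympForm_diag s _ hs⟩
    · rw [fromBlocks_multiply, diagonal_mul_diagonal]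
      simp only [Matrix.mul_zero, Matrix.zero_mul, add_zero, zero_add]
      rw [funext hs, ← smul_one_eq_diagonal, ← fromBlocks_one, fromBlocks_smul, smul_zero]
    · rw [charpoly_fromBlocks_zero₂₁, charpoly_diagonal, hk]
      have hsplit : ∀ jj : ℕ, jj ≤ m → ∏ i : Fin m, (X - C (if i.1 < jj then a else -a)) =
          (X - C a) ^ jj * (X - C (-a)) ^ (m - jj) := by
        intro jj hjj
        rw [Fin.prod_univ_eq_prod_range (fun i => X - C (if i < jj then a else -a)) m,
          ← Finset.prod_range_mul_prod_Ico _ hjj]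
        congr 1
        · rw [Finset.prod_eq_pow_card (b := X - C a) fun i hi => by rw [if_pos (Finset.mem_range.1 hi)], Finset.card_range]
        · rw [Finset.prod_eq_pow_card (b := X - C (-a)) fun i hi => by rw [if_neg (not_lt.2 (Finset.mem_Ico.1 hi).1)],
            Nat.card_Ico]
      show (∏ i, (X - C (s i))) * (∏ i, (X - C (s i))) = _
      rw [hsplit j (by omega), hj, show n - (j + j) = (m - j) + (m - j) by omega]
      ring
  · obtain ⟨k, hkn, hk⟩ := LBInvCl.charpoly_nonsquare hxz hsq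
    have hA2 : (fromBlocks 0 (z • 1) 1 0 : Matrix (Fin m ⊕ Fin m) (Fin m ⊕ Fin m) F) * fromBlocks 0 (z • 1) 1 0 = z • 1 := by
      rw [fromBlocks_multiply, ← fromBlocks_one, fromBlocks_smul]
      simp
    refine ⟨_, -z, neg_ne_zero.2 hz, hA2, ?_, sympForm_swap z⟩
    rw [← hEc]
    obtain ⟨k', hk'n, hk'⟩ := LBInvCl.charpoly_nonsquare (x := E (fromBlocks 0 (z • 1) 1 0))
      (by rw [← map_mul, hA2, map_smul, map_one]) hsq
    rw [hk', hk, show k' = k by omega]

theorem main_two [CharP F 2] (hn : 4 ≤ n) (hnm : n = 2 * m)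
    {f : (Fin n → F) → (Fin n → F) → F} (hf : Cfsg.Geo.IsSymplecticForm f) {x : Matrix (Fin n) (Fin n) F}
    (hxd : x.det = 1) {z : F} (hxz : x * x = z • 1) :
    ∃ (h : Matrix (Fin n) (Fin n) F) (P : Matrix.SpecialLinearGroup (Fin n) F), (P⁻¹).1 * x * P.1 = h ∧
      ∃ c : F, c ≠ 0 ∧ ∀ u v, f (h *ᵥ u) (h *ᵥ v) = c * f u v := by
  classical
  haveI : Fact (Nat.Prime 2) := ⟨Nat.prime_two⟩
  have hsq : ∀ t : F, ∃ s, t = s * s := fun t => FiniteField.isSquare_of_char_two (ringChar.eq F 2) t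
  obtain ⟨a, rfl⟩ := hsq z
  haveI : Nonempty (Fin n) := ⟨⟨0, by omega⟩⟩
  have ha : a ≠ 0 := fun e => by
    have := congrArg Matrix.det hxz
    rw [det_mul, hxd, e, mul_zero, zero_smul, det_zero, mul_one] at this
    exact one_ne_zero this
  haveI : Nonempty (Fin n) := ⟨⟨0, by omega⟩⟩
  haveI : CharP (Matrix (Fin n) (Fin n) F) 2 := inferInstance
  obtain ⟨E, hEd, -, hEr, hEf⟩ := exists_transport hf hnm
  obtain ⟨y, hy⟩ : ∃ y, y = a⁻¹ • x := ⟨_, rfl⟩
  have hyy : y * y = 1 := by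
    rw [hy, smul_mul_smul_comm, hxz, smul_smul, show a⁻¹ * a⁻¹ * (a * a) = 1 by field_simp, one_smul]
  let φ : Module.End F (Fin n → F) := Matrix.toLinAlgEquiv' (y - 1)
  have hphi : φ * φ = 0 := by
    simp only [φ]
    rw [← map_mul, show (y - 1) * (y - 1) = 0 by
      rw [sub_mul, one_mul, mul_sub, mul_one, hyy, CharTwo.sub_eq_add, CharTwo.sub_eq_add, CharTwo.sub_eq_add,
        add_comm y 1, CharTwo.add_self_eq_zero], map_zero]
  obtain ⟨k, hk⟩ : ∃ k, k = Module.finrank F (LinearMap.range φ) := ⟨_, rfl⟩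
  have hker : Module.finrank F (LinearMap.ker φ) + k = n := by
    rw [hk, add_comm, LinearMap.finrank_range_add_finrank_ker, Module.finrank_fin_fun]
  have hkm : k ≤ m := by
    have : LinearMap.range φ ≤ LinearMap.ker φ := by
      rintro _ ⟨v, rfl⟩
      rw [LinearMap.mem_ker, ← Module.End.mul_apply, hphi, LinearMap.zero_apply]
    have := Submodule.finrank_mono this
    omega
  obtain ⟨s, hs⟩ : ∃ s : Fin m → F, s = fun i => if i.1 < k then 1 else 0 := ⟨_, rfl⟩
  obtain ⟨U, hU⟩ : ∃ U : Matrix (Fin m ⊕ Fin m) (Fin m ⊕ Fin m) F, U = fromBlocks 1 (diagonal s) 0 1 := ⟨_, rfl⟩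
  have hU2 : U * U = 1 := by
    haveI : Nonempty (Fin m) := ⟨⟨0, by omega⟩⟩
    haveI : CharP (Matrix (Fin m) (Fin m) F) 2 := inferInstance
    rw [hU, fromBlocks_multiply, ← fromBlocks_one]
    simp [CharTwo.add_self_eq_zero]
  let g : GL (Fin n) F := ⟨y, y, hyy, hyy⟩
  let h : GL (Fin n) F := ⟨E U, E U, by rw [← map_mul, hU2, map_one], by rw [← map_mul, hU2, map_one]⟩
  have hg2 : g ^ 2 = 1 := by rw [pow_two]; exact Units.ext g.3
  have hh2 : h ^ 2 = 1 := by rw [pow_two]; exact Units.ext h.3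
  let ψ : Module.End F (Fin n → F) := Matrix.toLinAlgEquiv' (E U - 1)
  have e1 : E U - 1 = E (fromBlocks 0 (diagonal s) 0 0) := by
    rw [← map_one E, ← map_sub, hU, ← fromBlocks_one, sub_eq_add_neg, fromBlocks_neg, fromBlocks_add]
    simp
  have hpsi : ψ * ψ = 0 := by
    simp only [ψ]
    rw [e1, ← map_mul, ← map_mul, fromBlocks_multiply]
    simp
  have hrk : Module.finrank F (LinearMap.range ψ) = k := by
    refine (congrArg (fun A => Module.finrank F (LinearMap.range (Matrix.toLinAlgEquiv' A : Module.End F (Fin n → F)))) e1).trans ((hEr _).trans ?_)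
    rw [show (fromBlocks 0 (diagonal s) 0 0 : Matrix (Fin m ⊕ Fin m) (Fin m ⊕ Fin m) F) =
        (diagonal (Sum.elim s (fun _ => (0 : F)))).submatrix (Equiv.refl _) (Equiv.sumComm _ _) by
      ext (i | i) (j | j) <;> simp [diagonal_apply], rank_submatrix, rank_diagonal]
    refine (Fintype.card_congr ?_).trans (Fintype.card_fin k)
    exact
      { toFun := fun i => match i with
          | ⟨Sum.inl i, hi⟩ => ⟨i.1, by by_contra hlt; exact hi (by rw [hs]; exact if_neg hlt)⟩
          | ⟨Sum.inr i, hi⟩ => absurd rfl hi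
        invFun := fun i => ⟨Sum.inl ⟨i.1, by omega⟩, by simp [hs, i.2]⟩
        left_inv := fun ⟨i, hi⟩ => by
          rcases i with i | i
          · rfl
          · exact absurd rfl hi
        right_inv := fun i => rfl }
  have hconj : IsConj g h := by
    refine LBUnipPrime.isConj_of_finrank hg2 hh2 fun j => ?_
    show Module.finrank F (LinearMap.ker (φ ^ j)) = Module.finrank F (LinearMap.ker (ψ ^ j))
    rcases j with _ | _ | j
    · rw [pow_zero, pow_zero]
    · have := LinearMap.finrank_range_add_finrank_ker ψ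
      rw [Module.finrank_fin_fun, hrk] at this
      rw [pow_one, pow_one]
      omega
    · rw [pow_succ' φ, pow_succ' φ, ← mul_assoc, hphi, zero_mul, pow_succ' ψ, pow_succ' ψ, ← mul_assoc, hpsi, zero_mul]
  obtain ⟨cc, hcc⟩ := isConj_iff.1 hconj
  have hcx : cc.1 * x = E (a • U) * cc.1 := by
    have e : cc.1 * y = E U * cc.1 := congrArg Units.val (mul_inv_eq_iff_eq_mul.1 hcc)
    rw [show x = a • y by rw [hy, smul_smul, mul_inv_cancel₀ ha, one_smul], map_smul, Matrix.mul_smul, e, Matrix.smul_mul]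
  obtain ⟨P, hP⟩ := LBInvCl.sl_conj cc hcx fun t ht => by
    obtain ⟨r, rfl⟩ := hsq t
    obtain ⟨M, hM⟩ : ∃ M : Matrix (Fin m ⊕ Fin m) (Fin m ⊕ Fin m) F,
        M = fromBlocks (diagonal (Function.update 1 ⟨0, by omega⟩ r)) 0 0 (diagonal (Function.update 1 ⟨0, by omega⟩ r)) :=
      ⟨_, rfl⟩
    have hMU : M * (a • U) = (a • U) * M := by
      rw [hM, hU, Matrix.mul_smul, Matrix.smul_mul, fromBlocks_multiply, fromBlocks_multiply]
      simp [diagonal_mul_diagonal, mul_comm]
    refine ⟨(cc⁻¹ : GL (Fin n) F).1 * E M * cc.1, ?_, ?_⟩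
    · have ex : x = (cc⁻¹ : GL (Fin n) F).1 * E (a • U) * cc.1 := by
        rw [Matrix.mul_assoc, ← hcx, ← Matrix.mul_assoc, Units.inv_mul, one_mul]
      rw [ex]
      simp only [Matrix.mul_assoc, Units.mul_inv_cancel_left]
      rw [← Matrix.mul_assoc (E M), ← map_mul, hMU, map_mul, Matrix.mul_assoc]
    · rw [det_mul, det_mul, hEd, hM, det_fromBlocks_zero₂₁, det_diagonal, Finset.prod_update_of_mem (Finset.mem_univ _)]
      rw [show (∏ i ∈ Finset.univ \ {(⟨0, by omega⟩ : Fin m)}, (1 : Fin m → F) i) = 1 by simp, mul_one]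
      have := congrArg Matrix.det (Units.inv_mul cc)
      rw [det_mul, det_one] at this
      linear_combination (r * r) * this
  refine ⟨E (a • U), P, hP, a * a, mul_ne_zero ha ha, hEf _ _ fun u v => ?_⟩
  rw [hU]
  exact sympForm_unip a s u v

theorem result_of (p : ℕ) [Fact p.Prime] [CharP F p] (hn : 4 ≤ n) (he : Even n)
    {f : (Fin n → F) → (Fin n → F) → F} (hf : Cfsg.Geo.IsSymplecticForm f) :
    (∀ x : Matrix.SpecialLinearGroup (Fin n) F,
      (∃ z : F, ((x ^ 2 : Matrix.SpecialLinearGroup (Fin n) F) : Matrix (Fin n) (Fin n) F) = z • (1 : Matrix (Fin n) (Fin n) F)) →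
      (∀ z : F, (x : Matrix (Fin n) (Fin n) F) ≠ z • (1 : Matrix (Fin n) (Fin n) F)) →
      ∃ P : Matrix.SpecialLinearGroup (Fin n) F, P⁻¹ * x * P ∈ ((Cfsg.Geo.similarityGroup f).comap (Matrix.SpecialLinearGroup.toGL : Matrix.SpecialLinearGroup (Fin n) F →* GL (Fin n) F))) ↔
    padicValNat 2 (Fintype.card F - 1) ≤ padicValNat 2 n := by
  have hval : ∀ x : Matrix.SpecialLinearGroup (Fin n) F, (x ^ 2 : Matrix.SpecialLinearGroup (Fin n) F).1 = x.1 * x.1 :=
    fun x => by rw [pow_two]; exact Matrix.SpecialLinearGroup.coe_mul _ _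
  constructor
  · intro hall
    by_contra hv
    rw [not_le] at hv
    have hp : p ≠ 2 := by
      rintro rfl
      obtain ⟨e, -, hF⟩ := FiniteField.card F 2
      have hodd : ¬ 2 ∣ Fintype.card F - 1 := fun h => by
        have h2 : 2 ∣ Fintype.card F := hF ▸ dvd_pow_self 2 e.ne_zero
        have := Fintype.card_pos (α := F)
        omega
      rw [padicValNat.eq_zero_of_not_dvd hodd] at hv
      omega
    have h2 : (2 : F) ≠ 0 := by
      intro h2
      have : ((2 : ℕ) : F) = 0 := by exact_mod_cast h2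
      rw [CharP.cast_eq_zero_iff F p] at this
      exact hp ((Nat.prime_dvd_prime_iff_eq Fact.out Nat.prime_two).1 this)
    obtain ⟨a, ha⟩ := LBInvCl.exists_pow_eq_neg_one h2 (by omega) hv
    obtain ⟨x, hxd, ⟨z, hz⟩, hns, hx⟩ := exists_witness h2 hn he ha
    obtain ⟨P, c, hc⟩ := hall ⟨x, hxd⟩ ⟨z, (hval _).trans hz⟩ hns
    obtain ⟨G, hG⟩ := LBLinSymp.toBilin_exists hf.bilinear
    obtain ⟨hGd, hGs⟩ := LBLinSymp.gram_props hf hG
    have hM := LBLinSymp.similitude_gram hG hc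
    obtain ⟨A, hA⟩ : ∃ A : Matrix (Fin n) (Fin n) F, A = (P⁻¹).1 := ⟨_, rfl⟩
    have hAP : P.1 * A = 1 := by rw [hA, ← Matrix.SpecialLinearGroup.coe_mul, mul_inv_cancel]; rfl
    refine hx (Aᵀ * G * A) c ?_ ?_ ?_
    · rw [det_mul, det_mul, det_transpose, hA, (P⁻¹).2, one_mul, mul_one]; exact hGd
    · rw [transpose_mul, transpose_mul, transpose_transpose, hGs]; simp [Matrix.mul_assoc]
    · have e : (A * x * P.1)ᵀ * G * (A * x * P.1) = (c : F) • G := by rw [hA]; exact hM
      calc xᵀ * (Aᵀ * G * A) * x = (P.1 * A)ᵀ * (xᵀ * (Aᵀ * G * A) * x) * (P.1 * A) := by rw [hAP, transpose_one, one_mul, mul_one]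
        _ = Aᵀ * ((A * x * P.1)ᵀ * G * (A * x * P.1)) * A := by simp only [transpose_mul, Matrix.mul_assoc]
        _ = (c : F) • (Aᵀ * G * A) := by rw [e, Matrix.mul_smul, Matrix.smul_mul]
  · rintro hv x ⟨z, hz⟩ -
    rw [hval] at hz
    obtain ⟨m, hm⟩ := he
    have key : ∃ (h : Matrix (Fin n) (Fin n) F) (P : Matrix.SpecialLinearGroup (Fin n) F), (P⁻¹).1 * x.1 * P.1 = h ∧
        ∃ c : F, c ≠ 0 ∧ ∀ u v, f (h *ᵥ u) (h *ᵥ v) = c * f u v := by
      by_cases hp : p = 2
      · subst hp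
        exact main_two hn (show n = 2 * m by omega) hf x.2 hz
      · exact main_odd p hp hn (show n = 2 * m by omega) hv hf x.2 hz
    obtain ⟨h, P, hP, c, hc, hf'⟩ := key
    refine ⟨P, Units.mk0 c hc, fun u v => ?_⟩
    show f (((P⁻¹).1 * x.1 * P.1) *ᵥ u) (((P⁻¹).1 * x.1 * P.1) *ᵥ v) = c * f u v
    rw [hP]
    exact hf' u v

end Cfsg.Agent.LBLinSympInv
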