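/-
The involutions of SU_3(q), q odd, as non-singular points, and their commuting graph.
-/
import Cfsg.Agent.Lib.Classical.HermSU
import Cfsg.Agent.Lib.Classical.TwoByTwo
import Cfsg.Agent.Lib.KSG.InvolutionBasis

set_option autoImplicit false

namespace Cfsg.Agent.SU3Inv

open Matrix Hermitian Module

variable {F : Type*} [Field F] [Fintype F]

/-- The standing data. -/
structure Data (F : Type*) [Field F] [Fintype F] (q : ℕ) where
  σ : F →+* F
  hne : σ ≠ RingHom.id F
  hinv : ∀ a, σ (σ a) = a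
  hσ : ∀ x, σ x = x ^ q
  hfix : Nat.card (fixed σ) = q
  h2 : (2 : F) ≠ 0

theorem exists_data {q : ℕ} (hq : Odd q) (hF : Fintype.card F = q ^ 2) : Nonempty (Data F q) := by
  obtain ⟨σ, hσ, hne, hinv, hfix, -⟩ := HermStd.exists_sigma hF
  exact ⟨⟨σ, hne, hinv, hσ, hfix, Ring.two_ne_zero fun h => by
    have h1 := FiniteField.even_card_of_char_two h
    have h3 := Nat.odd_iff.1 (hq.pow (n := 2))
    rw [hF] at h1; omega⟩⟩

variable {q : ℕ} (D : Data F q)

local notation "H" => Cfsg.hermForm 3 F q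
local notation "V" => (Fin 3 → F)

theorem isHerm : IsHerm D.σ H := HermStd.isHerm_std D.hne D.hinv D.hσ 3

/-- The matrix of the involution with +1 space spanned by `v`. -/
def rmat (v : V) : Matrix (Fin 3) (Fin 3) F := -1 + (2 : F) • Matrix.vecMulVec v (D.σ ∘ v)

theorem rmat_apply (v x : V) : rmat D v *ᵥ x = -x + (2 * H x v) • v := by
  rw [rmat, Matrix.add_mulVec, Matrix.neg_mulVec, Matrix.one_mulVec, Matrix.smul_mulVec,
    Matrix.vecMulVec_mulVec, ← smul_assoc]
  congr 1
  ext i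
  simp [Cfsg.hermForm, dotProduct, D.hσ, mul_comm, mul_left_comm]

include D in
theorem frame_expand {b : Fin 3 → V} (hb : ∀ i j, H (b i) (b j) = if i = j then 1 else 0) (x : V) :
    x = ∑ i, H x (b i) • b i := by
  have hh := isHerm D
  have hli := hh.linearIndependent_of_gram (hh.orthonormal_gram hb)
  have htop := hli.span_eq_top_of_card_eq_finrank' (by simp)
  rw [← sub_eq_zero]
  refine hh.nondeg _ fun w => ?_
  obtain ⟨c, rfl⟩ := (Submodule.mem_span_range_iff_exists_fun F).1 (htop ▸ Submodule.mem_top (x := w))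
  rw [hh.symm, hh.sum_left, map_sum]
  refine Finset.sum_eq_zero fun j _ => ?_
  rw [hh.smul_left, map_mul, ← hh.symm, hh.sub_left, hh.sum_left]
  simp [hh.smul_left, hb]

/-- A basis from an orthonormal frame. -/
noncomputable def frameBasis {b : Fin 3 → V} (hb : ∀ i j, H (b i) (b j) = if i = j then 1 else 0) :
    Basis (Fin 3) F V :=
  Basis.mk ((isHerm D).linearIndependent_of_gram ((isHerm D).orthonormal_gram hb))
    (((isHerm D).linearIndependent_of_gram ((isHerm D).orthonormal_gram hb)).span_eq_top_of_card_eq_finrank'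
      (by simp)).ge

include D in
theorem exists_frame {v : V} (hv : H v v = 1) :
    ∃ b : Fin 3 → V, (∀ i j, H (b i) (b j) = if i = j then 1 else 0) ∧ b 0 = v := by
  have hh := isHerm D
  obtain ⟨hdim, hW, -⟩ := hh.orth_spec (x := fun _ : Fin 1 => v)
    (hh.orthonormal_gram (fun i j => by rw [Subsingleton.elim i j, hv]; simp))
  rw [Module.finrank_fintype_fun_eq_card, Fintype.card_fin, Fintype.card_fin] at hdim
  obtain ⟨c, hc⟩ := exists_orthonormal (n := 2) hW (by omega)
  refine ⟨Fin.cons v fun i => (c i).1, fun i j => ?_, rfl⟩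
  have hp : ∀ k, H (c k).1 v = 0 := fun k => hh.mem_orth.1 (c k).2 0
  induction i using Fin.cases <;> induction j using Fin.cases
  · simp [hv]
  · rename_i j; simp [hh.eq_zero_comm.1 (hp j), (Fin.succ_ne_zero j).symm]
  · rename_i i; simp [hp i, Fin.succ_ne_zero i]
  · rename_i i j; simpa using hc i j

include D in
theorem exists_third {v w : V} (hv : H v v = 1) (hw : H w w = 1) (hvw : H v w = 0) :
    ∃ u : V, H u u = 1 ∧ H u v = 0 ∧ H u w = 0 ∧
      ∀ u' : V, H u' v = 0 → H u' w = 0 → u' = H u' u • u := by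
  have hh := isHerm D
  have hg : ∀ i j : Fin 2, H (![v, w] i) (![v, w] j) = if i = j then 1 else 0 := by
    intro i j; fin_cases i <;> fin_cases j <;> simp [hv, hw, hvw, hh.eq_zero_comm.1 hvw]
  obtain ⟨hdim, hW, -⟩ := hh.orth_spec (hh.orthonormal_gram hg)
  rw [Module.finrank_fintype_fun_eq_card, Fintype.card_fin, Fintype.card_fin] at hdim
  obtain ⟨c, hc⟩ := exists_orthonormal (n := 1) hW (by omega)
  have hu := hh.mem_orth.1 (c 0).2
  refine ⟨(c 0).1, by simpa using hc 0 0, by simpa using hu 0, by simpa using hu 1, fun u' h1 h3 => ?_⟩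
  let b : Fin 3 → V := ![v, w, (c 0).1]
  have huv : H (c 0).1 v = 0 := by simpa using hu 0
  have huw : H (c 0).1 w = 0 := by simpa using hu 1
  have huu : H (c 0).1 (c 0).1 = 1 := by simpa using hc 0 0
  have hb : ∀ i j, H (b i) (b j) = if i = j then 1 else 0 := by
    intro i j
    fin_cases i <;> fin_cases j <;>
      simp [b, hv, hw, hvw, huv, huw, huu, hh.eq_zero_comm.1 hvw, hh.eq_zero_comm.1 huv, hh.eq_zero_comm.1 huw]
  have h := frame_expand D hb u'
  simpa [b, Fin.sum_univ_three, h1, h3] using h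

theorem rmat_preserves {v : V} (hv : H v v = 1) (x y : V) : H (rmat D v *ᵥ x) (rmat D v *ᵥ y) = H x y := by
  have hh := isHerm D
  have hneg : ∀ a b : V, H (-a) b = - H a b := fun a b => by rw [← neg_one_smul F a, hh.smul_left, neg_one_mul]
  have hneg' : ∀ a b : V, H a (-b) = - H a b := fun a b => by
    rw [← neg_one_smul F b, hh.smul_right, map_neg, map_one, neg_one_mul]
  simp only [rmat_apply, hh.add_left, hh.add_right, hneg, hneg', hh.smul_left, hh.smul_right, hv, map_mul,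
    map_ofNat]
  rw [hh.symm y v]
  ring

theorem rmat_mul_self {v : V} (hv : H v v = 1) : rmat D v * rmat D v = 1 := by
  refine Matrix.ext_iff_mulVec.2 fun x => ?_
  have hh := isHerm D
  rw [← Matrix.mulVec_mulVec, Matrix.one_mulVec, rmat_apply, rmat_apply, hh.add_left, hh.smul_left, hv,
    ← neg_one_smul F x, hh.smul_left]
  module

theorem rmat_det {v : V} (hv : H v v = 1) : (rmat D v).det = 1 := by
  obtain ⟨b, hb, hb0⟩ := exists_frame D hv
  rw [KSG.InvolutionBasis.det_eq_prod (frameBasis D hb) (rmat D v) (fun i => if i = 0 then 1 else -1)]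
  · simp [Fin.prod_univ_three]
  · intro i
    have hbi : (frameBasis D hb) i = b i := Basis.mk_apply _ _ i
    rw [hbi, rmat_apply, ← hb0, hb]
    rcases eq_or_ne i 0 with rfl | hi
    · rw [if_pos rfl, if_pos rfl]; module
    · rw [if_neg hi, if_neg hi]; module

/-- The involution as an element of SU. -/
def refl (v : {v : V // H v v = 1}) : ↥(Cfsg.SU 3 F q) :=
  ⟨⟨rmat D v.1, rmat_det D v.2⟩, fun x y => rmat_preserves D v.2 x y⟩

theorem refl_ne_one (v : {v : V // H v v = 1}) : refl D v ≠ 1 := by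
  intro h
  have h1 : rmat D v.1 = 1 := congrArg (fun g : ↥(Cfsg.SU 3 F q) => g.1.1) h
  obtain ⟨b, hb, hb0⟩ := exists_frame D v.2
  have h3 := rmat_apply D v.1 (b 1)
  rw [h1, Matrix.one_mulVec, ← hb0, hb] at h3
  have h4 : (2 : F) • b 1 = 0 := by
    simp at h3
    rw [two_smul]; exact eq_neg_iff_add_eq_zero.1 h3
  exact ((isHerm D).linearIndependent_of_gram ((isHerm D).orthonormal_gram hb)).ne_zero 1
    ((smul_eq_zero.1 h4).resolve_left D.h2)

theorem refl_sq (v : {v : V // H v v = 1}) : refl D v * refl D v = 1 :=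
  Subtype.ext (Subtype.ext (rmat_mul_self D v.2))

theorem refl_surj (t : ↥(Cfsg.SU 3 F q)) (ht : t ≠ 1) (ht2 : t * t = 1) : ∃ v, refl D v = t := by
  classical
  have hh := isHerm D
  have hM : t.1.1 * t.1.1 = 1 := congrArg (fun g : ↥(Cfsg.SU 3 F q) => g.1.1) ht2
  obtain ⟨b, hb⟩ := KSG.InvolutionBasis.exists_matrix_basis D.h2 {t.1.1}
    (by rintro _ rfl; exact hM) (by rintro _ rfl _ rfl; rfl)
  let c : Basis (Fin 3) F V := b.reindex (finCongr (Fintype.card_fin 3))
  have hc : ∀ i, t.1.1 *ᵥ c i = c i ∨ t.1.1 *ᵥ c i = -c i := fun i => by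
    simpa [c, Basis.reindex_apply] using hb _ rfl ((finCongr (Fintype.card_fin 3)).symm i)
  let s : Fin 3 → F := fun i => if t.1.1 *ᵥ c i = c i then 1 else -1
  have hs : ∀ i, t.1.1 *ᵥ c i = s i • c i := fun i => by
    by_cases h : t.1.1 *ᵥ c i = c i
    · simp only [s, if_pos h, one_smul]; exact h
    · simp only [s, if_neg h]; rw [(hc i).resolve_left h, neg_one_smul]
  have hdet : ∏ i, s i = 1 := (KSG.InvolutionBasis.det_eq_prod c _ s hs).symm.trans t.1.2
  have hone : ¬ ∀ i, s i = 1 := fun hall => ht (Subtype.ext (Subtype.ext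
    (Matrix.toLin'.injective (c.ext fun i => by simp [hs, hall]))))
  have hne : (-1 : F) ≠ 1 := fun h => D.h2 (by linear_combination -h)
  have hsc : ∀ i, s i = 1 ∨ s i = -1 := fun i => by simp only [s]; split_ifs <;> simp
  obtain ⟨k, hk, hk'⟩ : ∃ k, s k = 1 ∧ ∀ j, j ≠ k → s j = -1 := by
    rw [Fin.prod_univ_three] at hdet
    rcases hsc 0 with a | a <;> rcases hsc 1 with b' | b' <;> rcases hsc 2 with c' | c'
    all_goals rw [a, b', c'] at hdet
    all_goals first
      | (refine absurd ?_ hone; intro i; fin_cases i <;> assumption)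
      | (refine absurd ?_ hne; linear_combination hdet)
      | (refine absurd ?_ hne; linear_combination -hdet)
      | (refine ⟨0, a, ?_⟩; intro j hj; fin_cases j <;> simp_all)
      | (refine ⟨1, b', ?_⟩; intro j hj; fin_cases j <;> simp_all)
      | (refine ⟨2, c', ?_⟩; intro j hj; fin_cases j <;> simp_all)
  have horth : ∀ j, j ≠ k → H (c j) (c k) = 0 := by
    intro j hj
    have h := t.2 (c j) (c k)
    change H (t.1.1 *ᵥ c j) (t.1.1 *ᵥ c k) = _ at h
    rw [hs, hs, hk, hk' j hj, one_smul, hh.smul_left] at h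
    exact (mul_eq_zero.1 (show (2 : F) * H (c j) (c k) = 0 by linear_combination -h)).resolve_left D.h2
  have hkk : H (c k) (c k) ≠ 0 := by
    intro h0
    refine c.ne_zero k (hh.nondeg _ fun w => ?_)
    rw [← c.sum_repr w, hh.eq_zero_comm, hh.sum_left]
    refine Finset.sum_eq_zero fun j _ => ?_
    rcases eq_or_ne j k with rfl | hj
    · rw [hh.smul_left, h0, mul_zero]
    · rw [hh.smul_left, horth j hj, mul_zero]
  obtain ⟨a, ha⟩ := exists_norm D.hne D.hinv
    (show D.σ (H (c k) (c k))⁻¹ = (H (c k) (c k))⁻¹ by rw [map_inv₀, hh.self_fixed])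
  have hv : H (a • c k) (a • c k) = 1 := by
    rw [hh.smul_left, hh.smul_right, ← mul_assoc, ha, inv_mul_cancel₀ hkk]
  refine ⟨⟨a • c k, hv⟩, Subtype.ext (Subtype.ext (Matrix.toLin'.injective (c.ext fun j => ?_)))⟩
  simp only [Matrix.toLin'_apply]
  show rmat D (a • c k) *ᵥ c j = _
  rw [rmat_apply, hs, hh.smul_right]
  rcases eq_or_ne j k with rfl | hj
  · have h5 : (2 : F) * (D.σ a * H (c j) (c j)) * a = 2 := by
      calc (2 : F) * (D.σ a * H (c j) (c j)) * a = 2 * ((a * D.σ a) * H (c j) (c j)) := by ring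
        _ = 2 := by rw [ha, inv_mul_cancel₀ hkk, mul_one]
    rw [hk, smul_smul, h5]; module
  · rw [hk' j hj, horth j hj]; module

/-- Same point. -/
def Same (v w : V) : Prop := ∃ c : F, w = c • v

include D in
theorem same_symm {v w : V} (hw : H w w = 1) (h : Same v w) : Same w v := by
  obtain ⟨c, rfl⟩ := h
  have hc : c ≠ 0 := by rintro rfl; simp [(isHerm D).zero_left] at hw
  exact ⟨c⁻¹, by rw [inv_smul_smul₀ hc]⟩

theorem refl_eq_iff (v w : {v : V // H v v = 1}) : refl D v = refl D w ↔ Same v.1 w.1 := by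
  have hh := isHerm D
  constructor
  · intro h
    have h1 : rmat D v.1 = rmat D w.1 := congrArg (fun g : ↥(Cfsg.SU 3 F q) => g.1.1) h
    have h3 := rmat_apply D w.1 w.1
    rw [← h1, rmat_apply, w.2] at h3
    refine ⟨H w.1 v.1, ?_⟩
    have h4 : (2 : F) • (H w.1 v.1 • v.1) = (2 : F) • w.1 := by
      have := congrArg (fun x : V => x + w.1) h3
      simpa [mul_smul, add_comm, add_left_comm] using this
    exact (smul_right_injective V D.h2 h4).symm
  · rintro ⟨c, hc⟩
    refine Subtype.ext (Subtype.ext ?_)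
    show rmat D v.1 = rmat D w.1
    have hn := w.2
    rw [hc, hh.smul_left, hh.smul_right, v.2, mul_one] at hn
    refine Matrix.ext_iff_mulVec.2 fun x => ?_
    rw [rmat_apply, rmat_apply, hc, hh.smul_right, smul_smul,
      show 2 * (D.σ c * H x v.1) * c = 2 * H x v.1 * (c * D.σ c) by ring, hn, mul_one]

theorem commute_iff (v w : {v : V // H v v = 1}) :
    Commute (refl D v) (refl D w) ↔ H v.1 w.1 = 0 ∨ Same v.1 w.1 := by
  have hh := isHerm D
  constructor
  · intro h
    by_cases h0 : H v.1 w.1 = 0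
    · exact Or.inl h0
    refine Or.inr ⟨H w.1 v.1, ?_⟩
    have h1 : rmat D v.1 * rmat D w.1 = rmat D w.1 * rmat D v.1 :=
      congrArg (fun g : ↥(Cfsg.SU 3 F q) => g.1.1) h.eq
    have h3 := congrArg (fun M : Matrix (Fin 3) (Fin 3) F => M *ᵥ v.1) h1
    simp only [← Matrix.mulVec_mulVec, rmat_apply, hh.add_left, hh.smul_left] at h3
    simp only [← neg_one_smul F v.1, hh.smul_left, v.2] at h3
    have h4 : ((4 : F) * H v.1 w.1) • (H w.1 v.1 • v.1) = ((4 : F) * H v.1 w.1) • w.1 := by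
      linear_combination (norm := module) h3
    exact (smul_right_injective V (mul_ne_zero (by
      rw [show (4 : F) = 2 * 2 by norm_num]; exact mul_ne_zero D.h2 D.h2) h0) h4).symm
  · rintro (h | h)
    · refine Subtype.ext (Subtype.ext (Matrix.ext_iff_mulVec.2 fun x => ?_))
      show (rmat D v.1 * rmat D w.1) *ᵥ x = (rmat D w.1 * rmat D v.1) *ᵥ x
      simp only [← Matrix.mulVec_mulVec, rmat_apply, hh.add_left, hh.smul_left, h, hh.eq_zero_comm.1 h,
        ← neg_one_smul F x]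
      module
    · rw [(refl_eq_iff D v w).2 h]

/-- The map between two frames. -/
def frameMap (b b' : Fin 3 → V) : Matrix (Fin 3) (Fin 3) F := ∑ i, Matrix.vecMulVec (b' i) (D.σ ∘ b i)

theorem frameMap_apply (b b' : Fin 3 → V) (x : V) : frameMap D b b' *ᵥ x = ∑ i, H x (b i) • b' i := by
  rw [frameMap, Matrix.sum_mulVec]
  refine Finset.sum_congr rfl fun i _ => ?_
  rw [Matrix.vecMulVec_mulVec]
  ext j
  simp [Cfsg.hermForm, dotProduct, D.hσ, mul_comm]

theorem frameMap_preserves {b b' : Fin 3 → V} (hb : ∀ i j, H (b i) (b j) = if i = j then 1 else 0)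
    (hb' : ∀ i j, H (b' i) (b' j) = if i = j then 1 else 0) (x y : V) :
    H (frameMap D b b' *ᵥ x) (frameMap D b b' *ᵥ y) = H x y := by
  rw [frameMap_apply, frameMap_apply]
  conv_rhs => rw [frame_expand D hb x, frame_expand D hb y]
  exact (isHerm D).map_sum_eq (fun i j => by rw [hb, hb']) _ _

theorem frameMap_frame {b b' : Fin 3 → V} (hb : ∀ i j, H (b i) (b j) = if i = j then 1 else 0) (j : Fin 3) :
    frameMap D b b' *ᵥ b j = b' j := by
  rw [frameMap_apply]; simp [hb]

theorem exists_su {v w : {v : V // H v v = 1}} :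
    ∃ (g : ↥(Cfsg.SU 3 F q)) (c : F), c * D.σ c = 1 ∧ g.1.1 *ᵥ v.1 = c • w.1 := by
  have hh := isHerm D
  obtain ⟨b, hb, hb0⟩ := exists_frame D v.2
  obtain ⟨b', hb', hb0'⟩ := exists_frame D w.2
  have hn : (frameMap D b b').det * D.σ (frameMap D b b').det = 1 := by
    have hG : (frameMap D b b')ᵀ * (frameMap D b b').map D.σ = 1 := by
      ext i j
      have e := (frameMap_preserves D hb hb' (Pi.single i 1) (Pi.single j 1)).trans (HermStd.hermForm_single D.hσ i j)
      rw [Matrix.mulVec_single_one, Matrix.mulVec_single_one] at e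
      rw [Matrix.one_apply, ← e]
      simp [Matrix.mul_apply, Cfsg.hermForm, D.hσ]
    have := congrArg Matrix.det hG
    rw [det_mul, det_transpose, det_one] at this
    rwa [RingHom.map_det D.σ]
  set δ := (frameMap D b b').det
  let s : Fin 3 → F := fun i => if i = 0 then D.σ δ else 1
  have hs : ∀ i, s i * D.σ (s i) = 1 := fun i => by
    simp only [s]; split_ifs <;> simp [D.hinv, mul_comm, hn]
  let b'' : Fin 3 → V := fun i => s i • b' i
  have hb'' : ∀ i j, H (b'' i) (b'' j) = if i = j then 1 else 0 := fun i j => by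
    rw [hh.smul_left, hh.smul_right, hb']
    split_ifs with h
    · subst h; rw [mul_one, hs]
    · simp
  have hdet : (frameMap D b' b'' * frameMap D b b').det = 1 := by
    rw [Matrix.det_mul, KSG.InvolutionBasis.det_eq_prod (frameBasis D hb') (frameMap D b' b'') s fun i => by
      rw [show (frameBasis D hb') i = b' i from Basis.mk_apply _ _ i, frameMap_frame D hb']]
    show (∏ i, s i) * δ = 1
    simp [s, mul_comm, hn]
  refine ⟨⟨⟨_, hdet⟩, fun x y => ?_⟩, D.σ δ, by rw [D.hinv, mul_comm]; exact hn, ?_⟩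
  · show H ((frameMap D b' b'' * frameMap D b b') *ᵥ x) ((frameMap D b' b'' * frameMap D b b') *ᵥ y) = H x y
    rw [← Matrix.mulVec_mulVec, ← Matrix.mulVec_mulVec, frameMap_preserves D hb' hb'',
      frameMap_preserves D hb hb']
  · show (frameMap D b' b'' * frameMap D b b') *ᵥ v.1 = _
    rw [← Matrix.mulVec_mulVec, ← hb0, frameMap_frame D hb, frameMap_frame D hb', ← hb0']
    simp [b'', s]

theorem conj_refl (v w : {v : V // H v v = 1}) : ∃ g, g * refl D v * g⁻¹ = refl D w := by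
  have hh := isHerm D
  obtain ⟨g, c, hc, hg⟩ := exists_su D (v := v) (w := w)
  refine ⟨g, mul_inv_eq_iff_eq_mul.2 (Subtype.ext (Subtype.ext (Matrix.ext_iff_mulVec.2 fun x => ?_)))⟩
  show (g.1.1 * rmat D v.1) *ᵥ x = (rmat D w.1 * g.1.1) *ᵥ x
  have h3 : H (g.1.1 *ᵥ x) w.1 = H x v.1 * c := by
    have h4 : H (g.1.1 *ᵥ x) (g.1.1 *ᵥ v.1) = H x v.1 := g.2 x v.1
    rw [hg, hh.smul_right] at h4
    linear_combination c * h4 - H (g.1.1 *ᵥ x) w.1 * hc
  rw [← Matrix.mulVec_mulVec, ← Matrix.mulVec_mulVec, rmat_apply, rmat_apply, h3, Matrix.mulVec_add,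
    Matrix.mulVec_neg, Matrix.mulVec_smul, hg]
  module

include D in
theorem conj_all {t x : ↥(Cfsg.SU 3 F q)} (ht : t ≠ 1) (ht2 : t * t = 1) (hx : x ≠ 1) (hx2 : x * x = 1) :
    ∃ g, g * t * g⁻¹ = x := by
  obtain ⟨v, rfl⟩ := refl_surj D t ht ht2
  obtain ⟨w, rfl⟩ := refl_surj D x hx hx2
  exact conj_refl D v w

/-- Counting involutions by their vectors. -/
theorem card_pred (Φ : ↥(Cfsg.SU 3 F q) → Prop) :
    Nat.card {v : {v : V // H v v = 1} // Φ (refl D v)} =
      (q + 1) * Nat.card {x : ↥(Cfsg.SU 3 F q) // (x ≠ 1 ∧ x * x = 1) ∧ Φ x} := by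
  classical
  have hh := isHerm D
  let f : {v : {v : V // H v v = 1} // Φ (refl D v)} → {x : ↥(Cfsg.SU 3 F q) // (x ≠ 1 ∧ x * x = 1) ∧ Φ x} :=
    fun v => ⟨refl D v.1, ⟨refl_ne_one D v.1, refl_sq D v.1⟩, v.2⟩
  have hfib : ∀ x, Nat.card {v // f v = x} = q + 1 := by
    intro x
    obtain ⟨v, hv⟩ := refl_surj D x.1 x.2.1.1 x.2.1.2
    rw [← HermSU.card_normOne D.hne D.hinv D.hfix]
    let g : HermSU.normOne D.σ → {v : V // H v v = 1} := fun u =>
      ⟨((u : Fˣ) : F) • v.1, by rw [hh.smul_left, hh.smul_right, v.2, mul_one]; exact u.2⟩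
    have hg : ∀ u, refl D (g u) = x.1 := fun u => ((refl_eq_iff D v (g u)).2 ⟨_, rfl⟩).symm.trans hv
    refine Nat.card_congr (Equiv.ofBijective (fun u : HermSU.normOne D.σ =>
      (⟨⟨g u, (hg u).symm ▸ x.2.2⟩, Subtype.ext (hg u)⟩ : {v // f v = x})) ⟨?_, ?_⟩).symm
    · intro a b hab
      have h : ((a : Fˣ) : F) • v.1 = ((b : Fˣ) : F) • v.1 := congrArg (fun z => z.1.1.1) hab
      refine Subtype.ext (Units.ext (smul_left_injective F ?_ h))
      intro h0; have := v.2; rw [h0, hh.zero_left] at this; exact zero_ne_one this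
    · rintro ⟨⟨w, hw⟩, hwx⟩
      obtain ⟨c, hc⟩ := (refl_eq_iff D v w).1 (hv.trans (congrArg Subtype.val hwx).symm)
      have hn := w.2
      rw [hc, hh.smul_left, hh.smul_right, v.2, mul_one] at hn
      exact ⟨⟨Units.mk0 c (left_ne_zero_of_mul_eq_one hn), hn⟩, Subtype.ext (Subtype.ext (Subtype.ext hc.symm))⟩
  rw [← Nat.card_congr (Equiv.sigmaFiberEquiv f), Nat.card_sigma, Finset.sum_congr rfl fun x _ => hfib x,
    Finset.sum_const, Finset.card_univ, smul_eq_mul, ← Nat.card_eq_fintype_card, mul_comm]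

include D in
theorem two_le : 2 ≤ q := D.hfix ▸ Finite.one_lt_card

include D in
theorem card_inv : Nat.card {x : ↥(Cfsg.SU 3 F q) // x ≠ 1 ∧ x * x = 1} = q ^ 2 * (q ^ 2 - q + 1) := by
  have hq := two_le D
  have h := card_pred D (fun _ => True)
  rw [Nat.card_congr (Equiv.subtypeUnivEquiv fun _ => trivial),
    Nat.card_congr (Equiv.subtypeEquivRight (q := fun x : ↥(Cfsg.SU 3 F q) => x ≠ 1 ∧ x * x = 1)
      fun x => and_iff_left trivial)] at h
  have h3 := HermStd.card_norm_mul D.hne D.hinv D.hσ 3 D.hfix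
  rw [h] at h3
  have hsub : q ≤ q ^ 2 := Nat.le_self_pow (by norm_num) q
  apply Nat.cast_injective (R := ℤ)
  refine mul_left_cancel₀ (show (q : ℤ) * (q + 1) ≠ 0 by positivity) ?_
  push_cast [Nat.cast_sub hsub] at h3 ⊢
  linear_combination h3

include D in
theorem card_centralizer (t : ↥(Cfsg.SU 3 F q)) (ht : t ≠ 1) (ht2 : t * t = 1) :
    Nat.card ↥(Subgroup.centralizer ({t} : Set ↥(Cfsg.SU 3 F q))) = q * (q + 1) * (q ^ 2 - 1) := by
  have hq := two_le D
  have hset : (ConjClasses.mk t).carrier = {x | x ≠ 1 ∧ x * x = 1} := by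
    ext x
    rw [ConjClasses.mem_carrier_iff_mk_eq, ConjClasses.mk_eq_mk_iff_isConj, isConj_comm, isConj_iff]
    constructor
    · rintro ⟨g, rfl⟩
      refine ⟨fun h => ht (conj_eq_one_iff.1 h), ?_⟩
      have : g * t * g⁻¹ * (g * t * g⁻¹) = g * (t * t) * g⁻¹ := by group
      rw [this, ht2]; group
    · rintro ⟨hx, hx2⟩
      exact conj_all D ht ht2 hx hx2
  have h := TwoByTwo.card_carrier_mul t
  have hSU : Nat.card (Cfsg.SU 3 F q) = q ^ 3 * ((q ^ 2 - 1) * (q ^ 3 + 1)) := by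
    have h := HermSU.card_SU_mul D.hne D.hinv D.hσ (n := 3) (by norm_num) D.hfix
    rw [HermStd.card_GU D.hne D.hinv D.hσ 3 D.hfix, Finset.prod_range_succ, Finset.prod_range_succ,
      Finset.prod_range_succ, Finset.prod_range_zero, if_pos (by decide), if_neg (by decide),
      if_pos (by decide)] at h
    norm_num at h
    refine Nat.eq_of_mul_eq_mul_left (show 0 < q + 1 by omega) ?_
    rw [h]
    ring
  rw [hset, show Nat.card ↥{x : ↥(Cfsg.SU 3 F q) | x ≠ 1 ∧ x * x = 1} = _ from card_inv D, hSU] at h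
  refine Nat.eq_of_mul_eq_mul_left (show 0 < q ^ 2 * (q ^ 2 - q + 1) by positivity) (h.trans ?_)
  have hsub : q ≤ q ^ 2 := Nat.le_self_pow (by norm_num) q
  apply Nat.cast_injective (R := ℤ)
  push_cast [Nat.cast_sub hsub, Nat.cast_sub (show 1 ≤ q ^ 2 by omega)]
  ring

include D in
theorem unique_third (t x : ↥(Cfsg.SU 3 F q)) (ht : t ≠ 1) (ht2 : t * t = 1) (hx : x ≠ 1) (hx2 : x * x = 1)
    (hxt : x ≠ t) (hc : Commute t x) :
    Nat.card {y : ↥(Cfsg.SU 3 F q) // y ≠ 1 ∧ y * y = 1 ∧ y ≠ t ∧ y ≠ x ∧ Commute t y ∧ Commute x y} = 1 := by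
  have hh := isHerm D
  obtain ⟨v, rfl⟩ := refl_surj D t ht ht2
  obtain ⟨w, rfl⟩ := refl_surj D x hx hx2
  have hvw : H v.1 w.1 = 0 :=
    ((commute_iff D v w).1 hc).resolve_right fun h => hxt ((refl_eq_iff D v w).2 h).symm
  obtain ⟨u, hu, huv, huw, huniq⟩ := exists_third D v.2 w.2 hvw
  have hne : ∀ (z : {v : V // H v v = 1}), H u z.1 = 0 → refl D ⟨u, hu⟩ ≠ refl D z := by
    intro z hz he
    obtain ⟨c, hzu⟩ := (refl_eq_iff D _ z).1 he
    have h1 := z.2
    conv at h1 => lhs; arg 5; rw [hzu]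
    rw [hh.smul_right, hh.eq_zero_comm.1 hz, mul_zero] at h1
    exact zero_ne_one h1
  refine Nat.card_eq_one_iff_exists.2 ⟨⟨refl D ⟨u, hu⟩, refl_ne_one D _, refl_sq D _, hne v huv, hne w huw,
    (commute_iff D _ _).2 (Or.inl (hh.eq_zero_comm.1 huv)), (commute_iff D _ _).2 (Or.inl (hh.eq_zero_comm.1 huw))⟩, ?_⟩
  rintro ⟨y, hy1, hy2, hyt, hyx, hty, hxy⟩
  obtain ⟨z, rfl⟩ := refl_surj D y hy1 hy2
  have h1 : H v.1 z.1 = 0 := ((commute_iff D v z).1 hty).resolve_right fun h => hyt ((refl_eq_iff D v z).2 h).symm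
  have h3 : H w.1 z.1 = 0 := ((commute_iff D w z).1 hxy).resolve_right fun h => hyx ((refl_eq_iff D w z).2 h).symm
  exact Subtype.ext ((refl_eq_iff D ⟨u, hu⟩ z).2
    ⟨_, huniq z.1 (hh.eq_zero_comm.1 h1) (hh.eq_zero_comm.1 h3)⟩).symm

end Cfsg.Agent.SU3Inv
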