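import Mathlib

/-!
Products of parts of a partition: the largest value, and the partitions attaining the largest value for
abelian groups of even permutations.
-/

set_option autoImplicit false

namespace Cfsg.Agent.LinearBlock.AbelPerm

/-- The largest product of a partition of `n`. -/
def g (n : ℕ) : ℕ :=
  if n % 3 = 0 then 3 ^ (n / 3) else if n % 3 = 2 then 2 * 3 ^ (n / 3) else if n = 1 then 1 else 4 * 3 ^ (n / 3 - 1)

/-- The largest order of an abelian subgroup of the alternating group of degree `n ≥ 3`, `n ≠ 5`. -/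
def h (n : ℕ) : ℕ :=
  if n % 3 = 0 then 3 ^ (n / 3) else if n % 3 = 1 then 4 * 3 ^ (n / 3 - 1) else 16 * 3 ^ (n / 3 - 2)

theorem g_zero (j : ℕ) : g (3 * j) = 3 ^ j := by
  rw [g, if_pos (by omega), show 3 * j / 3 = j by omega]

theorem g_one : g 1 = 1 := rfl

theorem g_succ_one (j : ℕ) : g (3 * (j + 1) + 1) = 4 * 3 ^ j := by
  rw [g, if_neg (by omega), if_neg (by omega), if_neg (by omega), show (3 * (j + 1) + 1) / 3 - 1 = j by omega]

theorem g_two (j : ℕ) : g (3 * j + 2) = 2 * 3 ^ j := by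
  rw [g, if_neg (by omega), if_pos (by omega), show (3 * j + 2) / 3 = j by omega]

theorem g_cases (n : ℕ) : n = 1 ∨ (∃ j, n = 3 * j) ∨ (∃ j, n = 3 * (j + 1) + 1) ∨ (∃ j, n = 3 * j + 2) := by
  rcases Nat.lt_or_ge n 4 with h | h
  · interval_cases n
    exacts [Or.inr (Or.inl ⟨0, rfl⟩), Or.inl rfl, Or.inr (Or.inr (Or.inr ⟨0, rfl⟩)), Or.inr (Or.inl ⟨1, rfl⟩)]
  · rcases (show n % 3 = 0 ∨ n % 3 = 1 ∨ n % 3 = 2 by omega) with e | e | e
    exacts [Or.inr (Or.inl ⟨n / 3, by omega⟩), Or.inr (Or.inr (Or.inl ⟨n / 3 - 1, by omega⟩)),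
      Or.inr (Or.inr (Or.inr ⟨n / 3, by omega⟩))]

theorem g_add_three (n : ℕ) (hn : n ≠ 1) : g (n + 3) = 3 * g n := by
  rcases g_cases n with e | ⟨j, rfl⟩ | ⟨j, rfl⟩ | ⟨j, rfl⟩
  · exact absurd e hn
  · rw [show 3 * j + 3 = 3 * (j + 1) by ring, g_zero, g_zero, pow_succ]; ring
  · rw [show 3 * (j + 1) + 1 + 3 = 3 * (j + 1 + 1) + 1 by ring, g_succ_one, g_succ_one, pow_succ]; ring
  · rw [show 3 * j + 2 + 3 = 3 * (j + 1) + 2 by ring, g_two, g_two, pow_succ]; ring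

theorem g_pos (n : ℕ) : 0 < g n := by
  rcases g_cases n with rfl | ⟨j, rfl⟩ | ⟨j, rfl⟩ | ⟨j, rfl⟩
  · simp [g_one]
  · rw [g_zero]; positivity
  · rw [g_succ_one]; positivity
  · rw [g_two]; positivity

theorem g_mul_le : ∀ a b : ℕ, g a * g b ≤ g (a + b) := by
  intro a
  induction a using Nat.strong_induction_on with
  | _ a iha =>
    intro b
    induction b using Nat.strong_induction_on with
    | _ b ihb =>
      rcases Nat.lt_or_ge a 5 with ha | ha
      · rcases Nat.lt_or_ge b 5 with hb | hb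
        · interval_cases a <;> interval_cases b <;> decide
        · obtain ⟨b', rfl⟩ : ∃ b', b = b' + 3 := ⟨b - 3, by omega⟩
          rw [g_add_three b' (by omega), show a + (b' + 3) = a + b' + 3 by ring, g_add_three (a + b') (by omega)]
          have := ihb b' (by omega)
          nlinarith
      · obtain ⟨a', rfl⟩ : ∃ a', a = a' + 3 := ⟨a - 3, by omega⟩
        rw [g_add_three a' (by omega), show a' + 3 + b = a' + b + 3 by ring, g_add_three (a' + b) (by omega)]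
        have := iha a' (by omega) b
        nlinarith

theorem le_g : ∀ m : ℕ, m ≤ g m := by
  intro m
  induction m using Nat.strong_induction_on with
  | _ m ih =>
    rcases Nat.lt_or_ge m 5 with hm | hm
    · interval_cases m <;> decide
    · obtain ⟨k, rfl⟩ : ∃ k, m = k + 3 := ⟨m - 3, by omega⟩
      rw [g_add_three k (by omega)]
      have := ih k (by omega)
      omega

theorem six_le : ∀ m : ℕ, 5 ≤ m → 6 * m ≤ 5 * g m := by
  intro m
  induction m using Nat.strong_induction_on with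
  | _ m ih =>
    intro hm
    rcases Nat.lt_or_ge m 8 with h' | h'
    · interval_cases m <;> decide
    · obtain ⟨k, rfl⟩ : ∃ k, m = k + 3 := ⟨m - 3, by omega⟩
      rw [g_add_three k (by omega)]
      have := ih k (by omega) (by omega)
      omega

theorem prod_le_g {Ω : Type*} (T : Finset Ω) (s : Ω → ℕ) : ∏ ω ∈ T, s ω ≤ g (∑ ω ∈ T, s ω) := by
  classical
  induction T using Finset.induction_on with
  | empty => simp [g]
  | insert a T ha ih =>
    rw [Finset.prod_insert ha, Finset.sum_insert ha]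
    exact (Nat.mul_le_mul (le_g _) ih).trans (g_mul_le _ _)

theorem mul_two_three (e b : ℕ) : 2 ^ e * 3 ^ b ≤ g (2 * e + 3 * b) := by
  have h1 : 2 ^ e ≤ g (2 * e) := by
    induction e with
    | zero => simp [g]
    | succ e ih =>
      rw [pow_succ, Nat.mul_succ]
      exact (Nat.mul_le_mul ih (show 2 ≤ g 2 from le_g 2)).trans (g_mul_le _ _)
  calc 2 ^ e * 3 ^ b ≤ g (2 * e) * g (3 * b) := Nat.mul_le_mul h1 (g_zero b).ge
    _ ≤ _ := g_mul_le _ _

theorem h_facts {n : ℕ} (hn : 3 ≤ n) (h5 : n ≠ 5) :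
    (n % 3 = 0 ∧ h n = g n) ∨ (n % 3 = 1 ∧ h n = g n) ∨ (n % 3 = 2 ∧ 18 * h n = 16 * g n) := by
  rcases g_cases n with rfl | ⟨j, rfl⟩ | ⟨j, rfl⟩ | ⟨j, rfl⟩
  · omega
  · left; refine ⟨by omega, ?_⟩; rw [g_zero, h, if_pos (by omega), show 3 * j / 3 = j by omega]
  · right; left; refine ⟨by omega, ?_⟩
    rw [g_succ_one, h, if_neg (by omega), if_pos (by omega), show (3 * (j + 1) + 1) / 3 - 1 = j by omega]
  · right; right; refine ⟨by omega, ?_⟩
    obtain ⟨i, rfl⟩ : ∃ i, j = i + 2 := ⟨j - 2, by omega⟩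
    rw [g_two, h, if_neg (by omega), if_neg (by omega), show (3 * (i + 2) + 2) / 3 - 2 = i by omega, pow_add]
    ring

theorem g_pred_lt {n : ℕ} (hn : 3 ≤ n) (h5 : n ≠ 5) : g (n - 1) < h n := by
  rcases g_cases n with rfl | ⟨j, rfl⟩ | ⟨j, rfl⟩ | ⟨j, rfl⟩
  · omega
  · obtain ⟨i, rfl⟩ : ∃ i, j = i + 1 := ⟨j - 1, by omega⟩
    rw [show 3 * (i + 1) - 1 = 3 * i + 2 by omega, g_two, h, if_pos (by omega),
      show 3 * (i + 1) / 3 = i + 1 by omega, pow_succ]
    have : 0 < 3 ^ i := by positivity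
    omega
  · rw [show 3 * (j + 1) + 1 - 1 = 3 * (j + 1) by omega, g_zero, h, if_neg (by omega), if_pos (by omega),
      show (3 * (j + 1) + 1) / 3 - 1 = j by omega, pow_succ]
    have : 0 < 3 ^ j := by positivity
    omega
  · obtain ⟨i, rfl⟩ : ∃ i, j = i + 2 := ⟨j - 2, by omega⟩
    rw [show 3 * (i + 2) + 2 - 1 = 3 * (i + 1 + 1) + 1 by omega, g_succ_one, h, if_neg (by omega), if_neg (by omega),
      show (3 * (i + 2) + 2) / 3 - 2 = i by omega, pow_succ]
    have : 0 < 3 ^ i := by positivity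
    omega

/-- Parts of a partition whose product is at least `h n`. -/
theorem classify {Ω : Type*} [Fintype Ω] (s : Ω → ℕ) {n : ℕ} (hpos : ∀ ω, 1 ≤ s ω) (hsum : ∑ ω, s ω = n)
    (hn : 3 ≤ n) (h5 : n ≠ 5) (hP : h n ≤ ∏ ω, s ω) :
    ∃ a b c : ℕ, (Finset.univ.filter fun ω => s ω = 2).card = a ∧ (Finset.univ.filter fun ω => s ω = 3).card = b ∧
      (Finset.univ.filter fun ω => s ω = 4).card = c ∧ (∀ ω, s ω = 2 ∨ s ω = 3 ∨ s ω = 4) ∧
      2 * a + 3 * b + 4 * c = n ∧ ∏ ω, s ω = 2 ^ (a + 2 * c) * 3 ^ b ∧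
      (n % 3 = 0 ∧ a + 2 * c = 0 ∨ n % 3 = 1 ∧ a + 2 * c = 2 ∨ n % 3 = 2 ∧ (a + 2 * c = 1 ∨ a + 2 * c = 4)) := by
  classical
  have hhg := h_facts hn h5
  have hgpos := g_pos n
  have hparts : ∀ ω, s ω = 2 ∨ s ω = 3 ∨ s ω = 4 := by
    intro ω
    have hrest := prod_le_g (Finset.univ.erase ω) s
    have e1 := Finset.add_sum_erase Finset.univ s (Finset.mem_univ ω)
    have e2 := Finset.mul_prod_erase Finset.univ s (Finset.mem_univ ω)
    rw [hsum] at e1
    rcases (show s ω = 1 ∨ s ω = 2 ∨ s ω = 3 ∨ s ω = 4 ∨ 5 ≤ s ω by have := hpos ω; omega) with h1 | h1 | h1 | h1 | h1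
    · exfalso
      rw [h1] at e1
      rw [h1, one_mul] at e2
      rw [show ∑ x ∈ Finset.univ.erase ω, s x = n - 1 by omega, e2] at hrest
      have := g_pred_lt hn h5
      omega
    · exact Or.inl h1
    · exact Or.inr (Or.inl h1)
    · exact Or.inr (Or.inr h1)
    · exfalso
      have h6 : 6 * ∏ x, s x ≤ 5 * g n := by
        calc 6 * ∏ x, s x = (6 * s ω) * ∏ x ∈ Finset.univ.erase ω, s x := by rw [← e2, mul_assoc]
          _ ≤ (5 * g (s ω)) * g (∑ x ∈ Finset.univ.erase ω, s x) := Nat.mul_le_mul (six_le _ h1) hrest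
          _ = 5 * (g (s ω) * g (∑ x ∈ Finset.univ.erase ω, s x)) := mul_assoc _ _ _
          _ ≤ 5 * g n := Nat.mul_le_mul_left _ (e1 ▸ g_mul_le _ _)
      omega
  refine ⟨_, _, _, rfl, rfl, rfl, hparts, ?_⟩
  set a := (Finset.univ.filter fun ω => s ω = 2).card
  set b := (Finset.univ.filter fun ω => s ω = 3).card
  set c := (Finset.univ.filter fun ω => s ω = 4).card
  have hmaps : ∀ ω ∈ (Finset.univ : Finset Ω), s ω ∈ ({2, 3, 4} : Finset ℕ) := fun ω _ => by simpa using hparts ω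
  have hs : 2 * a + 3 * b + 4 * c = n := by
    rw [← hsum, ← Finset.sum_fiberwise_of_maps_to hmaps s]
    rw [Finset.sum_congr rfl (fun k _ => Finset.sum_congr rfl (fun ω hω => (Finset.mem_filter.1 hω).2))]
    simp [a, b, c]
    ring
  have hp : ∏ ω, s ω = 2 ^ (a + 2 * c) * 3 ^ b := by
    rw [← Finset.prod_fiberwise_of_maps_to hmaps s]
    rw [Finset.prod_congr rfl (fun k _ => Finset.prod_congr rfl (fun ω hω => (Finset.mem_filter.1 hω).2))]
    simp [a, b, c]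
    rw [pow_add, pow_mul]
    ring
  refine ⟨hs, hp, ?_⟩
  rw [hp] at hP
  obtain ⟨e, he⟩ : ∃ e, a + 2 * c = e := ⟨_, rfl⟩
  rw [he] at hP ⊢
  have hs' : 2 * e + 3 * b = n := by omega
  have h3 : 3 ≤ e → 9 * (2 ^ e * 3 ^ b) ≤ 8 * g n := fun he3 => by
    obtain ⟨f, rfl⟩ : ∃ f, e = f + 3 := ⟨e - 3, by omega⟩
    calc 9 * (2 ^ (f + 3) * 3 ^ b) = 8 * (2 ^ f * 3 ^ (b + 2)) := by ring
      _ ≤ 8 * g (2 * f + 3 * (b + 2)) := Nat.mul_le_mul_left _ (mul_two_three _ _)
      _ = 8 * g n := by rw [← hs']; ring_nf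
  have h6 : 6 ≤ e → 81 * (2 ^ e * 3 ^ b) ≤ 64 * g n := fun he6 => by
    obtain ⟨f, rfl⟩ : ∃ f, e = f + 6 := ⟨e - 6, by omega⟩
    calc 81 * (2 ^ (f + 6) * 3 ^ b) = 64 * (2 ^ f * 3 ^ (b + 4)) := by ring
      _ ≤ 64 * g (2 * f + 3 * (b + 4)) := Nat.mul_le_mul_left _ (mul_two_three _ _)
      _ = 64 * g n := by rw [← hs']; ring_nf
  generalize 2 ^ e * 3 ^ b = P at hP h3 h6
  omega

theorem card_eq_of_half {n P card : ℕ} (hn : 3 ≤ n) (h5 : n ≠ 5) (hd : card ∣ P) (hP0 : 0 < P) (hc : h n ≤ card)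
    (hP : P ≤ g n) :
    card = P := by
  have hhg := h_facts hn h5
  have hgpos := g_pos n
  obtain ⟨d, rfl⟩ := hd
  rcases Nat.eq_zero_or_pos d with rfl | hd0
  · simp at hP0
  rcases Nat.lt_or_ge d 2 with h2 | h2
  · rw [show d = 1 by omega, mul_one]
  · have : card * 2 ≤ card * d := Nat.mul_le_mul_left _ h2
    omega

end Cfsg.Agent.LinearBlock.AbelPerm
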