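import Cfsg.Agent.Lib.LinearBlock.AbelPerm

/-!
Abelian permutation groups of the largest order.
-/

set_option autoImplicit false

namespace Cfsg.Agent.LinearBlock.AbelPerm

open Equiv

/-- There is an abelian group of order `c` on `n` points, all even if `ev`. -/
def Ex (ev : Prop) (n c : ℕ) : Prop :=
  ∃ A : Subgroup (Perm (Fin n)), (∀ a ∈ A, ∀ b ∈ A, a * b = b * a) ∧ (ev → ∀ a ∈ A, Perm.sign a = 1) ∧ Nat.card A = c

variable {ev : Prop}

theorem ex_trivial (n : ℕ) : Ex ev n 1 :=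
  ⟨⊥, fun a ha b hb => by rw [Subgroup.mem_bot.1 ha, Subgroup.mem_bot.1 hb],
    fun _ a ha => by rw [Subgroup.mem_bot.1 ha, map_one], Subgroup.card_bot⟩

theorem ex_three : Ex ev 3 3 := by
  refine ⟨alternatingGroup (Fin 3), ?_, fun _ a ha => Perm.mem_alternatingGroup.1 ha, ?_⟩
  · have : ∀ a b : Perm (Fin 3), Perm.sign a = 1 → Perm.sign b = 1 → a * b = b * a := by decide +kernel
    exact fun a ha b hb => this a b (Perm.mem_alternatingGroup.1 ha) (Perm.mem_alternatingGroup.1 hb)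
  · rw [nat_card_alternatingGroup, Nat.card_fin]
    rfl

/-- The regular four-group. -/
def klein : Finset (Perm (Fin 4)) :=
  {1, Equiv.swap 0 1 * Equiv.swap 2 3, Equiv.swap 0 2 * Equiv.swap 1 3, Equiv.swap 0 3 * Equiv.swap 1 2}

theorem klein_one : (1 : Perm (Fin 4)) ∈ klein := by decide
theorem klein_mul : ∀ a ∈ klein, ∀ b ∈ klein, a * b ∈ klein ∧ a * b = b * a := by decide +kernel
theorem klein_sign : ∀ a ∈ klein, Perm.sign a = 1 ∧ a⁻¹ ∈ klein := by decide +kernel
theorem klein_card : klein.card = 4 := by decide +kernel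

theorem ex_four : Ex ev 4 4 := by
  refine ⟨{ carrier := ↑klein
            one_mem' := klein_one
            mul_mem' := fun ha hb => (klein_mul _ ha _ hb).1
            inv_mem' := fun ha => (klein_sign _ ha).2 },
    fun a ha b hb => (klein_mul a ha b hb).2, fun _ a ha => (klein_sign a ha).1, ?_⟩
  exact (Nat.card_eq_finsetCard klein).trans klein_card

theorem ex_two : Ex False 2 2 := by
  refine ⟨⊤, ?_, fun h => h.elim, ?_⟩
  · have : ∀ a b : Perm (Fin 2), a * b = b * a := by decide +kernel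
    exact fun a _ b _ => this a b
  · rw [Subgroup.card_top, Nat.card_perm, Nat.card_fin]; rfl

theorem ex_add {a b c d : ℕ} (h1 : Ex ev a c) (h2 : Ex ev b d) : Ex ev (a + b) (c * d) := by
  obtain ⟨A, hA, hAe, hAc⟩ := h1
  obtain ⟨B, hB, hBe, hBc⟩ := h2
  let f : A × B →* Perm (Fin (a + b)) :=
    (finSumFinEquiv.permCongrHom.toMonoidHom.comp (Perm.sumCongrHom (Fin a) (Fin b))).comp (A.subtype.prodMap B.subtype)
  have hf : Function.Injective f :=
    finSumFinEquiv.permCongrHom.injective.comp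
      (Perm.sumCongrHom_injective.comp (Subtype.val_injective.prodMap Subtype.val_injective))
  refine ⟨f.range, ?_, ?_, ?_⟩
  · rintro _ ⟨x, rfl⟩ _ ⟨y, rfl⟩
    rw [← map_mul, ← map_mul]
    congr 1
    exact Prod.ext (Subtype.ext (hA _ x.1.2 _ y.1.2)) (Subtype.ext (hB _ x.2.2 _ y.2.2))
  · rintro he _ ⟨x, rfl⟩
    show Perm.sign (finSumFinEquiv.permCongr (Equiv.sumCongr x.1.1 x.2.1)) = 1
    rw [Perm.sign_permCongr, Perm.sign_sumCongr, hAe he _ x.1.2, hBe he _ x.2.2, one_mul]
  · rw [← Nat.card_congr (MonoidHom.ofInjective hf).toEquiv, Nat.card_prod, hAc, hBc]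

theorem ex_threes : ∀ k : ℕ, Ex ev (3 * k) (3 ^ k)
  | 0 => by simpa using ex_trivial (ev := ev) 0
  | k + 1 => by
    have := ex_add (ex_threes k) (ex_three (ev := ev))
    rwa [← pow_succ] at this

theorem ex_h {n : ℕ} (hn : 3 ≤ n) (h5 : n ≠ 5) : Ex ev n (h n) := by
  rcases g_cases n with rfl | ⟨j, rfl⟩ | ⟨j, rfl⟩ | ⟨j, rfl⟩
  · omega
  · rw [h, if_pos (by omega), show 3 * j / 3 = j by omega]; exact ex_threes j
  · rw [h, if_neg (by omega), if_pos (by omega), show (3 * (j + 1) + 1) / 3 - 1 = j by omega, mul_comm 4,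
      show 3 * (j + 1) + 1 = 3 * j + 4 by ring]
    exact ex_add (ex_threes j) ex_four
  · obtain ⟨i, rfl⟩ : ∃ i, j = i + 2 := ⟨j - 2, by omega⟩
    rw [h, if_neg (by omega), if_neg (by omega), show (3 * (i + 2) + 2) / 3 - 2 = i by omega, mul_comm 16,
      show 3 * (i + 2) + 2 = 3 * i + (4 + 4) by ring]
    exact ex_add (ex_threes i) (ex_add ex_four ex_four)

theorem ex_g {n : ℕ} : Ex False n (g n) := by
  rcases g_cases n with rfl | ⟨j, rfl⟩ | ⟨j, rfl⟩ | ⟨j, rfl⟩
  · exact ex_trivial 1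
  · rw [g_zero]; exact ex_threes j
  · rw [g_succ_one, mul_comm 4, show 3 * (j + 1) + 1 = 3 * j + 4 by ring]
    exact ex_add (ex_threes j) ex_four
  · rw [g_two, mul_comm 2]
    exact ex_add (ex_threes j) ex_two

theorem comm_of_isMulCommutative {G : Type*} [Group G] {A : Subgroup G} (hA : IsMulCommutative A) :
    ∀ a ∈ A, ∀ b ∈ A, a * b = b * a := fun a ha b hb =>
  congrArg Subtype.val (hA.is_comm.comm (⟨a, ha⟩ : A) ⟨b, hb⟩)

theorem isMulCommutative_of_comm {G : Type*} [Group G] {A : Subgroup G} (hA : ∀ a ∈ A, ∀ b ∈ A, a * b = b * a) :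
    IsMulCommutative A :=
  ⟨⟨fun a b => Subtype.ext (hA a.1 a.2 b.1 b.2)⟩⟩

/-- The view of a group of even permutations inside all permutations. -/
theorem alt_view {n : ℕ} {A : Subgroup (alternatingGroup (Fin n))} (hA : IsMulCommutative A) :
    (∀ a ∈ A.map (alternatingGroup (Fin n)).subtype, ∀ b ∈ A.map (alternatingGroup (Fin n)).subtype, a * b = b * a) ∧
      (∀ a ∈ A.map (alternatingGroup (Fin n)).subtype, Perm.sign a = 1) ∧
      Nat.card (A.map (alternatingGroup (Fin n)).subtype) = Nat.card A := by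
  refine ⟨?_, ?_, Subgroup.card_map_of_injective Subtype.val_injective⟩
  · rintro _ ⟨a, ha, rfl⟩ _ ⟨b, hb, rfl⟩
    rw [← map_mul, ← map_mul, comm_of_isMulCommutative hA a ha b hb]
  · rintro _ ⟨a, -, rfl⟩
    exact Perm.mem_alternatingGroup.1 a.2

theorem exists_alt {n c : ℕ} (hex : Ex True n c) :
    ∃ A : Subgroup (alternatingGroup (Fin n)), IsMulCommutative A ∧ Nat.card A = c := by
  obtain ⟨A, hA, hAe, hAc⟩ := hex
  refine ⟨A.subgroupOf _, isMulCommutative_of_comm fun a ha b hb => Subtype.ext ?_, ?_⟩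
  · exact hA a.1 ha b.1 hb
  · rw [Nat.card_congr (Subgroup.subgroupOfEquivOfLe (fun a ha => Perm.mem_alternatingGroup.2 (hAe trivial a ha))).toEquiv,
      hAc]

/-- The largest order in the alternating group. -/
theorem isGreatest_alt {n : ℕ} (hn : 3 ≤ n) (h5 : n ≠ 5) :
    IsGreatest {c : ℕ | ∃ A : Subgroup (alternatingGroup (Fin n)), IsMulCommutative A ∧ Nat.card A = c} (h n) := by
  classical
  refine ⟨exists_alt (ex_h hn h5), ?_⟩
  rintro _ ⟨A, hA, rfl⟩
  obtain ⟨hc, he, hcard⟩ := alt_view hA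
  by_contra hlt
  push Not at hlt
  haveI : Fintype (Orb (A.map (alternatingGroup (Fin n)).subtype)) := Fintype.ofFinite _
  have := (good_of_le _ hc he (Fintype.card_fin n) hn h5 (by rw [hcard]; exact hlt.le)).1
  omega

/-- The largest order in the symmetric group. -/
theorem isGreatest_sym (n : ℕ) :
    IsGreatest {c : ℕ | ∃ A : Subgroup (Perm (Fin n)), IsMulCommutative A ∧ Nat.card A = c} (g n) := by
  constructor
  · obtain ⟨A, hA, -, hAc⟩ := ex_g (n := n)
    exact ⟨A, isMulCommutative_of_comm hA, hAc⟩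
  · rintro _ ⟨A, hA, rfl⟩
    have := card_le_g A (comm_of_isMulCommutative hA)
    rwa [Fintype.card_fin] at this

theorem a5_orders : ∀ a : alternatingGroup (Fin 5), a = 1 ∨ a ^ 2 = 1 ∨ a ^ 3 = 1 ∨ a ^ 5 = 1 := by decide +kernel

/-- Abelian subgroups of degree five have order at most five. -/
theorem card_le_five (A : Subgroup (alternatingGroup (Fin 5))) (hA : IsMulCommutative A) : Nat.card A ≤ 5 := by
  obtain ⟨hc, -, hcard⟩ := alt_view hA
  have h6 := card_le_g _ hc
  rw [hcard, Fintype.card_fin, show g 5 = 6 from rfl] at h6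
  by_contra hne
  have hA6 : Nat.card A = 6 := by omega
  haveI : Fact (Nat.Prime 2) := ⟨Nat.prime_two⟩
  haveI : Fact (Nat.Prime 3) := ⟨Nat.prime_three⟩
  obtain ⟨x, hx⟩ := exists_prime_orderOf_dvd_card' (G := A) 2 (hA6 ▸ by norm_num)
  obtain ⟨y, hy⟩ := exists_prime_orderOf_dvd_card' (G := A) 3 (hA6 ▸ by norm_num)
  have hxy := (show Commute x y from hA.is_comm.comm x y).orderOf_mul_eq_mul_orderOf_of_coprime (by rw [hx, hy]; norm_num)
  rw [hx, hy, ← Subgroup.orderOf_coe] at hxy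
  rcases a5_orders ((x * y : A) : alternatingGroup (Fin 5)) with e | e | e | e
  · rw [e, orderOf_one] at hxy; omega
  all_goals
    have hd := orderOf_dvd_of_pow_eq_one e
    rw [hxy] at hd
    norm_num at hd

end Cfsg.Agent.LinearBlock.AbelPerm
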