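import Cfsg.Agent.Lib.LinearBlock.AbelArith

/-!
Abelian permutation groups: the order bound, and the structure and conjugacy of the largest abelian groups of
even permutations.
-/

set_option autoImplicit false

namespace Cfsg.Agent.LinearBlock.AbelPerm

open Equiv MulAction

variable {α : Type} (A : Subgroup (Perm α))

/-- The orbits. -/
abbrev Orb : Type := orbitRel.Quotient A α

/-- The orbit of a point. -/
def proj (x : α) : Orb A := Quotient.mk'' x

theorem proj_eq {x y : α} : proj A x = proj A y ↔ ∃ a ∈ A, a y = x := by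
  rw [proj, proj, Quotient.eq'', orbitRel_apply, mem_orbit_iff]
  exact ⟨fun ⟨a, h⟩ => ⟨a.1, a.2, h⟩, fun ⟨a, ha, h⟩ => ⟨⟨a, ha⟩, h⟩⟩

theorem proj_apply {a : Perm α} (ha : a ∈ A) (x : α) : proj A (a x) = proj A x := (proj_eq A).2 ⟨a, ha, rfl⟩

theorem proj_out (ω : Orb A) : proj A ω.out = ω := Quotient.out_eq' ω

/-- The number of points of an orbit. -/
noncomputable def size (ω : Orb A) : ℕ := Nat.card {x // proj A x = ω}

variable (hA : ∀ a ∈ A, ∀ b ∈ A, a * b = b * a)
include hA

/-- An element is determined on an orbit by the image of one point. -/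
theorem eq_on_orbit {a b : Perm α} (ha : a ∈ A) (hb : b ∈ A) {x y : α} (hxy : proj A x = proj A y) (h : a x = b x) :
    a y = b y := by
  obtain ⟨c, hc, rfl⟩ := (proj_eq A).1 hxy.symm
  rw [← Perm.mul_apply, ← Perm.mul_apply, hA a ha c hc, hA b hb c hc, Perm.mul_apply, Perm.mul_apply, h]

/-- An element moves all or none of the points of an orbit. -/
theorem fix_all {a : Perm α} (ha : a ∈ A) {x y : α} (hxy : proj A x = proj A y) (h : a x = x) : a y = y := by
  simpa using eq_on_orbit A hA ha A.one_mem hxy (by simpa using h)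

/-- The images of the base points. -/
noncomputable def psi (a : A) (ω : Orb A) : {x // proj A x = ω} :=
  ⟨a.1 ω.out, (proj_apply A a.2 _).trans (proj_out A ω)⟩

theorem psi_injective : Function.Injective (psi A) := by
  intro a b h
  refine Subtype.ext (Equiv.ext fun x => ?_)
  exact eq_on_orbit A hA a.2 b.2 (proj_out A (proj A x)) (congrArg Subtype.val (congrFun h (proj A x)))

variable [Fintype α]

omit hA in
theorem size_sum [Fintype (Orb A)] : ∑ ω, size A ω = Fintype.card α := by
  classical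
  rw [← Nat.card_eq_fintype_card, ← Nat.card_congr (Equiv.sigmaFiberEquiv (proj A)), Nat.card_sigma]
  rfl

omit hA in
theorem size_pos (ω : Orb A) : 1 ≤ size A ω := by
  haveI : Nonempty {x // proj A x = ω} := ⟨⟨ω.out, proj_out A ω⟩⟩
  exact Nat.card_pos

/-- The order divides the product of the orbit sizes. -/
theorem card_dvd [Fintype (Orb A)] : Nat.card A ∣ ∏ ω, size A ω := by
  classical
  have hnorm : ∀ ω : Orb A, (stabilizer A ω.out).Normal := fun ω => ⟨fun m hm g => by
    have : g * m * g⁻¹ = m := Subtype.ext (by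
      rw [Subgroup.coe_mul, Subgroup.coe_mul, hA g.1 g.2 m.1 m.2, Subgroup.coe_inv, mul_inv_cancel_right])
    rwa [this]⟩
  let Φ : A →* (∀ ω : Orb A, A ⧸ stabilizer A ω.out) :=
    haveI := hnorm
    Pi.monoidHom fun ω => QuotientGroup.mk' (stabilizer A ω.out)
  have hΦ : Function.Injective Φ := by
    intro a b hab
    refine psi_injective A hA (funext fun ω => Subtype.ext ?_)
    have h := (QuotientGroup.eq.1 (congrFun hab ω) : a⁻¹ * b ∈ stabilizer A ω.out)
    rw [mem_stabilizer_iff] at h
    have h' : (a⁻¹ * b : A).1 ω.out = ω.out := h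
    simp only [Subgroup.coe_mul, Subgroup.coe_inv, Perm.mul_apply] at h'
    show a.1 ω.out = b.1 ω.out
    rw [Perm.inv_def, Equiv.symm_apply_eq] at h'
    exact h'.symm
  haveI := hnorm
  refine (Subgroup.card_dvd_of_injective Φ hΦ).trans (dvd_of_eq ?_)
  rw [Nat.card_pi]
  refine Finset.prod_congr rfl fun ω _ => ?_
  show (stabilizer A ω.out).index = _
  rw [index_stabilizer, ← Nat.card_coe_set_eq, size]
  refine Nat.card_congr (Equiv.subtypeEquivRight fun x => ?_)
  conv_rhs => rw [← proj_out A ω, proj_eq A]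
  exact ⟨fun ⟨a, h⟩ => ⟨a.1, a.2, h⟩, fun ⟨a, ha, h⟩ => ⟨⟨a, ha⟩, h⟩⟩

/-- The order bound in the symmetric group. -/
theorem card_le_g : Nat.card A ≤ g (Fintype.card α) := by
  classical
  haveI : Fintype (Orb A) := Fintype.ofFinite _
  rw [← size_sum A]
  exact (Nat.le_of_dvd (Finset.prod_pos fun ω _ => size_pos A ω) (card_dvd A hA)).trans (prod_le_g _ _)

variable [DecidableEq α]

theorem psi_surjective [Fintype (Orb A)] (hfull : Nat.card A = ∏ ω, size A ω) : Function.Surjective (psi A) := by
  classical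
  refine ((Nat.bijective_iff_injective_and_card _).2 ⟨psi_injective A hA, ?_⟩).2
  rw [hfull, Nat.card_pi]
  rfl

/-- In a full group some element moves exactly one orbit. -/
theorem exists_single [Fintype (Orb A)] (hfull : Nat.card A = ∏ ω, size A ω) (ω : Orb A) {y : α}
    (hy : proj A y = ω) : ∃ a ∈ A, a ω.out = y ∧ ∀ x, proj A x ≠ ω → a x = x := by
  classical
  obtain ⟨a, ha⟩ := psi_surjective A hA hfull fun ω' =>
    if h : ω' = ω then ⟨y, h ▸ hy⟩ else ⟨ω'.out, proj_out A ω'⟩
  refine ⟨a.1, a.2, ?_, fun x hx => ?_⟩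
  · have h1 := congrArg Subtype.val (congrFun ha ω)
    rw [dif_pos rfl] at h1
    exact h1
  · have h1 := congrArg Subtype.val (congrFun ha (proj A x))
    rw [dif_neg hx] at h1
    exact fix_all A hA a.2 (proj_out A _) h1

theorem exists_single_ne [Fintype (Orb A)] (hfull : Nat.card A = ∏ ω, size A ω) (ω : Orb A)
    (hs : 2 ≤ size A ω) : ∃ a ∈ A, a.support.card = size A ω := by
  classical
  haveI : Nontrivial {x // proj A x = ω} := by
    rw [← Finite.one_lt_card_iff_nontrivial]; exact hs
  obtain ⟨⟨y, hy⟩, hne⟩ := exists_ne (⟨ω.out, proj_out A ω⟩ : {x // proj A x = ω})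
  obtain ⟨a, ha, h1, h2⟩ := exists_single A hA hfull ω hy
  refine ⟨a, ha, ?_⟩
  rw [size, Nat.card_eq_fintype_card, Fintype.card_subtype]
  congr 1
  ext x
  rw [Perm.mem_support, Finset.mem_filter]
  refine ⟨fun h => ⟨Finset.mem_univ _, ?_⟩, fun h h' => hne (Subtype.ext ?_)⟩
  · by_contra hx
    exact h (h2 x hx)
  · have := fix_all A hA ha (h.2.trans (proj_out A ω).symm) h'
    rw [h1] at this
    exact this

variable (hev : ∀ a ∈ A, Perm.sign a = 1)
include hev

theorem size_ne_two [Fintype (Orb A)] (hfull : Nat.card A = ∏ ω, size A ω) (ω : Orb A) : size A ω ≠ 2 := by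
  classical
  intro hs
  obtain ⟨a, ha, hsup⟩ := exists_single_ne A hA hfull ω (by omega)
  have hc : a.support.card = 2 := hsup.trans hs
  have h := hev a ha
  rw [(Perm.card_support_eq_two.1 hc).sign_eq] at h
  exact absurd h (by decide)

theorem sq_four [Fintype (Orb A)] (hfull : Nat.card A = ∏ ω, size A ω) {ω : Orb A} (hs : size A ω = 4)
    {b : Perm α} (hb : b ∈ A) {x : α} (hx : proj A x = ω) : b (b x) = x := by
  classical
  by_cases hbx : b x = x
  · rw [hbx, hbx]
  have hby : proj A (b ω.out) = ω := (proj_apply A hb _).trans (proj_out A ω)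
  obtain ⟨a, ha, h1, h2⟩ := exists_single A hA hfull ω hby
  have hab : ∀ z, proj A z = ω → a z = b z := fun z hz =>
    eq_on_orbit A hA ha hb ((proj_out A ω).trans hz.symm) h1
  have hmove : ∀ z, proj A z = ω → a z ≠ z := fun z hz h => hbx (by
    rw [← hab x hx]; exact fix_all A hA ha (hz.trans hx.symm) h)
  have hsup : a.support = Finset.univ.filter (fun z => proj A z = ω) := by
    ext z
    rw [Perm.mem_support, Finset.mem_filter]
    exact ⟨fun h => ⟨Finset.mem_univ _, by_contra fun hz => h (h2 z hz)⟩, fun h => hmove z h.2⟩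
  have hc : a.support.card = 4 := by
    rw [hsup, ← Fintype.card_subtype, ← Nat.card_eq_fintype_card]; exact hs
  have hct : a.cycleType = {2, 2} := by
    have hsum := a.sum_cycleType
    rw [hc] at hsum
    have hsg := hev a ha
    rw [Perm.sign_of_cycleType, hsum] at hsg
    have hle : Multiset.card a.cycleType * 2 ≤ 4 := by
      rw [← hsum]
      exact Multiset.card_nsmul_le_sum fun k hk => Perm.two_le_of_mem_cycleType hk
    have hpar : Even (4 + Multiset.card a.cycleType) := by
      rw [← neg_one_pow_eq_one_iff_even (R := ℤˣ) (by decide)]; exact hsg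
    have hne0 : Multiset.card a.cycleType ≠ 0 := fun h0 => by
      rw [Multiset.card_eq_zero.1 h0] at hsum; simp at hsum
    rw [Nat.even_iff] at hpar
    obtain ⟨p, q, hpq⟩ := Multiset.card_eq_two.1 (show Multiset.card a.cycleType = 2 by omega)
    have hp := Perm.two_le_of_mem_cycleType (σ := a) (n := p) (by rw [hpq]; simp)
    have hq := Perm.two_le_of_mem_cycleType (σ := a) (n := q) (by rw [hpq]; simp)
    rw [hpq] at hsum
    simp at hsum
    rw [hpq, show p = 2 by omega, show q = 2 by omega]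
  have hord : a ^ 2 = 1 := by
    rw [← orderOf_dvd_iff_pow_eq_one, ← Perm.lcm_cycleType, hct]
    decide
  have hbx' : proj A (b x) = ω := (proj_apply A hb x).trans hx
  rw [← hab _ hbx', ← hab x hx, ← Perm.mul_apply, ← pow_two, hord, Perm.one_apply]

/-- The number of orbits of size four. -/
def fours (n : ℕ) : ℕ := if n % 3 = 0 then 0 else if n % 3 = 1 then 1 else 2

/-- A large abelian group of even permutations is full, with all orbits of size three or four. -/
theorem good_of_le [Fintype (Orb A)] {n : ℕ} (hα : Fintype.card α = n) (hn : 3 ≤ n) (h5 : n ≠ 5)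
    (hc : h n ≤ Nat.card A) :
    Nat.card A = h n ∧ Nat.card A = ∏ ω, size A ω ∧ (∀ ω, size A ω = 3 ∨ size A ω = 4) ∧
      (Finset.univ.filter fun ω => size A ω = 4).card = fours n ∧
      3 * (Finset.univ.filter fun ω => size A ω = 3).card + 4 * fours n = n := by
  classical
  have hP0 : 0 < ∏ ω, size A ω := Finset.prod_pos fun ω _ => size_pos A ω
  have hdvd := card_dvd A hA
  have hsum : ∑ ω, size A ω = n := (size_sum A).trans hα
  have hP : ∏ ω, size A ω ≤ g n := hsum ▸ prod_le_g Finset.univ (size A)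
  have hfull := card_eq_of_half hn h5 hdvd hP0 hc hP
  obtain ⟨a, b, c, ha, hb, hcc, hparts, hs, hp, he⟩ :=
    classify (size A) (size_pos A) hsum hn h5 (hfull ▸ hc)
  have h2 := size_ne_two A hA hev hfull
  have ha0 : a = 0 := by
    rw [← ha, Finset.card_eq_zero]
    exact Finset.filter_eq_empty_iff.2 fun ω _ => h2 ω
  subst ha0
  have hc' : c = fours n := by
    unfold fours
    split_ifs <;> omega
  refine ⟨?_, hfull, fun ω => (hparts ω).resolve_left (h2 ω), hcc.trans hc', by rw [hb, ← hc']; omega⟩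
  have hhg := h_facts hn h5
  rw [hfull, hp, zero_add]
  rcases hhg with ⟨hm, e⟩ | ⟨hm, e⟩ | ⟨hm, e⟩
  · obtain rfl : c = 0 := by omega
    rw [e, show n = 3 * b by omega, g_zero]
    norm_num
  · obtain rfl : c = 1 := by omega
    rw [e]
    obtain ⟨i, rfl⟩ : ∃ i, n = 3 * (i + 1) + 1 := ⟨n / 3 - 1, by omega⟩
    rw [g_succ_one, show b = i by omega]
    norm_num
  · obtain rfl : c = 2 := by omega
    have e' : n = 3 * (b + 2) + 2 := by omega
    rw [e', g_two, pow_add] at e
    norm_num at e ⊢
    rw [e']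
    omega

omit hA hev in
/-- Two permutations of three or four points. -/
theorem local_unique : (∀ p q : Perm (Fin 3), (∀ i j, p i = i → p j = j) → (∀ i j, q i = i → q j = j) →
      ∀ i, p i = q i → p = q) ∧
    (∀ p q : Perm (Fin 4), (∀ i j, p i = i → p j = j) → (∀ i j, q i = i → q j = j) →
      (∀ i, p (p i) = i) → (∀ i, q (q i) = i) → ∀ i, p i = q i → p = q) := by
  constructor <;> decide +kernel

omit hA hev in
/-- Two permutations of a small set agreeing at one point. -/
theorem local_unique' {S : Type} [Finite S] (hS : Nat.card S = 3 ∨ Nat.card S = 4) (p q : Perm S)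
    (hp : ∀ i j, p i = i → p j = j) (hq : ∀ i j, q i = i → q j = j)
    (hp2 : Nat.card S = 4 → ∀ i, p (p i) = i) (hq2 : Nat.card S = 4 → ∀ i, q (q i) = i) {x : S} (h : p x = q x) :
    p = q := by
  rcases hS with h3 | h4
  · have e := Finite.equivFinOfCardEq h3
    have hconv : ∀ r : Perm S, (∀ i j, r i = i → r j = j) → ∀ i j, e.permCongr r i = i → e.permCongr r j = j := by
      intro r hr i j hi
      rw [Equiv.permCongr_apply] at hi ⊢
      have := hr (e.symm i) (e.symm j) (by rw [Equiv.eq_symm_apply]; exact hi)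
      rw [this, Equiv.apply_symm_apply]
    exact e.permCongr.injective (local_unique.1 _ _ (hconv p hp) (hconv q hq) (e x)
      (by simp [Equiv.permCongr_apply, h]))
  · have e := Finite.equivFinOfCardEq h4
    have hconv : ∀ r : Perm S, (∀ i j, r i = i → r j = j) → ∀ i j, e.permCongr r i = i → e.permCongr r j = j := by
      intro r hr i j hi
      rw [Equiv.permCongr_apply] at hi ⊢
      have := hr (e.symm i) (e.symm j) (by rw [Equiv.eq_symm_apply]; exact hi)
      rw [this, Equiv.apply_symm_apply]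
    exact e.permCongr.injective (local_unique.2 _ _ (hconv p hp) (hconv q hq)
      (fun i => by simp [Equiv.permCongr_apply, hp2 h4]) (fun i => by simp [Equiv.permCongr_apply, hq2 h4]) (e x)
      (by simp [Equiv.permCongr_apply, h]))

omit hA hev in
/-- The largest abelian groups of even permutations are conjugate by an even permutation. -/
theorem exists_conj {n : ℕ} (hα : Fintype.card α = n) (hn : 3 ≤ n) (h5 : n ≠ 5) (A B : Subgroup (Perm α))
    (hA : ∀ a ∈ A, ∀ b ∈ A, a * b = b * a) (hB : ∀ a ∈ B, ∀ b ∈ B, a * b = b * a)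
    (hAe : ∀ a ∈ A, Perm.sign a = 1) (hBe : ∀ a ∈ B, Perm.sign a = 1)
    (hAc : h n ≤ Nat.card A) (hBc : h n ≤ Nat.card B) :
    ∃ σ : Perm α, Perm.sign σ = 1 ∧ A.map (MulAut.conj σ).toMonoidHom = B := by
  classical
  haveI : Fintype (Orb A) := Fintype.ofFinite _
  haveI : Fintype (Orb B) := Fintype.ofFinite _
  obtain ⟨hcA, hfA, hsA, h4A, h3A⟩ := good_of_le A hA hAe hα hn h5 hAc
  obtain ⟨hcB, hfB, hsB, h4B, h3B⟩ := good_of_le B hB hBe hα hn h5 hBc
  have hcount : ∀ s : ℕ, Nonempty ({ω : Orb A // size A ω = s} ≃ {ω : Orb B // size B ω = s}) := by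
    intro s
    refine ⟨Fintype.equivOfCardEq ?_⟩
    rw [Fintype.card_subtype, Fintype.card_subtype]
    by_cases hs4 : s = 4
    · subst hs4; rw [h4A, h4B]
    by_cases hs3 : s = 3
    · subst hs3; omega
    have e1 : (Finset.univ.filter fun ω => size A ω = s) = ∅ :=
      Finset.filter_eq_empty_iff.2 fun ω _ => by rcases hsA ω with e | e <;> omega
    have e2 : (Finset.univ.filter fun ω => size B ω = s) = ∅ :=
      Finset.filter_eq_empty_iff.2 fun ω _ => by rcases hsB ω with e | e <;> omega
    rw [e1, e2]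
    rfl
  let e : Orb A ≃ Orb B := Equiv.ofFiberEquiv (f := size A) (g := size B) fun s => (hcount s).some
  have he : ∀ ω, size B (e ω) = size A ω := fun ω => Equiv.ofFiberEquiv_map _ ω
  have hfib : ∀ ω', Nonempty ({x // e (proj A x) = ω'} ≃ {x // proj B x = ω'}) := by
    intro ω'
    refine Finite.card_eq.1 ?_
    obtain ⟨ω, rfl⟩ := e.surjective ω'
    exact (Nat.card_congr (Equiv.subtypeEquivRight fun x => e.apply_eq_iff_eq)).trans (he ω).symm
  let σ₀ : Perm α := Equiv.ofFiberEquiv (f := fun x => e (proj A x)) (g := proj B) fun ω' => (hfib ω').some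
  have hσ₀ : ∀ x, proj B (σ₀ x) = e (proj A x) := fun x => Equiv.ofFiberEquiv_map _ x
  obtain ⟨σ, hsign, hσ⟩ : ∃ σ : Perm α, Perm.sign σ = 1 ∧ ∀ x, proj B (σ x) = e (proj A x) := by
    rcases Int.units_eq_one_or (Perm.sign σ₀) with h1 | h1
    · exact ⟨σ₀, h1, hσ₀⟩
    · obtain ⟨x⟩ : Nonempty α := Fintype.card_pos_iff.1 (by omega)
      haveI : Nontrivial {y // proj A y = proj A x} := by
        rw [← Finite.one_lt_card_iff_nontrivial]
        show 1 < size A (proj A x)
        rcases hsA (proj A x) with e' | e' <;> omega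
      obtain ⟨⟨y, hy⟩, hne⟩ := exists_ne (⟨x, rfl⟩ : {y // proj A y = proj A x})
      have hxy : x ≠ y := fun e' => hne (Subtype.ext e'.symm)
      refine ⟨σ₀ * Equiv.swap x y, ?_, fun z => ?_⟩
      · rw [map_mul, h1, Perm.sign_swap hxy]; rfl
      · rw [Perm.mul_apply, hσ₀]
        rcases eq_or_ne z x with rfl | hzx
        · rw [Equiv.swap_apply_left, hy]
        rcases eq_or_ne z y with rfl | hzy
        · rw [Equiv.swap_apply_right, hy]
        rw [Equiv.swap_apply_of_ne_of_ne hzx hzy]
  refine ⟨σ, hsign, Subgroup.eq_of_le_of_card_ge ?_ ?_⟩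
  swap
  · rw [Subgroup.card_map_of_injective (MulAut.conj σ).injective, hcA, hcB]
  rintro _ ⟨a, ha, rfl⟩
  show σ * a * σ⁻¹ ∈ B
  set p := σ * a * σ⁻¹ with hpdef
  have hpσ : ∀ z, p (σ z) = σ (a z) := fun z => by simp [hpdef]
  have hpB : ∀ z, proj B (p z) = proj B z := fun z => by
    obtain ⟨z, rfl⟩ := σ.surjective z
    rw [hpσ, hσ, hσ, proj_apply A ha]
  obtain ⟨b, hb⟩ := psi_surjective B hB hfB fun ω => ⟨p ω.out, (hpB _).trans (proj_out B ω)⟩
  suffices p = b.1 from this ▸ b.2
  refine Equiv.ext fun y => ?_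
  obtain ⟨ω, hω⟩ : ∃ ω, proj B y = ω := ⟨_, rfl⟩
  have hbB : ∀ z, proj B z = ω ↔ proj B (b.1 z) = ω := fun z => by rw [proj_apply B b.2]
  have hpω : ∀ z, proj B z = ω ↔ proj B (p z) = ω := fun z => by rw [hpB]
  have hsame : ∀ z z', proj B (σ z) = proj B (σ z') → proj A z = proj A z' := fun z z' h => by
    rw [hσ, hσ] at h; exact e.injective h
  have key : p.subtypePerm (p := fun z => proj B z = ω) (fun z => (hpω z).symm) =
      b.1.subtypePerm (p := fun z => proj B z = ω) (fun z => (hbB z).symm) := by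
    refine local_unique' (hsB ω) _ _ ?_ ?_ ?_ ?_ (x := ⟨ω.out, proj_out B ω⟩) ?_
    · rintro ⟨i, hi⟩ ⟨j, hj⟩ h
      obtain ⟨i, rfl⟩ := σ.surjective i
      obtain ⟨j, rfl⟩ := σ.surjective j
      have h' : p (σ i) = σ i := congrArg Subtype.val h
      rw [hpσ] at h'
      refine Subtype.ext ?_
      show p (σ j) = σ j
      rw [hpσ, fix_all A hA ha (hsame i j (hi.trans hj.symm)) (σ.injective h')]
    · rintro ⟨i, hi⟩ ⟨j, hj⟩ h
      exact Subtype.ext (fix_all B hB b.2 (hi.trans hj.symm) (congrArg Subtype.val h))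
    · intro h4
      rintro ⟨i, hi⟩
      obtain ⟨i, rfl⟩ := σ.surjective i
      refine Subtype.ext ?_
      show p (p (σ i)) = σ i
      rw [hpσ, hpσ, sq_four A hA hAe hfA (ω := proj A i) ?_ ha rfl]
      rw [← he, ← hσ, hi]
      exact h4
    · intro h4
      rintro ⟨i, hi⟩
      exact Subtype.ext (sq_four B hB hBe hfB h4 b.2 hi)
    · exact Subtype.ext (congrArg Subtype.val (congrFun hb ω)).symm
  exact congrArg Subtype.val (Equiv.ext_iff.1 key ⟨y, hω⟩)

end Cfsg.Agent.LinearBlock.AbelPerm
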