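/-
Quadratic forms over the field of two elements polarizing to a fixed alternating form.
-/
import Cfsg.Agent.Lib.LinearBlock.QuadClass

set_option autoImplicit false
set_option linter.style.haveILetI false

namespace Cfsg.Agent.LBArf

open QuadraticMap Module Cfsg.Agent.Orth

local notation "K" => ZMod 2

theorem cases_zmod : ∀ c : K, c = 0 ∨ c = 1 := by decide

theorem two_mul_zero : ∀ c : K, 2 * c = 0 := by decide

variable {m : ℕ}

/-- A function with the prescribed polarization is a quadratic form. -/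
theorem exists_qf {q : (Fin m ⊕ Fin m → K) → K}
    (hq : ∀ u v, q (u + v) = q u + q v + (Cfsg.quadFormPlus m K (u + v) - Cfsg.quadFormPlus m K u - Cfsg.quadFormPlus m K v)) :
    ∃ Q : QuadraticForm K (Fin m ⊕ Fin m → K), ⇑Q = q ∧ (polarBilin Q).Nondegenerate ∧
      ∀ u v, polar Q u v = polar (qPlus K m) u v := by
  have hpol : ∀ u v, polar q u v = polar (qPlus K m) u v := fun u v => by
    simp only [polar, hq, coe_qPlus]; ring
  have hz : q 0 = 0 := by
    have h := hq 0 0
    rw [← coe_qPlus, add_zero, map_zero, sub_zero, sub_zero, add_zero] at h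
    linear_combination -h
  have hpq : polar q = polar (qPlus K m) := funext fun u => funext fun v => hpol u v
  let Q : QuadraticForm K (Fin m ⊕ Fin m → K) := QuadraticMap.ofPolar q
    (fun a x => by rcases cases_zmod a with rfl | rfl <;> simp [hz])
    (fun x x' y => by rw [hpq]; exact polar_add_left _ x x' y)
    (fun a x y => by rw [hpq]; exact polar_smul_left _ a x y)
  refine ⟨Q, rfl, nondeg_of fun x hx => eq_zero_of_b (qPlus_nondeg m) fun y => ?_, hpol⟩
  rw [← hpol]; exact hx y

/-- Every form is hyperbolic or elliptic. -/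
theorem type_cases {Q : QuadraticForm K (Fin m ⊕ Fin m → K)} (hQ : (polarBilin Q).Nondegenerate) :
    (∃ g : (Fin m ⊕ Fin m → K) ≃ₗ[K] (Fin m ⊕ Fin m → K), ∀ v, Q v = qPlus K m (g v)) ∨
    (∃ g : (Fin m ⊕ Fin m → K) ≃ₗ[K] ((Fin (m - 1) ⊕ Fin (m - 1)) ⊕ Fin 2 → K),
      ∀ v, Q v = qMinus K (m - 1) 1 1 (g v)) := by
  rcases LBQuad.classify_even hQ (m := m) (by simp; omega) with h | ⟨ζ, hζ, g, hg⟩
  · exact Or.inl h
  · rcases cases_zmod ζ with rfl | rfl
    · exact absurd (by norm_num) (hζ 0)
    · exact Or.inr ⟨g, hg⟩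

theorem aniso_one : ∀ z₁ z₂ : K, z₁ ^ 2 + 1 * z₁ * z₂ + 1 * z₂ ^ 2 = 0 → z₁ = 0 ∧ z₂ = 0 := by decide

theorem card_ones (Q : QuadraticForm K (Fin m ⊕ Fin m → K)) :
    Nat.card {v // Q v = 0} + Nat.card {v // Q v = 1} = 2 ^ (2 * m) := by
  classical
  have e : {v // Q v = 1} ≃ {v // ¬ Q v = 0} := Equiv.subtypeEquivRight fun v => by
    rcases cases_zmod (Q v) with h | h <;> simp [h]
  rw [Nat.card_congr e, ← Nat.card_sum, Nat.card_congr (Equiv.sumCompl _), Nat.card_fun,
    Nat.card_zmod, Nat.card_sum, Nat.card_fin, ← two_mul]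

theorem zeros_plus (k : ℕ) : Nat.card {v // qPlus K (k + 1) v = 0} = 2 ^ (2 * k + 1) + 2 ^ k := by
  have h := zeros_qPlus (F := K) k
  rw [Nat.card_zmod, pow_succ 2 k] at h
  omega

theorem zeros_minus (k : ℕ) : Nat.card {v // qMinus K k 1 1 v = 0} + 2 ^ k = 2 ^ (2 * k + 1) := by
  have h := zeros_qMinus (F := K) aniso_one k
  rw [Nat.card_zmod, pow_succ 2 k] at h
  omega

/-- The translate of a form is isometric to it exactly for singular vectors. -/
theorem shift_iff (hm : 1 ≤ m) {Q : QuadraticForm K (Fin m ⊕ Fin m → K)} (hQ : (polarBilin Q).Nondegenerate)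
    (w : Fin m ⊕ Fin m → K) :
    (∃ g : (Fin m ⊕ Fin m → K) ≃ₗ[K] (Fin m ⊕ Fin m → K), ∀ v, Q v + polar Q v w = Q (g v)) ↔ Q w = 0 := by
  obtain ⟨k, rfl⟩ : ∃ k, m = k + 1 := ⟨m - 1, by omega⟩
  constructor
  · rintro ⟨g, hg⟩
    by_contra hw
    have hw1 : Q w = 1 := (cases_zmod _).resolve_left hw
    have e : {v // Q v = 0} ≃ {v // Q v = 1} := by
      refine ((g.toEquiv.symm).trans (Equiv.addRight w)).subtypeEquiv fun v => ?_
      show Q v = 0 ↔ Q (g.symm v + w) = 1
      conv_lhs => rw [← g.apply_symm_apply v, ← hg]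
      rw [q_add, hw1]
      generalize Q (g.symm v) = a
      generalize polar Q (g.symm v) w = b
      revert a b; decide
    have h1 := card_ones Q
    rw [← Nat.card_congr e] at h1
    have h2 : 2 ^ k ≠ 0 := by positivity
    have h3 : 2 ^ (2 * (k + 1)) = 2 * 2 ^ (2 * k + 1) := by rw [← pow_succ']; congr 1
    rcases type_cases hQ with ⟨g', hg'⟩ | ⟨g', hg'⟩
    · have := Nat.card_congr (zerosCongr g' (fun x => (hg' x).symm))
      rw [zeros_plus] at this
      omega
    · have := Nat.card_congr (zerosCongr g' (fun x => (hg' x).symm))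
      have h6 := zeros_minus (k + 1 - 1)
      rw [show 2 ^ (k + 1 - 1) = 2 ^ k by rw [Nat.add_sub_cancel],
        show 2 * (k + 1 - 1) + 1 = 2 * k + 1 by omega] at h6
      omega
  · intro hw
    have hww : polar Q w w = 0 := by rw [b_self]; exact two_mul_zero _
    let T : (Fin (k + 1) ⊕ Fin (k + 1) → K) →ₗ[K] (Fin (k + 1) ⊕ Fin (k + 1) → K) :=
      { toFun := fun v => v + polar Q v w • w
        map_add' := fun x y => by rw [b_add_left, add_smul]; abel
        map_smul' := fun c x => by rw [b_smul_left, mul_smul, RingHom.id_apply, smul_add] }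
    have hinv : Function.Involutive T := fun v => by
      show v + polar Q v w • w + polar Q (v + polar Q v w • w) w • w = v
      rw [b_add_left, b_smul_left, hww, mul_zero, add_zero, add_assoc, ← add_smul, ← two_mul, two_mul_zero, zero_smul,
        add_zero]
    refine ⟨LinearEquiv.ofInvolutive T hinv, fun v => ?_⟩
    show _ = Q (v + polar Q v w • w)
    rw [q_add, q_smul, b_smul_right, hw, mul_zero, add_zero]
    rcases cases_zmod (polar Q v w) with h | h <;> rw [h] <;> simp

end Cfsg.Agent.LBArf
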