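/-
Elements of prime order of PSL_n(q) and decompositions into subspaces of equal dimension.
-/
import Cfsg.Agent.Lib.Elusive.Decomp
import Cfsg.Agent.Lib.Elusive.Criterion
import Cfsg.Prelude.Def_GeometricClasses

set_option autoImplicit false
set_option linter.all false

namespace Cfsg.Agent.LBDecomp

open Module Elusive

variable {F : Type*} [Field F] {n a t r : ℕ}

local notation "V" => (Fin n → F)

/-- The parts of a decomposition are permuted. -/
def Perms (t a : ℕ) (T : Module.End F V) : Prop :=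
  ∃ D : Fin t → Submodule F V, Cfsg.Geo.IsMDecomposition a D ∧ ∃ σ : Equiv.Perm (Fin t), ∀ j, (D j).map T = D (σ j)

theorem finrank_iSup_le {ι W : Type*} [Fintype ι] [DecidableEq ι] [AddCommGroup W] [Module F W] [FiniteDimensional F W]
    (D : ι → Submodule F W) (s : Finset ι) : finrank F (s.sup D : Submodule F W) ≤ ∑ i ∈ s, finrank F (D i) := by
  induction s using Finset.induction_on with
  | empty => simp
  | insert i s hi ih =>
    rw [Finset.sup_insert, Finset.sum_insert hi]
    exact (Submodule.finrank_add_le_finrank_add_finrank _ _).trans (Nat.add_le_add_left ih _)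

/-- A spanning family of small subspaces. -/
theorem mdecomp_of_top {κ : Type} [Fintype κ] [DecidableEq κ] (ht : 2 ≤ t) (ha : 1 ≤ a) (hn : Fintype.card κ = a * t)
    (D : Fin t → Submodule F (κ → F))
    (hle : ∀ i, finrank F (D i) ≤ a) (htop : ∀ v, v ∈ ⨆ i, D i) : Cfsg.Geo.IsMDecomposition a D := by
  classical
  have htop' : (Finset.univ.sup D : Submodule F (κ → F)) = ⊤ := by
    rw [Finset.sup_univ_eq_iSup]; exact eq_top_iff.2 fun v _ => htop v
  have hsum : Fintype.card κ ≤ ∑ i, finrank F (D i) := by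
    have := finrank_iSup_le D Finset.univ
    rwa [htop', finrank_top, Module.finrank_fintype_fun_eq_card] at this
  have hdim : ∀ i, finrank F (D i) = a := fun i => by
    refine le_antisymm (hle i) ?_
    by_contra hlt
    have h1 : ∑ j, finrank F (D j) < ∑ _j : Fin t, a :=
      Finset.sum_lt_sum (fun j _ => hle j) ⟨i, Finset.mem_univ _, not_le.1 hlt⟩
    rw [Finset.sum_const, Finset.card_univ, Fintype.card_fin, smul_eq_mul, mul_comm] at h1
    omega
  refine ⟨ht, ha, hdim, fun i => ?_, eq_top_iff.2 fun v _ => htop v⟩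
  have e : (⨆ (j) (_ : j ≠ i), D j) = (Finset.univ.erase i).sup D := by
    rw [Finset.sup_eq_iSup]
    simp
  rw [e, disjoint_iff, ← Submodule.finrank_eq_zero]
  have h1 := Submodule.finrank_sup_add_finrank_inf_eq (D i) ((Finset.univ.erase i).sup D)
  rw [← Finset.sup_insert, Finset.insert_erase (Finset.mem_univ i), htop', finrank_top, Module.finrank_fintype_fun_eq_card, hdim] at h1
  have h2 := finrank_iSup_le D (Finset.univ.erase i)
  simp only [hdim, Finset.sum_const, Finset.card_erase_of_mem (Finset.mem_univ i), Finset.card_univ, Fintype.card_fin,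
    smul_eq_mul] at h2
  rw [Nat.sub_mul, one_mul, mul_comm t a] at h2
  have : a ≤ a * t := Nat.le_mul_of_pos_right a (by omega)
  omega

/-- A permuted spanning family gives a decomposition. -/
theorem perms_of (ht : 2 ≤ t) (ha : 1 ≤ a) (hn : n = a * t) {T : Module.End F V} (hT : Function.Injective T)
    {ι : Type*} [Fintype ι] (hι : Fintype.card ι = t) (D : ι → Submodule F V) (σ : Equiv.Perm ι)
    (hle : ∀ i, finrank F (D i) ≤ a) (htop : ∀ v, v ∈ ⨆ i, D i) (hσ : ∀ i, ∀ v ∈ D i, T v ∈ D (σ i)) :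
    Perms t a T := by
  classical
  let e : ι ≃ Fin t := Fintype.equivFinOfCardEq hι
  have hD := mdecomp_of_top ht ha ((Fintype.card_fin n).trans hn) (fun j => D (e.symm j)) (fun j => hle _) (fun v => by
    rw [e.symm.surjective.iSup_comp D]; exact htop v)
  refine ⟨_, hD, e.symm.trans (σ.trans e), fun j => ?_⟩
  refine Submodule.eq_of_le_of_finrank_le ?_ ?_
  · rintro _ ⟨v, hv, rfl⟩
    simpa using hσ _ v hv
  · rw [← (Submodule.equivMapOfInjective T hT _).finrank_eq, hD.finrank_eq, hD.finrank_eq]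

/-- The dimensions of an independent family inside a subspace. -/
theorem sum_finrank_le {ι W : Type*} [Fintype ι] [AddCommGroup W] [Module F W] [FiniteDimensional F W]
    {D : ι → Submodule F W} (hD : iSupIndep D) (E : ι → Submodule F W) (hE : ∀ i, E i ≤ D i) (U : Submodule F W)
    (hU : ∀ i, E i ≤ U) : ∑ i, finrank F (E i) ≤ finrank F U := by
  classical
  let Φ : (Π i, E i) →ₗ[F] U :=
    { toFun := fun f => ⟨∑ i, (f i : W), sum_mem fun i _ => hU i (f i).2⟩
      map_add' := fun f g => Subtype.ext (by simp [Finset.sum_add_distrib])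
      map_smul' := fun c f => Subtype.ext (by simp [Finset.smul_sum]) }
  have hinj : Function.Injective Φ := fun f g h => by
    funext i
    have := congrArg Subtype.val h
    exact Subtype.ext ((iSupIndep_iff_finsetSum_eq_imp_eq D).1 hD Finset.univ (fun j => (f j : W)) (fun j => (g j : W))
      (fun j _ => ⟨hE j (f j).2, hE j (g j).2⟩) this i (Finset.mem_univ i))
  have := LinearMap.finrank_le_finrank_of_injective hinj
  rwa [Module.finrank_pi_fintype] at this

/-- Cutting off invariant subspaces of dimension `a`. -/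
theorem chop {z : F} {T : Module.End F V} (hT : T ^ r = z • 1) (hz : z ≠ 0) (hr0 : (r : F) ≠ 0)
    (hpick : ∀ s, s + 1 ≤ t → ∀ W : Submodule F V, Inv T W → finrank F W = a * (s + 1) →
      ∃ U, U ≤ W ∧ Inv T U ∧ finrank F U = a) :
    ∀ s, s ≤ t → ∀ W : Submodule F V, Inv T W → finrank F W = a * s →
      ∃ D : Fin s → Submodule F V, (∀ i, Inv T (D i)) ∧ (∀ i, finrank F (D i) = a) ∧ W ≤ ⨆ i, D i := by
  intro s
  induction s with
  | zero =>
    intro _ W _ hd
    refine ⟨Fin.elim0, fun i => i.elim0, fun i => i.elim0, ?_⟩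
    rw [mul_zero, Submodule.finrank_eq_zero] at hd
    rw [hd]; exact bot_le
  | succ s ih =>
    intro hs W hW hd
    obtain ⟨U, hUW, hU, hUd⟩ := hpick s hs W hW hd
    obtain ⟨U', hc, hU'⟩ := exists_inv_compl hT hz hr0 hU
    have hsup : U ⊔ (U' ⊓ W) = W := by
      rw [← sup_inf_assoc_of_le U' hUW, hc.sup_eq_top, top_inf_eq]
    have hinf : U ⊓ (U' ⊓ W) = ⊥ := by
      rw [← inf_assoc, hc.inf_eq_bot, bot_inf_eq]
    have h1 := Submodule.finrank_sup_add_finrank_inf_eq U (U' ⊓ W)
    rw [hsup, hinf, finrank_bot, hd, hUd, Nat.mul_succ] at h1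
    obtain ⟨D, hDi, hDd, hDt⟩ := ih (by omega) (U' ⊓ W) (fun v hv => ⟨hU' v hv.1, hW v hv.2⟩) (by omega)
    refine ⟨Fin.cons U D, fun i => ?_, fun i => ?_, ?_⟩
    · refine Fin.cases ?_ (fun i => ?_) i
      · simpa using hU
      · simpa using hDi i
    · refine Fin.cases ?_ (fun i => ?_) i
      · rw [Fin.cons_zero]; exact hUd
      · rw [Fin.cons_succ]; exact hDd i
    · calc W = U ⊔ (U' ⊓ W) := hsup.symm
        _ ≤ _ := sup_le (le_iSup_of_le 0 (by simp)) (hDt.trans (iSup_le fun i => le_iSup_of_le i.succ (by simp)))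

theorem perms_of_pick (ht : 2 ≤ t) (ha : 1 ≤ a) (hn : n = a * t) {z : F} {T : Module.End F V} (hT : T ^ r = z • 1)
    (hz : z ≠ 0) (hr0 : (r : F) ≠ 0) (hTi : Function.Injective T)
    (hpick : ∀ s, s + 1 ≤ t → ∀ W : Submodule F V, Inv T W → finrank F W = a * (s + 1) →
      ∃ U, U ≤ W ∧ Inv T U ∧ finrank F U = a) : Perms t a T := by
  obtain ⟨D, hDi, hDd, hDt⟩ := chop hT hz hr0 hpick t le_rfl ⊤ (fun _ _ => trivial)
    (by rw [finrank_top, Module.finrank_fin_fun, hn])
  exact perms_of ht ha hn hTi (Fintype.card_fin t) D 1 (fun i => (hDd i).le) (fun v => hDt trivial) (fun i v hv => hDi i v hv)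

section finite

variable [Fintype F] [Fact r.Prime]

/-- Room for an invariant subspace of dimension `a` when `n mod c = t (a mod c)`. -/
theorem pick_one {T : Module.End F V} (hT : T ^ r = 1) (hr0 : (r : F) ≠ 0) {c : ℕ}
    (hc : c = orderOf (Fintype.card F : ZMod r)) (hca : c ≤ a) (htl : t * (a % c) < c) (s : ℕ) (hs : s + 1 ≤ t)
    (W : Submodule F V) (hW : Inv T W) (hd : finrank F W = a * (s + 1)) :
    ∃ U, U ≤ W ∧ Inv T U ∧ finrank F U = a := by
  obtain ⟨S, hSdef⟩ : ∃ S : Module.End F W, S = T.restrict hW := ⟨_, rfl⟩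
  have hS : ∀ (k : ℕ) (w : W), (((S ^ k) w : W) : V) = (T ^ k) w := fun k => by
    induction k with
    | zero => simp
    | succ k ih => intro w; rw [pow_succ, pow_succ, Module.End.mul_apply, Module.End.mul_apply, ih, hSdef]; rfl
  have hSr : S ^ r = 1 := LinearMap.ext fun w => Subtype.ext (by rw [hS, hT]; rfl)
  obtain ⟨J, hJ, hsum⟩ := exists_moved_eq hSr hr0
  rw [← hc] at hJ hsum
  rw [hd] at hsum
  have hsl : (s + 1) * (a % c) < c := (Nat.mul_le_mul_right _ hs).trans_lt htl
  have hfix : (s + 1) * (a % c) ≤ finrank F (fixedSpace S) := by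
    have e : (finrank F (fixedSpace S) + J * c) % c = (s + 1) * (a % c) := by
      rw [hsum, mul_comm, ← Nat.mul_mod_mod, Nat.mod_eq_of_lt hsl]
    rw [← e, Nat.add_mul_mod_self_right]
    exact Nat.mod_le _ _
  obtain ⟨j, hj⟩ : ∃ j, j = min J (a / c) := ⟨_, rfl⟩
  have hdm : c * (a / c) + a % c = a := Nat.div_add_mod a c
  have hjc : j * c ≤ J * c := Nat.mul_le_mul_right c (by omega)
  have hjf : j * c ≤ c * (a / c) := by rw [mul_comm c]; exact Nat.mul_le_mul_right c (by omega)
  have hroom : a - j * c ≤ finrank F (fixedSpace S) := by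
    rcases le_total J (a / c) with h | h
    · rw [show j = J by omega]
      have : a ≤ a * (s + 1) := Nat.le_mul_of_pos_right a (by omega)
      omega
    · rw [show j = a / c by omega, mul_comm]
      have : a % c ≤ (s + 1) * (a % c) := Nat.le_mul_of_pos_left _ (by omega)
      omega
  obtain ⟨U, -, hU, -, -, hUd, -⟩ := exists_nested hSr hr0 (cU := a - j * c) (cW := a - j * c) (jU := j) (jW := j)
    le_rfl hroom le_rfl (by rw [← hc, hJ]; exact hjc)
  refine ⟨U.map W.subtype, Submodule.map_subtype_le _ _, ?_, ?_⟩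
  · rintro _ ⟨u, hu, rfl⟩
    refine ⟨S u, hU u hu, ?_⟩
    rw [hSdef]; rfl
  · rw [← (Submodule.equivMapOfInjective _ W.injective_subtype U).finrank_eq, hUd, ← hc]
    omega

omit [Fintype F] in
/-- Room for an invariant subspace when the power is not a power. -/
theorem pick_nonpower {T : Module.End F V} {z : F} (hT : T ^ r = z • 1) (hz : z ≠ 0) (hzp : ∀ u : F, u ^ r ≠ z)
    (hra : r ∣ a) (s : ℕ) (W : Submodule F V) (hW : Inv T W) (hd : finrank F W = a * (s + 1)) :
    ∃ U, U ≤ W ∧ Inv T U ∧ finrank F U = a := by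
  obtain ⟨S, hSdef⟩ : ∃ S : Module.End F W, S = T.restrict hW := ⟨_, rfl⟩
  have hS : ∀ (k : ℕ) (w : W), (((S ^ k) w : W) : V) = (T ^ k) w := fun k => by
    induction k with
    | zero => simp
    | succ k ih => intro w; rw [pow_succ, pow_succ, Module.End.mul_apply, Module.End.mul_apply, ih, hSdef]; rfl
  have hSr : S ^ r = z • 1 := LinearMap.ext fun w => Subtype.ext (by rw [hS, hT]; rfl)
  obtain ⟨m, hm⟩ := hra
  have hle : m * r ≤ finrank F W := by rw [hd, mul_comm m r, ← hm]; exact Nat.le_mul_of_pos_right a (by omega)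
  obtain ⟨U, -, hU, -, -, hUd, -⟩ := exists_nested_nonpower hSr hz hzp (a := m) (b := m) le_rfl hle
  refine ⟨U.map W.subtype, Submodule.map_subtype_le _ _, ?_, ?_⟩
  · rintro _ ⟨u, hu, rfl⟩
    refine ⟨S u, hU u hu, ?_⟩
    rw [hSdef]; rfl
  · rw [← (Submodule.equivMapOfInjective _ W.injective_subtype U).finrank_eq, hUd, hm, mul_comm]

omit [Fintype F] in
/-- Cycles of parts when the power is not a power. -/
theorem perms_cycles (ht : 2 ≤ t) (ha : 1 ≤ a) (hn : n = a * t) {T : Module.End F V} {z : F} (hT : T ^ r = z • 1) (hz : z ≠ 0)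
    (hzp : ∀ u : F, u ^ r ≠ z) (hTi : Function.Injective T) (hrt : r ∣ t) : Perms t a T := by
  classical
  obtain ⟨m, hm⟩ := hrt
  have hr0 : 0 < r := (Fact.out : r.Prime).pos
  obtain ⟨N, hN, v, hv⟩ := exists_frame hT hz hzp
  rw [Module.finrank_fin_fun] at hN
  have hNm : N = a * m := Nat.eq_of_mul_eq_mul_right hr0 (by rw [← hN, hn, hm]; ring)
  subst hNm
  let w : Fin m → Fin a → V := fun b j => v (finProdFinEquiv (j, b))
  let D : Fin m × Fin r → Submodule F V := fun p => Submodule.span F (Set.range fun j : Fin a => (T ^ (p.2 : ℕ)) (w p.1 j))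
  refine perms_of ht ha hn hTi (by simp [hm, mul_comm]) D (Equiv.prodCongrRight fun _ => finRotate r) (fun p => ?_) (fun x => ?_) ?_
  · exact (finrank_range_le_card _).trans_eq (Fintype.card_fin a)
  · obtain ⟨hd, -⟩ := hv (a * m) le_rfl
    have htop := Submodule.eq_top_of_finrank_eq (hd.trans (hN.symm.trans (Module.finrank_fin_fun F).symm))
    refine (htop.ge.trans (Submodule.span_le.2 ?_)) (Submodule.mem_top (x := x))
    rintro _ ⟨⟨⟨s, i⟩, hs⟩, rfl⟩
    obtain ⟨⟨j, b⟩, rfl⟩ := finProdFinEquiv.surjective s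
    exact le_iSup D (b, i) (Submodule.subset_span ⟨j, rfl⟩)
  · rintro ⟨b, i⟩ x hx
    refine (Submodule.span_le (p := (D (b, finRotate r i)).comap T)).2 ?_ hx
    rintro _ ⟨j, rfl⟩
    show T ((T ^ (i : ℕ)) (w b j)) ∈ D (b, finRotate r i)
    rw [← Module.End.mul_apply, ← pow_succ']
    obtain ⟨r', rfl⟩ : ∃ r', r = r' + 1 := ⟨r - 1, by omega⟩
    by_cases hi : (i : ℕ) + 1 = r' + 1
    · rw [hi, hT, LinearMap.smul_apply, Module.End.one_apply]
      refine Submodule.smul_mem _ _ (Submodule.subset_span ⟨j, ?_⟩)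
      have e : finRotate (r' + 1) i = 0 := by rw [finRotate_succ_apply]; exact Fin.ext (by simp [Fin.val_add, hi])
      simp [e]
    · refine Submodule.subset_span ⟨j, ?_⟩
      have : ((finRotate (r' + 1) i : Fin (r' + 1)) : ℕ) = (i : ℕ) + 1 := by
        rw [finRotate_succ_apply, Fin.val_add_one_of_lt']
        omega
      show (T ^ ((finRotate (r' + 1) i : Fin (r' + 1)) : ℕ)) (w b j) = _
      rw [this]

/-- Cycles of lines. -/
theorem perms_lines (ht : 2 ≤ t) (hn : n = 1 * t) {T : Module.End F V} (hT : T ^ r = 1) (hr0 : (r : F) ≠ 0)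
    (hc : orderOf (Fintype.card F : ZMod r) = r - 1) (hTi : Function.Injective T) (hk : n ≤ n % (r - 1) * r) : Perms t 1 T := by
  classical
  have hr2 : 2 ≤ r := (Fact.out : r.Prime).two_le
  obtain ⟨c, hcdef⟩ : ∃ c, c = r - 1 := ⟨_, rfl⟩
  obtain ⟨J, hJ, hsum⟩ := exists_moved_eq hT hr0
  rw [hc, ← hcdef] at hJ hsum
  rw [Module.finrank_fin_fun] at hsum
  obtain ⟨e, he⟩ : ∃ e, e = finrank F (fixedSpace T) := ⟨_, rfl⟩
  rw [← he] at hsum
  rw [← hcdef] at hk
  have hc0 : 0 < c := by omega
  have hJe : J ≤ e := by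
    have h1 : n % c ≤ e := by rw [← hsum, Nat.add_mul_mod_self_right]; exact Nat.mod_le _ _
    have h2 := Nat.mul_le_mul_right r h1
    have h3 : J * c ≤ e * c := by
      rw [show r = c + 1 by omega, Nat.mul_succ, Nat.mul_succ] at h2
      rw [show r = c + 1 by omega, Nat.mul_succ] at hk
      omega
    exact Nat.le_of_mul_le_mul_right h3 (by omega)
  let cycs : (ℕ → V) → ℕ → Submodule F V := fun w j => Submodule.span F (Set.range fun p : Fin j × Fin r => (T ^ (p.2 : ℕ)) (w p.1))
  have hinv : ∀ w j, Inv T (cycs w j) := fun w j x hx => by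
    refine (Submodule.span_le (p := (cycs w j).comap T)).2 ?_ hx
    rintro _ ⟨⟨s, i⟩, rfl⟩
    show T ((T ^ (i : ℕ)) (w s)) ∈ cycs w j
    rw [← Module.End.mul_apply, ← pow_succ']
    by_cases hi : (i : ℕ) + 1 = r
    · rw [hi, hT, Module.End.one_apply]
      exact Submodule.subset_span ⟨(s, ⟨0, by omega⟩), by simp⟩
    · exact Submodule.subset_span ⟨(s, ⟨i + 1, by omega⟩), rfl⟩
  obtain ⟨w, hwM, hwall⟩ : ∃ w : ℕ → V, (∀ s, w s ∈ movedSpace T r) ∧ movedSpace T r ≤ cycs w J := by
    suffices h : ∀ j ≤ J, ∃ w : ℕ → V, (∀ s, w s ∈ movedSpace T r) ∧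
        (j * c ≤ finrank F (cycs w j) ∨ movedSpace T r ≤ cycs w j) by
      obtain ⟨w, hwM, hw⟩ := h J le_rfl
      refine ⟨w, hwM, hw.elim (fun h => ?_) id⟩
      have hle : cycs w J ≤ movedSpace T r := Submodule.span_le.2 (by
        rintro _ ⟨p, rfl⟩; exact (inv_moved (T := T)).pow _ _ (hwM _))
      exact (Submodule.eq_of_le_of_finrank_le hle (hJ ▸ h)).ge
    intro j
    induction j with
    | zero => exact fun _ => ⟨fun _ => 0, fun _ => Submodule.zero_mem _, Or.inl (by simp)⟩
    | succ j ih =>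
      intro hj
      obtain ⟨w, hwM, hw⟩ := ih (by omega)
      by_cases hall : movedSpace T r ≤ cycs w j
      · exact ⟨w, hwM, Or.inr (hall.trans (Submodule.span_mono (by
          rintro _ ⟨⟨s, i⟩, rfl⟩; exact ⟨(⟨s, by omega⟩, i), rfl⟩)))⟩
      obtain ⟨u, hu, huW⟩ := SetLike.not_le_iff_exists.1 hall
      obtain ⟨w', hw'⟩ : ∃ w', w' = Function.update w j u := ⟨_, rfl⟩
      have hw'M : ∀ s, w' s ∈ movedSpace T r := fun s => by
        rw [hw', Function.update_apply]; split_ifs <;> [exact hu; exact hwM s]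
      refine ⟨w', hw'M, Or.inl ?_⟩
      have hmono : cycs w j < cycs w' (j + 1) := SetLike.lt_iff_le_and_exists.2 ⟨Submodule.span_mono (by
          rintro _ ⟨⟨s, i⟩, rfl⟩
          refine ⟨(⟨s, by omega⟩, i), ?_⟩
          have hs : (s : ℕ) ≠ j := by omega
          simp [hw', Function.update_of_ne hs]),
        u, Submodule.subset_span ⟨(⟨j, by omega⟩, ⟨0, by omega⟩), by simp [hw']⟩, huW⟩
      have hle : ∀ w : ℕ → V, (∀ s, w s ∈ movedSpace T r) → ∀ j, cycs w j ≤ movedSpace T r := fun w hw j =>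
        Submodule.span_le.2 (by rintro _ ⟨p, rfl⟩; exact (inv_moved (T := T)).pow _ _ (hw _))
      obtain ⟨x, hx⟩ := dvd_finrank_moved hT hr0 (hinv w j) (hle w hwM j)
      obtain ⟨y, hy⟩ := dvd_finrank_moved hT hr0 (hinv w' (j + 1)) (hle w' hw'M _)
      rw [hc, ← hcdef] at hx hy
      have h1 := Submodule.finrank_lt_finrank_of_lt hmono
      rw [hx, hy] at h1
      have h2 := Nat.lt_of_mul_lt_mul_left h1
      have h3 : c * j ≤ c * x := by rw [← hx, mul_comm]; exact hw.resolve_right hall
      have h4 := Nat.le_of_mul_le_mul_left h3 hc0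
      rw [hy, mul_comm]
      exact Nat.mul_le_mul_left c (by omega)
  obtain ⟨b⟩ : Nonempty (Basis (Fin e) F (fixedSpace T)) := ⟨he ▸ Module.finBasis F (fixedSpace T)⟩
  let f : ℕ → V := fun s => if h : s < e then (b ⟨s, h⟩ : V) else 0
  let D : (Fin J × Fin r) ⊕ Fin (e - J) → Submodule F V := Sum.elim
    (fun p => Submodule.span F {(T ^ (p.2 : ℕ)) (f p.1 + w p.1)}) (fun s => Submodule.span F {f (J + s)})
  have hf : ∀ s, T (f s) = f s := fun s => by
    simp only [f]
    split_ifs with h
    · exact mem_fixedSpace.1 (b ⟨s, h⟩).2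
    · exact map_zero T
  have hcard : Fintype.card ((Fin J × Fin r) ⊕ Fin (e - J)) = t := by
    simp only [Fintype.card_sum, Fintype.card_prod, Fintype.card_fin]
    rw [show r = c + 1 by omega, Nat.mul_succ]
    omega
  refine perms_of ht le_rfl hn hTi hcard D (Equiv.sumCongr (Equiv.prodCongrRight fun _ => finRotate r) 1) (fun p => ?_) (fun x => ?_) ?_
  · rcases p with p | p <;> exact (finrank_span_le_card _).trans (by simp)
  · have hDmem : ∀ (s : Fin J) (i : Fin r), (T ^ (i : ℕ)) (f s + w s) ∈ ⨆ p, D p := fun s i =>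
      le_iSup D (Sum.inl (s, i)) (Submodule.mem_span_singleton_self _)
    have hfD : ∀ s : Fin J, f s ∈ ⨆ p, D p := fun s => by
      have h1 : ∑ i : Fin r, (T ^ (i : ℕ)) (f s + w s) = (r : F) • f s := by
        have hk : ∀ k, (T ^ k) (f s) = f s := fun k => by
          induction k with
          | zero => simp
          | succ k ih => rw [pow_succ, Module.End.mul_apply, hf, ih]
        have hw0 : ∑ i : Fin r, (T ^ (i : ℕ)) (w s) = 0 := by
          have := LinearMap.mem_ker.1 (hwM s)
          rw [LinearMap.sum_apply] at this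
          rwa [Fin.sum_univ_eq_sum_range (fun k => (T ^ k) (w s))]
        simp only [map_add, Finset.sum_add_distrib, hk, hw0, add_zero, Finset.sum_const, Finset.card_univ, Fintype.card_fin,
          Nat.cast_smul_eq_nsmul]
      have h2 : (r : F) • f s ∈ ⨆ p, D p := h1 ▸ sum_mem fun i _ => hDmem s i
      have h3 := Submodule.smul_mem _ (r : F)⁻¹ h2
      rwa [inv_smul_smul₀ hr0] at h3
    have hfix : fixedSpace T ≤ ⨆ p, D p := by
      intro y hy
      have := congrArg Subtype.val (b.sum_repr ⟨y, hy⟩)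
      rw [← show _ = y from this, Submodule.coe_sum]
      refine sum_mem fun s _ => Submodule.smul_mem _ _ ?_
      have e1 : (b s : V) = f s := by simp [f, s.isLt]
      rw [e1]
      by_cases h : (s : ℕ) < J
      · exact hfD ⟨s, h⟩
      · refine le_iSup D (Sum.inr ⟨s - J, by omega⟩) ?_
        show f s ∈ Submodule.span F {f (J + (s - J))}
        rw [show J + ((s : ℕ) - J) = s by omega]
        exact Submodule.mem_span_singleton_self _
    have hmov : movedSpace T r ≤ ⨆ p, D p := hwall.trans (Submodule.span_le.2 (by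
      rintro _ ⟨⟨s, i⟩, rfl⟩
      have h1 := Submodule.sub_mem _ (hDmem s i) (hfD s)
      have hk : ∀ k, (T ^ k) (f s) = f s := fun k => by
        induction k with
        | zero => simp
        | succ k ih => rw [pow_succ, Module.End.mul_apply, hf, ih]
      rwa [map_add, hk, add_sub_cancel_left] at h1))
    have := split_inv hT hr0 (W := ⊤) (fun _ _ => trivial)
    rw [top_inf_eq, top_inf_eq] at this
    exact (this.ge.trans (sup_le hfix hmov)) (Submodule.mem_top (x := x))
  · rintro (⟨s, i⟩ | s) x hx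
    · obtain ⟨l, rfl⟩ := Submodule.mem_span_singleton.1 hx
      rw [map_smul]
      refine Submodule.smul_mem _ _ ?_
      show T ((T ^ (i : ℕ)) (f s + w s)) ∈ Submodule.span F {(T ^ ((finRotate r i : Fin r) : ℕ)) (f s + w s)}
      rw [← Module.End.mul_apply, ← pow_succ']
      obtain ⟨r', rfl⟩ : ∃ r', r = r' + 1 := ⟨r - 1, by omega⟩
      by_cases hi : (i : ℕ) + 1 = r' + 1
      · have e : finRotate (r' + 1) i = 0 := by rw [finRotate_succ_apply]; exact Fin.ext (by simp [Fin.val_add, hi])
        rw [hi, hT, e]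
        simpa using Submodule.mem_span_singleton_self (f s + w s)
      · have : ((finRotate (r' + 1) i : Fin (r' + 1)) : ℕ) = (i : ℕ) + 1 := by
          rw [finRotate_succ_apply, Fin.val_add_one_of_lt']
          omega
        rw [this]
        exact Submodule.mem_span_singleton_self _
    · obtain ⟨l, rfl⟩ := Submodule.mem_span_singleton.1 hx
      rw [map_smul]
      refine Submodule.smul_mem _ _ ?_
      show T (f (J + s)) ∈ Submodule.span F {f (J + s)}
      rw [hf]
      exact Submodule.mem_span_singleton_self _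


omit [Fintype F] in
/-- A moved part spreads over `r` independent ones. -/
theorem moved_part {W : Type*} [AddCommGroup W] [Module F W] [FiniteDimensional F W] {T : Module.End F W} (hT : T ^ r = 1)
    {D : Fin t → Submodule F W} (hD : iSupIndep D)
    (hdim : ∀ i, finrank F (D i) = a) (ha : 1 ≤ a) {σ : Equiv.Perm (Fin t)} (hσ : ∀ i, ∀ v ∈ D i, T v ∈ D (σ i)) {j : Fin t}
    (hj : σ j ≠ j) :
    a ≤ finrank F (fixedSpace T) ∧ ∀ (_ : (r : F) ≠ 0), r * a ≤ a + finrank F (movedSpace T r) := by
  classical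
  have hpow : ∀ (k : ℕ) i, ∀ v ∈ D i, (T ^ k) v ∈ D ((σ ^ k) i) := fun k => by
    induction k with
    | zero => intro i v hv; simpa using hv
    | succ k ih =>
      intro i v hv
      rw [pow_succ', pow_succ', Module.End.mul_apply, Equiv.Perm.mul_apply]
      exact hσ _ _ (ih i v hv)
  have hne : ∀ i, D i ≠ ⊥ := fun i hb => by
    have := hdim i
    rw [hb, finrank_bot] at this
    omega
  have hσr : ∀ i, (σ ^ r) i = i := fun i => by
    by_contra hni
    obtain ⟨v, hv, hv0⟩ := Submodule.exists_mem_ne_zero_of_ne_bot (hne i)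
    have h2 := hpow r i v hv
    rw [hT, Module.End.one_apply] at h2
    exact hv0 (Submodule.disjoint_def.1 (hD.pairwiseDisjoint (Ne.symm hni)) v hv h2)
  have hinj : Function.Injective fun k : Fin r => (σ ^ (k : ℕ)) j := by
    have hmin : Function.minimalPeriod σ j = r := Function.minimalPeriod_eq_prime (by
      rw [Function.IsPeriodicPt, Function.IsFixedPt, ← Equiv.Perm.coe_pow]; exact hσr j) hj
    intro k l h
    simp only [Equiv.Perm.coe_pow] at h
    exact Fin.ext ((Function.iterate_eq_iterate_iff_of_lt_minimalPeriod (hmin.symm ▸ k.2) (hmin.symm ▸ l.2)).1 h)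
  have hind := hD.comp hinj
  let Φ : (Fin r → D j) →ₗ[F] W :=
    { toFun := fun g => ∑ k : Fin r, (T ^ (k : ℕ)) (g k : W)
      map_add' := fun g g' => by simp [Finset.sum_add_distrib]
      map_smul' := fun s g => by simp [Finset.smul_sum] }
  have hTinj : ∀ k, Function.Injective (T ^ k : Module.End F W) := fun k => by
    have h1 : Function.Injective T := fun x y h => by
      have := congrArg (fun z => (T ^ (r - 1)) z) h
      simp only [← Module.End.mul_apply, ← pow_succ] at this
      rwa [show r - 1 + 1 = r by have := (Fact.out : r.Prime).pos; omega, hT] at this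
    rw [Module.End.coe_pow]
    exact h1.iterate k
  have hΦ : Function.Injective Φ := fun g g' h => funext fun k => Subtype.ext (hTinj k
    ((iSupIndep_iff_finsetSum_eq_imp_eq _).1 hind Finset.univ (fun k => (T ^ (k : ℕ)) (g k : W))
      (fun k => (T ^ (k : ℕ)) (g' k : W)) (fun k _ => ⟨hpow k j _ (g k).2, hpow k j _ (g' k).2⟩) h k (Finset.mem_univ k)))
  let N : D j →ₗ[F] W := Φ.comp (LinearMap.pi fun _ => LinearMap.id)
  have hNinj : Function.Injective N := hΦ.comp fun x y h => congrFun h ⟨0, (Fact.out : r.Prime).pos⟩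
  have hN : ∀ v, N v ∈ fixedSpace T := fun v => by
    rw [mem_fixedSpace]
    show T (∑ k : Fin r, (T ^ (k : ℕ)) (v : W)) = ∑ k : Fin r, (T ^ (k : ℕ)) (v : W)
    rw [Fin.sum_univ_eq_sum_range (fun k => (T ^ k) (v : W)), map_sum]
    simp only [← Module.End.mul_apply, ← pow_succ']
    have h1 := Finset.sum_range_succ' (fun k => (T ^ k) (v : W)) r
    rw [Finset.sum_range_succ, hT, pow_zero] at h1
    exact (add_right_cancel h1).symm
  refine ⟨?_, fun hr0 => ?_⟩
  · have := Submodule.finrank_mono (show LinearMap.range N ≤ fixedSpace T by rintro _ ⟨v, rfl⟩; exact hN v)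
    rwa [LinearMap.finrank_range_of_inj hNinj, hdim] at this
  · obtain ⟨S, hS⟩ : ∃ S, S = LinearMap.range Φ := ⟨_, rfl⟩
    have hSd : finrank F S = r * a := by
      rw [hS, LinearMap.finrank_range_of_inj hΦ, Module.finrank_pi_fintype]
      simp [hdim]
    have hSinv : Inv T S := by
      rw [hS]
      rintro _ ⟨g, rfl⟩
      show T (∑ k : Fin r, (T ^ (k : ℕ)) (g k : W)) ∈ _
      rw [map_sum]
      refine sum_mem fun k _ => ?_
      rw [← Module.End.mul_apply, ← pow_succ']
      by_cases hk : (k : ℕ) + 1 = r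
      · refine ⟨Pi.single ⟨0, (Fact.out : r.Prime).pos⟩ (g k), ?_⟩
        rw [hk, hT]
        show ∑ i : Fin r, _ = _
        rw [Finset.sum_eq_single ⟨0, (Fact.out : r.Prime).pos⟩ (fun i _ hi => by rw [Pi.single_eq_of_ne hi]; simp) (by simp)]
        simp
      · refine ⟨Pi.single ⟨k + 1, by omega⟩ (g k), ?_⟩
        show ∑ i : Fin r, _ = _
        rw [Finset.sum_eq_single ⟨(k : ℕ) + 1, by omega⟩ (fun i _ hi => by rw [Pi.single_eq_of_ne hi]; simp) (by simp)]
        simp
    have hfix : S ⊓ fixedSpace T ≤ LinearMap.range N := by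
      rintro x ⟨hx, hxf⟩
      rw [hS] at hx
      obtain ⟨g, rfl⟩ := hx
      have hTx := mem_fixedSpace.1 hxf
      have hpk : ∀ k : ℕ, (T ^ k) (Φ g) = Φ g := fun k => by
        induction k with
        | zero => simp
        | succ k ih => rw [pow_succ, Module.End.mul_apply, hTx, ih]
      -- the average over the cycle
      have havg : (r : F) • Φ g = N (∑ k, g k) := by
        have h1 : ∑ i : Fin r, (T ^ (i : ℕ)) (Φ g) = (r : F) • Φ g := by
          simp [hpk, Nat.cast_smul_eq_nsmul]
        rw [← h1]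
        have h2 : ∀ k : ℕ, ∀ y, (∑ i ∈ Finset.range r, (T ^ i) ((T ^ k) y)) = ∑ i ∈ Finset.range r, (T ^ i) y := by
          intro k
          induction k with
          | zero => simp
          | succ k ih =>
            intro y
            rw [pow_succ, ← ih y]
            refine (Finset.sum_congr rfl fun i _ => ?_).trans (ih (T y)) |>.trans ?_
            · rfl
            rw [ih y]
            simp only [← Module.End.mul_apply, ← pow_succ]
            have h1 := Finset.sum_range_succ' (fun k => (T ^ k) y) r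
            rw [Finset.sum_range_succ, hT, pow_zero] at h1
            exact (add_right_cancel h1).symm
        show ∑ i : Fin r, (T ^ (i : ℕ)) (∑ k : Fin r, (T ^ (k : ℕ)) (g k : W)) = ∑ i : Fin r, (T ^ (i : ℕ)) ((∑ k, g k : D j) : W)
        simp only [Submodule.coe_sum, map_sum]
        rw [Finset.sum_comm, Finset.sum_comm (f := fun i k => (T ^ (i : Fin r).1) (g k : W))]
        refine Finset.sum_congr rfl fun k _ => ?_
        rw [Fin.sum_univ_eq_sum_range (fun i => (T ^ i) ((T ^ (k : ℕ)) (g k : W))), h2,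
          Fin.sum_univ_eq_sum_range (fun i => (T ^ i) (g k : W))]
      refine ⟨(r : F)⁻¹ • ∑ k, g k, ?_⟩
      rw [map_smul, ← havg, inv_smul_smul₀ hr0]
    have h1 := finrank_split hT hr0 hSinv
    have h2 := Submodule.finrank_mono hfix
    rw [LinearMap.finrank_range_of_inj hNinj, hdim] at h2
    have h3 := Submodule.finrank_mono (inf_le_right : S ⊓ movedSpace T r ≤ movedSpace T r)
    omega

/-- Lines: the fixed space sees every orbit. -/
theorem lines_bound {T : Module.End F V} (hT : T ^ r = 1) (hr0 : (r : F) ≠ 0) (hr1 : ¬ r ∣ Fintype.card F - 1)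
    {D : Fin t → Submodule F V} (hD : iSupIndep D) (hdim : ∀ i, finrank F (D i) = 1) {σ : Equiv.Perm (Fin t)}
    (hσ : ∀ i, ∀ v ∈ D i, T v ∈ D (σ i)) : t ≤ r * finrank F (fixedSpace T) := by
  classical
  have hr : 0 < r := (Fact.out : r.Prime).pos
  have hpow : ∀ (k : ℕ) i, ∀ v ∈ D i, (T ^ k) v ∈ D ((σ ^ k) i) := fun k => by
    induction k with
    | zero => intro i v hv; simpa using hv
    | succ k ih =>
      intro i v hv
      rw [pow_succ', pow_succ', Module.End.mul_apply, Equiv.Perm.mul_apply]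
      exact hσ _ _ (ih i v hv)
  have hne : ∀ i, D i ≠ ⊥ := fun i hb => by
    have := hdim i
    rw [hb, finrank_bot] at this
    omega
  choose v hv hv0 using fun i => Submodule.exists_mem_ne_zero_of_ne_bot (hne i)
  have hσr : ∀ i, (σ ^ r) i = i := fun i => by
    by_contra hni
    have h2 := hpow r i (v i) (hv i)
    rw [hT, Module.End.one_apply] at h2
    exact hv0 i (Submodule.disjoint_def.1 (hD.pairwiseDisjoint (Ne.symm hni)) _ (hv i) h2)
  let orb : Fin t → Finset (Fin t) := fun i => (Finset.range r).image fun k => (σ ^ k) i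
  have hmem : ∀ i, i ∈ orb i := fun i => Finset.mem_image.2 ⟨0, Finset.mem_range.2 hr, rfl⟩
  have horb : ∀ i, ∀ k : ℕ, (σ ^ k) i ∈ orb i := fun i k =>
    Finset.mem_image.2 ⟨k % r, Finset.mem_range.2 (Nat.mod_lt _ hr), by
      conv_rhs => rw [← Nat.mod_add_div k r, pow_add, Equiv.Perm.mul_apply, pow_mul]
      congr 1
      generalize k / r = m
      induction m with
      | zero => rfl
      | succ m ih => rw [pow_succ, Equiv.Perm.mul_apply, hσr, ← ih]⟩
  have heq : ∀ i k, k ∈ orb i → orb k = orb i := fun i k hk => by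
    obtain ⟨u, hu, rfl⟩ := Finset.mem_image.1 hk
    rw [Finset.mem_range] at hu
    ext x
    constructor
    · intro hx
      obtain ⟨w, -, rfl⟩ := Finset.mem_image.1 hx
      rw [← Equiv.Perm.mul_apply, ← pow_add]; exact horb i _
    · intro hx
      obtain ⟨w, -, rfl⟩ := Finset.mem_image.1 hx
      have h := horb ((σ ^ u) i) (w + (r - u))
      rwa [← Equiv.Perm.mul_apply, ← pow_add, show w + (r - u) + u = w + r by omega, pow_add, Equiv.Perm.mul_apply, hσr] at h
  let rep : Fin t → Fin t := fun i => (orb i).min' ⟨i, hmem i⟩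
  have hrep : ∀ i, rep i ∈ orb i := fun i => Finset.min'_mem _ _
  let R := Finset.univ.image rep
  have hfib : Fintype.card (Fin t) ≤ r * R.card := by
    refine Finset.card_le_mul_card_image (s := Finset.univ) (f := rep) r fun x hx => ?_
    refine le_trans (Finset.card_le_card (t := orb x) fun i hi => ?_) (Finset.card_image_le.trans (Finset.card_range r).le)
    obtain ⟨-, rfl⟩ := Finset.mem_filter.1 hi
    rw [heq i (rep i) (hrep i)]; exact hmem i
  let w : R → V := fun i => ∑ k ∈ Finset.range r, (T ^ k) (v i.1)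
  have hwfix : ∀ i, w i ∈ fixedSpace T := fun i => by
    rw [mem_fixedSpace]
    simp only [w, map_sum, ← Module.End.mul_apply, ← pow_succ']
    have h1 := Finset.sum_range_succ' (fun k => (T ^ k) (v i.1)) r
    rw [Finset.sum_range_succ, hT, pow_zero] at h1
    exact (add_right_cancel h1).symm
  have hrr : ∀ i : R, rep i.1 = i.1 := fun i => by
    obtain ⟨x, -, hx⟩ := Finset.mem_image.1 i.2
    have h := heq x (rep x) (hrep x)
    show (orb i.1).min' _ = i.1
    simp only [← hx]
    simp only [rep, h]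
  have hdisj : ∀ i k : R, i ≠ k → ∀ x ∈ orb i.1, x ∉ orb k.1 := fun i k hik x hxi hxk => by
    have h := (heq i.1 x hxi).symm.trans (heq k.1 x hxk)
    refine hik (Subtype.ext ?_)
    rw [← hrr i, ← hrr k]
    simp only [rep, h]
  let Rst : Fin t → Submodule F V := fun i => ⨆ (x : Fin t) (_ : x ≠ i), D x
  have hw1 : ∀ i : R, ∃ l : F, l ≠ 0 ∧ w i - l • v i.1 ∈ Rst i.1 := fun i => by
    by_cases hfx : σ i.1 = i.1
    · obtain ⟨l, hl⟩ : ∃ l : F, l • (⟨v i.1, hv i.1⟩ : D i.1) = ⟨T (v i.1), by simpa [hfx] using hσ i.1 _ (hv i.1)⟩ :=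
        exists_smul_eq_of_finrank_eq_one (hdim i.1) (fun e => hv0 i.1 (congrArg Subtype.val e)) _
      have hl' : T (v i.1) = l • v i.1 := (congrArg Subtype.val hl).symm
      have hlk : ∀ k, (T ^ k) (v i.1) = l ^ k • v i.1 := fun k => by
        induction k with
        | zero => simp
        | succ k ih => rw [pow_succ', Module.End.mul_apply, ih, map_smul, hl', smul_smul, ← pow_succ]
      have hl1 : l = 1 := by
        refine eq_one_of_pow_eq_one hr1 (smul_left_injective F (hv0 i.1) ?_)
        show l ^ r • v i.1 = (1 : F) • v i.1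
        rw [← hlk, hT, one_smul]; rfl
      refine ⟨(r : F), hr0, ?_⟩
      simp only [w, hlk, hl1, one_pow, one_smul, Finset.sum_const, Finset.card_range, ← Nat.cast_smul_eq_nsmul F, sub_self]
      exact Submodule.zero_mem _
    · refine ⟨1, one_ne_zero, ?_⟩
      obtain ⟨r', hr'⟩ : ∃ r', r = r' + 1 := ⟨r - 1, by omega⟩
      simp only [w, hr', Finset.sum_range_succ', pow_zero, Module.End.one_apply, one_smul, add_sub_cancel_right]
      refine sum_mem fun k hk => ?_
      refine le_iSup₂ (f := fun x (_ : x ≠ i.1) => D x) ((σ ^ (k + 1)) i.1) (fun e => ?_) (hpow _ _ _ (hv i.1))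
      rw [Finset.mem_range] at hk
      have hmin : Function.minimalPeriod σ i.1 = r := Function.minimalPeriod_eq_prime (by
        rw [Function.IsPeriodicPt, Function.IsFixedPt, ← Equiv.Perm.coe_pow]; exact hσr _) hfx
      rw [Equiv.Perm.coe_pow] at e
      have := Function.IsPeriodicPt.minimalPeriod_dvd (show Function.IsPeriodicPt σ (k + 1) i.1 from e)
      rw [hmin] at this
      exact absurd (Nat.le_of_dvd (by omega) this) (by omega)
  have hli : LinearIndependent F w := by
    rw [Fintype.linearIndependent_iff]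
    intro g hg i
    obtain ⟨l, hl0, hl⟩ := hw1 i
    have hrest : ∑ k ∈ Finset.univ.erase i, g k • w k ∈ Rst i.1 := sum_mem fun k hk => Submodule.smul_mem _ _
      (sum_mem fun u _ => le_iSup₂ (f := fun x (_ : x ≠ i.1) => D x) ((σ ^ u) k.1)
        (fun e => hdisj k i (Finset.ne_of_mem_erase hk) _ (horb k.1 u) (e.symm ▸ hmem i.1)) (hpow u k.1 _ (hv k.1)))
    rw [← Finset.add_sum_erase _ _ (Finset.mem_univ i), add_eq_zero_iff_eq_neg] at hg
    have h1 : (g i * l) • v i.1 ∈ Rst i.1 := by
      have := Submodule.sub_mem _ (Submodule.neg_mem _ hrest) (Submodule.smul_mem _ (g i) hl)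
      rw [← hg, ← smul_sub, sub_sub_cancel, smul_smul] at this
      exact this
    by_contra hgi
    exact hv0 i.1 (Submodule.disjoint_def.1 (hD i.1) _ (hv i.1) ((Submodule.smul_mem_iff _ (mul_ne_zero hgi hl0)).1 h1))
  have hsub : LinearIndependent F (fun i => (⟨w i, hwfix i⟩ : fixedSpace T)) := LinearIndependent.of_comp (fixedSpace T).subtype hli
  have := hsub.fintype_card_le_finrank
  rw [Fintype.card_coe] at this
  rw [Fintype.card_fin] at hfib
  exact hfib.trans (Nat.mul_le_mul_left r this)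

theorem exists_exact (hr : ¬ r ∣ Fintype.card F) (hr1 : ¬ r ∣ Fintype.card F - 1) (J e : ℕ)
    (hJ : 0 < J) (hne : J * orderOf (Fintype.card F : ZMod r) + e = n) :
    ∃ T : Module.End F (Fin n → F), T ^ r = 1 ∧ LinearMap.det T = 1 ∧ (∀ s : F, T ≠ s • 1) ∧
      Module.finrank F (fixedSpace T) = e := by
  classical
  obtain ⟨p, _⟩ := CharP.exists F
  obtain ⟨f, hp, hqe⟩ := FiniteField.card F p
  haveI : Fact p.Prime := ⟨hp⟩
  have hipos := orderOf_card_pos (F := F) (r := r) (cast_ne_zero_of_not_dvd_card hr)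
  set i := orderOf (Fintype.card F : ZMod r) with hi
  haveI : NeZero i := ⟨hipos.ne'⟩
  let K := FiniteField.Extension F p i
  haveI : Fintype K := Fintype.ofFinite K
  obtain ⟨ζ, hζ⟩ : ∃ ζ : Kˣ, orderOf ζ = r := by
    refine exists_prime_orderOf_dvd_card r ?_
    rw [Fintype.card_units, ← Nat.card_eq_fintype_card, FiniteField.natCard_extension,
      Nat.card_eq_fintype_card, ← ZMod.natCast_eq_zero_iff, Nat.cast_sub (Nat.one_le_pow _ _ Fintype.card_pos),
      Nat.cast_pow, hi, pow_orderOf_eq_one, Nat.cast_one, sub_self]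
  have hζr : (ζ : K) ^ r = 1 := by
    rw [← hζ, ← Units.val_pow_eq_pow_val, pow_orderOf_eq_one, Units.val_one]
  have hζ1 : (ζ : K) ≠ 1 := fun h => by
    rw [Units.val_eq_one.1 h, orderOf_one] at hζ
    exact (Fact.out : r.Prime).one_lt.ne hζ
  let S : Module.End F ((Fin J → K) × (Fin e → F)) :=
    (DistribSMul.toLinearMap F (Fin J → K) (ζ : K)).prodMap 1
  have hS : ∀ (k : ℕ) z, (S ^ k) z = ((ζ : K) ^ k • z.1, z.2) := fun k => by
    induction k with
    | zero => intro z; simp
    | succ k ih => intro z; rw [pow_succ, Module.End.mul_apply, ih, pow_succ, mul_smul]; rfl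
  have hfr : Module.finrank F ((Fin J → K) × (Fin e → F)) = Module.finrank F (Fin n → F) := by
    rw [Module.finrank_prod, Module.finrank_pi_fintype, Finset.sum_const, Finset.card_univ,
      Fintype.card_fin, Module.finrank_fin_fun, Module.finrank_fin_fun, FiniteField.finrank_extension,
      smul_eq_mul, hne]
  let φ := LinearEquiv.ofFinrankEq _ _ hfr
  have hSr : S ^ r = 1 := LinearMap.ext fun z => by rw [hS, hζr, one_smul]; rfl
  have hTr : (φ.conjAlgEquiv F S) ^ r = 1 := by rw [← map_pow, hSr, map_one]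
  have hfix : Module.finrank F (fixedSpace (φ.conjAlgEquiv F S)) ≤ e := by
    have hle : fixedSpace (φ.conjAlgEquiv F S) ≤
        (LinearMap.range (LinearMap.inr F (Fin J → K) (Fin e → F))).map φ.toLinearMap := by
      intro v hv
      rw [mem_fixedSpace] at hv
      refine ⟨φ.symm v, ⟨(φ.symm v).2, ?_⟩, φ.apply_symm_apply v⟩
      have h1 : ((ζ : K) • (φ.symm v).1, (φ.symm v).2) = φ.symm v := by
        apply φ.injective
        rw [φ.apply_symm_apply]
        exact hv
      have h2 : (ζ : K) • (φ.symm v).1 = (φ.symm v).1 := congrArg Prod.fst h1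
      have h3 : (φ.symm v).1 = 0 := by
        funext k
        have := congrFun h2 k
        rw [Pi.smul_apply, smul_eq_mul, mul_left_eq_self₀] at this
        exact this.resolve_left hζ1
      exact Prod.ext h3.symm rfl
    refine (Submodule.finrank_mono hle).trans ?_
    rw [LinearEquiv.finrank_map_eq]
    refine (LinearMap.finrank_range_le _).trans ?_
    rw [Module.finrank_fin_fun]
  have hge : e ≤ Module.finrank F (fixedSpace (φ.conjAlgEquiv F S)) := by
    have hle : (LinearMap.range (LinearMap.inr F (Fin J → K) (Fin e → F))).map φ.toLinearMap ≤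
        fixedSpace (φ.conjAlgEquiv F S) := by
      rintro _ ⟨_, ⟨y, rfl⟩, rfl⟩
      rw [mem_fixedSpace]
      show φ (S (φ.symm (φ (0, y)))) = φ (0, y)
      rw [φ.symm_apply_apply]
      congr 1
      exact Prod.ext (smul_zero (A := Fin J → K) (ζ : K)) rfl
    refine le_trans ?_ (Submodule.finrank_mono hle)
    rw [LinearEquiv.finrank_map_eq, LinearMap.finrank_range_of_inj LinearMap.inr_injective, Module.finrank_fin_fun]
  refine ⟨φ.conjAlgEquiv F S, hTr, eq_one_of_pow_eq_one hr1 (by rw [← map_pow, hTr, map_one]), ?_, le_antisymm hfix hge⟩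
  intro s hs
  have hn : n ≠ 0 := by
    have : 0 < J * i := Nat.mul_pos hJ hipos
    omega
  haveI : Nonempty (Fin n) := ⟨⟨0, Nat.pos_of_ne_zero hn⟩⟩
  have h1 : s ^ r = 1 := by
    rw [hs, smul_pow, one_pow, Algebra.smul_def, mul_one] at hTr
    exact (algebraMap F (Module.End F (Fin n → F))).injective (hTr.trans (map_one _).symm)
  have htop : fixedSpace (φ.conjAlgEquiv F S) = ⊤ := eq_top_iff.2 fun v _ => by
    rw [mem_fixedSpace, hs, eq_one_of_pow_eq_one hr1 h1, one_smul, Module.End.one_apply]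
  rw [htop, finrank_top, Module.finrank_fin_fun] at hfix
  have : 0 < J * i := Nat.mul_pos hJ hipos
  omega


/-- The decompositions are counted by a divisor of the order of the linear group. -/
theorem le_of_dvd_count (ha : 1 ≤ a) (ht : 2 ≤ t) (hn : n = a * t) (hrp : (r : F) ≠ 0)
    (hΩ : r ∣ Nat.card {D : Fin t → Submodule F V // Cfsg.Geo.IsMDecomposition a D} / Nat.factorial t) :
    orderOf (Fintype.card F : ZMod r) ≤ n := by
  classical
  let X := {D : Fin t → Submodule F V // Cfsg.Geo.IsMDecomposition a D}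
  haveI : Finite V := inferInstance
  haveI : Finite (Submodule F V) := Finite.of_injective _ SetLike.coe_injective
  have hinjD : ∀ D : X, Function.Injective D.1 := fun D i j h => by
    by_contra hij
    have := D.2.indep.pairwiseDisjoint hij
    rw [Function.onFun, h, disjoint_self] at this
    have h2 := D.2.finrank_eq j
    rw [this, finrank_bot] at h2
    omega
  -- reordering the parts
  let Q := Set.range fun D : X => Set.range D.1
  choose rep hrep using fun q : Q => q.2
  let act : X → Equiv.Perm (Fin t) → X := fun D π => ⟨D.1 ∘ π, ⟨D.2.two_le, D.2.pos, fun i => D.2.finrank_eq _,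
    D.2.indep.comp π.injective, by rw [← D.2.iSup_eq_top]; exact π.surjective.iSup_comp D.1⟩⟩
  have hbij : Function.Bijective fun p : Q × Equiv.Perm (Fin t) => act (rep p.1) p.2 := by
    constructor
    · rintro ⟨q, π⟩ ⟨q', π'⟩ h
      have h1 : (rep q).1 ∘ π = (rep q').1 ∘ π' := congrArg Subtype.val h
      have hq : q = q' := Subtype.ext (by
        rw [← hrep q, ← hrep q']
        have := congrArg Set.range h1
        rwa [π.surjective.range_comp, π'.surjective.range_comp] at this)
      subst hq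
      exact Prod.ext rfl (Equiv.ext fun i => hinjD (rep q) (congrFun h1 i))
    · intro D
      obtain ⟨q, hq⟩ : ∃ q : Q, q.1 = Set.range D.1 := ⟨⟨_, D, rfl⟩, rfl⟩
      have h1 : Set.range (rep q).1 = Set.range D.1 := (hrep q).trans hq
      refine ⟨(q, (Equiv.ofInjective D.1 (hinjD D)).trans ((Equiv.setCongr h1.symm).trans (Equiv.ofInjective _ (hinjD (rep q))).symm)), ?_⟩
      refine Subtype.ext (funext fun i => ?_)
      show (rep q).1 ((Equiv.ofInjective _ (hinjD (rep q))).symm _) = D.1 i
      exact (Equiv.apply_ofInjective_symm (hinjD (rep q)) _).trans rfl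
  have hdvd : r ∣ Nat.card X := by
    refine hΩ.trans (Nat.div_dvd_of_dvd ?_)
    rw [← Nat.card_eq_of_bijective _ hbij, Nat.card_prod, Nat.card_perm, Nat.card_fin]
    exact dvd_mul_left _ _
  rcases isEmpty_or_nonempty X with hX | ⟨⟨D₀⟩⟩
  · exfalso
    let e : Fin n ≃ Fin t × Fin a := Fintype.equivFinOfCardEq (by simp [hn, mul_comm]) |>.symm
    have hD := mdecomp_of_top (F := F) ht ha ((Fintype.card_fin n).trans hn) (fun j => Submodule.span F (Set.range fun i : Fin a => (Pi.single (e.symm (j, i)) 1 : V)))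
      (fun j => (finrank_range_le_card _).trans_eq (Fintype.card_fin a)) (fun v => by
        rw [← Finset.univ_sum_single v]
        refine sum_mem fun s _ => ?_
        refine le_iSup (fun j => Submodule.span F (Set.range fun i : Fin a => (Pi.single (e.symm (j, i)) 1 : V))) (e s).1 ?_
        rw [show (Pi.single s (v s) : V) = v s • Pi.single s 1 by simp [← Pi.single_smul]]
        exact Submodule.smul_mem _ _ (Submodule.subset_span ⟨(e s).2, by simp⟩))
    exact hX.false ⟨_, hD⟩
  -- the linear group is transitive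
  let L : (V ≃ₗ[F] V) → X := fun g => ⟨fun i => (D₀.1 i).map (g : V →ₗ[F] V), ⟨D₀.2.two_le, D₀.2.pos,
    fun i => (g.finrank_map_eq _).trans (D₀.2.finrank_eq i), D₀.2.indep.map_orderIso (Submodule.orderIsoMapComap g),
    by rw [← Submodule.map_iSup, D₀.2.iSup_eq_top, Submodule.map_top]; exact LinearMap.range_eq_top.2 g.surjective⟩⟩
  have hLmul : ∀ g h : V ≃ₗ[F] V, (L (g * h)).1 = fun i => ((L h).1 i).map (g : V →ₗ[F] V) := fun g h => funext fun i => by
    show Submodule.map _ _ = Submodule.map _ (Submodule.map _ _)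
    rw [← Submodule.map_comp]; rfl
  have hsurj : Function.Surjective L := fun D => by
    have h0 := DirectSum.isInternal_submodule_of_iSupIndep_of_iSup_eq_top D₀.2.indep D₀.2.iSup_eq_top
    have h1 := DirectSum.isInternal_submodule_of_iSupIndep_of_iSup_eq_top D.2.indep D.2.iSup_eq_top
    let b0 := h0.collectedBasis fun i => Module.finBasisOfFinrankEq F (D₀.1 i) (D₀.2.finrank_eq i)
    let b1 := h1.collectedBasis fun i => Module.finBasisOfFinrankEq F (D.1 i) (D.2.finrank_eq i)
    let g : V ≃ₗ[F] V := b0.equiv b1 (Equiv.refl _)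
    refine ⟨g, Subtype.ext (funext fun i => ?_)⟩
    refine Submodule.eq_of_le_of_finrank_le ?_ (by rw [(L g).2.finrank_eq, D.2.finrank_eq])
    rintro _ ⟨x, hx, rfl⟩
    have e1 : (x : V) = ((⟨x, hx⟩ : D₀.1 i) : V) := rfl
    rw [e1, ← (Module.finBasisOfFinrankEq F (D₀.1 i) (D₀.2.finrank_eq i)).sum_repr ⟨x, hx⟩, Submodule.coe_sum, map_sum]
    refine sum_mem fun s _ => ?_
    rw [Submodule.coe_smul, map_smul]
    refine Submodule.smul_mem _ _ ?_
    have e2 : ((Module.finBasisOfFinrankEq F (D₀.1 i) (D₀.2.finrank_eq i) s : D₀.1 i) : V) = b0 ⟨i, s⟩ := by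
      simp [b0]
    rw [LinearEquiv.coe_coe, e2]
    show g (b0 ⟨i, s⟩) ∈ D.1 i
    rw [Module.Basis.equiv_apply]
    simp only [Equiv.refl_apply, b1, DirectSum.IsInternal.collectedBasis_coe]
    exact Subtype.prop _
  choose sec hsec using hsurj
  let S := {g : V ≃ₗ[F] V // L g = L 1}
  haveI : Finite (V ≃ₗ[F] V) := Finite.of_injective (fun g : V ≃ₗ[F] V => (g : V → V)) DFunLike.coe_injective
  have hL1 : ∀ D : X, ∀ h : V ≃ₗ[F] V, L h = L 1 → L (sec D * h) = D := fun D h hh => by
    refine Subtype.ext ?_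
    rw [hLmul, hh, ← hLmul, mul_one, hsec]
  have hbij2 : Function.Bijective fun p : X × S => sec p.1 * p.2.1 := by
    constructor
    · rintro ⟨D, h, hh⟩ ⟨D', h', hh'⟩ e
      have e1 := congrArg L e
      simp only [hL1 D h hh, hL1 D' h' hh'] at e1
      subst e1
      exact Prod.ext rfl (Subtype.ext (mul_left_cancel e))
    · intro g
      refine ⟨(L g, ⟨(sec (L g))⁻¹ * g, Subtype.ext ?_⟩), by simp⟩
      have e1 : L g = L (sec (L g)) := (hsec _).symm
      rw [hLmul, show (L g).1 = (L (sec (L g))).1 from congrArg Subtype.val e1, ← hLmul, inv_mul_cancel]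
  have hdg : r ∣ Nat.card (V ≃ₗ[F] V) := by
    rw [← Nat.card_eq_of_bijective _ hbij2, Nat.card_prod]
    exact dvd_mul_of_dvd_left hdvd _
  obtain ⟨g, hg⟩ := exists_prime_orderOf_dvd_card' r hdg
  let T : Module.End F V := (g : V →ₗ[F] V)
  have hTpow : ∀ k, T ^ k = ((g ^ k : V ≃ₗ[F] V) : V →ₗ[F] V) := fun k => by
    induction k with
    | zero => rfl
    | succ k ih => rw [pow_succ, ih, pow_succ]; rfl
  have hT : T ^ r = 1 := by rw [hTpow, ← hg, pow_orderOf_eq_one]; rfl
  obtain ⟨J, hJ, hsum⟩ := exists_moved_eq hT hrp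
  rw [Module.finrank_fin_fun] at hsum
  rcases Nat.eq_zero_or_pos J with rfl | hJ0
  · rw [zero_mul, add_zero] at hsum
    have htop : fixedSpace T = ⊤ := Submodule.eq_top_of_finrank_eq (hsum.trans (Module.finrank_fin_fun F).symm)
    exfalso
    have : g = 1 := LinearEquiv.ext fun v => mem_fixedSpace.1 (htop.ge (Submodule.mem_top : v ∈ (⊤ : Submodule F V)))
    rw [this, orderOf_one] at hg
    exact (Fact.out : r.Prime).ne_one hg.symm
  · have := Nat.le_mul_of_pos_left (orderOf (Fintype.card F : ZMod r)) hJ0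
    omega

/-- Elements of prime order and decompositions. -/
theorem main (p : ℕ) [Fact p.Prime] [CharP F p] {q : ℕ} (hq : Fintype.card F = q) (hn : n = a * t) (ha : 1 ≤ a) (ht : 2 ≤ t)
    (hrp : r ≠ p) (hΩ : r ∣ Nat.card {D : Fin t → Submodule F V // Cfsg.Geo.IsMDecomposition a D} / Nat.factorial t)
    (c : ℕ) (hc : c = orderOf (q : ZMod r)) :
    (∀ x : Matrix.SpecialLinearGroup (Fin n) F,
      (∃ z : F, ((x ^ r : Matrix.SpecialLinearGroup (Fin n) F) : Matrix (Fin n) (Fin n) F) = z • (1 : Matrix (Fin n) (Fin n) F)) →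
      (∀ z : F, (x : Matrix (Fin n) (Fin n) F) ≠ z • (1 : Matrix (Fin n) (Fin n) F)) →
      Perms t a (Matrix.toLin' (x : Matrix (Fin n) (Fin n) F))) ↔
    ((a = 1 ∧ 1 < c ∧ c = r - 1 ∧ n ≤ (n % c) * r) ∨ (c ≤ a ∧ n % c = t * (a % c))) := by
  classical
  subst hq
  have hr : r.Prime := Fact.out
  have hrF : ¬ r ∣ Fintype.card F := fun h => by
    obtain ⟨k, hp, he⟩ := FiniteField.card F p
    rw [he] at h
    exact hrp ((Nat.prime_dvd_prime_iff_eq hr hp).1 (hr.dvd_of_dvd_pow h))
  have hr0 := cast_ne_zero_of_not_dvd_card hrF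
  have hc0 : 0 < c := hc ▸ orderOf_card_pos hr0
  have hn2 : 2 ≤ n := by rw [hn]; exact le_trans ht (Nat.le_mul_of_pos_left t ha)
  rw [forall_sl_iff (fun T => Perms t a T)]
  constructor
  swap
  · intro hR T z hT hd hns
    have hz := scalar_ne_zero (by omega) hT hd
    have hTi : Function.Injective T := fun x y h => by
      have := congrArg (fun v => (T ^ (r - 1)) v) h
      simp only [← Module.End.mul_apply, ← pow_succ] at this
      rw [show r - 1 + 1 = r by have := hr.pos; omega, hT] at this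
      simp only [LinearMap.smul_apply, Module.End.one_apply] at this
      exact smul_right_injective _ hz this
    by_cases hzp : ∃ u : F, u ^ r = z
    · obtain ⟨u, hu⟩ := hzp
      have hu0 : u ≠ 0 := fun e => hz (by rw [← hu, e, zero_pow hr.ne_zero])
      obtain ⟨hTu, hT'⟩ := scaled hT hu hu0
      have hT'i : Function.Injective (u⁻¹ • T) := fun x y h => hTi (smul_right_injective _ (inv_ne_zero hu0) h)
      suffices h : Perms t a (u⁻¹ • T) by
        obtain ⟨D, hD, σ, hσ⟩ := h
        refine ⟨D, hD, σ, fun j => ?_⟩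
        rw [← hσ j, Submodule.map_smul _ _ _ (inv_ne_zero hu0)]
      rcases hR with ⟨rfl, hc1, hcr, hk⟩ | ⟨hca, hk⟩
      · exact perms_lines ht hn hT' hr0 (hc ▸ hcr) hT'i (hcr ▸ hk)
      · refine perms_of_pick ht ha hn (z := 1) (by rw [one_smul]; exact hT') one_ne_zero hr0 hT'i
          (pick_one hT' hr0 hc hca ?_)
        rw [← hk]; exact Nat.mod_lt _ hc0
    · push Not at hzp
      have hrn : r ∣ n := dvd_of_inv hT hz hzp (W := ⊤) (fun _ _ => trivial) (by rw [finrank_top, Module.finrank_fin_fun])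
      rcases hr.dvd_mul.1 (hn ▸ hrn) with hra | hrt
      · exact perms_of_pick ht ha hn hT hz hr0 hTi (fun s _ W hW hd => pick_nonpower hT hz hzp hra s W hW hd)
      · exact perms_cycles ht ha hn hT hz hzp hTi hrt
  intro hall
  by_cases hq1 : r ∣ Fintype.card F - 1
  · rw [hc, orderOf_card_eq_one_iff.2 hq1]
    exact Or.inr ⟨ha, by simp [Nat.mod_one]⟩
  have hc1 : 1 < c := by
    rcases Nat.lt_or_ge 1 c with h | h
    · exact h
    · exact absurd (orderOf_card_eq_one_iff.1 (hc ▸ le_antisymm h hc0)) hq1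
  have hcn : c ≤ n := hc ▸ le_of_dvd_count ha ht hn hr0 hΩ
  have hwit : ∀ J e, 0 < J → J * c + e = n → ∃ (T : Module.End F V) (D : Fin t → Submodule F V) (σ : Equiv.Perm (Fin t)),
      T ^ r = 1 ∧ (∀ s : F, T ≠ s • 1) ∧ finrank F (fixedSpace T) = e ∧ finrank F (movedSpace T r) = J * c ∧
      Cfsg.Geo.IsMDecomposition a D ∧ ∀ i, ∀ v ∈ D i, T v ∈ D (σ i) := by
    intro J e hJ hne
    obtain ⟨T, hT, hd, hns, hfix⟩ := exists_exact hrF hq1 J e hJ (hc ▸ hne)
    obtain ⟨D, hD, σ, hσ⟩ := hall T 1 (by rw [hT, one_smul]) hd hns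
    obtain ⟨J', hJ', hsum⟩ := exists_moved_eq hT hr0
    rw [hfix, Module.finrank_fin_fun] at hsum
    exact ⟨T, D, σ, hT, hns, hfix, by omega, hD, fun i v hv => hσ i ▸ ⟨v, hv, rfl⟩⟩
  -- one block
  obtain ⟨T, D, σ, hT, hns, hfix, hmov, hD, hσ⟩ := hwit 1 (n - c) one_pos (by omega)
  by_cases ha1 : a = 1
  · subst ha1
    left
    have hne : ∃ j, σ j ≠ j := by
      by_contra hcon
      push Not at hcon
      refine hns 1 (LinearMap.ext fun v => ?_)
      have : (⊤ : Submodule F V) ≤ fixedSpace T := by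
        rw [← hD.iSup_eq_top]
        refine iSup_le fun i w hw => ?_
        by_contra hwf
        obtain ⟨cU, cW, jU, jW, h1, h2, -, -, h5, -⟩ := nested_dims hT hr0 (U := D i) (W := D i)
          (fun x hx => by simpa [hcon i] using hσ i x hx) (fun x hx => by simpa [hcon i] using hσ i x hx) le_rfl
        rw [hD.finrank_eq, ← hc] at h5
        rcases Nat.eq_zero_or_pos jU with h0 | h0
        · have h6 := finrank_split hT hr0 (W := D i) (fun x hx => by simpa [hcon i] using hσ i x hx)
          have h7 := dvd_finrank_moved hT hr0 (W := D i ⊓ movedSpace T r) (fun x hx => ⟨by simpa [hcon i] using hσ i x hx.1, inv_moved x hx.2⟩) inf_le_right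
          rw [hD.finrank_eq, ← hc] at *
          have h8 : finrank F (D i ⊓ movedSpace T r : Submodule F V) = 0 := by
            by_contra hne0
            have := Nat.le_of_dvd (Nat.pos_of_ne_zero hne0) h7
            omega
          rw [h8, add_zero] at h6
          have h9 : D i ⊓ fixedSpace T = D i := Submodule.eq_of_le_of_finrank_le inf_le_left (by rw [hD.finrank_eq]; omega)
          exact hwf ((inf_eq_left.1 h9) hw)
        · have := Nat.le_mul_of_pos_left c h0
          omega
      rw [one_smul, Module.End.one_apply]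
      exact mem_fixedSpace.1 (this Submodule.mem_top)
    obtain ⟨j, hj⟩ := hne
    have h1 := (moved_part hT hD.indep hD.finrank_eq le_rfl hσ hj).2 hr0
    rw [hmov, one_mul, mul_one] at h1
    have hdvd : c ∣ r - 1 := hc ▸ ZMod.orderOf_dvd_card_sub_one (fun h => hrF ((ZMod.natCast_eq_zero_iff _ _).1 h))
    have hcr : c = r - 1 := by
      have := Nat.le_of_dvd (by have := hr.two_le; omega) hdvd
      omega
    refine ⟨rfl, hc1, hcr, ?_⟩
    obtain ⟨T', D', σ', hT', -, hfix', -, hD', hσ'⟩ := hwit (n / c) (n % c) (Nat.div_pos hcn hc0) (Nat.div_add_mod' n c)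
    have := lines_bound hT' hr0 hq1 hD'.indep hD'.finrank_eq hσ'
    rw [hfix', mul_comm] at this
    omega
  right
  have hdvd : c ∣ r - 1 := hc ▸ ZMod.orderOf_dvd_card_sub_one (fun h => hrF ((ZMod.natCast_eq_zero_iff _ _).1 h))
  have hcr : c ≤ r - 1 := Nat.le_of_dvd (by have := hr.two_le; omega) hdvd
  have hinv : ∀ {T : Module.End F V} {D : Fin t → Submodule F V} {σ : Equiv.Perm (Fin t)}, (∀ i, ∀ v ∈ D i, T v ∈ D (σ i)) →
      (∀ i, σ i = i) → ∀ i, Inv T (D i) := fun hσ hf i v hv => by simpa [hf i] using hσ i v hv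
  have hca : c ≤ a := by
    by_contra hlt
    by_cases hne : ∀ i, σ i = i
    · refine hns 1 (LinearMap.ext fun v => ?_)
      have : (⊤ : Submodule F V) ≤ fixedSpace T := by
        rw [← hD.iSup_eq_top]
        refine iSup_le fun i => ?_
        have h6 := finrank_split hT hr0 (hinv hσ hne i)
        have h7 := dvd_finrank_moved hT hr0 (W := D i ⊓ movedSpace T r) (fun x hx => ⟨hinv hσ hne i x hx.1, inv_moved x hx.2⟩) inf_le_right
        rw [← hc] at h7
        have h8 : finrank F (D i ⊓ movedSpace T r : Submodule F V) = 0 := by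
          by_contra hne0
          have := Nat.le_of_dvd (Nat.pos_of_ne_zero hne0) h7
          rw [hD.finrank_eq] at h6
          omega
        rw [h8, add_zero] at h6
        exact inf_eq_left.1 (Submodule.eq_of_le_of_finrank_le inf_le_left h6.le)
      rw [one_smul, Module.End.one_apply]
      exact mem_fixedSpace.1 (this Submodule.mem_top)
    · push Not at hne
      obtain ⟨j, hj⟩ := hne
      have h1 := (moved_part hT hD.indep hD.finrank_eq ha hσ hj).2 hr0
      rw [hmov, one_mul] at h1
      have h2 : (c + 1) * a ≤ r * a := Nat.mul_le_mul_right a (by have := hr.two_le; omega)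
      rw [Nat.succ_mul] at h2
      have h3 : c * 2 ≤ c * a := Nat.mul_le_mul_left c (by omega)
      omega
  refine ⟨hca, ?_⟩
  obtain ⟨T', D', σ', hT', -, hfix', -, hD', hσ'⟩ := hwit (n / c) (n % c) (Nat.div_pos hcn hc0) (Nat.div_add_mod' n c)
  have hne : ∀ i, σ' i = i := fun i => by
    by_contra hj
    have h1 := (moved_part hT' hD'.indep hD'.finrank_eq ha hσ' hj).1
    rw [hfix'] at h1
    have := Nat.mod_lt n hc0
    omega
  have h1 := sum_finrank_le hD'.indep (fun i => D' i ⊓ fixedSpace T') (fun i => inf_le_left) _ (fun i => inf_le_right)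
  have h2 : ∀ i, a % c ≤ finrank F (D' i ⊓ fixedSpace T' : Submodule F V) := fun i => by
    have h6 := finrank_split hT' hr0 (hinv hσ' hne i)
    obtain ⟨y, hy⟩ := dvd_finrank_moved hT' hr0 (W := D' i ⊓ movedSpace T' r) (fun x hx => ⟨hinv hσ' hne i x hx.1, inv_moved x hx.2⟩) inf_le_right
    rw [← hc] at hy
    rw [hD'.finrank_eq, hy] at h6
    rw [h6, Nat.add_mul_mod_self_left]
    exact Nat.mod_le _ _
  have h3 : t * (a % c) ≤ n % c := by
    rw [← hfix']
    refine le_trans ?_ h1
    calc t * (a % c) = ∑ _i : Fin t, a % c := by simp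
      _ ≤ _ := Finset.sum_le_sum fun i _ => h2 i
  have h4 : n % c = (t * (a % c)) % c := by rw [Nat.mul_mod_mod, hn, mul_comm]
  have := Nat.mod_le (t * (a % c)) c
  omega

end finite

end Cfsg.Agent.LBDecomp
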