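/-
Elements of odd prime order without fixed vectors in even-dimensional orthogonal groups; they lie in the derived subgroup.
-/
import Cfsg.Agent.Lib.LinearBlock.EvenRootClasses
import Cfsg.Prelude.Def_GeometricClasses

set_option autoImplicit false
set_option linter.all false

namespace Cfsg.Agent.LBFpf

open QuadraticMap Module Matrix LBEven Polynomial LBRootPoly LBRootTwist LBEvenRoot commutatorElement

variable {F : Type*} [Field F] [Fintype F] [DecidableEq F] {d r : ℕ}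

theorem exists_poly (p : ℕ) [Fact p.Prime] [CharP F p] [Fact r.Prime] (hr2 : r ≠ 2) (hrp : r ≠ p) (hd : 1 ≤ d) {i : ℕ}
    (hi : i = orderOf (Fintype.card F : ZMod r)) (hdvd : i ∣ 2 * d) (hodd : Odd i → i ∣ d) :
    ∃ f : F[X], SR r (2 * d) f ∧ ¬ (Polynomial.X - Polynomial.C 1) ∣ f := by
  have hr : r.Prime := Fact.out
  have hcard := card_factors (F := F) p hr hrp
  obtain ⟨g, hg⟩ : (factors F r).Nonempty := by
    rw [← Finset.card_pos]
    refine Nat.pos_of_ne_zero fun e => ?_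
    rw [e, zero_mul] at hcard
    have := hr.two_le; omega
  obtain ⟨hg1, hgm, hgi, hgd⟩ := (mem_factors hr.ne_zero).1 hg
  have hgdeg : g.natDegree = i := hi ▸ natDegree_factor hr hgm hgi hgd hg1
  have hg0 := factor_coeff_zero hr.ne_zero hgd
  obtain ⟨hn1, hnm, hni, hnd'⟩ := (mem_factors hr.ne_zero).1 (rc_mem_factors (RingHom.id F) hid hr hg)
  have hndeg : (rc (RingHom.id F) g).natDegree = i := hi ▸ natDegree_factor hr hnm hni hnd' hn1
  by_cases he : Even i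
  · have hself := (rc_self_iff' p hr hr2 hrp hg).2 (hi ▸ he)
    refine ⟨g ^ (2 * d / i), ⟨⟨?_, hgm.pow _, fun u hpm hpi hpd => ?_⟩, by rw [rc_pow, hself]⟩, fun hX => ?_⟩
    · rw [natDegree_pow, hgdeg, Nat.div_mul_cancel hdvd]
    · exact (hpi.prime.dvd_of_dvd_pow hpd).trans hgd
    · exact hg1 (eq_of_monic_of_associated hgm (monic_X_sub_C 1)
        ((irreducible_X_sub_C (1 : F)).associated_of_dvd hgi ((irreducible_X_sub_C (1 : F)).prime.dvd_of_dvd_pow hX)).symm)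
  · have hdd := hodd (Nat.not_even_iff_odd.1 he)
    refine ⟨(g * rc (RingHom.id F) g) ^ (d / i), ⟨⟨?_, (hgm.mul hnm).pow _, fun u hpm hpi hpd => ?_⟩, ?_⟩, fun hX => ?_⟩
    · rw [natDegree_pow, hgm.natDegree_mul hnm, hgdeg, hndeg, mul_add, Nat.div_mul_cancel hdd, two_mul]
    · rcases hpi.prime.dvd_or_dvd (hpi.prime.dvd_of_dvd_pow hpd) with e | e
      · exact e.trans hgd
      · exact e.trans hnd'
    · rw [rc_pow, rc_mul, rc_rc _ hid hgm hg0, mul_comm]
    · rcases (irreducible_X_sub_C (1 : F)).prime.dvd_or_dvd ((irreducible_X_sub_C (1 : F)).prime.dvd_of_dvd_pow hX) with e | e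
      · exact hg1 (eq_of_monic_of_associated hgm (monic_X_sub_C 1) ((irreducible_X_sub_C (1 : F)).associated_of_dvd hgi e).symm)
      · exact hn1 (eq_of_monic_of_associated hnm (monic_X_sub_C 1) ((irreducible_X_sub_C (1 : F)).associated_of_dvd hni e).symm)

variable {ι : Type} [Fintype ι] [DecidableEq ι] {Q : QuadraticForm F (ι → F)}

/-- An element of order `r` without fixed vectors in the derived subgroup. -/
theorem exists_elem (p : ℕ) [Fact p.Prime] [CharP F p] [Fact r.Prime] (hr2 : r ≠ 2) (hrp : r ≠ p) (hd : 1 ≤ d) {i : ℕ}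
    (hi : i = orderOf (Fintype.card F : ZMod r)) (hdvd : i ∣ 2 * d) (hodd : Odd i → i ∣ d) (hι : Fintype.card ι = 2 * d)
    (hQ : (polarBilin Q).Nondegenerate) (hT : IsPlus d Q ↔ Typ i d) :
    ∃ x ∈ Cfsg.Geo.omegaGL (⇑Q), x ^ r = 1 ∧ x ≠ 1 ∧ ∀ v, x.1 *ᵥ v = v → v = 0 := by
  have hr : r.Prime := Fact.out
  obtain ⟨f, hf, hfX⟩ := exists_poly p hr2 hrp hd hi hdvd hodd
  obtain ⟨A, hA⟩ := exists_model p hr hr2 hrp hi hd hι hQ hf (Or.inr hT)
  obtain ⟨j, hj⟩ := SemisimpleCl.exists_coprime_pow (F := F) p A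
  obtain ⟨g, hg⟩ : ∃ g, g = A ^ Fintype.card F ^ j := ⟨_, rfl⟩
  rw [← hg] at hj
  have hk : ∀ n, ((A : GL ι F).1 ^ Fintype.card F ^ n).charpoly = (A : GL ι F).1.charpoly := by
    intro n
    induction n with
    | zero => simp
    | succ n ih => rw [pow_succ, pow_mul, FiniteField.Matrix.charpoly_pow_card, ih]
  obtain ⟨M, hM⟩ : ∃ M, M = (g : GL ι F).1 := ⟨_, rfl⟩
  have hMc : M.charpoly = f := by rw [hM, hg, SubmonoidClass.coe_pow, Units.val_pow_eq_pow_val, hk, hA]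
  have hMr : M ^ r = 1 :=
    LBRootPoly.pow_eq_one p (by rw [hM, ← Units.val_pow_eq_pow_val, ← SubmonoidClass.coe_pow, pow_orderOf_eq_one]; rfl) hj
      (hMc.symm ▸ hf.1.2) hr.ne_zero
  have hgr : g ^ r = 1 := Subtype.ext (Units.ext (by
    rw [SubmonoidClass.coe_pow, Units.val_pow_eq_pow_val, ← hM, hMr]; rfl))
  have hgi : g⁻¹ ^ r = 1 := by rw [inv_pow, hgr, inv_one]
  have hMp : ∀ v, Q (M *ᵥ v) = Q v := hM ▸ Orth.mem_isometryGroup.1 g.2
  have hadj := LBOrthSS.adj_of_preserves hQ hMp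
  have hinv : (g⁻¹ : ↥(Cfsg.isometryGroup F (⇑Q))).1.1 = LBOrthSS.adj Q M := by
    have e : (g⁻¹ : ↥(Cfsg.isometryGroup F (⇑Q))).1.1 * M = 1 := by
      rw [hM, ← Units.val_mul, ← Subgroup.coe_mul, inv_mul_cancel]; rfl
    exact left_inv_eq_right_inv e (mul_eq_one_comm.1 hadj)
  have hconj : IsConj g g⁻¹ := by
    refine LBRootOrth.isConj_of_charpoly hQ p hr hr2 hrp g g⁻¹ hgr hgi ?_
    rw [hinv, ← hM, LBOrthSS.adj, Matrix.charpoly_mul_comm, ← mul_assoc, Matrix.mul_nonsing_inv _ (LBOrthSS.gram_det hQ), one_mul,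
      Matrix.charpoly_transpose]
  obtain ⟨c, hc⟩ := isConj_iff.1 hconj
  have hsq : g ^ 2 ∈ commutator ↥(Cfsg.isometryGroup F (⇑Q)) := by
    have e : g ^ 2 = ⁅g, c⁆ := by
      rw [commutatorElement_def, mul_assoc (g * c), mul_assoc g]
      rw [show c * (g⁻¹ * c⁻¹) = (c * g * c⁻¹)⁻¹ by group, hc, inv_inv, pow_two]
    rw [e, commutator_eq_closure]
    exact Subgroup.subset_closure (commutator_mem_commutatorSet g c)
  have hgmem : g ∈ commutator ↥(Cfsg.isometryGroup F (⇑Q)) := by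
    obtain ⟨k, hk⟩ := hr.odd_of_ne_two hr2
    have e : g = (g ^ 2) ^ (k + 1) := by
      rw [← pow_mul, show 2 * (k + 1) = r + 1 by omega, pow_succ, hgr, one_mul]
    rw [e]
    exact pow_mem hsq _
  refine ⟨(g : GL ι F), ⟨g, hgmem, rfl⟩, ?_, fun e => ?_, fun v hv => ?_⟩
  · rw [← SubmonoidClass.coe_pow, hgr]; rfl
  · have hM1 : M = 1 := by rw [hM, e]; rfl
    rw [hM1, Matrix.charpoly_one, ← C_1] at hMc
    exact hfX (hMc ▸ dvd_pow_self _ (by omega))
  · rw [← hM] at hv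
    by_contra hv0
    refine hfX (dvd_iff_isRoot.2 ?_)
    rw [IsRoot, ← hMc, Matrix.eval_charpoly, map_one]
    exact Matrix.exists_mulVec_eq_zero_iff.1 ⟨v, hv0, by rw [sub_mulVec, one_mulVec, hv, sub_self]⟩

end Cfsg.Agent.LBFpf
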