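/-
Solvable groups `V ⋊ K` with `K` acting without fixed points: their element orders.
-/
import Cfsg.Agent.Lib.Spectrum.Semidirect
import Cfsg.Agent.Lib.Char.Burnside
import Mathlib.GroupTheory.Solvable
import Mathlib.LinearAlgebra.Matrix.GeneralLinearGroup.Defs

set_option autoImplicit false
set_option linter.style.haveILetI false

namespace Cfsg.Agent.LBFpf

open SemidirectProduct Matrix

variable {r n : ℕ}

/-- A finite subgroup of the general linear group from a list of matrices. -/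
theorem exists_subgroup [Fact r.Prime] (L : List (Matrix (Fin n) (Fin n) (ZMod r))) (h1 : (1 : Matrix (Fin n) (Fin n) (ZMod r)) ∈ L)
    (hmul : ∀ A ∈ L, ∀ B ∈ L, A * B ∈ L) (N : ℕ) (hN : 1 ≤ N) (hpow : ∀ A ∈ L, A ^ N = 1) (hnd : L.Nodup) :
    ∃ K : Subgroup (GL (Fin n) (ZMod r)), (∀ A, (∃ k ∈ K, (k : Matrix (Fin n) (Fin n) (ZMod r)) = A) ↔ A ∈ L) ∧
      Nat.card K = L.length := by
  classical
  let M : Submonoid (GL (Fin n) (ZMod r)) :=
    { carrier := {k | (k : Matrix (Fin n) (Fin n) (ZMod r)) ∈ L}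
      one_mem' := h1
      mul_mem' := fun ha hb => hmul _ ha _ hb }
  have hinv : ∀ k ∈ M, k ^ N = 1 := fun k hk => Units.ext (by rw [Units.val_pow_eq_pow_val]; exact hpow _ hk)
  let K : Subgroup (GL (Fin n) (ZMod r)) :=
    { M with
      inv_mem' := fun {k} hk => by
        have e : k⁻¹ = k ^ (N - 1) := by
          rw [inv_eq_iff_mul_eq_one, ← pow_succ', Nat.sub_add_cancel hN, hinv k hk]
        exact e ▸ pow_mem (show k ∈ M from hk) (N - 1) }
  refine ⟨K, fun A => ⟨?_, fun hA => ?_⟩, ?_⟩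
  · rintro ⟨k, hk, rfl⟩; exact hk
  · obtain ⟨u, hu⟩ : IsUnit A := IsUnit.of_pow_eq_one (hpow A hA) (by omega)
    exact ⟨u, show (u : Matrix (Fin n) (Fin n) (ZMod r)) ∈ L by rw [hu]; exact hA, hu⟩
  · rw [← List.toFinset_card_of_nodup hnd, ← Nat.card_eq_finsetCard]
    refine Nat.card_congr (Equiv.ofBijective (fun k => ⟨((k : GL (Fin n) (ZMod r)) : Matrix (Fin n) (Fin n) (ZMod r)),
      List.mem_toFinset.2 k.2⟩) ⟨fun a b h => ?_, fun A => ?_⟩)
    · exact Subtype.ext (Units.ext (congrArg Subtype.val h))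
    · have hA := List.mem_toFinset.1 A.2
      obtain ⟨u, hu⟩ : IsUnit (A : Matrix (Fin n) (Fin n) (ZMod r)) := IsUnit.of_pow_eq_one (hpow _ hA) (by omega)
      exact ⟨⟨u, show (u : Matrix (Fin n) (Fin n) (ZMod r)) ∈ L by rw [hu]; exact hA⟩, Subtype.ext hu⟩

/-- The natural action on the module, written multiplicatively. -/
def vecAct (K : Subgroup (GL (Fin n) (ZMod r))) : K →* MulAut (Multiplicative (Fin n → ZMod r)) where
  toFun k :=
    { toFun := fun v => Multiplicative.ofAdd (((k : GL (Fin n) (ZMod r)) : Matrix (Fin n) (Fin n) (ZMod r)) *ᵥ v.toAdd)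
      invFun := fun v => Multiplicative.ofAdd ((((k⁻¹ : K) : GL (Fin n) (ZMod r)) : Matrix (Fin n) (Fin n) (ZMod r)) *ᵥ v.toAdd)
      left_inv := fun v => by
        apply Multiplicative.toAdd.injective
        simp [Matrix.mulVec_mulVec]
      right_inv := fun v => by
        apply Multiplicative.toAdd.injective
        simp [Matrix.mulVec_mulVec]
      map_mul' := fun v w => by
        apply Multiplicative.toAdd.injective
        simp [Matrix.mulVec_add] }
  map_one' := by ext v; simp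
  map_mul' a b := by ext v; simp [Matrix.mulVec_mulVec]

theorem exists_witness [Fact r.Prime] [NeZero n] (L : List (Matrix (Fin n) (Fin n) (ZMod r)))
    (h1 : (1 : Matrix (Fin n) (Fin n) (ZMod r)) ∈ L)
    (hmul : ∀ A ∈ L, ∀ B ∈ L, A * B ∈ L) (N : ℕ) (hN : 1 ≤ N) (hpow : ∀ A ∈ L, A ^ N = 1) (hnd : L.Nodup)
    {a b : ℕ} (hlen : L.length = 2 ^ a * 3 ^ b) (hfpf : ∀ A ∈ L, A ≠ 1 → ∀ v : Fin n → ZMod r, A *ᵥ v = v → v = 0) :
    ∃ (H : Type) (_ : Group H) (_ : Fintype H), Group.IsSolvable H ∧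
      Set.range (orderOf : H → ℕ) = {m | (∃ A ∈ L, orderOf A = m) ∨ m = r} := by
  classical
  have hr : r.Prime := Fact.out
  obtain ⟨K, hK, hKc⟩ := exists_subgroup L h1 hmul N hN hpow hnd
  haveI : Finite K := Nat.finite_of_card_ne_zero (by rw [hKc, hlen]; positivity)
  haveI : Finite (Multiplicative (Fin n → ZMod r) ⋊[vecAct K] K) :=
    Finite.of_equiv _ SemidirectProduct.equivProd.symm
  haveI : Group.IsSolvable K :=
    Cfsg.Agent.Char.isSolvable_of_card_pq 2 3 Nat.prime_two Nat.prime_three _ _ (hKc.trans hlen) ⟨a, b, rfl⟩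
  have hsol : Group.IsSolvable (Multiplicative (Fin n → ZMod r) ⋊[vecAct K] K) :=
    Group.isSolvable_of_ker_le_range SemidirectProduct.inl SemidirectProduct.rightHom
      (le_of_eq SemidirectProduct.range_inl_eq_ker_rightHom.symm)
  refine ⟨Multiplicative (Fin n → ZMod r) ⋊[vecAct K] K, inferInstance, Fintype.ofFinite _, hsol, ?_⟩
  have hr1 : ∀ v : Multiplicative (Fin n → ZMod r), v ^ r = 1 := fun v => by
    apply Multiplicative.toAdd.injective
    rw [toAdd_pow, toAdd_one]; funext i; simp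
  have hord : ∀ k : K, orderOf k = orderOf ((k : GL (Fin n) (ZMod r)) : Matrix (Fin n) (Fin n) (ZMod r)) := fun k =>
    ((orderOf_injective (Units.coeHom _) Units.val_injective _).trans (Subgroup.orderOf_coe k)).symm
  have hnorm : ∀ (g : K) (v : Multiplicative (Fin n → ZMod r)), g ≠ 1 →
      Cfsg.Agent.Spectrum.twNorm (vecAct K) g v = 1 := by
    intro g v hg
    have hfix : vecAct K g (Cfsg.Agent.Spectrum.twNorm (vecAct K) g v) = Cfsg.Agent.Spectrum.twNorm (vecAct K) g v := by
      have h0 : 0 < orderOf g := orderOf_pos g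
      obtain ⟨m, hm⟩ : ∃ m, orderOf g = m + 1 := ⟨orderOf g - 1, by omega⟩
      rw [Cfsg.Agent.Spectrum.twNorm, hm, map_prod]
      simp only [← MulAut.mul_apply, ← map_mul, ← pow_succ']
      rw [Finset.prod_range_succ, Finset.prod_range_succ' (fun i => vecAct K (g ^ i) v), pow_zero, ← hm,
        pow_orderOf_eq_one]
    have hne : ((g : GL (Fin n) (ZMod r)) : Matrix (Fin n) (Fin n) (ZMod r)) ≠ 1 := fun h =>
      hg (Subtype.ext (Units.ext h))
    apply Multiplicative.toAdd.injective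
    rw [toAdd_one]
    exact hfpf _ ((hK _).1 ⟨_, g.2, rfl⟩) hne _ (congrArg Multiplicative.toAdd hfix)
  ext m
  simp only [Set.mem_range, Set.mem_ofPred_eq]
  constructor
  · rintro ⟨⟨v, g⟩, rfl⟩
    by_cases hg : g = 1
    · subst hg
      by_cases hv : v = 1
      · refine Or.inl ⟨1, h1, ?_⟩
        subst hv
        exact orderOf_one.trans orderOf_one.symm
      · refine Or.inr (orderOf_eq_prime ?_ ?_)
        · show (SemidirectProduct.inl v : Multiplicative (Fin n → ZMod r) ⋊[vecAct K] K) ^ r = 1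
          rw [← map_pow, hr1, map_one]
        · exact fun h => hv (congrArg SemidirectProduct.left h)
    · refine Or.inl ⟨_, (hK _).1 ⟨_, g.2, rfl⟩, ?_⟩
      rw [← hord, Cfsg.Agent.Spectrum.orderOf_eq_of_norm_eq_one _ g v (hnorm g v hg)]
  · rintro (⟨A, hA, rfl⟩ | rfl)
    · obtain ⟨k, hk, rfl⟩ := (hK A).2 hA
      exact ⟨SemidirectProduct.inr ⟨k, hk⟩, by rw [orderOf_injective _ SemidirectProduct.inr_injective, hord]⟩
    · refine ⟨SemidirectProduct.inl (Multiplicative.ofAdd fun _ => 1), orderOf_eq_prime ?_ ?_⟩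
      · rw [← map_pow, hr1, map_one]
      · intro h
        have := congrFun (congrArg Multiplicative.toAdd (congrArg SemidirectProduct.left h)) 0
        simp at this

/-- A matrix of size four from the list of its sixteen entries. -/
def toM (r : ℕ) (c : List ℕ) : Matrix (Fin 4) (Fin 4) (ZMod r) :=
  Matrix.of fun i j => ((c.getD (4 * i.1 + j.1) 0 : ℕ) : ZMod r)

/-- The product on codes. -/
def mulC (r : ℕ) (a b : List ℕ) : List ℕ :=
  (List.range 16).map fun t => (a.getD (4 * (t / 4)) 0 * b.getD (t % 4) 0 + a.getD (4 * (t / 4) + 1) 0 * b.getD (4 + t % 4) 0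
    + a.getD (4 * (t / 4) + 2) 0 * b.getD (8 + t % 4) 0 + a.getD (4 * (t / 4) + 3) 0 * b.getD (12 + t % 4) 0) % r

theorem toM_mulC (a b : List ℕ) : toM r (mulC r a b) = toM r a * toM r b := by
  ext i j
  rw [Matrix.mul_apply, Fin.sum_univ_four]
  fin_cases i <;> fin_cases j <;> simp [toM, mulC, ZMod.natCast_mod]

/-- The code of the identity. -/
def oneC : List ℕ := [1, 0, 0, 0, 0, 1, 0, 0, 0, 0, 1, 0, 0, 0, 0, 1]

theorem toM_oneC : toM r oneC = 1 := by
  ext i j
  fin_cases i <;> fin_cases j <;> simp [toM, oneC]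

/-- Powers on codes. -/
def powC (r : ℕ) (a : List ℕ) : ℕ → List ℕ
  | 0 => oneC
  | k + 1 => mulC r (powC r a k) a

theorem toM_powC (a : List ℕ) (k : ℕ) : toM r (powC r a k) = toM r a ^ k := by
  induction k with
  | zero => rw [powC, toM_oneC, pow_zero]
  | succ k ih => rw [powC, toM_mulC, ih, pow_succ]

theorem toM_ne {a b : List ℕ} (h : ∃ t < 16, a.getD t 0 % r ≠ b.getD t 0 % r) : toM r a ≠ toM r b := by
  obtain ⟨t, ht, hne⟩ := h
  intro e
  have := congrFun (congrFun e ⟨t / 4, by omega⟩) ⟨t % 4, Nat.mod_lt _ (by norm_num)⟩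
  simp only [toM, Matrix.of_apply] at this
  rw [show 4 * (t / 4) + t % 4 = t by omega, ZMod.natCast_eq_natCast_iff'] at this
  exact hne this

/-- The checks on a list of codes. -/
structure Cert (r : ℕ) (L : List (List ℕ)) (N : ℕ) : Prop where
  one : oneC ∈ L
  mul : ∀ a ∈ L, ∀ b ∈ L, mulC r a b ∈ L
  pow : ∀ a ∈ L, powC r a N = oneC
  nodup : ∀ i < L.length, ∀ j < L.length, i < j → ∃ t < 16, (L.getD i []).getD t 0 % r ≠ (L.getD j []).getD t 0 % r
  fpf : ∀ a ∈ L, a = oneC ∨ (∃ m ∈ [1, 2, 3, 4, 6], ∀ t < 16, ((powC r a m).getD t 0 + oneC.getD t 0) % r = 0) ∨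
    ∀ t < 16, ((powC r a 2).getD t 0 + a.getD t 0 + oneC.getD t 0) % r = 0

theorem exists_witness_of_cert [Fact r.Prime] (h2 : (2 : ZMod r) ≠ 0) (h3 : (3 : ZMod r) ≠ 0) (L : List (List ℕ)) (N : ℕ) (hN : 1 ≤ N)
    (hc : Cert r L N) {a b : ℕ} (hlen : L.length = 2 ^ a * 3 ^ b) :
    ∃ (H : Type) (_ : Group H) (_ : Fintype H), Group.IsSolvable H ∧
      Set.range (orderOf : H → ℕ) = {m | (∃ c ∈ L, orderOf (toM r c) = m) ∨ m = r} := by
  obtain ⟨H, iG, iF, hs, hH⟩ := exists_witness (n := 4) (L.map (toM r))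
    (List.mem_map.2 ⟨oneC, hc.one, toM_oneC⟩)
    (by
      simp only [List.mem_map]
      rintro _ ⟨x, hx, rfl⟩ _ ⟨y, hy, rfl⟩
      exact ⟨_, hc.mul x hx y hy, toM_mulC x y⟩) N hN
    (by
      simp only [List.mem_map]
      rintro _ ⟨x, hx, rfl⟩
      rw [← toM_powC, hc.pow x hx, toM_oneC])
    (by
      rw [List.nodup_iff_pairwise_ne, List.pairwise_map, List.pairwise_iff_getElem]
      intro i j hi hj hij
      have := hc.nodup i hi j hj hij
      rw [List.getD_eq_getElem _ _ hi, List.getD_eq_getElem _ _ hj] at this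
      exact toM_ne this)
    (a := a) (b := b) (by rw [List.length_map, hlen])
    (by
      simp only [List.mem_map]
      rintro _ ⟨x, hx, rfl⟩ hne v hv
      have hpow : ∀ k, toM r x ^ k *ᵥ v = v := by
        intro k
        induction k with
        | zero => simp
        | succ k ih => rw [pow_succ, ← Matrix.mulVec_mulVec, hv, ih]
      rcases hc.fpf x hx with h | ⟨m, -, h⟩ | h
      · exact absurd (h ▸ toM_oneC) hne
      · have e : toM r x ^ m + 1 = 0 := by
          rw [← toM_powC, ← toM_oneC]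
          ext i j
          have := h (4 * i.1 + j.1) (by omega)
          simp only [toM, Matrix.add_apply, Matrix.of_apply, Matrix.zero_apply]
          rw [← Nat.cast_add, ← ZMod.natCast_mod, this, Nat.cast_zero]
        have h0 := congrArg (· *ᵥ v) e
        simp only [Matrix.add_mulVec, Matrix.one_mulVec, Matrix.zero_mulVec, hpow] at h0
        have : (2 : ZMod r) • v = 0 := by rw [two_smul, h0]
        exact (smul_eq_zero.1 this).resolve_left h2
      · have e : toM r x ^ 2 + toM r x + 1 = 0 := by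
          rw [← toM_powC, ← toM_oneC]
          ext i j
          have := h (4 * i.1 + j.1) (by omega)
          simp only [toM, Matrix.add_apply, Matrix.of_apply, Matrix.zero_apply]
          rw [← Nat.cast_add, ← Nat.cast_add, ← ZMod.natCast_mod, this, Nat.cast_zero]
        have h0 := congrArg (· *ᵥ v) e
        simp only [Matrix.add_mulVec, Matrix.one_mulVec, Matrix.zero_mulVec, hpow, hv] at h0
        have : (3 : ZMod r) • v = 0 := by
          rw [show (3 : ZMod r) = 1 + 1 + 1 by norm_num, add_smul, add_smul, one_smul, h0]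
        exact (smul_eq_zero.1 this).resolve_left h3)
  refine ⟨H, iG, iF, hs, hH.trans ?_⟩
  ext m
  simp only [Set.mem_ofPred_eq, List.mem_map]
  constructor
  · rintro (⟨_, ⟨c, hc', rfl⟩, h⟩ | h)
    · exact Or.inl ⟨c, hc', h⟩
    · exact Or.inr h
  · rintro (⟨c, hc', h⟩ | h)
    · exact Or.inl ⟨_, ⟨c, hc', rfl⟩, h⟩
    · exact Or.inr h

end Cfsg.Agent.LBFpf
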