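/-
Elements of GU_n fixed projectively by a field automorphism of odd prime order.
-/
import Cfsg.Agent.Lib.Classical.HermStd
import Cfsg.Agent.Lib.Classical.HermSU
import Mathlib

set_option autoImplicit false
set_option linter.all false

namespace Cfsg.Agent.LBGUField

open Matrix

variable {K : Type*} [Field K] [Fintype K]

/-- Hilbert 90 in the form needed. -/
theorem exists_twist (σ : K ≃+* K) (r : ℕ) (hσ : orderOf σ = r) (a : ℕ → K) (c : K)
    (ha0 : a 0 = 1) (ha : ∀ i, a (i + 1) = c * σ (a i)) (har : a r = 1) :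
    ∃ b : K, b ≠ 0 ∧ c * σ b = b := by
  classical
  haveI : Finite (K ≃+* K) := Finite.of_injective (fun s : K ≃+* K => (s : K → K)) DFunLike.coe_injective
  have hpos : 0 < r := hσ ▸ orderOf_pos σ
  have hli : LinearIndependent K (fun i : Fin r => ((((σ ^ (i : ℕ) : K ≃+* K) : K →+* K) : K →* K) : K → K)) := by
    refine (linearIndependent_monoidHom K K).comp (fun i : Fin r => (((σ ^ (i : ℕ) : K ≃+* K) : K →+* K) : K →* K)) ?_
    intro i j h
    have h' : σ ^ (i : ℕ) = σ ^ (j : ℕ) := RingEquiv.ext fun x => DFunLike.congr_fun h x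
    exact Fin.ext (pow_injOn_Iio_orderOf (by simp [hσ]) (by simp [hσ]) h')
  obtain ⟨y, hy⟩ : ∃ y : K, ∑ i : Fin r, a i * (σ ^ (i : ℕ)) y ≠ 0 := by
    by_contra! h
    have := Fintype.linearIndependent_iff.1 hli (fun i => a i) (funext fun y => by simpa using h y) ⟨0, hpos⟩
    simp [ha0] at this
  refine ⟨_, hy, ?_⟩
  rw [Fin.sum_univ_eq_sum_range (fun i => a i * (σ ^ i) y)]
  have hsh : c * σ (∑ i ∈ Finset.range r, a i * (σ ^ i) y) = ∑ i ∈ Finset.range r, a (i + 1) * (σ ^ (i + 1)) y := by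
    rw [map_sum, Finset.mul_sum]
    refine Finset.sum_congr rfl fun i _ => ?_
    rw [map_mul, ha, pow_succ' σ, RingAut.mul_apply, mul_assoc]
  rw [hsh]
  have h1 := Finset.sum_range_succ' (fun i => a i * (σ ^ i) y) r
  rw [Finset.sum_range_succ, har, ← hσ, pow_orderOf_eq_one, pow_zero, ha0, hσ] at h1
  exact (add_right_cancel h1).symm

theorem card_projFixed {q₀ q r n : ℕ} (hr : r.Prime) (hr2 : r ≠ 2) (hn : 1 ≤ n) (hq : q = q₀ ^ r)
    (hK : Fintype.card K = q ^ 2) (σ : K ≃+* K) (hσ : orderOf σ = r) :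
    Nat.card {g : ↥(Cfsg.GU n K q) // ∃ c : K, c ≠ 0 ∧
      ((g : GL (Fin n) K) : Matrix (Fin n) (Fin n) K).map σ = c • ((g : GL (Fin n) K) : Matrix (Fin n) (Fin n) K)} =
      (q + 1) / (q₀ + 1) * (q₀ ^ (n * (n - 1) / 2) *
        ∏ i ∈ Finset.range n, (if Even i then q₀ ^ (i + 1) + 1 else q₀ ^ (i + 1) - 1)) := by
  classical
  obtain ⟨τ, hτ, hτne, hτi, hτfix, hq2⟩ := HermStd.exists_sigma hK
  -- the fixed field
  haveI : Finite (RingAut K) := Finite.of_injective (fun s : RingAut K => (s : K → K)) DFunLike.coe_injective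
  let K₀ : Subfield K := FixedPoints.subfield (Subgroup.zpowers σ) K
  have hmem : ∀ x : K, x ∈ K₀ ↔ σ x = x := by
    intro x
    refine ⟨fun h => h ⟨σ, Subgroup.mem_zpowers σ⟩, fun h g => ?_⟩
    have h' : σ ∈ MulAction.stabilizer (RingAut K) x := h
    exact MulAction.mem_stabilizer_iff.1 ((Subgroup.zpowers_le.2 h') g.2)
  have hr0 : r ≠ 0 := hr.ne_zero
  haveI : Fintype K₀ := Fintype.ofFinite _
  have hK₀ : Fintype.card K₀ = q₀ ^ 2 := by
    haveI : Fintype (Subgroup.zpowers σ) := Fintype.ofFinite _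
    have h1 : Module.finrank K₀ K = r := by
      rw [FixedPoints.finrank_eq_card, ← Nat.card_eq_fintype_card, Nat.card_zpowers, hσ]
    have h2 := Module.card_eq_pow_finrank (K := K₀) (V := K)
    rw [h1, hK, hq, ← pow_mul, mul_comm r 2, pow_mul] at h2
    exact Nat.pow_left_injective hr0 h2.symm
  obtain ⟨τ₀, hτ₀, hτ₀ne, hτ₀i, hτ₀fix, hq₀2⟩ := HermStd.exists_sigma hK₀
  have hodd : Odd r := hr.odd_of_ne_two hr2
  obtain ⟨k, hk⟩ := hodd
  have hpow₀ : ∀ x : K₀, x ^ (q₀ ^ 2) = x := fun x => by rw [← hK₀]; exact FiniteField.pow_card x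
  have hqq : ∀ x : K₀, x ^ q = x ^ q₀ := by
    intro x
    rw [hq, hk, pow_succ, pow_mul x, pow_mul q₀]
    congr 1
    have : ∀ j : ℕ, x ^ (q₀ ^ 2) ^ j = x := fun j => by
      induction j with
      | zero => simp
      | succ j ih => rw [pow_succ, pow_mul, ih, hpow₀]
    exact this k
  have hτK₀ : ∀ x : K₀, τ (x : K) = ((τ₀ x : K₀) : K) := fun x => by
    rw [hτ, hτ₀, ← hqq]; rfl
  have hστ : ∀ x, σ (τ x) = τ (σ x) := fun x => by simp [hτ]
  -- scalars, fixed matrices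
  let U := HermSU.normOne (τ : K →+* K)
  let ι : GL (Fin n) K₀ →* GL (Fin n) K := Matrix.GeneralLinearGroup.map K₀.subtype
  have hιval : ∀ (h : GL (Fin n) K₀) (i j : Fin n), (ι h : Matrix (Fin n) (Fin n) K) i j = ((h i j : K₀) : K) := fun _ _ _ => rfl
  have hιU : ∀ h : GL (Fin n) K₀, ι h ∈ Cfsg.GU n K q ↔ h ∈ Cfsg.GU n K₀ q₀ := by
    intro h
    rw [HermSU.mem_GU_iff hτ, HermSU.mem_GU_iff hτ₀]
    have e : (ι h).1ᵀ * (ι h).1.map τ = (h.1ᵀ * h.1.map τ₀).map K₀.subtype := by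
      rw [Matrix.map_mul]
      congr 1
      ext i j
      exact hτK₀ _
    rw [e, ← Matrix.map_one (K₀.subtype) (map_zero _) (map_one _)]
    exact ⟨fun e => Matrix.map_injective Subtype.val_injective e, fun e => by rw [e]⟩
  let sc : Kˣ →* GL (Fin n) K := Units.map (Matrix.scalar (Fin n)).toMonoidHom
  have hscval : ∀ (d : Kˣ) (M : GL (Fin n) K), ((sc d * M : GL (Fin n) K) : Matrix (Fin n) (Fin n) K) = (d : K) • (M : Matrix (Fin n) (Fin n) K) := by
    intro d M
    show Matrix.scalar (Fin n) (d : K) * (M : Matrix (Fin n) (Fin n) K) = _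
    rw [Matrix.scalar_apply, ← Matrix.smul_eq_diagonal_mul]
  have hsmulU : ∀ (d : K) (M : Matrix (Fin n) (Fin n) K), (d • M)ᵀ * (d • M).map τ = (d * τ d) • (Mᵀ * M.map τ) := by
    intro d M
    have : (d • M).map τ = τ d • M.map τ := by ext i j; simp
    rw [this, Matrix.transpose_smul, Matrix.smul_mul, Matrix.mul_smul, smul_smul]
  have hscU : ∀ d : U, sc d.1 ∈ Cfsg.GU n K q := by
    intro d
    rw [HermSU.mem_GU_iff hτ, ← mul_one (sc d.1), hscval, hsmulU]
    have hd : (d.1 : K) * τ (d.1 : K) = 1 := d.2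
    simp [hd]
  let Φ : U × ↥(Cfsg.GU n K₀ q₀) →* ↥(Cfsg.GU n K q) :=
    { toFun := fun p => ⟨sc p.1.1 * ι p.2.1, mul_mem (hscU _) ((hιU _).2 p.2.2)⟩
      map_one' := Subtype.ext (by simp)
      map_mul' := fun p p' => by
        apply Subtype.ext
        simp only [Prod.fst_mul, Prod.snd_mul, Subgroup.coe_mul, map_mul]
        have hcomm : Commute (sc p'.1.1) (ι p.2.1) := Units.ext (by
          show Matrix.scalar (Fin n) (p'.1.1 : K) * _ = _ * Matrix.scalar (Fin n) (p'.1.1 : K)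
          exact (Matrix.scalar_commute _ (fun r => Commute.all _ r) _).eq)
        exact hcomm.mul_mul_mul_comm _ _ }
  have hrange : ∀ g : ↥(Cfsg.GU n K q), g ∈ Φ.range ↔ ∃ c : K, c ≠ 0 ∧
      ((g : GL (Fin n) K) : Matrix (Fin n) (Fin n) K).map σ = c • ((g : GL (Fin n) K) : Matrix (Fin n) (Fin n) K) := by
    intro g
    constructor
    · rintro ⟨⟨d, h⟩, rfl⟩
      refine ⟨σ (d.1 : K) / (d.1 : K), div_ne_zero ((map_ne_zero σ).2 d.1.ne_zero) d.1.ne_zero, ?_⟩
      show ((sc d.1 * ι h.1 : GL (Fin n) K) : Matrix (Fin n) (Fin n) K).map σ = _ • ((sc d.1 * ι h.1 : GL (Fin n) K) : Matrix (Fin n) (Fin n) K)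
      rw [hscval, smul_smul, div_mul_cancel₀ _ d.1.ne_zero]
      ext i j
      simp only [Matrix.map_apply, Matrix.smul_apply, smul_eq_mul, map_mul, hιval]
      rw [(hmem _).1 (h.1 i j).2]
    · rintro ⟨c, hc, hg⟩
      obtain ⟨M, hM⟩ : ∃ M, M = ((g : GL (Fin n) K) : Matrix (Fin n) (Fin n) K) := ⟨_, rfl⟩
      rw [← hM] at hg
      haveI : Nonempty (Fin n) := ⟨⟨0, hn⟩⟩
      have hM0 : M ≠ 0 := fun h => (g : GL (Fin n) K).det_ne_zero (by rw [← hM, h, Matrix.det_zero])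
      have hMU : Mᵀ * M.map τ = 1 := hM ▸ (HermSU.mem_GU_iff hτ _).1 g.2
      have hcc : c * τ c = 1 := by
        have h := hsmulU c M
        rw [← hg, hMU] at h
        have e : (M.map σ)ᵀ * (M.map σ).map τ = (Mᵀ * M.map τ).map σ := by
          rw [Matrix.map_mul]; congr 1; ext i j; exact (hστ _).symm
        rw [e, hMU, Matrix.map_one σ (map_zero σ) (map_one σ)] at h
        have := congrFun (congrFun h ⟨0, hn⟩) ⟨0, hn⟩
        simpa using this.symm
      let a : ℕ → K := fun i => Nat.rec 1 (fun _ t => c * σ t) i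
      have hai : ∀ i, M.map (σ ^ i : K ≃+* K) = a i • M := by
        intro i
        induction i with
        | zero => ext x y; simp [a]
        | succ i ih =>
          ext x y
          have h1 : σ ((σ ^ i) (M x y)) = σ (a i) * σ (M x y) := by
            rw [← map_mul]; exact congrArg σ (congrFun (congrFun ih x) y)
          have h2 : σ (M x y) = c * M x y := congrFun (congrFun hg x) y
          simp only [Matrix.map_apply, pow_succ' σ, RingAut.mul_apply, Matrix.smul_apply, smul_eq_mul, h1, h2, a]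
          ring
      have har : a r = 1 := by
        have h := hai r
        rw [← hσ, pow_orderOf_eq_one, hσ] at h
        have h' : M = a r • M := by
          rw [← h]; ext x y; rfl
        obtain ⟨x, y, hxy⟩ : ∃ x y, M x y ≠ 0 := by
          by_contra! h0; exact hM0 (Matrix.ext h0)
        have := congrFun (congrFun h' x) y
        rw [Matrix.smul_apply, smul_eq_mul] at this
        exact mul_right_cancel₀ hxy (by rw [one_mul]; exact this.symm)
      obtain ⟨b, hb0, hb⟩ := exists_twist σ r hσ a c rfl (fun i => rfl) har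
      -- make the twist unitary
      have hσb0 : σ b ≠ 0 := (map_ne_zero σ).2 hb0
      have ht : σ (b * τ b) = b * τ b := by
        calc σ (b * τ b) = (c * τ c) * (σ b * τ (σ b)) := by rw [hcc, one_mul, map_mul, hστ]
          _ = (c * σ b) * τ (c * σ b) := by rw [map_mul]; ring
          _ = b * τ b := by rw [hb]
      let t : K₀ˣ := Units.mk0 ⟨b * τ b, (hmem _).2 ht⟩ (fun h => mul_ne_zero hb0 ((map_ne_zero τ).2 hb0) (Subtype.ext_iff.1 h))
      have htfix : (t : K₀) ^ q₀ = (t : K₀) := by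
        apply Subtype.ext
        rw [← hqq]
        show (b * τ b) ^ q = b * τ b
        rw [← hτ, map_mul, hτi, mul_comm]
      obtain ⟨e, he⟩ : ∃ e : K₀ˣ, e ^ (q₀ + 1) = t := by
        obtain ⟨ζ, hζ⟩ := IsCyclic.exists_generator (α := K₀ˣ)
        obtain ⟨j, hj⟩ := Subgroup.mem_zpowers_iff.1 (hζ t)
        have ho : orderOf ζ = (q₀ + 1) * (q₀ - 1) := by
          rw [orderOf_eq_card_of_forall_mem_zpowers hζ, Nat.card_units, Nat.card_eq_fintype_card, hK₀]
          have := Nat.sq_sub_sq q₀ 1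
          simpa using this
        have h1 : t ^ (q₀ - 1) = 1 := by
          have h' : t ^ (q₀ - 1) * t = 1 * t := Units.ext (by
            rw [← pow_succ, Nat.sub_add_cancel (by omega), one_mul, Units.val_pow_eq_pow_val]; exact htfix)
          exact mul_right_cancel h'
        rw [← hj, ← zpow_natCast, ← _root_.zpow_mul, ← orderOf_dvd_iff_zpow_eq_one, ho, Nat.cast_mul] at h1
        obtain ⟨w, hw⟩ := (mul_dvd_mul_iff_right (by omega : ((q₀ - 1 : ℕ) : ℤ) ≠ 0)).1 h1
        exact ⟨ζ ^ w, by rw [← zpow_natCast, ← _root_.zpow_mul, ← hj, hw, mul_comm]⟩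
      have hee : (b * τ b) = ((e : K₀) : K) * τ ((e : K₀) : K) := by
        rw [hτK₀, hτ₀, ← Subfield.coe_mul, ← pow_succ', ← Units.val_pow_eq_pow_val, he]; rfl
      have he0 : ((e : K₀) : K) ≠ 0 := fun h => e.ne_zero (Subtype.ext h)
      have heσ : σ ((e : K₀) : K) = ((e : K₀) : K) := (hmem _).1 (e : K₀).2
      let d : Kˣ := Units.mk0 (((e : K₀) : K) / b) (div_ne_zero he0 hb0)
      have hdU : d ∈ U := by
        show ((e : K₀) : K) / b * τ (((e : K₀) : K) / b) = 1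
        rw [map_div₀, div_mul_div_comm, ← hee, div_self (mul_ne_zero hb0 ((map_ne_zero τ).2 hb0))]
      -- the fixed matrix
      have hdM : ∀ x y, (((d⁻¹ : Kˣ) : K) * M x y) ∈ K₀ := by
        intro x y
        rw [hmem]
        have h2 : σ (M x y) = c * M x y := congrFun (congrFun hg x) y
        simp only [d, Units.val_inv_eq_inv_val, Units.val_mk0, inv_div, map_mul, map_div₀, heσ, h2]
        rw [show σ b / ((e : K₀) : K) * (c * M x y) = (c * σ b) / ((e : K₀) : K) * M x y by ring, hb]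
      let M₀ : Matrix (Fin n) (Fin n) K₀ := fun x y => ⟨_, hdM x y⟩
      have hM₀ : M₀.map K₀.subtype = ((d⁻¹ : Kˣ) : K) • M := by ext x y; rfl
      have hdet : M₀.det ≠ 0 := by
        intro h
        have h' : ((d⁻¹ : Kˣ) : K) ^ n * M.det = 0 := by
          have e1 := Matrix.det_smul M ((d⁻¹ : Kˣ) : K)
          rw [Fintype.card_fin] at e1
          rw [← e1, ← hM₀, ← RingHom.mapMatrix_apply, ← RingHom.map_det, h, map_zero]
        rcases mul_eq_zero.1 h' with h0 | h0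
        · exact (pow_ne_zero _ (d⁻¹).ne_zero) h0
        · exact (g : GL (Fin n) K).det_ne_zero (hM ▸ h0)
      let h₀ : GL (Fin n) K₀ := Matrix.GeneralLinearGroup.mkOfDetNeZero M₀ hdet
      have hgd : sc d * ι h₀ = (g : GL (Fin n) K) := Units.ext (by
        rw [hscval, ← hM]
        show (d : K) • M₀.map K₀.subtype = M
        rw [hM₀, smul_smul, ← Units.val_mul, mul_inv_cancel, Units.val_one, one_smul])
      have hh₀ : ι h₀ ∈ Cfsg.GU n K q := by
        have : ι h₀ = (sc d)⁻¹ * (g : GL (Fin n) K) := by rw [← hgd, inv_mul_cancel_left]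
        rw [this]
        exact mul_mem (inv_mem (hscU ⟨d, hdU⟩)) g.2
      exact ⟨(⟨d, hdU⟩, ⟨h₀, (hιU h₀).1 hh₀⟩), Subtype.ext hgd⟩
  -- the kernel
  have hker : Nat.card Φ.ker = q₀ + 1 := by
    rw [← HermSU.card_normOne hτ₀ne hτ₀i hτ₀fix]
    haveI : Nonempty (Fin n) := ⟨⟨0, hn⟩⟩
    let sc₀ : K₀ˣ →* GL (Fin n) K₀ := Units.map (Matrix.scalar (Fin n)).toMonoidHom
    have hι0 : Function.Injective ι := fun x y h => Units.ext (Matrix.ext fun i j => Subtype.ext (by
      rw [← hιval, ← hιval, h]))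
    let j : HermSU.normOne (τ₀ : K₀ →+* K₀) → U × ↥(Cfsg.GU n K₀ q₀) := fun u =>
      (⟨Units.map K₀.subtype.toMonoidHom u.1, by
          show ((u.1 : K₀) : K) * τ ((u.1 : K₀) : K) = 1
          rw [hτK₀, ← Subfield.coe_mul, show ((u.1 : K₀)) * τ₀ (u.1 : K₀) = 1 from u.2]; rfl⟩,
        ⟨sc₀ u.1⁻¹, by
          rw [HermSU.mem_GU_iff hτ₀]
          have hu : ((u⁻¹).1 : K₀) * τ₀ ((u⁻¹).1 : K₀) = 1 := (u⁻¹).2
          show (Matrix.scalar (Fin n) ((u.1⁻¹ : K₀ˣ) : K₀))ᵀ * (Matrix.scalar (Fin n) ((u.1⁻¹ : K₀ˣ) : K₀)).map τ₀ = 1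
          rw [Matrix.scalar_apply, Matrix.diagonal_transpose, Matrix.diagonal_map (map_zero τ₀), Matrix.diagonal_mul_diagonal]
          rw [← Matrix.diagonal_one]
          congr 1
          funext i
          simpa using hu⟩)
    have hscι : ∀ v : K₀ˣ, ι (sc₀ v) = sc (Units.map K₀.subtype.toMonoidHom v) := fun v => Units.ext (by
      show (Matrix.scalar (Fin n) (v : K₀)).map K₀.subtype = Matrix.scalar (Fin n) ((v : K₀) : K)
      rw [Matrix.scalar_apply, Matrix.scalar_apply, Matrix.diagonal_map (map_zero _)]; rfl)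
    have hjker : ∀ u, j u ∈ Φ.ker := fun u => Subtype.ext (by
      show sc (Units.map K₀.subtype.toMonoidHom u.1) * ι (sc₀ u.1⁻¹) = 1
      rw [hscι, ← map_mul, ← map_mul, mul_inv_cancel, map_one, map_one])
    refine (Nat.card_eq_of_bijective (fun u => (⟨j u, hjker u⟩ : Φ.ker)) ⟨fun u v h => ?_, fun p => ?_⟩).symm
    · have := congrArg (fun p : Φ.ker => (((p.1.1).1 : Kˣ) : K)) h
      exact Subtype.ext (Units.ext (Subtype.ext this))
    · obtain ⟨⟨d, h⟩, hp⟩ := p
      have hp' : sc d.1 * ι h.1 = 1 := congrArg Subtype.val hp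
      have hh : ι h.1 = sc d.1⁻¹ := by rw [map_inv]; exact eq_inv_of_mul_eq_one_right hp'
      have hdK : ((d.1⁻¹ : Kˣ) : K) ∈ K₀ := by
        have e := congrArg (fun M : GL (Fin n) K => (M : Matrix (Fin n) (Fin n) K) ⟨0, hn⟩ ⟨0, hn⟩) hh
        have e' : ((h.1 ⟨0, hn⟩ ⟨0, hn⟩ : K₀) : K) = ((d.1⁻¹ : Kˣ) : K) := by
          rw [← hιval]; exact e.trans (by simp [sc])
        exact e' ▸ (h.1 ⟨0, hn⟩ ⟨0, hn⟩).2
      have hdK' : (d.1 : K) ∈ K₀ := by
        have := inv_mem hdK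
        rwa [Units.val_inv_eq_inv_val, inv_inv] at this
      let u₀ : K₀ˣ := Units.mk0 ⟨(d.1 : K), hdK'⟩ (fun e => d.1.ne_zero (Subtype.ext_iff.1 e))
      have hu₀ : u₀ ∈ HermSU.normOne (τ₀ : K₀ →+* K₀) := Subtype.ext (by
        show (d.1 : K) * ((τ₀ _ : K₀) : K) = 1
        rw [← hτK₀]; exact d.2)
      refine ⟨⟨u₀, hu₀⟩, Subtype.ext (Prod.ext (Subtype.ext (Units.ext rfl)) (Subtype.ext (hι0 ?_)))⟩
      show ι (sc₀ u₀⁻¹) = ι h.1
      rw [hscι, hh]
      congr 1
      ext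
      simp [u₀]
  have hcard : Nat.card Φ.range * (q₀ + 1) = (q + 1) * Nat.card ↥(Cfsg.GU n K₀ q₀) := by
    rw [← HermSU.card_normOne hτne hτi hτfix, ← hker, ← Nat.card_congr (QuotientGroup.quotientKerEquivRange Φ).toEquiv]
    exact (Subgroup.card_eq_card_quotient_mul_card_subgroup _).symm.trans (Nat.card_prod _ _)
  have hdvd : q₀ + 1 ∣ q + 1 := by
    rw [hq]
    simpa using Odd.nat_add_dvd_pow_add_pow q₀ 1 (hr.odd_of_ne_two hr2)
  rw [← HermStd.card_GU hτ₀ne hτ₀i hτ₀ n hτ₀fix, Nat.card_congr (Equiv.subtypeEquivRight fun g => (hrange g).symm)]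
  refine Nat.eq_of_mul_eq_mul_right (show 0 < q₀ + 1 by omega) (hcard.trans ?_)
  obtain ⟨w, hw⟩ := hdvd
  rw [hw, Nat.mul_div_cancel_left _ (show 0 < q₀ + 1 by omega)]
  ring

theorem prod_int (q n : ℕ) (hq : 1 ≤ q) :
    ((∏ i ∈ Finset.range n, (if Even i then q ^ (i + 1) + 1 else q ^ (i + 1) - 1) : ℕ) : ℤ) =
      ∏ i : Fin n, ((q : ℤ) ^ ((i : ℕ) + 1) - (-1) ^ ((i : ℕ) + 1)) := by
  rw [Nat.cast_prod, ← Fin.prod_univ_eq_prod_range]
  refine Finset.prod_congr rfl fun i _ => ?_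
  split_ifs with he
  · push_cast; rw [pow_succ (-1 : ℤ), he.neg_one_pow]; ring
  · push_cast [Nat.cast_sub (Nat.one_le_pow _ _ hq : 1 ≤ q ^ ((i : ℕ) + 1))]
    rw [pow_succ (-1 : ℤ), (Nat.not_even_iff_odd.1 he).neg_one_pow]; ring

end Cfsg.Agent.LBGUField
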