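/-
Counting unitary elements of a finite algebra with semilinear anti-involution, modulo a nil ideal.
-/
import Mathlib

set_option autoImplicit false

namespace Cfsg.Agent.UnitaryNilIdeal

variable {F A R : Type*} [Field F] [Ring A] [Algebra F A] [Ring R]
variable (σ : F →+* F) (st : A → A) (π : A →+* R)

/-- The hypotheses: a semilinear anti-involution preserving the nil kernel. -/
structure Data : Prop where
  add : ∀ a b, st (a + b) = st a + st b
  mul : ∀ a b, st (a * b) = st b * st a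
  invol : ∀ a, st (st a) = a
  smul : ∀ (c : F) a, st (c • a) = σ c • st a
  nil : ∀ a, π a = 0 → IsNilpotent a
  ker : ∀ a, π a = 0 → π (st a) = 0

variable {σ st π}

theorem Data.one (D : Data σ st π) : st 1 = 1 := by
  have h := D.mul (st 1) 1
  rw [mul_one, D.invol] at h
  rw [← mul_one (st 1)]
  exact h.symm

theorem Data.zero (D : Data σ st π) : st 0 = 0 := by
  have h := D.add 0 0
  rw [add_zero] at h
  exact left_eq_add.1 h

theorem Data.neg (D : Data σ st π) (a : A) : st (-a) = -st a := by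
  refine eq_neg_of_add_eq_zero_left ?_
  rw [← D.add, neg_add_cancel, D.zero]

theorem Data.sub (D : Data σ st π) (a b : A) : st (a - b) = st a - st b := by
  rw [sub_eq_add_neg, D.add, D.neg, ← sub_eq_add_neg]

theorem smul_ker {a : A} (c : F) (h : π a = 0) : π (c • a) = 0 := by
  rw [Algebra.smul_def, map_mul, h, mul_zero]

theorem Data.unit_inv (D : Data σ st π) (P : Aˣ) (h : st P = P) : st ↑P⁻¹ = (↑P⁻¹ : A) := by
  refine Units.eq_inv_of_mul_eq_one_left ?_
  nth_rw 1 [← h]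
  rw [← D.mul, Units.inv_mul, D.one]

theorem Data.exists_root (D : Data σ st π) {μ : F} (hμ : μ + σ μ = 1) (hinv : ∀ c, σ (σ c) = c) :
    ∀ (k : ℕ) (s : A), π s = 0 → st s = s → s ^ 2 ^ k = 0 → ∃ a, π a = 1 ∧ st a * a = 1 + s := by
  intro k
  induction k with
  | zero =>
    intro s _ _ hs
    rw [pow_zero, pow_one] at hs
    exact ⟨1, map_one π, by rw [D.one, hs, mul_one, add_zero]⟩
  | succ k ih =>
    intro s hπ hst hs
    have hb' : st (1 + μ • s) = 1 + σ μ • s := by rw [D.add, D.one, D.smul, hst]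
    have hP : (1 + σ μ • s) * (1 + μ • s) = 1 + (s + (σ μ * μ) • s ^ 2) := by
      rw [add_mul, one_mul, mul_add, mul_one, smul_mul_assoc, mul_smul_comm, smul_smul, ← sq,
        show (1 : A) + μ • s + (σ μ • s + (σ μ * μ) • s ^ 2) = 1 + ((μ + σ μ) • s + (σ μ * μ) • s ^ 2) by
          rw [add_smul]; abel, hμ, one_smul]
    obtain ⟨P, hPv⟩ : IsUnit (1 + (s + (σ μ * μ) • s ^ 2)) := by
      refine IsNilpotent.isUnit_one_add (D.nil _ ?_)
      rw [map_add, hπ, smul_ker _ (by rw [map_pow, hπ, zero_pow two_ne_zero]), add_zero]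
    have hstP : st P = P := by
      rw [hPv, D.add, D.one, D.add, hst, D.smul, map_mul, hinv, mul_comm μ, sq, D.mul, hst]
    have hcs : Commute (P : A) s := by
      rw [hPv]
      exact (Commute.one_left s).add_left ((Commute.refl s).add_left
        (((Commute.refl s).pow_left 2).smul_left _))
    set c := σ μ * μ with hc
    obtain ⟨s', hs'⟩ : ∃ s', s' = (↑P⁻¹ : A) * -(c • s ^ 2) := ⟨_, rfl⟩
    have hcs2 : Commute (↑P⁻¹ : A) (-(c • s ^ 2)) :=
      (((hcs.units_inv_left).pow_right 2).smul_right _).neg_right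
    have hst' : st s' = s' := by
      rw [hs', D.mul, D.unit_inv P hstP, D.neg, D.smul, sq, D.mul, hst, ← sq]
      rw [show σ c = c by rw [hc, map_mul, hinv, mul_comm]]
      exact hcs2.symm.eq
    have hπ' : π s' = 0 := by
      rw [hs', map_mul, map_neg, smul_ker _ (by rw [map_pow, hπ, zero_pow two_ne_zero]), neg_zero, mul_zero]
    have hpow : s' ^ 2 ^ k = 0 := by
      rw [hs', hcs2.mul_pow, neg_pow, smul_pow, ← pow_mul, ← pow_succ', hs, smul_zero, mul_zero, mul_zero]
    obtain ⟨e, he1, he2⟩ := ih s' hπ' hst' hpow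
    refine ⟨e * (1 + μ • s), by rw [map_mul, he1, map_add, map_one, smul_ker _ hπ, add_zero, mul_one], ?_⟩
    have hcomm : Commute s' (1 + μ • s) := by
      rw [hs']
      refine Commute.mul_left ?_ ?_
      · exact (Commute.one_right _).add_right (hcs.units_inv_left.smul_right _)
      · exact (Commute.one_right _).add_right
          ((((Commute.refl s).pow_left 2).smul_left _).neg_left.smul_right _)
    calc st (e * (1 + μ • s)) * (e * (1 + μ • s))
        = st (1 + μ • s) * (st e * e) * (1 + μ • s) := by rw [D.mul]; simp only [mul_assoc]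
      _ = (1 + σ μ • s) * (1 + μ • s) * (1 + s') := by
          rw [he2, hb', mul_assoc, mul_assoc]
          exact congrArg _ ((Commute.one_left _).add_left hcomm).eq
      _ = (P : A) + (P : A) * s' := by rw [hP, ← hPv, mul_add, mul_one]
      _ = 1 + s := by rw [hs', ← mul_assoc, Units.mul_inv, one_mul, hPv]; abel

theorem Data.card_herm (D : Data σ st π) {l : F} (hl : σ l ≠ l) (hinv : ∀ c, σ (σ c) = c) :
    Nat.card {a : A // π a = 0 ∧ st a = a} * Nat.card {a : A // π a = 0 ∧ st a = a} =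
      Nat.card {a : A // π a = 0} := by
  rw [← Nat.card_prod]
  have hd : l - σ l ≠ 0 := sub_ne_zero.2 hl.symm
  let b : A → A := fun x => (l - σ l)⁻¹ • (x - st x)
  have hb : ∀ x, st (b x) = b x := by
    intro x
    show st ((l - σ l)⁻¹ • (x - st x)) = (l - σ l)⁻¹ • (x - st x)
    rw [D.smul, D.sub, D.invol, map_inv₀, map_sub, hinv, ← neg_sub l, inv_neg, neg_smul, ← smul_neg, neg_sub]
  refine Nat.card_congr
    { toFun := fun x => ⟨x.1.1 + l • x.2.1, by rw [map_add, x.1.2.1, smul_ker _ x.2.2.1, add_zero]⟩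
      invFun := fun x => (⟨x.1 - l • b x.1, ?_, ?_⟩, ⟨b x.1, ?_, hb _⟩)
      left_inv := ?_
      right_inv := fun x => Subtype.ext (sub_add_cancel _ _) }
  · rw [map_sub, x.2, smul_ker _ (smul_ker _ (by rw [map_sub, x.2, D.ker _ x.2, sub_zero])), sub_zero]
  · rw [D.sub, D.smul, hb, sub_eq_sub_iff_sub_eq_sub]
    show st x.1 - x.1 = σ l • b x.1 - l • b x.1
    rw [← sub_smul]
    show _ = (σ l - l) • (l - σ l)⁻¹ • (x.1 - st x.1)
    rw [smul_smul, ← neg_sub l, neg_mul, mul_inv_cancel₀ hd, neg_one_smul, neg_sub]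
  · exact smul_ker _ (by rw [map_sub, x.2, D.ker _ x.2, sub_zero])
  · rintro ⟨⟨u, hu, hu'⟩, ⟨v, hv, hv'⟩⟩
    have e : b (u + l • v) = v := by
      show (l - σ l)⁻¹ • (u + l • v - st (u + l • v)) = v
      rw [D.add, D.smul, hu', hv', add_sub_add_left_eq_sub, ← sub_smul, smul_smul, inv_mul_cancel₀ hd, one_smul]
    simp only [e, add_sub_cancel_right]

theorem Data.card_unitary [Finite A] (D : Data σ st π) (hne : ∃ l, σ l ≠ l) (hinv : ∀ c, σ (σ c) = c)
    {μ : F} (hμ : μ + σ μ = 1) (hsurj : Function.Surjective π)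
    (stR : R → R) (hstR : ∀ a, π (st a) = stR (π a)) :
    ∃ N : ℕ, Nat.card {a : A // st a * a = 1} = N * Nat.card {r : R // stR r * r = 1} ∧
      N * N = Nat.card {a : A // π a = 0} := by
  classical
  obtain ⟨l, hl⟩ := hne
  have root : ∀ s : {a : A // π a = 0 ∧ st a = a}, ∃ a, π a = 1 ∧ st a * a = 1 + s.1 := by
    rintro ⟨s, hs, hs'⟩
    obtain ⟨m, hm⟩ := D.nil s hs
    exact D.exists_root hμ hinv m s hs hs' (pow_eq_zero_of_le Nat.lt_two_pow_self.le hm)
  choose r hr1 hr2 using root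
  have hru : ∀ s, IsUnit (r s) := fun s => by
    have := (D.nil (r s - 1) (by rw [map_sub, hr1, map_one, sub_self])).isUnit_one_add
    rwa [add_sub_cancel] at this
  have hrc : ∀ s, π (↑(hru s).unit⁻¹ : A) = 1 := fun s => by
    have e := congrArg π (hru s).unit.mul_inv
    rwa [IsUnit.unit_spec, map_mul, hr1, one_mul, map_one] at e
  have key : ∀ (a : A) (hs : π (st a * a - 1) = 0 ∧ st (st a * a - 1) = st a * a - 1),
      st (a * ↑(hru ⟨_, hs⟩).unit⁻¹) * (a * ↑(hru ⟨_, hs⟩).unit⁻¹) = 1 := by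
    intro a hs
    obtain ⟨s, hsd⟩ : ∃ s : {a : A // π a = 0 ∧ st a = a}, s = ⟨_, hs⟩ := ⟨_, rfl⟩
    rw [← hsd]
    obtain ⟨v, hv⟩ : ∃ v : Aˣ, v = (hru s).unit := ⟨_, rfl⟩
    rw [← hv]
    have h1 : st a * a = st (v : A) * v := by
      rw [hv, IsUnit.unit_spec, hr2, hsd]; exact (add_sub_cancel _ _).symm
    calc st (a * ↑v⁻¹) * (a * ↑v⁻¹) = st (↑v⁻¹ : A) * (st a * a) * ↑v⁻¹ := by rw [D.mul]; simp only [mul_assoc]
      _ = st ((v : A) * ↑v⁻¹) * ((v : A) * ↑v⁻¹) := by rw [h1, D.mul]; simp only [mul_assoc]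
      _ = 1 := by rw [Units.mul_inv, D.one, mul_one]
  have hherm : ∀ a, st (st a * a - 1) = st a * a - 1 := fun a => by rw [D.sub, D.mul, D.invol, D.one]
  -- unitary elements over the identity
  let U₁ := {a : A // π a = 1 ∧ st a * a = 1}
  let S := {a : A // π a = 0 ∧ st a = a}
  have hU : Nat.card U₁ * Nat.card S = Nat.card {a : A // π a = 0} := by
    rw [← Nat.card_prod]
    refine Nat.card_eq_of_bijective (fun x => ⟨x.1.1 * r x.2 - 1, by rw [map_sub, map_mul, x.1.2.1, hr1, map_one, mul_one, sub_self]⟩) ⟨?_, ?_⟩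
    · rintro ⟨⟨u, hu⟩, s⟩ ⟨⟨v, hv⟩, s'⟩ h
      have h' : u * r s = v * r s' := sub_left_injective (congrArg Subtype.val h)
      have e : ∀ w, st w * w = 1 → ∀ t, st (w * r t) * (w * r t) = 1 + t.1 := fun w hw t => by
        rw [D.mul, mul_assoc, ← mul_assoc (st w), hw, one_mul, hr2]
      have hs : s = s' := Subtype.ext (add_left_cancel ((e u hu.2 s).symm.trans (h'.symm ▸ e v hv.2 s')))
      subst hs
      exact Prod.ext (Subtype.ext ((hru s).mul_right_cancel h')) rfl
    · rintro ⟨x, hx⟩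
      have hs : π (st (1 + x) * (1 + x) - 1) = 0 ∧ st (st (1 + x) * (1 + x) - 1) = st (1 + x) * (1 + x) - 1 :=
        ⟨by rw [map_sub, map_mul, D.add, D.one, map_add, map_add, map_one, hx, D.ker x hx, add_zero, mul_one, sub_self],
          hherm _⟩
      refine ⟨(⟨(1 + x) * ↑(hru ⟨_, hs⟩).unit⁻¹, ?_, key _ hs⟩, ⟨_, hs⟩), Subtype.ext ?_⟩
      · rw [map_mul, map_add, map_one, hx, add_zero, one_mul, hrc]
      · show (1 + x) * _ * _ - 1 = x
        rw [mul_assoc, IsUnit.val_inv_mul, mul_one, add_sub_cancel_left]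
  have hsq := D.card_herm hl hinv
  have hS0 : Nat.card S ≠ 0 := by
    haveI : Nonempty S := ⟨⟨0, map_zero π, D.zero⟩⟩
    exact Nat.card_pos.ne'
  have hUS : Nat.card U₁ = Nat.card S := Nat.eq_of_mul_eq_mul_right (Nat.pos_of_ne_zero hS0) (hU.trans hsq.symm)
  refine ⟨Nat.card U₁, ?_, by rw [hUS]; exact hsq⟩
  -- lifts of unitary elements
  have hlift : ∀ x : {z : R // stR z * z = 1}, ∃ w, π w = x.1 ∧ st w * w = 1 := by
    rintro ⟨x, hx⟩
    obtain ⟨b, rfl⟩ := hsurj x
    have hs : π (st b * b - 1) = 0 ∧ st (st b * b - 1) = st b * b - 1 :=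
      ⟨by rw [map_sub, map_mul, hstR, hx, map_one, sub_self], hherm _⟩
    exact ⟨_, by rw [map_mul, hrc, mul_one], key b hs⟩
  choose w hw1 hw2 using hlift
  rw [mul_comm, ← Nat.card_prod]
  refine (Nat.card_eq_of_bijective (fun x => ⟨w x.1 * x.2.1, by
    rw [D.mul, mul_assoc, ← mul_assoc (st (w x.1)), hw2, one_mul, x.2.2.2]⟩) ⟨?_, ?_⟩).symm
  · rintro ⟨x, u⟩ ⟨y, v⟩ h
    have h' : w x * u.1 = w y * v.1 := congrArg Subtype.val h
    have hxy : x = y := Subtype.ext (by
      have := congrArg π h'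
      rwa [map_mul, map_mul, hw1, hw1, u.2.1, v.2.1, mul_one, mul_one] at this)
    subst hxy
    exact Prod.ext rfl (Subtype.ext ((IsUnit.of_mul_eq_one_right _ (hw2 x)).mul_left_cancel h'))
  · rintro ⟨a, ha⟩
    have hπa : stR (π a) * π a = 1 := by rw [← hstR, ← map_mul, ha, map_one]
    obtain ⟨x, hx⟩ : ∃ x : {z : R // stR z * z = 1}, x = ⟨π a, hπa⟩ := ⟨_, rfl⟩
    refine ⟨(x, ⟨st (w x) * a, ?_, ?_⟩), Subtype.ext ?_⟩
    · rw [map_mul, hstR, hw1, hx]; exact hπa
    · rw [D.mul, D.invol, mul_assoc, ← mul_assoc (w x), mul_eq_one_comm.1 (hw2 x), one_mul, ha]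
    · show w x * (st (w x) * a) = a
      rw [← mul_assoc, mul_eq_one_comm.1 (hw2 x), one_mul]

end Cfsg.Agent.UnitaryNilIdeal
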