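/-
The commutant of a unipotent Jordan matrix with a unitary involution.
-/
import Cfsg.Agent.S2581
import Cfsg.Agent.Lib.LinearBlock.JordanForms
import Cfsg.Agent.Lib.LinearBlock.UnitarySimilar
import Cfsg.Agent.Lib.LinearBlock.GUConj
import Cfsg.Agent.Lib.LinearBlock.UnitaryNilIdeal
import Cfsg.Agent.Lib.Classical.UnitaryCount

set_option autoImplicit false

namespace Cfsg.Agent.GUUnipCentralizer

open Matrix
open Cfsg.Agent.S2581

variable {K : Type*} [Field K] [Fintype K] {σ : K →+* K}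

theorem exists_block_form (hne : σ ≠ RingHom.id K) (hinv : ∀ a, σ (σ a) = a) (m : ℕ) :
    ∃ H : Matrix (Fin m) (Fin m) K, H.det ≠ 0 ∧ LBUnitary.star' σ H = H ∧
      LBUnitary.star' σ (Cfsg.jordanBlock m K) * H * Cfsg.jordanBlock m K = H := by
  classical
  let d : Fin 1 → ℕ := fun _ => m
  let e : Fin m ≃ ((k : Fin 1) × Fin (d k)) :=
    { toFun := fun i => ⟨0, i⟩
      invFun := fun x => x.2
      left_inv := fun _ => rfl
      right_inv := fun x => by obtain ⟨k, i⟩ := x; obtain rfl : k = 0 := Subsingleton.elim _ _; rfl }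
  obtain ⟨G, hG⟩ : ∃ G : Matrix ((k : Fin 1) × Fin (d k)) ((k : Fin 1) × Fin (d k)) K,
      G = Matrix.of fun a b => LBJordanForms.pair m (a.2 : ℕ) (b.2 : ℕ) := ⟨_, rfl⟩
  have hent : ∀ (k l : Fin 1) (i j : ℕ), LBJordanForms.entry G k l i j = LBJordanForms.pair m i j := by
    intro k l i j
    rw [LBJordanForms.entry]
    by_cases h : i < d k ∧ j < d l
    · rw [dif_pos h, hG]; rfl
    · rw [dif_neg h, (LBJordanForms.pair_rel m).1 i j (by simp only [d] at h; omega)]
  have hinvG : (Cfsg.jordanTypeMatrix d K)ᵀ * G * Cfsg.jordanTypeMatrix d K = G := by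
    rw [LBJordanForms.inv_iff]
    intro k l
    rw [show LBJordanForms.entry G k l = LBJordanForms.pair m from funext fun i => funext fun j => hent k l i j]
    exact LBJordanForms.pair_rel m
  have hTe : (Cfsg.jordanTypeMatrix d K).submatrix e e = Cfsg.jordanBlock m K := by
    ext i j
    exact Matrix.blockDiagonal'_apply_eq (fun k => Cfsg.jordanBlock (d k) K) 0 i j
  have hP : LBUnitary.star' σ (Cfsg.jordanBlock m K) * G.submatrix e e * Cfsg.jordanBlock m K = G.submatrix e e := by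
    have hs : LBUnitary.star' σ (Cfsg.jordanBlock m K) = (Cfsg.jordanBlock m K)ᵀ := by
      ext i j
      show σ (Cfsg.jordanBlock m K j i) = Cfsg.jordanBlock m K j i
      simp only [Cfsg.jordanBlock, Matrix.of_apply]
      split_ifs <;> simp
    rw [hs, ← hTe, Matrix.transpose_submatrix, Matrix.submatrix_mul_equiv, Matrix.submatrix_mul_equiv, hinvG]
  have hPd : (G.submatrix e e).det ≠ 0 := by
    intro h0
    obtain ⟨v, hv, hv0⟩ := Matrix.exists_mulVec_eq_zero_iff.2 h0
    refine hv (funext fun j => ?_)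
    have := (LBJordanForms.pair_tri (F := K) m).inj (v := fun a => if h : a < m then v ⟨a, h⟩ else 0)
      (fun i hi => by
        have h1 := congrFun hv0 ⟨i, hi⟩
        rw [Matrix.mulVec, dotProduct, Pi.zero_apply] at h1
        rw [← h1, ← Fin.sum_univ_eq_sum_range]
        refine Finset.sum_congr rfl fun a _ => ?_
        rw [dif_pos a.2, hG]
        rfl) j j.2
    simpa using this
  have hTd : (Cfsg.jordanBlock m K).det ≠ 0 := by
    intro h0
    have := congrArg Matrix.det hP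
    rw [Matrix.det_mul, h0, mul_zero] at this
    exact hPd this.symm
  exact LBUnitary.exists_hermitian hne hinv hTd hPd hP

variable {t : ℕ} (d : Fin t → ℕ) (hd : ∀ k, 1 ≤ d k)

/-- The commutant. -/
abbrev Comm (K : Type*) [Field K] {t : ℕ} (d : Fin t → ℕ) : Subalgebra K (Matrix (Ix d) (Ix d) K) :=
  Subalgebra.centralizer K {nil d K}

omit [Fintype K] in
theorem mem_comm {X : Matrix (Ix d) (Ix d) K} : X ∈ Comm K d ↔ X * nil d K = nil d K * X := by
  rw [Subalgebra.mem_centralizer_iff]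
  exact ⟨fun h => (h _ rfl).symm, fun h g hg => by rw [Set.mem_singleton_iff.1 hg]; exact h.symm⟩

omit [Fintype K] in
theorem exists_toMat (X : Comm K d) : ∃ f, toMat d f = X.1 :=
  ⟨(parEquiv d).symm ⟨X.1, (mem_comm d).1 X.2⟩,
    congrArg Subtype.val ((parEquiv d).apply_symm_apply ⟨X.1, (mem_comm d).1 X.2⟩)⟩

omit [Fintype K] in
theorem lead_mul' (X Y : Comm K d) : lead d hd (X.1 * Y.1) = lead d hd X.1 * lead d hd Y.1 := by
  obtain ⟨f, hf⟩ := exists_toMat d X
  obtain ⟨g, hg⟩ := exists_toMat d Y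
  rw [← hf, ← hg, lead_mul]

/-- The semisimple quotient. -/
abbrev Quot' (K : Type*) [Field K] {t : ℕ} (d : Fin t → ℕ) : Type _ :=
  (i : Fin (Finset.univ.sup d + 1)) → Matrix (Cls d i) (Cls d i) K

omit [Fintype K] in
theorem lead_cls (X : Matrix (Ix d) (Ix d) K) {i : Fin (Finset.univ.sup d + 1)} (k l : Cls d i) :
    lead d hd X k.1 l.1 = X ⟨k.1, ⟨0, hd k.1⟩⟩ ⟨l.1, ⟨0, hd l.1⟩⟩ :=
  if_pos (k.2.trans l.2.symm)

/-- The projection to the semisimple quotient. -/
def proj : Comm K d →+* Quot' K d where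
  toFun X := fun _ => Matrix.of fun k l => X.1 ⟨k.1, ⟨0, hd k.1⟩⟩ ⟨l.1, ⟨0, hd l.1⟩⟩
  map_one' := by
    funext i; ext k l
    show (1 : Matrix (Ix d) (Ix d) K) _ _ = (1 : Matrix (Cls d i) (Cls d i) K) k l
    refine (lead_cls d hd (1 : Matrix (Ix d) (Ix d) K) k l).symm.trans ?_
    rw [lead_one, Matrix.one_apply, Matrix.one_apply]
    simp only [Subtype.ext_iff]
  map_mul' X Y := by
    funext i; ext k l
    show (X.1 * Y.1) _ _ = ∑ m : Cls d i, X.1 ⟨k.1, ⟨0, hd k.1⟩⟩ ⟨m.1, ⟨0, hd m.1⟩⟩ * Y.1 ⟨m.1, ⟨0, hd m.1⟩⟩ ⟨l.1, ⟨0, hd l.1⟩⟩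
    refine (lead_cls d hd (X.1 * Y.1) k l).symm.trans ?_
    rw [lead_mul', Matrix.mul_apply, Finset.sum_congr rfl (fun m (_ : m ∈ (Finset.univ : Finset (Cls d i))) =>
      congrArg₂ (· * ·) (lead_cls d hd X.1 k m).symm (lead_cls d hd Y.1 m l).symm)]
    rw [← Finset.sum_subtype (Finset.univ.filter fun m => d m = (i : ℕ)) (by simp)
      (fun m => lead d hd X.1 k.1 m * lead d hd Y.1 m l.1)]
    refine (Finset.sum_subset (Finset.filter_subset _ _) fun m _ hm => ?_).symm
    rw [show lead d hd X.1 k.1 m = 0 from if_neg fun e => hm (Finset.mem_filter.2 ⟨Finset.mem_univ _, e.symm.trans k.2⟩),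
      zero_mul]
  map_zero' := rfl
  map_add' _ _ := rfl

/-- The parameters of a block scalar matrix. -/
def scalPar (g : Diag d → K) : Par d → K := fun p => if h : IsTop d p then g ⟨p.1, h.1⟩ else 0

/-- A block scalar matrix. -/
def scal (g : Diag d → K) : Comm K d := ⟨toMat d (scalPar d g), (mem_comm d).2 (toMat_comm d _)⟩

omit [Fintype K] in
theorem scal_apply (g : Diag d → K) (k : Fin t) (i : Fin (d k)) (l : Fin t) (j : Fin (d l)) :
    (scal d g).1 ⟨k, i⟩ ⟨l, j⟩ = if (i : ℕ) = j then blkMat d g k l else 0 := by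
  show toMat d (scalPar d g) ⟨k, i⟩ ⟨l, j⟩ = _
  simp only [toMat, Matrix.of_apply, scalPar, blkMat]
  have := i.isLt
  have := j.isLt
  split_ifs with h1 h2 h3 h4 <;> first
    | rfl
    | (exfalso; dsimp only [S2581.IsTop] at *; omega)
    | omega

omit [Fintype K] in
theorem proj_scal (M : Quot' K d) : proj d hd (scal d ((diagEquiv d).symm M)) = M := by
  funext i; ext k l
  show (scal d _).1 ⟨k.1, _⟩ ⟨l.1, _⟩ = _
  rw [scal_apply, if_pos rfl]
  simp only [blkMat, Matrix.of_apply, dif_pos (k.2.trans l.2.symm)]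
  conv_rhs => rw [← (diagEquiv d).apply_symm_apply M]
  rfl

theorem proj_nil (X : Comm K d) (h : proj d hd X = 0) : IsNilpotent X := by
  obtain ⟨a, b, hab, heq⟩ := Finite.exists_ne_map_eq_of_infinite (fun n : ℕ => X ^ n)
  wlog hlt : a < b generalizing a b
  · exact this b a hab.symm heq.symm (lt_of_le_of_ne (not_lt.1 hlt) hab.symm)
  have h1 : proj d hd (1 - X ^ (b - a)) = 1 := by
    rw [map_sub, map_one, map_pow, h, zero_pow (by omega), sub_zero]
  obtain ⟨f, hf⟩ := exists_toMat d (1 - X ^ (b - a))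
  have hlead : lead d hd (toMat d f) = 1 := by
    ext k l
    by_cases hkl : d k = d l
    · let i : Fin (Finset.univ.sup d + 1) := ⟨d k, Nat.lt_succ_of_le (Finset.le_sup (Finset.mem_univ k))⟩
      have := congrFun (congrFun (congrFun h1 i) ⟨k, rfl⟩) ⟨l, hkl.symm⟩
      rw [show lead d hd (toMat d f) k l = toMat d f ⟨k, ⟨0, hd k⟩⟩ ⟨l, ⟨0, hd l⟩⟩ from if_pos hkl, hf]
      refine this.trans ?_
      show (1 : Matrix (Cls d i) (Cls d i) K) _ _ = _
      rw [Matrix.one_apply, Matrix.one_apply]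
      simp only [Subtype.ext_iff]
    · rw [show lead d hd (toMat d f) k l = 0 from if_neg hkl, Matrix.one_apply_ne]
      exact fun e => hkl (e ▸ rfl)
  have hu : IsUnit ((1 - X ^ (b - a) : Comm K d) : Matrix (Ix d) (Ix d) K) := by
    rw [← hf]; exact (isUnit_toMat_iff d hd f).2 (hlead ▸ isUnit_one)
  refine ⟨a, Subtype.ext (hu.mul_left_eq_zero.1 ?_)⟩
  show ((X ^ a * (1 - X ^ (b - a)) : Comm K d) : Matrix (Ix d) (Ix d) K) = 0
  rw [mul_sub, mul_one, ← pow_add, Nat.add_sub_cancel' hlt.le, show X ^ a = X ^ b from heq, sub_self]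
  rfl

omit [Fintype K] in
theorem card_ker [Finite K] : Nat.card {X : Comm K d // proj d hd X = 0} =
    Nat.card K ^ Fintype.card {x : Par d // ¬ IsTop d x} := by
  classical
  have e1 : {X : Comm K d // proj d hd X = 0} ≃ {f : Par d → K // ∀ x, IsTop d x → f x = 0} :=
    { toFun := fun X => ⟨(parEquiv d).symm ⟨X.1.1, (mem_comm d).1 X.1.2⟩, fun x hx => by
        obtain ⟨⟨k, l⟩, s⟩ := x
        obtain ⟨hkl : d k = d l, hs : (s : ℕ) = 0⟩ := hx
        have := congrFun (congrFun (congrFun X.2 ⟨d k, Nat.lt_succ_of_le (Finset.le_sup (Finset.mem_univ k))⟩)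
          ⟨k, rfl⟩) ⟨l, hkl.symm⟩
        refine Eq.trans ?_ this
        show X.1.1 _ _ = X.1.1 _ _
        exact congrArg (fun x : Fin (d k) => X.1.1 ⟨k, x⟩ ⟨l, ⟨0, hd l⟩⟩)
          (Fin.ext (by show (s : ℕ) + (d k - d l) = 0; omega) :
            (⟨(s : ℕ) + (d k - d l), by have h3 : d k = d l := hkl; have := hd k; omega⟩ : Fin (d k)) = ⟨0, hd k⟩)⟩
      invFun := fun f => ⟨⟨toMat d f.1, (mem_comm d).2 (toMat_comm d _)⟩, by
        funext i; ext k l
        show toMat d f.1 ⟨k.1, _⟩ ⟨l.1, _⟩ = 0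
        have := k.2; have := l.2
        simp only [toMat, Matrix.of_apply]
        rw [dif_pos (by omega)]
        exact f.2 _ ⟨by simp only; omega, by simp only; omega⟩⟩
      left_inv := fun X => by
        apply Subtype.ext
        apply Subtype.ext
        show toMat d ((parEquiv d).symm ⟨X.1.1, (mem_comm d).1 X.1.2⟩) = X.1.1
        exact congrArg Subtype.val ((parEquiv d).apply_symm_apply ⟨X.1.1, (mem_comm d).1 X.1.2⟩)
      right_inv := fun f => Subtype.ext ((parEquiv d).symm_apply_apply f.1) }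
  have e2 : {f : Par d → K // ∀ x, IsTop d x → f x = 0} ≃ ({x : Par d // ¬ IsTop d x} → K) :=
    { toFun := fun f x => f.1 x.1
      invFun := fun g => ⟨fun x => if h : IsTop d x then 0 else g ⟨x, h⟩, fun x hx => dif_pos hx⟩
      left_inv := fun f => Subtype.ext (funext fun x => by
        show (if h : IsTop d x then 0 else f.1 x) = f.1 x
        split_ifs with h
        · exact (f.2 x h).symm
        · rfl)
      right_inv := fun g => funext fun x => dif_neg x.2 }
  rw [Nat.card_congr (e1.trans e2), Nat.card_fun, Nat.card_eq_fintype_card (α := {x : Par d // ¬ IsTop d x})]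

include hd in
theorem card_isometries (hne : σ ≠ RingHom.id K) (hinv : ∀ a, σ (σ a) = a) {q : ℕ}
    (hK : Nat.card K = q ^ 2) :
    ∃ H : Matrix (Ix d) (Ix d) K, H.det ≠ 0 ∧ LBUnitary.star' σ H = H ∧
      LBUnitary.star' σ (Cfsg.jordanTypeMatrix d K) * H * Cfsg.jordanTypeMatrix d K = H ∧
      Nat.card {X : Matrix (Ix d) (Ix d) K // X * Cfsg.jordanTypeMatrix d K = Cfsg.jordanTypeMatrix d K * X ∧
          LBUnitary.star' σ X * H * X = H} =
        q ^ Fintype.card {x : Par d // ¬ IsTop d x} *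
          ∏ i : Fin (Finset.univ.sup d + 1), Nat.card {M : Matrix (Cls d i) (Cls d i) K // LBUnitary.star' σ M * M = 1} := by
  classical
  choose Hd hHd hHs hHi using fun m => exists_block_form (σ := σ) hne hinv m
  obtain ⟨H, hH⟩ : ∃ H : Matrix (Ix d) (Ix d) K, H = Matrix.blockDiagonal' fun k => Hd (d k) := ⟨_, rfl⟩
  have hstar : ∀ M : (k : Fin t) → Matrix (Fin (d k)) (Fin (d k)) K,
      LBUnitary.star' σ (Matrix.blockDiagonal' M) = Matrix.blockDiagonal' fun k => LBUnitary.star' σ (M k) := by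
    intro M
    simp only [LBUnitary.star', Matrix.blockDiagonal'_map _ _ (map_zero σ), Matrix.blockDiagonal'_transpose]
  have hHdet : H.det ≠ 0 := by
    have h1 : IsUnit H := by
      rw [hH, S2581.isUnit_blockDiagonal'_iff]
      exact fun k => (Matrix.isUnit_iff_isUnit_det _).2 (hHd _).isUnit
    exact ((Matrix.isUnit_iff_isUnit_det _).1 h1).ne_zero
  have hHstar : LBUnitary.star' σ H = H := by rw [hH, hstar]; simp only [hHs]
  obtain ⟨T, hT⟩ : ∃ T, T = Cfsg.jordanTypeMatrix d K := ⟨_, rfl⟩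
  have hTH : LBUnitary.star' σ T * H * T = H := by
    rw [hT, hH, Cfsg.jordanTypeMatrix, hstar, ← Matrix.blockDiagonal'_mul, ← Matrix.blockDiagonal'_mul]
    simp only [hHi]
  refine ⟨H, hHdet, hHstar, hT ▸ hTH, ?_⟩
  rw [← hT]
  have hcommT : ∀ X : Matrix (Ix d) (Ix d) K, X * T = T * X ↔ X ∈ Comm K d := fun X => by
    rw [mem_comm, hT, S2581.jordanType_eq, mul_add, add_mul, mul_one, one_mul, add_right_inj]
  have hHu : IsUnit H.det := hHdet.isUnit
  have hHi' : LBUnitary.star' σ H⁻¹ = H⁻¹ := by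
    refine (Matrix.inv_eq_left_inv ?_).symm
    calc LBUnitary.star' σ H⁻¹ * H = LBUnitary.star' σ H⁻¹ * LBUnitary.star' σ H := by rw [hHstar]
      _ = 1 := by rw [← LBUnitary.star_mul', Matrix.mul_nonsing_inv _ hHu, LBUnitary.star_one']
  have hTu : IsUnit (LBUnitary.star' σ T * H) := by
    rw [Matrix.isUnit_iff_isUnit_det]
    have := congrArg Matrix.det hTH
    rw [Matrix.det_mul] at this
    exact (isUnit_iff_ne_zero.2 fun e => hHdet (by rw [← this, e, zero_mul]))
  have hmem : ∀ X ∈ Comm K d, H⁻¹ * LBUnitary.star' σ X * H ∈ Comm K d := by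
    intro X hX
    rw [← hcommT] at hX ⊢
    obtain ⟨Y, hY⟩ : ∃ Y, Y = H⁻¹ * LBUnitary.star' σ X * H := ⟨_, rfl⟩
    have hHY : H * Y = LBUnitary.star' σ X * H := by
      rw [hY, ← mul_assoc, ← mul_assoc, Matrix.mul_nonsing_inv _ hHu, one_mul]
    rw [← hY]
    refine hTu.mul_left_cancel ?_
    calc LBUnitary.star' σ T * H * (Y * T) = LBUnitary.star' σ T * (H * Y) * T := by simp only [mul_assoc]
      _ = LBUnitary.star' σ (X * T) * (H * T) := by rw [hHY, LBUnitary.star_mul']; simp only [mul_assoc]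
      _ = LBUnitary.star' σ X * (LBUnitary.star' σ T * H * T) := by
          rw [hX, LBUnitary.star_mul']; simp only [mul_assoc]
      _ = H * Y := by rw [hTH, hHY]
      _ = LBUnitary.star' σ T * H * (T * Y) := by
          conv_lhs => rw [← hTH]
          simp only [mul_assoc]
  let st : Comm K d → Comm K d := fun X => ⟨H⁻¹ * LBUnitary.star' σ X.1 * H, hmem X.1 X.2⟩
  let stR : Quot' K d → Quot' K d := fun M i => LBUnitary.star' σ (M i)
  have st_add : ∀ a b, st (a + b) = st a + st b := fun a b => Subtype.ext (by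
    show H⁻¹ * LBUnitary.star' σ (a.1 + b.1) * H = H⁻¹ * LBUnitary.star' σ a.1 * H + H⁻¹ * LBUnitary.star' σ b.1 * H
    rw [LBUnitary.star_add', mul_add, add_mul])
  have st_mul : ∀ a b, st (a * b) = st b * st a := fun a b => Subtype.ext (by
    show H⁻¹ * LBUnitary.star' σ (a.1 * b.1) * H =
      H⁻¹ * LBUnitary.star' σ b.1 * H * (H⁻¹ * LBUnitary.star' σ a.1 * H)
    rw [LBUnitary.star_mul', show H⁻¹ * LBUnitary.star' σ b.1 * H * (H⁻¹ * LBUnitary.star' σ a.1 * H) =
      H⁻¹ * LBUnitary.star' σ b.1 * (H * H⁻¹) * LBUnitary.star' σ a.1 * H by simp only [mul_assoc],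
      Matrix.mul_nonsing_inv _ hHu, mul_one]
    simp only [mul_assoc])
  have st_inv : ∀ a, st (st a) = a := fun a => Subtype.ext (by
    show H⁻¹ * LBUnitary.star' σ (H⁻¹ * LBUnitary.star' σ a.1 * H) * H = a.1
    rw [LBUnitary.star_mul', LBUnitary.star_mul', LBUnitary.star_star' hinv, hHstar, hHi',
      show H⁻¹ * (H * (a.1 * H⁻¹)) * H = (H⁻¹ * H) * a.1 * (H⁻¹ * H) by simp only [mul_assoc],
      Matrix.nonsing_inv_mul _ hHu, one_mul, mul_one])
  have st_smul : ∀ (c : K) a, st (c • a) = σ c • st a := fun c a => Subtype.ext (by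
    show H⁻¹ * LBUnitary.star' σ (c • a.1) * H = σ c • (H⁻¹ * LBUnitary.star' σ a.1 * H)
    rw [LBUnitary.star_smul', mul_smul_comm, smul_mul_assoc])
  have hHd_congr : ∀ (a b : ℕ), a = b → ∀ (i j : Fin a) (i' j' : Fin b), (i : ℕ) = i' → (j : ℕ) = j' →
      Hd a i j = Hd b i' j' := by
    rintro a _ rfl i j i' j' h h'
    rw [Fin.ext h, Fin.ext h']
  have hscal : ∀ g : Diag d → K, st (scal d g) = scal d fun p => σ (g ⟨(p.1.2, p.1.1), p.2.symm⟩) := by
    intro g
    refine Subtype.ext ?_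
    obtain ⟨g', hg'⟩ : ∃ g' : Diag d → K, g' = fun p => σ (g ⟨(p.1.2, p.1.1), p.2.symm⟩) := ⟨_, rfl⟩
    rw [← hg']
    show H⁻¹ * LBUnitary.star' σ (scal d g).1 * H = (scal d g').1
    have key : LBUnitary.star' σ (scal d g).1 * H = H * (scal d g').1 := by
      ext ⟨k, i⟩ ⟨l, j⟩
      rw [Matrix.mul_apply, Matrix.mul_apply, hH, Fintype.sum_sigma, Fintype.sum_sigma,
        Finset.sum_eq_single l (fun b _ hb => Finset.sum_eq_zero fun x _ => by
          rw [Matrix.blockDiagonal'_apply_ne _ _ _ hb, mul_zero]) (by simp),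
        Finset.sum_eq_single k (fun b _ hb => Finset.sum_eq_zero fun x _ => by
          rw [Matrix.blockDiagonal'_apply_ne _ _ _ (Ne.symm hb), zero_mul]) (by simp)]
      simp only [Matrix.blockDiagonal'_apply_eq, LBUnitary.star', Matrix.transpose_apply, Matrix.map_apply, scal_apply]
      by_cases hkl : d k = d l
      · have hb : blkMat d g' k l = σ (blkMat d g l k) := by
          simp only [blkMat, Matrix.of_apply, dif_pos hkl, dif_pos hkl.symm, hg']
        rw [Finset.sum_eq_single (⟨i, hkl ▸ i.2⟩ : Fin (d l)) (fun b _ hb' => by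
            rw [if_neg (fun e => hb' (Fin.ext e)), map_zero, zero_mul]) (by simp),
          Finset.sum_eq_single (⟨j, hkl.symm ▸ j.2⟩ : Fin (d k)) (fun b _ hb' => by
            rw [if_neg (fun e => hb' (Fin.ext e)), mul_zero]) (by simp),
          if_pos rfl, if_pos rfl, hb, hHd_congr _ _ hkl.symm _ j i ⟨j, hkl.symm ▸ j.2⟩ rfl rfl, mul_comm]
      · have h1 : blkMat d g l k = 0 := dif_neg fun e => hkl e.symm
        have h2 : blkMat d g' k l = 0 := dif_neg hkl
        simp only [h1, h2, ite_self, map_zero, zero_mul, mul_zero, Finset.sum_const_zero]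
    rw [mul_assoc, key, ← mul_assoc, Matrix.nonsing_inv_mul _ hHu, one_mul]
  have st0 : st 0 = 0 := by
    have := st_smul 0 0
    rwa [zero_smul, map_zero, zero_smul] at this
  have st1 : st 1 = 1 := by
    have h := st_mul (st 1) 1
    rw [mul_one, st_inv] at h
    rw [← mul_one (st 1)]
    exact h.symm
  have st_pow : ∀ (a : Comm K d) (n : ℕ), st (a ^ n) = st a ^ n := by
    intro a n
    induction n with
    | zero => rw [pow_zero, pow_zero, st1]
    | succ n ih => rw [pow_succ, st_mul, ih, ← pow_succ']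
  have hker : ∀ a, proj d hd a = 0 → proj d hd (st a) = 0 := by
    intro a ha
    funext i; ext k l
    obtain ⟨E, hE⟩ : ∃ E : Quot' K d, E = Pi.single i (Matrix.single l k (1 : K)) := ⟨_, rfl⟩
    obtain ⟨z, hz⟩ : ∃ z, proj d hd z = E := ⟨_, proj_scal d hd E⟩
    have h1 : IsNilpotent (st a * z) := by
      obtain ⟨m, hm⟩ := proj_nil d hd (st z * a) (by rw [map_mul, ha, mul_zero])
      refine ⟨m, ?_⟩
      rw [← st_inv z, ← st_mul, ← st_pow, hm, st0]
    have h2 := (h1.map (proj d hd)).map (Pi.evalRingHom (fun i => Matrix (Cls d i) (Cls d i) K) i)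
    rw [map_mul, hz, Pi.evalRingHom_apply, Pi.mul_apply, hE, Pi.single_eq_same] at h2
    have h3 := (Matrix.isNilpotent_trace_of_isNilpotent h2).eq_zero
    rw [Matrix.trace_mul_single] at h3
    simpa using h3
  have D : UnitaryNilIdeal.Data σ st (proj d hd) := ⟨st_add, st_mul, st_inv, st_smul, proj_nil d hd, hker⟩
  have hstR : ∀ a, proj d hd (st a) = stR (proj d hd a) := by
    intro a
    obtain ⟨s, hs⟩ : ∃ s, s = scal d ((diagEquiv d).symm (proj d hd a)) := ⟨_, rfl⟩
    have e : st a = st s + st (a - s) := by rw [← st_add, add_sub_cancel]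
    rw [e, map_add, hker (a - s) (by rw [map_sub, hs, proj_scal, sub_self]), add_zero, hs, hscal,
      ← proj_scal d hd (stR (proj d hd a))]
    rfl
  obtain ⟨μ, hμ⟩ := Hermitian.exists_trace hne hinv (map_one σ)
  obtain ⟨N, hN, hN2⟩ := D.card_unitary (by by_contra! hc; exact hne (RingHom.ext hc)) hinv hμ
    (fun M => ⟨_, proj_scal d hd M⟩) stR hstR
  rw [card_ker, hK, ← pow_mul, mul_comm 2, pow_mul, sq] at hN2
  rw [← Nat.mul_self_inj.1 hN2]
  refine Eq.trans ?_ (hN.trans (congrArg (N * ·) ?_))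
  · refine Nat.card_congr
      { toFun := fun X => ⟨⟨X.1, (hcommT _).1 X.2.1⟩, Subtype.ext ?_⟩
        invFun := fun X => ⟨X.1.1, (hcommT _).2 X.1.2, ?_⟩
        left_inv := fun _ => rfl
        right_inv := fun _ => rfl }
    · show H⁻¹ * LBUnitary.star' σ X.1 * H * X.1 = 1
      rw [show H⁻¹ * LBUnitary.star' σ X.1 * H * X.1 = H⁻¹ * (LBUnitary.star' σ X.1 * H * X.1) by simp only [mul_assoc],
        X.2.2, Matrix.nonsing_inv_mul _ hHu]
    · have h1 : H⁻¹ * LBUnitary.star' σ X.1.1 * H * X.1.1 = 1 := congrArg Subtype.val X.2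
      calc LBUnitary.star' σ X.1.1 * H * X.1.1
          = H * (H⁻¹ * LBUnitary.star' σ X.1.1 * H * X.1.1) := by
            rw [mul_assoc H⁻¹, mul_assoc H⁻¹, ← mul_assoc H, Matrix.mul_nonsing_inv _ hHu, one_mul]
        _ = H := by rw [h1, mul_one]
  · rw [← Nat.card_pi]
    exact Nat.card_congr
      { toFun := fun M i => ⟨M.1 i, congrFun M.2 i⟩
        invFun := fun M => ⟨fun i => (M i).1, funext fun i => (M i).2⟩
        left_inv := fun _ => rfl
        right_inv := fun _ => rfl }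

theorem card_unitary_matrices {q : ℕ} (hne : σ ≠ RingHom.id K) (hinv : ∀ a, σ (σ a) = a)
    (hσ : ∀ x, σ x = x ^ q) (hq : Nat.card (Hermitian.fixed σ) = q) (ι : Type) [Fintype ι] [DecidableEq ι] :
    (Nat.card {M : Matrix ι ι K // LBUnitary.star' σ M * M = 1} : ℤ) =
      (q : ℤ) ^ (Fintype.card ι * (Fintype.card ι - 1) / 2) *
        ∏ j : Fin (Fintype.card ι), ((q : ℤ) ^ ((j : ℕ) + 1) - (-1) ^ ((j : ℕ) + 1)) := by
  classical
  obtain ⟨e⟩ : Nonempty (ι ≃ Fin (Fintype.card ι)) := ⟨Fintype.equivFin ι⟩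
  have h1 : Nat.card {M : Matrix ι ι K // LBUnitary.star' σ M * M = 1} = Nat.card (Cfsg.GU (Fintype.card ι) K q) := by
    have hΦ : ∀ M : Matrix ι ι K, LBUnitary.star' σ (Matrix.reindexAlgEquiv K K e M) * Matrix.reindexAlgEquiv K K e M =
        Matrix.reindexAlgEquiv K K e (LBUnitary.star' σ M * M) := fun M => by
      rw [map_mul]; rfl
    refine Nat.card_congr
      { toFun := fun M => ⟨⟨Matrix.reindexAlgEquiv K K e M.1, LBUnitary.star' σ (Matrix.reindexAlgEquiv K K e M.1),
            ?_, ?_⟩, ?_⟩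
        invFun := fun g => ⟨(Matrix.reindexAlgEquiv K K e).symm g.1.1, ?_⟩
        left_inv := fun M => Subtype.ext ((Matrix.reindexAlgEquiv K K e).symm_apply_apply _)
        right_inv := fun g => Subtype.ext (Units.ext ((Matrix.reindexAlgEquiv K K e).apply_symm_apply _)) }
    · exact mul_eq_one_comm.1 (by rw [hΦ, M.2, map_one])
    · rw [hΦ, M.2, map_one]
    · rw [LBUnitary.mem_GU hσ hinv]
      show LBUnitary.star' σ (Matrix.reindexAlgEquiv K K e M.1) * Matrix.reindexAlgEquiv K K e M.1 = 1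
      rw [hΦ, M.2, map_one]
    · refine (Matrix.reindexAlgEquiv K K e).injective ?_
      rw [← hΦ, AlgEquiv.apply_symm_apply, map_one]
      exact (LBUnitary.mem_GU hσ hinv g.1).1 g.2
  have hq0 : q ≠ 0 := by have := Nat.card_pos (α := Hermitian.fixed σ); omega
  rw [h1, HermStd.card_GU hne hinv hσ _ hq, Nat.cast_mul, Nat.cast_pow, Nat.cast_prod,
    ← Fin.prod_univ_eq_prod_range]
  congr 1
  exact Finset.prod_congr rfl fun j _ => (UnitaryCount.prod_identity (q := q) (j : ℕ)).resolve_right hq0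

end Cfsg.Agent.GUUnipCentralizer
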