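/-
Extraspecial subgroups of order 27 of GL_3 and of GU_3 and their normalisers.
-/
import Cfsg.Agent.Lib.Classical.SemisimpleClasses
import Cfsg.Agent.Lib.LinearBlock.RootUnityPolys
import Cfsg.Agent.Lib.Classical.SL
import Cfsg.Prelude.Def_GeometricClasses

set_option autoImplicit false
set_option linter.all false

namespace Cfsg.Agent.LBHeis

open Matrix

variable {F : Type*} [Field F]

abbrev G3 (F : Type*) [Field F] := GL (Fin 3) F

/-- Diagonal elements. -/
def dg : (Fin 3 → Fˣ) →* G3 F :=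
  (Units.map (Matrix.diagonalRingHom (Fin 3) F).toMonoidHom).comp MulEquiv.piUnits.symm.toMonoidHom

theorem dg_val (t : Fin 3 → Fˣ) : (dg t).1 = diagonal fun i => (t i : F) := rfl

/-- The cyclic permutation. -/
def cyc : G3 F := ⟨!![0,0,1; 1,0,0; 0,1,0], !![0,1,0; 0,0,1; 1,0,0],
  by ext i j; fin_cases i <;> fin_cases j <;> simp [Matrix.mul_apply, Fin.sum_univ_three],
  by ext i j; fin_cases i <;> fin_cases j <;> simp [Matrix.mul_apply, Fin.sum_univ_three]⟩

/-- An involution inverting both generators. -/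
def inv3 : G3 F := ⟨!![-1,0,0; 0,0,-1; 0,-1,0], !![-1,0,0; 0,0,-1; 0,-1,0],
  by ext i j; fin_cases i <;> fin_cases j <;> simp [Matrix.mul_apply, Fin.sum_univ_three],
  by ext i j; fin_cases i <;> fin_cases j <;> simp [Matrix.mul_apply, Fin.sum_univ_three]⟩

/-- The diagonal generator. -/
def dd (w : Fˣ) : G3 F := dg ![1, w, w ^ 2]

theorem cyc_dg (t : Fin 3 → Fˣ) : cyc * dg t = dg ![t 2, t 0, t 1] * cyc := by
  refine Units.ext ?_
  rw [Units.val_mul, Units.val_mul, dg_val, dg_val]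
  ext i j
  fin_cases i <;> fin_cases j <;> simp [cyc]

/-- An ambient group: everything, or the unitary group. -/
structure Amb (U : Subgroup (G3 F)) (Nm : Subgroup Fˣ) : Prop where
  conj : ∀ g ∈ U, ∀ h ∈ U, IsConj g h → ∃ Q ∈ U, Q * g * Q⁻¹ = h
  det : ∀ g ∈ U, GeneralLinearGroup.det g ∈ Nm
  dgm : ∀ t, dg t ∈ U ↔ ∀ i, t i ∈ Nm
  cycm : cyc ∈ U
  invm : inv3 ∈ U

/-- Diagonalisation. -/
theorem exists_diag [Finite F] (p : ℕ) [Fact p.Prime] [CharP F p] {n : ℕ} (hn : 0 < n) (hnp : n.Coprime p) {ζ : F}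
    (hζ : IsPrimitiveRoot ζ n) (x : G3 F) (hx : x ^ n = 1) :
    ∃ t : Fin 3 → Fˣ, (∀ i, t i ^ n = 1) ∧ IsConj x (dg t) := by
  classical
  haveI := Fintype.ofFinite F
  open Polynomial in
  obtain ⟨t, ht, htc⟩ : ∃ t : Fin 3 → Fˣ, (∀ i, t i ^ n = 1) ∧ x.1.charpoly = (dg t).1.charpoly := by
    have hgood := LBRootPoly.good_charpoly (r := n) (M := x.1) (by rw [← Units.val_pow_eq_pow_val, hx, Units.val_one])
    have hlin : ∀ u ∈ UniqueFactorizationMonoid.normalizedFactors x.1.charpoly, ∃ a : Fˣ, a ^ n = 1 ∧ u = X - C (a : F) := by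
      intro u hu
      have hum := LBRootPoly.monic_of_mem hu
      have hui := UniqueFactorizationMonoid.irreducible_of_normalized_factor u hu
      have hd : u ∣ X ^ n - 1 := hgood.2 u hum hui (UniqueFactorizationMonoid.dvd_of_mem_normalizedFactors hu)
      rw [X_pow_sub_one_eq_prod hn hζ] at hd
      obtain ⟨a, ha, hua⟩ := (Prime.dvd_finset_prod_iff hui.prime _).1 hd
      have han : a ^ n = 1 := (mem_nthRootsFinset hn _).1 ha
      have ha0 : a ≠ 0 := fun h => by rw [h, zero_pow hn.ne'] at han; exact zero_ne_one han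
      exact ⟨Units.mk0 a ha0, Units.ext (by simpa using han),
        eq_of_monic_of_associated hum (monic_X_sub_C a) (hui.associated_of_dvd (irreducible_X_sub_C a) hua)⟩
    have hprod := LBRootPoly.prod_of_monic (x.1.charpoly_monic)
    generalize UniqueFactorizationMonoid.normalizedFactors x.1.charpoly = S at hlin hprod
    obtain ⟨A, hA, hAS⟩ : ∃ A : Multiset Fˣ, (∀ a ∈ A, a ^ n = 1) ∧ S = A.map fun a : Fˣ => (X : F[X]) - C (a : F) := by
      clear hprod
      induction S using Multiset.induction_on with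
      | empty => exact ⟨0, by simp, by simp⟩
      | cons u S ih =>
        obtain ⟨A, hA, hAS⟩ := ih fun v hv => hlin v (Multiset.mem_cons_of_mem hv)
        obtain ⟨a, ha, hua⟩ := hlin u (Multiset.mem_cons_self u S)
        exact ⟨a ::ₘ A, by simpa [ha] using hA, by rw [Multiset.map_cons, hua, hAS]⟩
    subst hAS
    have hcard : A.card = 3 := by
      have := congrArg natDegree hprod
      rw [natDegree_multiset_prod_of_monic _ (by simp [monic_X_sub_C]), charpoly_natDegree_eq_dim] at this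
      simpa [Multiset.map_map, Function.comp_def] using this
    obtain ⟨a, b, c, rfl⟩ := Multiset.card_eq_three.1 hcard
    refine ⟨![a, b, c], fun i => by fin_cases i <;> [exact hA a (by simp); exact hA b (by simp); exact hA c (by simp)], ?_⟩
    rw [← hprod, dg_val, charpoly_diagonal, Fin.prod_univ_three]
    simp [mul_assoc]
  refine ⟨t, ht, ?_⟩
  have hss : ∀ M : G3 F, M ^ n = 1 → Module.End.IsSemisimple (Matrix.toLin' M.1) := fun M hM =>
    SemisimpleCl.isSemisimple_of_pow p (m := n) (by rw [← Units.val_pow_eq_pow_val, hM, Units.val_one]) hnp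
  have htn : dg t ^ n = 1 := by rw [← map_pow, show t ^ n = 1 from funext ht, map_one]
  obtain ⟨P, hP⟩ := SemisimpleCl.exists_conjugator (hss x hx) (hss _ htn) htc
  exact isConj_iff.2 ⟨P, by rw [mul_inv_eq_iff_eq_mul]; exact Units.ext hP⟩

theorem det_dg (t : Fin 3 → Fˣ) : GeneralLinearGroup.det (dg t) = t 0 * t 1 * t 2 := by
  refine Units.ext ?_
  show (dg t).1.det = _
  rw [dg_val, det_diagonal, Fin.prod_univ_three]; simp

variable {U : Subgroup (G3 F)} {Nm : Subgroup Fˣ}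

local notation "S₃" => Cfsg.Geo.specialLinear (Fin 3) F

theorem det_one {x : G3 F} (hx : x ∈ S₃) : GeneralLinearGroup.det x = 1 := hx

/-- Elements conjugate to the same diagonal one are conjugate in the special group. -/
theorem sconj (hU : Amb U Nm) {t : Fin 3 → Fˣ} (ht : ∀ i, t i ∈ Nm) {x y : G3 F} (hx : x ∈ U ⊓ S₃)
    (hy : y ∈ U ⊓ S₃) (hxt : IsConj x (dg t)) (hyt : IsConj y (dg t)) : ∃ g ∈ U ⊓ S₃, g⁻¹ * x * g = y := by
  have key : ∀ w ∈ U, IsConj w (dg t) → ∃ g ∈ U ⊓ S₃, g * w * g⁻¹ = dg t := by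
    intro w hw hwt
    obtain ⟨Q, hQ, hQe⟩ := hU.conj w hw _ ((hU.dgm t).2 ht) hwt
    obtain ⟨δ, hδ⟩ : ∃ δ, δ = GeneralLinearGroup.det Q := ⟨_, rfl⟩
    refine ⟨dg ![δ⁻¹, 1, 1] * Q, ⟨mul_mem ((hU.dgm _).2 fun i => ?_) hQ, ?_⟩, ?_⟩
    · fin_cases i
      · exact inv_mem (hδ ▸ hU.det Q hQ)
      · exact one_mem _
      · exact one_mem _
    · show GeneralLinearGroup.det _ = 1
      rw [map_mul, det_dg, hδ]; simp
    · rw [_root_.mul_inv_rev, show dg ![δ⁻¹, 1, 1] * Q * w * (Q⁻¹ * (dg ![δ⁻¹, 1, 1])⁻¹)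
        = dg ![δ⁻¹, 1, 1] * (Q * w * Q⁻¹) * (dg ![δ⁻¹, 1, 1])⁻¹ by group, hQe, ← map_mul, ← map_inv, ← map_mul,
        mul_comm (![δ⁻¹, 1, 1]) t, mul_inv_cancel_right]
  obtain ⟨g, hg, hge⟩ := key x hx.1 hxt
  obtain ⟨h, hh, hhe⟩ := key y hy.1 hyt
  refine ⟨g⁻¹ * h, mul_mem (inv_mem hg) hh, ?_⟩
  rw [_root_.mul_inv_rev, inv_inv, show h⁻¹ * g * x * (g⁻¹ * h) = h⁻¹ * (g * x * g⁻¹) * h by group, hge, ← hhe]
  group

/-- A standard form. -/
theorem exists_std [Finite F] (hU : Amb U Nm) (p : ℕ) [Fact p.Prime] [CharP F p] (hp3 : p ≠ 3) {z : F}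
    (hz : IsPrimitiveRoot z 3) (R : Subgroup (G3 F)) (hRU : R ≤ U) (hR : Nat.card R = 27)
    (hRe : Monoid.exponent R = 3) (hRna : ¬ IsMulCommutative R) :
    ∃ w : Fˣ, IsPrimitiveRoot w 3 ∧ ∃ P ∈ U, P * dd w * P⁻¹ ∈ R ∧ P * cyc * P⁻¹ ∈ R ∧ P * dg (fun _ => w) * P⁻¹ ∈ R := by
  classical
  haveI : Fact (Nat.Prime 3) := ⟨Nat.prime_three⟩
  haveI : Finite R := Nat.finite_of_card_ne_zero (by omega)
  have hR3 : IsPGroup 3 R := IsPGroup.of_card (n := 3) (by rw [hR]; norm_num)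
  have hcop : Nat.Coprime 3 p := (Nat.coprime_primes Nat.prime_three Fact.out).2 (Ne.symm hp3)
  have hx3 : ∀ x ∈ R, x ^ 3 = 1 := fun x hx => by
    have := Monoid.pow_exponent_eq_one (⟨x, hx⟩ : R)
    rw [hRe] at this
    exact congrArg Subtype.val this
  -- non-commuting elements with a central commutator
  obtain ⟨a, b, hab⟩ : ∃ a b : R, a * b ≠ b * a := by
    by_contra h
    push Not at h
    exact hRna ⟨⟨h⟩⟩
  have hcen : a * b * a⁻¹ * b⁻¹ ∈ Subgroup.center R := by
    haveI : Nontrivial R := Finite.one_lt_card_iff_nontrivial.1 (by omega)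
    haveI := hR3.center_nontrivial
    have hZ : 1 < Nat.card (Subgroup.center R) := Finite.one_lt_card
    have hmul := Subgroup.card_mul_index (Subgroup.center R)
    rw [hR] at hmul
    have hidx : (Subgroup.center R).index ∣ 9 := by
      have hd : Nat.card (Subgroup.center R) ∣ 3 ^ 3 := ⟨_, hmul.symm⟩
      obtain ⟨k, hk, hk'⟩ := (Nat.dvd_prime_pow Nat.prime_three).1 hd
      rw [hk'] at hmul hZ
      rw [show (Subgroup.center R).index = 27 / 3 ^ k by rw [← hmul, Nat.mul_div_cancel_left _ (pow_pos (by norm_num) _)]]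
      interval_cases k <;> first | omega | norm_num
    have hcomm : ∀ u v : R ⧸ Subgroup.center R, u * v = v * u := by
      obtain ⟨k, hk, hk'⟩ := (Nat.dvd_prime_pow Nat.prime_three).1 (show _ ∣ 3 ^ 2 from hidx)
      rw [Subgroup.index] at hk'
      interval_cases k
      · intro u v
        haveI : Subsingleton (R ⧸ Subgroup.center R) := (Nat.card_eq_one_iff_unique.1 (by simpa using hk')).1
        exact Subsingleton.elim _ _
      · haveI := isCyclic_of_prime_card (p := 3) (α := R ⧸ Subgroup.center R) (by simpa using hk')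
        intro u v
        exact (IsCyclic.commGroup (α := R ⧸ Subgroup.center R)).mul_comm u v
      · exact (IsPGroup.commGroupOfCardEqPrimeSq hk').mul_comm
    rw [← QuotientGroup.eq_one_iff, QuotientGroup.mk_mul, QuotientGroup.mk_mul, QuotientGroup.mk_mul, QuotientGroup.mk_inv,
      QuotientGroup.mk_inv, hcomm (a : R ⧸ Subgroup.center R), mul_inv_cancel_right, mul_inv_cancel]
  obtain ⟨c, hc⟩ : ∃ c : G3 F, c = a.1 * b.1 * a.1⁻¹ * b.1⁻¹ := ⟨_, rfl⟩
  have hcR : c ∈ R := hc ▸ (a * b * a⁻¹ * b⁻¹).2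
  have hca : c * a.1 = a.1 * c := by
    rw [hc]; exact congrArg Subtype.val ((Subgroup.mem_center_iff.1 hcen a).symm)
  have hcb : c * b.1 = b.1 * c := by
    rw [hc]; exact congrArg Subtype.val ((Subgroup.mem_center_iff.1 hcen b).symm)
  have hc1 : c ≠ 1 := fun h => hab (Subtype.ext (by
    rw [hc, mul_inv_eq_one, mul_inv_eq_iff_eq_mul] at h
    exact h))
  obtain ⟨t, ht3, htc⟩ := exists_diag p (by norm_num) hcop hz c (hx3 c hcR)
  obtain ⟨Q, hQ⟩ := isConj_iff.1 htc
  have hscal : ∀ i j, t i = t j := by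
    have hblk : ∀ M : G3 F, M * c = c * M → ∀ r s, t r ≠ t s → (Q * M * Q⁻¹).1 r s = 0 := by
      intro M hM r s hrs
      have e : (Q * M * Q⁻¹) * dg t = dg t * (Q * M * Q⁻¹) := by
        rw [← hQ, show Q * M * Q⁻¹ * (Q * c * Q⁻¹) = Q * (M * c) * Q⁻¹ by group, hM]; group
      have e' := congrArg (fun M : G3 F => M.1 r s) e
      simp only [Units.val_mul (Q * M * Q⁻¹), Units.val_mul (dg t), dg_val, mul_diagonal, diagonal_mul] at e'
      by_contra h0
      exact hrs (Units.ext (mul_left_cancel₀ h0 (e'.trans (mul_comm _ _))).symm)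
    have hdet : t 0 * t 1 * t 2 = 1 := by
      rw [← det_dg, ← hQ, map_mul, map_mul, map_inv, mul_comm (GeneralLinearGroup.det Q), mul_inv_cancel_right, hc]
      simp [mul_comm]
    have hinj : ∀ i j, t i = t j → i ≠ j → ∀ k l, t k = t l := by
      have h01 : t 0 = t 1 → t 0 = t 2 := fun h => by
        rw [← h, ← pow_two] at hdet
        calc t 0 = t 0 * (t 0 ^ 2 * t 2) := by rw [hdet, mul_one]
          _ = t 2 := by rw [← mul_assoc, ← pow_succ', ht3, one_mul]
      have h02 : t 0 = t 2 → t 0 = t 1 := fun h => by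
        rw [← h, mul_right_comm, ← pow_two] at hdet
        calc t 0 = t 0 * (t 0 ^ 2 * t 1) := by rw [hdet, mul_one]
          _ = t 1 := by rw [← mul_assoc, ← pow_succ', ht3, one_mul]
      have h12 : t 1 = t 2 → t 0 = t 1 := fun h => by
        rw [← h, mul_assoc, ← pow_two] at hdet
        calc t 0 = (t 0 * t 1 ^ 2) * t 1 := by rw [mul_assoc, ← pow_succ, ht3, mul_one]
          _ = t 1 := by rw [hdet, one_mul]
      intro i j hij hne
      have : t 0 = t 1 ∧ t 0 = t 2 := by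
        fin_cases i <;> fin_cases j <;> simp at hne hij ⊢ <;>
          first
          | exact ⟨hij, h01 hij⟩
          | exact ⟨hij.symm, h01 hij.symm⟩
          | exact ⟨h02 hij, hij⟩
          | exact ⟨h02 hij.symm, hij.symm⟩
          | exact ⟨h12 hij, h01 (h12 hij)⟩
          | exact ⟨h12 hij.symm, h01 (h12 hij.symm)⟩
      have hall : ∀ m, t m = t 0 := fun m => by
        fin_cases m <;> first | rfl | exact this.1.symm | exact this.2.symm
      exact fun k l => (hall k).trans (hall l).symm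
    by_cases hns : ∃ i j, i ≠ j ∧ t i = t j
    · obtain ⟨i, j, hne, hij⟩ := hns
      exact hinj i j hij hne
    push Not at hns
    refine absurd ?_ hc1
    have hd : ∀ M : G3 F, M * c = c * M → (Q * M * Q⁻¹).1 = diagonal fun i => (Q * M * Q⁻¹).1 i i := fun M hM => by
      ext r s
      rcases eq_or_ne r s with rfl | h
      · simp
      · rw [diagonal_apply_ne _ h, hblk M hM r s (hns r s h)]
    have e : Q * a.1 * Q⁻¹ * (Q * b.1 * Q⁻¹) = Q * b.1 * Q⁻¹ * (Q * a.1 * Q⁻¹) := Units.ext (by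
      rw [Units.val_mul (Q * a.1 * Q⁻¹), Units.val_mul (Q * b.1 * Q⁻¹), hd _ hca.symm, hd _ hcb.symm,
        diagonal_mul_diagonal, diagonal_mul_diagonal]
      congr 1; funext i; ring)
    simp only [mul_assoc, inv_mul_cancel_left, mul_left_cancel_iff] at e
    rw [hc, mul_inv_eq_one, mul_inv_eq_iff_eq_mul]
    simp only [← mul_assoc, mul_right_cancel_iff] at e
    exact e
  obtain ⟨w, hw⟩ : ∃ w, w = t 0 := ⟨_, rfl⟩
  have htw : t = fun _ => w := funext fun i => hw ▸ hscal i 0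
  have hcw : c = dg (fun _ => w) := by
    have hcomm : ∀ g : G3 F, g * dg (fun _ => w) = dg (fun _ => w) * g := fun g => Units.ext (by
      rw [Units.val_mul, Units.val_mul, dg_val]
      ext r s; rw [mul_diagonal, diagonal_mul]; ring)
    rw [← htw] at hcomm ⊢
    calc c = Q⁻¹ * (Q * c * Q⁻¹) * Q := by group
      _ = dg t := by rw [hQ, hcomm, inv_mul_cancel_right]
  have hw1 : w ≠ 1 := fun h => hc1 (by rw [hcw, h]; exact map_one dg)
  have hw3 : w ^ 3 = 1 := hw ▸ ht3 0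
  have hwp : IsPrimitiveRoot w 3 := (orderOf_eq_prime hw3 hw1) ▸ IsPrimitiveRoot.orderOf w
  have hwF : (w : F) ^ 3 = 1 := by rw [← Units.val_pow_eq_pow_val, hw3]; rfl
  have hwF1 : (w : F) ≠ 1 := fun h => hw1 (Units.ext h)
  have hwsum : 1 + (w : F) + (w : F) ^ 2 = 0 := by
    have : ((w : F) - 1) * (1 + (w : F) + (w : F) ^ 2) = 0 := by linear_combination hwF
    exact (mul_eq_zero.1 this).resolve_left (sub_ne_zero.2 hwF1)
  have hdd3 : dd w ^ 3 = 1 := by
    rw [dd, ← map_pow, show (![1, w, w ^ 2] : Fin 3 → Fˣ) ^ 3 = 1 by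
      funext i; fin_cases i <;> simp [hw3, ← pow_mul, show w ^ 6 = 1 by rw [show 6 = 3 * 2 from rfl, pow_mul, hw3, one_pow]], map_one]
  -- the first generator
  have hab' : a.1 * b.1 = dg (fun _ => w) * (b.1 * a.1) := by rw [← hcw, hc]; group
  obtain ⟨u, hu3, huc⟩ := exists_diag p (by norm_num) hcop hz a.1 (hx3 _ a.2)
  have htr : (a.1).1.trace = 0 := by
    have e : (b.1⁻¹ * a.1 * b.1).1.trace = (w : F) * (a.1).1.trace := by
      rw [mul_assoc, hab', Units.val_mul, Units.val_mul, dg_val, ← smul_one_eq_diagonal, smul_mul_assoc, one_mul,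
        mul_smul_comm, trace_smul, smul_eq_mul, ← Units.val_mul, inv_mul_cancel_left]
    rw [Units.val_mul, Units.val_mul, trace_units_conj'] at e
    exact (mul_eq_zero.1 (show ((w : F) - 1) * _ = 0 by linear_combination -e)).resolve_left (sub_ne_zero.2 hwF1)
  have hch : (a.1).1.charpoly = (dd w).1.charpoly := by
    obtain ⟨Q', hQ'⟩ := isConj_iff.1 huc
    have htr' : (dg u).1.trace = 0 := by
      rw [← hQ', Units.val_mul, Units.val_mul, trace_units_conj, htr]
    have hch' : (a.1).1.charpoly = (dg u).1.charpoly := by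
      rw [← hQ', Units.val_mul, Units.val_mul, Matrix.coe_units_inv, Matrix.charpoly_units_conj]
    rw [hch', dd, dg_val, dg_val, charpoly_diagonal, charpoly_diagonal, Fin.prod_univ_three, Fin.prod_univ_three]
    rw [dg_val, trace_diagonal, Fin.sum_univ_three] at htr'
    have h3 : ∀ i, (u i : F) ^ 3 = 1 := fun i => by rw [← Units.val_pow_eq_pow_val, hu3]; rfl
    have h27 : (3 : F) ≠ 0 := fun h => hp3 ((CharP.ringChar_of_prime_eq_zero Nat.prime_three h).symm.trans (ringChar.eq F p)).symm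
    obtain ⟨x, y, v, hxyv⟩ : ∃ x y v : F, x = (u 0 : F) ∧ y = (u 1 : F) ∧ v = (u 2 : F) := ⟨_, _, _, rfl, rfl, rfl⟩
    obtain ⟨hx, hy, hv⟩ := hxyv
    rw [← hx, ← hy, ← hv] at htr' ⊢
    have hx3' : x ^ 3 = 1 := hx ▸ h3 0
    have hy3' : y ^ 3 = 1 := hy ▸ h3 1
    have hv3' : v ^ 3 = 1 := hv ▸ h3 2
    have e2 : x * y + x * v + y * v = 0 := by
      have : (3 : F) * (x * y * (x * y + x * v + y * v)) = 0 := by
        rw [show v = -x - y by linear_combination htr'] at hv3' ⊢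
        grobner
      rcases mul_eq_zero.1 this with h | h
      · exact absurd h h27
      · exact (mul_eq_zero.1 h).resolve_left (mul_ne_zero (fun h0 => by simp [h0] at hx3') (fun h0 => by simp [h0] at hy3'))
    have e3 : x * y * v = 1 := by
      have : (3 : F) * (x * y * v) = 3 := by
        rw [show v = -x - y by linear_combination htr'] at hv3' ⊢
        linear_combination hv3' + hx3' + hy3'
      exact mul_left_cancel₀ h27 (this.trans (mul_one 3).symm)
    simp only [Fin.isValue, Matrix.cons_val_zero, Matrix.cons_val_one, Matrix.cons_val_two, Matrix.tail_cons, Matrix.head_cons,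
      Units.val_one, Units.val_pow_eq_pow_val, map_one, map_pow]
    have k1 : Polynomial.C x + Polynomial.C y + Polynomial.C v = 0 := by rw [← map_add, ← map_add, htr', map_zero]
    have k2 : Polynomial.C x * Polynomial.C y + Polynomial.C x * Polynomial.C v + Polynomial.C y * Polynomial.C v = 0 := by
      rw [← map_mul, ← map_mul, ← map_mul, ← map_add, ← map_add, e2, map_zero]
    have k3 : Polynomial.C x * Polynomial.C y * Polynomial.C v = 1 := by rw [← map_mul, ← map_mul, e3, map_one]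
    have k4 : (1 : Polynomial F) + Polynomial.C (w : F) + Polynomial.C (w : F) ^ 2 = 0 := by
      rw [← map_pow, ← Polynomial.C_1, ← map_add, ← map_add, hwsum, map_zero]
    have k5 : Polynomial.C (w : F) ^ 3 = 1 := by rw [← map_pow, hwF, map_one]
    grobner
  have haU : a.1 ∈ U := hRU a.2
  have hwNm : w ∈ Nm := ((hU.dgm _).1 (hcw ▸ hRU hcR)) 0
  have hddU : dd w ∈ U := (hU.dgm _).2 fun i => by fin_cases i <;> [exact one_mem _; exact hwNm; exact pow_mem hwNm 2]
  have hss : ∀ M : G3 F, M ^ 3 = 1 → Module.End.IsSemisimple (Matrix.toLin' M.1) := fun M hM =>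
    SemisimpleCl.isSemisimple_of_pow p (m := 3) (by rw [← Units.val_pow_eq_pow_val, hM, Units.val_one]) hcop
  haveI := Fintype.ofFinite F
  obtain ⟨P0, hP0⟩ := SemisimpleCl.exists_conjugator (hss _ (hx3 _ a.2)) (hss _ hdd3) hch
  obtain ⟨P1, hP1, hP1e⟩ := hU.conj _ haU _ hddU (isConj_iff.2 ⟨P0, by rw [mul_inv_eq_iff_eq_mul]; exact Units.ext hP0⟩)
  -- the second generator is monomial
  obtain ⟨B, hB⟩ : ∃ B, B = P1 * b.1 * P1⁻¹ := ⟨_, rfl⟩
  have hBU : B ∈ U := hB ▸ mul_mem (mul_mem hP1 (hRU b.2)) (inv_mem hP1)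
  have hcent : ∀ g : G3 F, g * dg (fun _ => w) = dg (fun _ => w) * g := fun g => Units.ext (by
    rw [Units.val_mul, Units.val_mul, dg_val]
    ext r s; rw [mul_diagonal, diagonal_mul]; ring)
  have hDB : dd w * B = dg (fun _ => w) * (B * dd w) := by
    rw [← hP1e, hB, show P1 * a.1 * P1⁻¹ * (P1 * b.1 * P1⁻¹) = P1 * (a.1 * b.1) * P1⁻¹ by group, hab']
    simp only [← mul_assoc]
    rw [hcent P1]
    group
  have hsupp : ∀ r s : Fin 3, (r : ℕ) ≠ ((s : ℕ) + 1) % 3 → B.1 r s = 0 := by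
    intro r s hrs
    have e := congrArg (fun M : G3 F => M.1 r s) hDB
    simp only [Units.val_mul, dd, dg_val, diagonal_mul, mul_diagonal] at e
    by_contra h0
    have e' : ((![1, w, w ^ 2] r : Fˣ) : F) = (w : F) * ((![1, w, w ^ 2] s : Fˣ) : F) :=
      mul_right_cancel₀ h0 (e.trans (by ring))
    have hw0 : (w : F) ≠ 0 := w.ne_zero
    fin_cases r <;> fin_cases s <;> simp at hrs e' <;>
      first
      | exact hw1 e'
      | exact hw1 e'.symm
      | exact hwF1 e'.symm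
      | exact hwF1 e'
      | exact hwF1 (mul_left_cancel₀ hw0 (by linear_combination -e'))
      | exact hwF1 (mul_left_cancel₀ hw0 (by linear_combination e'))
      | exact hwF1 (by linear_combination e' + hwF)
      | exact hwF1 (by linear_combination -e' + hwF)
      | exact hwF1 (mul_left_cancel₀ (mul_ne_zero hw0 hw0) (by linear_combination -e'))
      | exact hwF1 (mul_left_cancel₀ (mul_ne_zero hw0 hw0) (by linear_combination e'))
      | exact hwF1 (by linear_combination -(w : F) * e' + hwF)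
      | exact hwF1 (by linear_combination (w : F) * e' + hwF)
      | exact Or.elim e' hw1 (fun h => hwF1 (by
          have h' : (w : F) = -1 := by rw [h, Units.val_neg, Units.val_one]
          linear_combination hwF + ((w : F) - (w : F) ^ 2) * h'))
  obtain ⟨v, hv⟩ : ∃ v : G3 F, v = B * cyc⁻¹ := ⟨_, rfl⟩
  have hvU : v ∈ U := hv ▸ mul_mem hBU (inv_mem hU.cycm)
  have hvd : v.1 = diagonal fun i => v.1 i i := by
    ext r s
    rcases eq_or_ne r s with rfl | h
    · simp
    rw [diagonal_apply_ne _ h, hv, Units.val_mul]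
    fin_cases r <;> fin_cases s <;> first | exact absurd rfl h | simp [cyc, Matrix.mul_apply, Fin.sum_univ_three, hsupp]
  have hvne : ∀ i, v.1 i i ≠ 0 := fun i h => by
    have hd : v.1.det = 0 := by rw [hvd, det_diagonal]; exact Finset.prod_eq_zero (Finset.mem_univ i) h
    exact ((Matrix.isUnit_iff_isUnit_det _).1 v.isUnit).ne_zero hd
  obtain ⟨u', hu'⟩ : ∃ u' : Fin 3 → Fˣ, v = dg u' := ⟨fun i => Units.mk0 _ (hvne i), Units.ext (by rw [dg_val]; exact hvd)⟩
  have huNm : ∀ i, u' i ∈ Nm := (hU.dgm _).1 (hu' ▸ hvU)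
  have hBe : B = dg u' * cyc := by rw [← hu', hv, inv_mul_cancel_right]
  have hprod : u' 0 * u' 1 * u' 2 = 1 := by
    have hB3 : B ^ 3 = 1 := by
      rw [hB, conj_pow, hx3 _ b.2, mul_one, mul_inv_cancel]
    have e := congrArg (fun g : G3 F => g.1 0 0) hB3
    simp only [hBe, pow_succ, pow_zero, one_mul, Units.val_mul, dg_val, Units.val_one, one_apply_eq] at e
    simp [cyc, Matrix.mul_apply, Fin.sum_univ_three, diagonal] at e
    exact Units.ext (by push_cast; linear_combination e)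
  let v' : Fin 3 → Fˣ := ![1, u' 1, u' 1 * u' 2]
  have hv'U : dg v' ∈ U := (hU.dgm _).2 fun i => by
    fin_cases i <;> [exact one_mem _; exact huNm 1; exact mul_mem (huNm 1) (huNm 2)]
  have hconjC : dg v' * cyc * (dg v')⁻¹ = B := by
    rw [mul_inv_eq_iff_eq_mul, hBe, mul_assoc, cyc_dg, ← mul_assoc, ← map_mul]
    congr 2
    funext i
    fin_cases i <;> simp [v']
    all_goals first | (rw [mul_comm]; done) | (rw [← mul_assoc, hprod]; done) | (rw [← hprod]; ac_rfl)
  refine ⟨w, hwp, P1⁻¹ * dg v', mul_mem (inv_mem hP1) hv'U, ?_, ?_, ?_⟩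
  · have e : dg v' * dd w * (dg v')⁻¹ = dd w := by
      rw [dd, ← map_mul, ← map_inv, ← map_mul, mul_comm v', mul_inv_cancel_right]
    rw [show P1⁻¹ * dg v' * dd w * (P1⁻¹ * dg v')⁻¹ = P1⁻¹ * (dg v' * dd w * (dg v')⁻¹) * P1 by group, e, ← hP1e]
    simpa [mul_assoc] using a.2
  · rw [show P1⁻¹ * dg v' * cyc * (P1⁻¹ * dg v')⁻¹ = P1⁻¹ * (dg v' * cyc * (dg v')⁻¹) * P1 by group, hconjC, hB]
    simpa [mul_assoc] using b.2
  · rw [hcent, mul_inv_cancel_right, ← hcw]
    exact hcR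

/-- The standing data of the normaliser. -/
structure Std (U : Subgroup (G3 F)) (R : Subgroup (G3 F)) (P : G3 F) (w : Fˣ) : Prop where
  prim : IsPrimitiveRoot w 3
  mem : P ∈ U
  dmem : P * dd w * P⁻¹ ∈ R
  cmem : P * cyc * P⁻¹ ∈ R
  wmem : P * dg (fun _ => w) * P⁻¹ ∈ R

theorem central (t : Fˣ) (g : G3 F) : g * dg (fun _ => t) = dg (fun _ => t) * g := Units.ext (by
  rw [Units.val_mul, Units.val_mul, dg_val]
  ext r s; rw [mul_diagonal, diagonal_mul]; ring)

theorem eq_dg_const {x : G3 F} {z : F} (hx : x.1 = z • (1 : Matrix (Fin 3) (Fin 3) F)) :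
    ∃ u : Fˣ, (u : F) = z ∧ x = dg (fun _ => u) := by
  have hz : z ≠ 0 := fun h => by
    rw [h, zero_smul] at hx
    exact x.ne_zero hx
  exact ⟨Units.mk0 z hz, rfl, Units.ext (by rw [hx, dg_val, smul_one_eq_diagonal]; rfl)⟩

/-- The two generators generate. -/
theorem eq_of_gen {R : Subgroup (G3 F)} (hR : Nat.card R = 27) {P : G3 F} {w : Fˣ} (hS : Std U R P w) {W : Subgroup (G3 F)}
    (hWR : W ≤ R) (hWd : P * dd w * P⁻¹ ∈ W) (hWc : P * cyc * P⁻¹ ∈ W) : W = R := by
  haveI : Finite R := Nat.finite_of_card_ne_zero (by omega)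
  have hne : P * dd w * P⁻¹ * (P * cyc * P⁻¹) ≠ P * cyc * P⁻¹ * (P * dd w * P⁻¹) := by
    intro h
    simp only [mul_assoc, inv_mul_cancel_left, mul_left_cancel_iff] at h
    simp only [← mul_assoc, mul_right_cancel_iff] at h
    have e := congrArg (fun g : G3 F => g.1 1 0) h
    simp [dd, dg_val, cyc, Matrix.mul_apply, Fin.sum_univ_three, diagonal] at e
    exact hS.prim.ne_one (by norm_num) e
  have hcard : Nat.card W = 27 := by
    haveI : Finite W := Finite.of_injective (fun x => (⟨x.1, hWR x.2⟩ : R)) fun a b h => Subtype.ext (congrArg (fun x : R => x.1) h)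
    obtain ⟨k, hk, hk'⟩ := (Nat.dvd_prime_pow Nat.prime_three).1 (show Nat.card W ∣ 3 ^ 3 from by
      have := Subgroup.card_dvd_of_le hWR; rw [hR] at this; exact this.trans (dvd_of_eq (by norm_num)))
    rcases Nat.lt_or_ge k 3 with hk3 | hk3
    · exfalso
      refine hne (congrArg Subtype.val (?_ : (⟨_, hWd⟩ : W) * ⟨_, hWc⟩ = ⟨_, hWc⟩ * ⟨_, hWd⟩))
      haveI : Fact (Nat.Prime 3) := ⟨Nat.prime_three⟩
      interval_cases k
      · haveI : Subsingleton W := (Nat.card_eq_one_iff_unique.1 (by simpa using hk')).1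
        exact Subsingleton.elim _ _
      · haveI := isCyclic_of_prime_card (p := 3) (α := W) (by simpa using hk')
        exact (IsCyclic.commGroup (α := W)).mul_comm _ _
      · exact (IsPGroup.commGroupOfCardEqPrimeSq hk').mul_comm _ _
    · rw [hk', show k = 3 by omega]; norm_num
  exact Subgroup.eq_of_le_of_card_ge hWR (by omega)

/-- A test for membership of the normaliser. -/
theorem mem_normalizer {R : Subgroup (G3 F)} (hR : Nat.card R = 27) {P : G3 F} {w : Fˣ} (hS : Std U R P w) {n : G3 F}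
    (h1 : n * (P * dd w * P⁻¹) * n⁻¹ ∈ R) (h2 : n * (P * cyc * P⁻¹) * n⁻¹ ∈ R) :
    n ∈ Cfsg.Geo.subgroupNormalizer R := by
  haveI : Finite R := Nat.finite_of_card_ne_zero (by omega)
  have hW : R ⊓ R.comap (MulAut.conj n).toMonoidHom = R := eq_of_gen hR hS inf_le_left ⟨hS.dmem, h1⟩ ⟨hS.cmem, h2⟩
  have hall : ∀ x ∈ R, n * x * n⁻¹ ∈ R := fun x hx => (hW.ge hx).2
  show n ∈ Subgroup.normalizer (R : Set (G3 F))
  rw [Subgroup.mem_normalizer_iff]
  intro x
  refine ⟨hall x, fun hx => ?_⟩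
  let f : R → R := fun y => ⟨n * y.1 * n⁻¹, hall _ y.2⟩
  have hf : Function.Injective f := fun a b h => Subtype.ext (by simpa [f] using congrArg (fun x : R => x.1) h)
  obtain ⟨y, hy⟩ := (Finite.injective_iff_surjective.1 hf) ⟨_, hx⟩
  have e : n * y.1 * n⁻¹ = n * x * n⁻¹ := congrArg (fun x : R => x.1) hy
  exact mul_left_cancel (mul_right_cancel e) ▸ y.2

theorem const_normalizes (R : Subgroup (G3 F)) (t : Fˣ) : dg (fun _ => t) ∈ Cfsg.Geo.subgroupNormalizer R := by
  show _ ∈ Subgroup.normalizer (R : Set (G3 F))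
  rw [Subgroup.mem_normalizer_iff]
  intro x
  rw [← central, mul_inv_cancel_right]

theorem const_mem (hU : Amb U Nm) {t : Fˣ} (ht : t ∈ Nm) (ht3 : t ^ 3 = 1) : dg (fun _ => t) ∈ U ⊓ S₃ :=
  ⟨(hU.dgm _).2 fun _ => ht, by
    show GeneralLinearGroup.det _ = 1
    rw [det_dg, ← ht3]; simp [pow_succ]⟩

theorem conj_mem (hU : Amb U Nm) {P n : G3 F} (hP : P ∈ U) (hn : n ∈ U) (hd : GeneralLinearGroup.det n = 1) :
    P * n * P⁻¹ ∈ U ⊓ S₃ :=
  ⟨U.mul_mem (U.mul_mem hP hn) (U.inv_mem hP), by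
    show GeneralLinearGroup.det _ = 1
    rw [map_mul, map_mul, map_inv, hd, mul_one, mul_inv_cancel]⟩

theorem pow_scalar {x : G3 F} (hx : x ∈ U ⊓ S₃) {r : ℕ} (h : ∃ z : F, (x ^ r).1 = z • (1 : Matrix (Fin 3) (Fin 3) F)) :
    ∃ u : Fˣ, x ^ r = dg (fun _ => u) ∧ u ^ 3 = 1 := by
  obtain ⟨z, hz⟩ := h
  obtain ⟨u, -, hu⟩ := eq_dg_const hz
  refine ⟨u, hu, ?_⟩
  have e := det_one (pow_mem hx.2 r)
  rw [hu, det_dg] at e
  rw [← e]; simp [pow_succ]

/-- Every involution of the quotient has a fixed point. -/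
theorem fixes_two [Finite F] (hU : Amb U Nm) (p : ℕ) [Fact p.Prime] [CharP F p] (hp2 : p ≠ 2) (hneg : (-1 : Fˣ) ∈ Nm)
    {R : Subgroup (G3 F)} (hR : Nat.card R = 27) {P : G3 F} {w : Fˣ} (hS : Std U R P w) {x : G3 F} (hx : x ∈ U ⊓ S₃)
    (hxz : ∃ z : F, (x ^ 2).1 = z • (1 : Matrix (Fin 3) (Fin 3) F))
    (hns : ∀ z : F, x.1 ≠ z • (1 : Matrix (Fin 3) (Fin 3) F)) :
    ∃ g ∈ U ⊓ S₃, g⁻¹ * x * g ∈ Cfsg.Geo.subgroupNormalizer R := by
  classical
  obtain ⟨u, hu, hu3⟩ := pow_scalar hx hxz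
  have huN : u ∈ Nm := (hU.dgm _).1 (hu ▸ pow_mem hx.1 2) 0
  obtain ⟨y, hy⟩ : ∃ y, y = dg (fun _ => u) * x := ⟨_, rfl⟩
  have hyU : y ∈ U ⊓ S₃ := hy ▸ mul_mem (const_mem hU huN hu3) hx
  have hy2 : y ^ 2 = 1 := by
    rw [hy, (show Commute (dg fun _ => u) x from (central u x).symm).mul_pow, hu, ← map_pow, ← map_mul,
      show ((fun _ => u) ^ 2 * fun _ => u : Fin 3 → Fˣ) = 1 from funext fun _ => by simpa [pow_succ] using hu3, map_one]
  have hy1 : y ≠ 1 := fun h => hns ((u⁻¹ : Fˣ) : F) (by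
    rw [hy, mul_eq_one_iff_inv_eq] at h
    rw [← h, ← map_inv, dg_val, smul_one_eq_diagonal]
    rfl)
  have key : ∀ v : G3 F, v ^ 2 = 1 → v ≠ 1 → GeneralLinearGroup.det v = 1 → IsConj v (dg ![1, -1, -1]) := by
    intro v hv hv1 hvd
    have hcop : Nat.Coprime 2 p := (Nat.coprime_primes Nat.prime_two Fact.out).2 (Ne.symm hp2)
    have h2 : IsPrimitiveRoot (-1 : F) 2 := IsPrimitiveRoot.neg_one p hp2
    obtain ⟨t, ht, htc⟩ := exists_diag p two_pos hcop h2 v hv
    obtain ⟨Q, hQ⟩ := isConj_iff.1 htc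
    have htd : t 0 * t 1 * t 2 = 1 := by
      rw [← det_dg, ← hQ, map_mul, map_mul, map_inv, hvd, mul_one, mul_inv_cancel]
    have hne : t ≠ 1 := fun h => hv1 (by
      rw [h, map_one, mul_inv_eq_one] at hQ
      exact mul_left_cancel (hQ.trans (mul_one Q).symm))
    have hcases : ∀ i, t i = 1 ∨ t i = -1 := fun i => by
      have e := congrArg Units.val (ht i)
      rw [Units.val_pow_eq_pow_val, Units.val_one, sq_eq_one_iff] at e
      rcases e with e | e
      · exact Or.inl (Units.ext e)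
      · exact Or.inr (Units.ext (by rw [e, Units.val_neg, Units.val_one]))
    have hm : (-1 : Fˣ) ≠ 1 := fun h => by
      have e := congrArg Units.val h
      rw [Units.val_neg, Units.val_one] at e
      exact h2.ne_one (by norm_num) e
    refine htc.trans ?_
    have hrot : ∀ a b c : Fˣ, IsConj (dg ![a, b, c]) (dg ![c, a, b]) := fun a b c =>
      isConj_iff.2 ⟨cyc, by rw [cyc_dg, mul_inv_cancel_right]; simp⟩
    rw [show t = ![t 0, t 1, t 2] from funext fun i => by fin_cases i <;> rfl]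
    rcases hcases 0 with h0 | h0 <;> rcases hcases 1 with h1 | h1 <;> rcases hcases 2 with h2' | h2' <;>
      rw [h0, h1, h2'] at htd ⊢
    all_goals first
      | exact IsConj.refl _
      | exact (hrot _ _ _).trans (IsConj.refl _)
      | exact (hrot _ _ _).trans (hrot _ _ _)
      | exact absurd (by simpa using htd) hm
      | exact absurd (funext fun i => by fin_cases i <;> assumption) hne
  have hinv : inv3 ^ 2 = (1 : G3 F) := Units.ext (by
    rw [Units.val_pow_eq_pow_val, pow_two, Units.val_one]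
    ext i j; fin_cases i <;> fin_cases j <;> simp [inv3, Matrix.mul_apply, Fin.sum_univ_three])
  have hdinv : GeneralLinearGroup.det (inv3 : G3 F) = 1 := Units.ext (by
    show (inv3 : G3 F).1.det = 1
    simp [inv3, det_fin_three])
  have hinv1 : (inv3 : G3 F) ≠ 1 := fun h => by
    have e := congrArg (fun g : G3 F => g.1 1 1) h
    simp [inv3] at e
  have hm : P * inv3 * P⁻¹ ∈ U ⊓ S₃ := conj_mem hU hS.mem hU.invm hdinv
  obtain ⟨g, hg, hge⟩ := sconj hU (t := ![1, -1, -1]) (fun i => by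
      fin_cases i <;> [exact one_mem _; exact hneg; exact hneg]) hyU hm (key y hy2 hy1 (det_one hyU.2))
    ((isConj_iff.2 ⟨P⁻¹, by group⟩ : IsConj (P * inv3 * P⁻¹) inv3).trans (key _ hinv hinv1 hdinv))
  refine ⟨g, hg, ?_⟩
  have e : g⁻¹ * x * g = dg (fun _ => u⁻¹) * (P * inv3 * P⁻¹) := by
    rw [← hge, hy, ← mul_assoc (dg fun _ => u⁻¹), ← mul_assoc (dg fun _ => u⁻¹), ← central u⁻¹ g⁻¹, ← mul_assoc,
      mul_assoc g⁻¹ (dg fun _ => u⁻¹), ← map_mul, show ((fun _ => u⁻¹) * fun _ => u : Fin 3 → Fˣ) = 1 from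
        funext fun _ => inv_mul_cancel u, map_one, mul_one]
  rw [e]
  refine mul_mem (const_normalizes R _) (mem_normalizer hR hS ?_ ?_)
  · have e1 : inv3 * dd w * (inv3 : G3 F)⁻¹ = dd w * dd w := by
      rw [mul_inv_eq_iff_eq_mul]
      refine Units.ext ?_
      have hw3 : (w : F) ^ 3 = 1 := by rw [← Units.val_pow_eq_pow_val, hS.prim.pow_eq_one]; rfl
      ext i j
      fin_cases i <;> fin_cases j <;> simp [inv3, dd, dg_val, Matrix.mul_apply, Fin.sum_univ_three, diagonal] <;> grobner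
    rw [show P * inv3 * P⁻¹ * (P * dd w * P⁻¹) * (P * inv3 * P⁻¹)⁻¹ = P * (inv3 * dd w * inv3⁻¹) * P⁻¹ by group, e1,
      conj_mul.symm]
    exact mul_mem hS.dmem hS.dmem
  · have e1 : inv3 * cyc * (inv3 : G3 F)⁻¹ = cyc⁻¹ := by
      rw [mul_inv_eq_iff_eq_mul]
      refine Units.ext ?_
      ext i j
      fin_cases i <;> fin_cases j <;> simp [inv3, cyc, Matrix.mul_apply, Fin.sum_univ_three]
    rw [show P * inv3 * P⁻¹ * (P * cyc * P⁻¹) * (P * inv3 * P⁻¹)⁻¹ = P * (inv3 * cyc * inv3⁻¹) * P⁻¹ by group, e1,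
      ← conj_inv]
    exact inv_mem hS.cmem

/-- Every element of order three of the quotient has a fixed point. -/
theorem fixes_three [Finite F] (hU : Amb U Nm) (p : ℕ) [Fact p.Prime] [CharP F p] (hp3 : p ≠ 3) {ζ : F}
    (hζ : IsPrimitiveRoot ζ 9) (hN9 : ∀ t : Fˣ, t ^ 9 = 1 → t ∈ Nm)
    {R : Subgroup (G3 F)} (hR : Nat.card R = 27) {P : G3 F} {w : Fˣ} (hS : Std U R P w) {x : G3 F} (hx : x ∈ U ⊓ S₃)
    (hxz : ∃ z : F, (x ^ 3).1 = z • (1 : Matrix (Fin 3) (Fin 3) F)) :
    ∃ g ∈ U ⊓ S₃, g⁻¹ * x * g ∈ Cfsg.Geo.subgroupNormalizer R := by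
  classical
  obtain ⟨u, hu, hu3⟩ := pow_scalar hx hxz
  have h9 : x ^ 9 = 1 := by
    rw [show 9 = 3 * 3 from rfl, pow_mul, hu, ← map_pow, show ((fun _ => u) ^ 3 : Fin 3 → Fˣ) = 1 from funext fun _ => hu3,
      map_one]
  have hcop : Nat.Coprime 9 p := by
    rw [show (9 : ℕ) = 3 ^ 2 from rfl]
    exact Nat.Coprime.pow_left 2 ((Nat.coprime_primes Nat.prime_three Fact.out).2 (Ne.symm hp3))
  obtain ⟨t, ht, htc⟩ := exists_diag p (by norm_num) hcop hζ x h9
  obtain ⟨Q, hQ⟩ := isConj_iff.1 htc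
  have ht3 : ∀ i, t i ^ 3 = u := by
    have e : dg (t ^ 3) = dg (fun _ => u) := by
      rw [map_pow, ← hQ, conj_pow, hu, central, mul_inv_cancel_right]
    intro i
    have e' := congrArg (fun g : G3 F => g.1 i i) e
    simp only [dg_val, diagonal_apply_eq] at e'
    exact Units.ext e'
  have htd : GeneralLinearGroup.det (dg t) = 1 := by
    rw [← hQ, map_mul, map_mul, map_inv, det_one hx.2, mul_one, mul_inv_cancel]
  have htN : ∀ i, t i ∈ Nm := fun i => hN9 _ (ht i)
  have hm : P * dg t * P⁻¹ ∈ U ⊓ S₃ := conj_mem hU hS.mem ((hU.dgm t).2 htN) htd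
  obtain ⟨g, hg, hge⟩ := sconj hU htN hx hm htc (isConj_iff.2 ⟨P⁻¹, by group⟩)
  refine ⟨g, hg, ?_⟩
  rw [hge]
  refine mem_normalizer hR hS ?_ ?_
  · have e1 : dg t * dd w * (dg t)⁻¹ = dd w := by
      rw [dd, ← map_mul, ← map_inv, ← map_mul, mul_comm t, mul_inv_cancel_right]
    rw [show P * dg t * P⁻¹ * (P * dd w * P⁻¹) * (P * dg t * P⁻¹)⁻¹ = P * (dg t * dd w * (dg t)⁻¹) * P⁻¹ by group, e1]
    exact hS.dmem
  · obtain ⟨s, hs⟩ : ∃ s : Fin 3 → Fˣ, s = ![t 0 / t 2, t 1 / t 0, t 2 / t 1] := ⟨_, rfl⟩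
    have e1 : dg t * cyc * (dg t)⁻¹ = dg s * cyc := by
      rw [mul_inv_eq_iff_eq_mul, mul_assoc, cyc_dg, ← mul_assoc, ← map_mul, hs]
      congr 2
      funext i; fin_cases i <;> simp
    have hpow : ∀ v : Fˣ, v ^ 3 = 1 → ∃ a : ℕ, v = w ^ a := fun v hv => by
      have hwF : IsPrimitiveRoot (w : F) 3 := hS.prim.map_of_injective (f := Units.coeHom F) Units.val_injective
      obtain ⟨a, -, ha⟩ := hwF.eq_pow_of_pow_eq_one (ξ := (v : F)) (by rw [← Units.val_pow_eq_pow_val, hv]; rfl)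
      exact ⟨a, Units.ext (by rw [Units.val_pow_eq_pow_val, ha])⟩
    have hs3 : ∀ i, s i ^ 3 = 1 := fun i => by
      fin_cases i <;> simp [hs, div_pow, ht3]
    obtain ⟨a, ha⟩ := hpow (s 0) (hs3 0)
    obtain ⟨b, hb⟩ := hpow (s 1 / s 0) (by rw [div_pow, hs3, hs3, div_one])
    have hprod : s 0 * s 1 * s 2 = 1 := by
      rw [hs]
      show t 0 / t 2 * (t 1 / t 0) * (t 2 / t 1) = 1
      rw [mul_comm (t 0 / t 2), div_mul_div_cancel, div_mul_div_cancel, div_self']
    have e2 : dg s = dg (fun _ => w) ^ a * dd w ^ b := by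
      rw [dd, ← map_pow, ← map_pow, ← map_mul]
      congr 1
      funext i
      fin_cases i
      · simp [ha]
      · simp [← hb, ← ha]
      · simp only [Pi.mul_apply, Pi.pow_apply]
        show s 2 = w ^ a * (w ^ 2) ^ b
        rw [← pow_mul, mul_comm 2 b, pow_mul, ← hb, ← ha]
        calc s 2 = (s 0 * s 1 * s 2) * (s 0 * s 1)⁻¹ := by rw [mul_right_comm, mul_inv_cancel, one_mul]
          _ = s 1 ^ 3 * (s 0 * s 1)⁻¹ := by rw [hprod, hs3]
          _ = s 0 * (s 1 / s 0) ^ 2 := by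
            refine Units.ext ?_
            push_cast
            field_simp
    rw [show P * dg t * P⁻¹ * (P * cyc * P⁻¹) * (P * dg t * P⁻¹)⁻¹ = P * (dg t * cyc * (dg t)⁻¹) * P⁻¹ by group, e1, e2,
      conj_mul.symm, conj_mul.symm, ← conj_pow, ← conj_pow]
    exact mul_mem (mul_mem (pow_mem hS.wmem a) (pow_mem hS.dmem b)) hS.cmem

/-- A larger prime gives a derangement. -/
theorem derange [Finite F] (hU : Amb U Nm)
    {R : Subgroup (G3 F)} (hR : Nat.card R = 27) {P : G3 F} {w : Fˣ} (hS : Std U R P w) {r : ℕ} [Fact r.Prime]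
    (hr2 : r ≠ 2) (hr3 : r ≠ 3) (hdvd : r ∣ Nat.card ↥(U ⊓ S₃)) :
    ∃ x ∈ U ⊓ S₃, x ^ r = 1 ∧ (∀ z : F, x.1 ≠ z • (1 : Matrix (Fin 3) (Fin 3) F)) ∧
      ∀ g ∈ U ⊓ S₃, g⁻¹ * x * g ∉ Cfsg.Geo.subgroupNormalizer R := by
  classical
  have hr : r.Prime := Fact.out
  haveI : Finite R := Nat.finite_of_card_ne_zero (by omega)
  obtain ⟨x, hx⟩ := exists_prime_orderOf_dvd_card' r hdvd
  have hxr : x.1 ^ r = 1 := congrArg Subtype.val (hx ▸ pow_orderOf_eq_one x : x ^ r = 1)
  have hx1 : x.1 ≠ 1 := fun h => by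
    rw [show x = 1 from Subtype.ext h, orderOf_one] at hx
    exact hr.one_lt.ne hx
  have hscal : ∀ y ∈ U ⊓ S₃, y ^ r = 1 → ∀ u : Fˣ, y = dg (fun _ => u) → y = 1 := by
    intro y hy hyr u hu
    have h3 : u ^ 3 = 1 := by
      have e := det_one hy.2
      rw [hu, det_dg] at e
      rw [← e]; simp [pow_succ]
    have hru : u ^ r = 1 := by
      rw [hu, ← map_pow] at hyr
      have e := congrArg (fun g : G3 F => g.1 0 0) hyr
      simp only [dg_val, diagonal_apply_eq, Units.val_one, one_apply_eq] at e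
      exact Units.ext e
    have hcp : Nat.Coprime r 3 := (Nat.coprime_primes hr Nat.prime_three).2 hr3
    have e : u ^ Nat.gcd r 3 = 1 := (pow_gcd_eq_one).2 ⟨hru, h3⟩
    rw [hcp, pow_one] at e
    rw [hu, e]; exact map_one dg
  refine ⟨x.1, x.2, hxr, fun z hz => ?_, fun g hg hN => ?_⟩
  · obtain ⟨u, -, hu⟩ := eq_dg_const hz
    exact hx1 (hscal _ x.2 hxr u hu)
  obtain ⟨y, hy⟩ : ∃ y, y = g⁻¹ * x.1 * g := ⟨_, rfl⟩
  rw [← hy] at hN
  have hyU : y ∈ U ⊓ S₃ := hy ▸ mul_mem (mul_mem (inv_mem hg) x.2) hg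
  have hyr : y ^ r = 1 := by
    rw [hy, show g⁻¹ * x.1 * g = g⁻¹ * x.1 * g⁻¹⁻¹ by group, conj_pow, hxr]; group
  change y ∈ Subgroup.normalizer (R : Set (G3 F)) at hN
  rw [Subgroup.mem_normalizer_iff] at hN
  let σ : Equiv.Perm R :=
    { toFun := fun a => ⟨y * a.1 * y⁻¹, (hN a.1).1 a.2⟩
      invFun := fun a => ⟨y⁻¹ * a.1 * y, (hN _).2 (by simpa [mul_assoc] using a.2)⟩
      left_inv := fun a => Subtype.ext (by simp [mul_assoc])
      right_inv := fun a => Subtype.ext (by simp [mul_assoc]) }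
  have hσn : ∀ (n : ℕ) (a : R), ((σ ^ n) a).1 = y ^ n * a.1 * (y ^ n)⁻¹ := by
    intro n
    induction n with
    | zero => simp
    | succ n ih =>
      intro a
      rw [pow_succ', Equiv.Perm.mul_apply]
      show y * _ * y⁻¹ = _
      rw [ih, pow_succ' y, _root_.mul_inv_rev]
      group
  haveI := Fintype.ofFinite R
  have hmod := Equiv.Perm.card_compl_support_modEq (p := r) (n := 1) (σ := σ)
    (by rw [pow_one]; exact Equiv.Perm.ext fun a => Subtype.ext (by rw [hσn, hyr]; simp))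
  rw [← Nat.card_eq_fintype_card, hR] at hmod
  let K : Subgroup R :=
    { carrier := {a | y * a.1 * y⁻¹ = a.1}
      mul_mem' := fun {a b} ha hb => by
        show y * (a.1 * b.1) * y⁻¹ = a.1 * b.1
        rw [show y * (a.1 * b.1) * y⁻¹ = (y * a.1 * y⁻¹) * (y * b.1 * y⁻¹) by group, ha, hb]
      one_mem' := by simp
      inv_mem' := fun {a} ha => by
        show y * a.1⁻¹ * y⁻¹ = a.1⁻¹
        rw [show y * a.1⁻¹ * y⁻¹ = (y * a.1 * y⁻¹)⁻¹ by group, ha] }
  have hKc : Nat.card K = σ.supportᶜ.card := by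
    rw [← Fintype.card_coe, ← Nat.card_eq_fintype_card]
    refine Nat.card_congr (Equiv.subtypeEquivRight fun a => ?_)
    rw [Finset.mem_compl, Equiv.Perm.notMem_support]
    exact ⟨fun h => Subtype.ext h, fun h => congrArg (fun b : R => b.1) h⟩
  rw [← hKc] at hmod
  have hK : K = ⊤ := by
    refine Subgroup.eq_top_of_card_eq _ ?_
    rw [hR]
    obtain ⟨k, hk, hk'⟩ := (Nat.dvd_prime_pow Nat.prime_three).1 (show Nat.card K ∣ 3 ^ 3 from by
      have := Subgroup.card_subgroup_dvd_card K; rw [hR] at this; exact this.trans (dvd_of_eq (by norm_num)))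
    rw [hk'] at hmod ⊢
    have hwK : (⟨P * dg (fun _ => w) * P⁻¹, hS.wmem⟩ : R) ∈ K := by
      have e : P * dg (fun _ => w) * P⁻¹ = dg (fun _ => w) := by rw [central, mul_inv_cancel_right]
      show y * (P * dg (fun _ => w) * P⁻¹) * y⁻¹ = P * dg (fun _ => w) * P⁻¹
      simp only [e]
      rw [central, mul_inv_cancel_right]
    have hk0 : k ≠ 0 := fun h => by
      rw [h, pow_zero] at hk'
      have e := congrArg (fun a : R => a.1) ((Subgroup.eq_bot_of_card_eq K hk').le hwK : _)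
      simp only [Subgroup.coe_one] at e
      rw [central, mul_inv_cancel_right] at e
      have e' := congrArg (fun g : G3 F => g.1 0 0) e
      simp [dg_val] at e'
      exact hS.prim.ne_one (by norm_num) e'
    have h23 : ∀ i j, ¬ r ∣ 2 ^ i * 3 ^ j := fun i j h => by
      rcases hr.dvd_mul.1 h with h | h
      · exact hr2 ((Nat.prime_dvd_prime_iff_eq hr Nat.prime_two).1 (hr.dvd_of_dvd_pow h))
      · exact hr3 ((Nat.prime_dvd_prime_iff_eq hr Nat.prime_three).1 (hr.dvd_of_dvd_pow h))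
    have hm := (Nat.modEq_iff_dvd' (Nat.pow_le_pow_right (by norm_num : 0 < 3) hk)).1 hmod
    interval_cases k <;> norm_num at hm ⊢
    · exact absurd rfl hk0
    · exact h23 3 1 (by norm_num; exact hm)
    · exact h23 1 2 (by norm_num; exact hm)
  have hcom : ∀ a ∈ R, y * a = a * y := fun a ha => by
    have h : (⟨a, ha⟩ : R) ∈ K := hK ▸ Subgroup.mem_top _
    exact mul_inv_eq_iff_eq_mul.1 h
  obtain ⟨M, hM⟩ : ∃ M, M = P⁻¹ * y * P := ⟨_, rfl⟩
  have hMd : M * dd w = dd w * M := by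
    rw [hM]
    have := hcom _ hS.dmem
    calc P⁻¹ * y * P * dd w = P⁻¹ * (y * (P * dd w * P⁻¹)) * P := by group
      _ = _ := by rw [this]; group
  have hMc : M * cyc = cyc * M := by
    rw [hM]
    have := hcom _ hS.cmem
    calc P⁻¹ * y * P * cyc = P⁻¹ * (y * (P * cyc * P⁻¹)) * P := by group
      _ = _ := by rw [this]; group
  have hoff : ∀ i j : Fin 3, i ≠ j → M.1 i j = 0 := fun i j hij => by
    have e := congrArg (fun g : G3 F => g.1 i j) hMd
    simp only [Units.val_mul, dd, dg_val, mul_diagonal, diagonal_mul] at e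
    by_contra h0
    have e' : ((![1, w, w ^ 2] j : Fˣ) : F) = ((![1, w, w ^ 2] i : Fˣ) : F) := mul_left_cancel₀ h0 (e.trans (mul_comm _ _))
    have := hS.prim.ne_one (by norm_num)
    have hw2 : w ^ 2 ≠ 1 := hS.prim.pow_ne_one_of_pos_of_lt (by norm_num) (by norm_num)
    have hw12 : w ≠ w ^ 2 := fun h => this (by rw [pow_two] at h; exact (left_eq_mul.1 h))
    have e'' := Units.ext e'
    fin_cases i <;> fin_cases j <;> simp at hij e'' <;>
      first | exact this e'' | exact this e''.symm | exact hw2 e'' | exact hw2 e''.symm | exact hw12 e'' | exact hw12 e''.symm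
  have hdiag : ∀ i, M.1 i i = M.1 0 0 := fun i => by
    have e1 := congrArg (fun g : G3 F => g.1 1 0) hMc
    have e2 := congrArg (fun g : G3 F => g.1 2 1) hMc
    simp [cyc, Matrix.mul_apply, Fin.sum_univ_three, hoff] at e1 e2
    fin_cases i
    · rfl
    · exact e1
    · exact e2.trans e1
  obtain ⟨u, -, hu⟩ := eq_dg_const (x := M) (z := M.1 0 0) (by
    ext i j
    rcases eq_or_ne i j with rfl | h
    · simp [hdiag i]
    · simp [hoff i j h, h])
  have hyu : y = dg (fun _ => u) := by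
    calc y = P * M * P⁻¹ := by rw [hM]; group
      _ = _ := by rw [hu, central, mul_inv_cancel_right]
  have := hscal y hyU hyr u hyu
  rw [hy] at this
  exact hx1 (by
    calc x.1 = g * (g⁻¹ * x.1 * g) * g⁻¹ := by group
      _ = 1 := by rw [this]; group)

theorem det_dd {w : Fˣ} (hw : w ^ 3 = 1) : GeneralLinearGroup.det (dd w) = 1 := by
  rw [dd, det_dg]
  show 1 * w * w ^ 2 = 1
  rw [one_mul, ← pow_succ', hw]

theorem det_cyc : GeneralLinearGroup.det (cyc : G3 F) = 1 := Units.ext (by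
  show (cyc : G3 F).1.det = 1
  simp [cyc, det_fin_three])

/-- The group lies in the special group. -/
theorem le_special {R : Subgroup (G3 F)} (hR : Nat.card R = 27) {P : G3 F} {w : Fˣ} (hS : Std U R P w) :
    R ≤ S₃ := by
  have hmem : ∀ n : G3 F, GeneralLinearGroup.det n = 1 → P * n * P⁻¹ ∈ S₃ := fun n hd => by
    show GeneralLinearGroup.det _ = 1
    rw [map_mul, map_mul, map_inv, hd, mul_one, mul_inv_cancel]
  have h := eq_of_gen hR hS (W := R ⊓ S₃) inf_le_left ⟨hS.dmem, hmem _ (det_dd hS.prim.pow_eq_one)⟩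
    ⟨hS.cmem, hmem _ det_cyc⟩
  exact h ▸ inf_le_right

/-- Three divides the index only if the order of the group is divisible by 81. -/
theorem three_index {R : Subgroup (G3 F)} (hR : Nat.card R = 27) {P : G3 F} {w : Fˣ} (hS : Std U R P w) (hRU : R ≤ U)
    (h : 3 ∣ (Cfsg.Geo.subgroupNormalizer R).relIndex (U ⊓ S₃)) : 81 ∣ Nat.card ↥(U ⊓ S₃) := by
  let f : R →* ↥((Cfsg.Geo.subgroupNormalizer R).subgroupOf (U ⊓ S₃)) :=
    { toFun := fun x => ⟨⟨x.1, hRU x.2, le_special hR hS x.2⟩, Subgroup.le_normalizer x.2⟩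
      map_one' := rfl
      map_mul' := fun a b => rfl }
  have hf : Function.Injective f := fun a b hab => Subtype.ext (congrArg (fun x => x.1.1) hab)
  have h27 : 27 ∣ Nat.card ↥((Cfsg.Geo.subgroupNormalizer R).subgroupOf (U ⊓ S₃)) := hR ▸ Subgroup.card_dvd_of_injective f hf
  rw [← Subgroup.card_mul_index ((Cfsg.Geo.subgroupNormalizer R).subgroupOf (U ⊓ S₃))]
  exact Nat.mul_dvd_mul h27 h

end Cfsg.Agent.LBHeis
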