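/-
Large primitive divisors of q^e - 1.
-/
import Cfsg.Agent.Lib.LocalEven.Zsigmondy
import Mathlib.NumberTheory.ArithmeticFunction.Moebius

set_option autoImplicit false
set_option linter.style.haveILetI false

namespace Cfsg.Agent.LBPrim

open Polynomial Finset

/-- `∏_{d ≤ k} (1 - 2^{-d})` stays above 1/4. -/
theorem euler_bound (k : ℕ) :
    (1 : ℝ) / 4 + (1 / 2) ^ (k + 2) ≤ ∏ i ∈ range (k + 1), (1 - (1 / 2) ^ (i + 1)) := by
  induction k with
  | zero => norm_num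
  | succ k ih =>
    rw [prod_range_succ]
    have hx : ((1 : ℝ) / 2) ^ (k + 2) ≤ 1 / 4 := by
      calc ((1 : ℝ) / 2) ^ (k + 2) ≤ (1 / 2) ^ 2 := pow_le_pow_of_le_one (by norm_num) (by norm_num) (by omega)
        _ = 1 / 4 := by norm_num
    have h0 : (0 : ℝ) ≤ (1 / 2) ^ (k + 2) := by positivity
    rw [show k + 1 + 2 = (k + 2) + 1 from rfl, pow_succ ((1 : ℝ) / 2) (k + 2), show k + 1 + 1 = k + 2 from rfl]
    nlinarith [mul_le_mul_of_nonneg_right ih (by linarith : (0 : ℝ) ≤ 1 - (1 / 2) ^ (k + 2)),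
      mul_le_mul_of_nonneg_left hx h0]

theorem moebius_abs_le_one (n : ℕ) : |ArithmeticFunction.moebius n| ≤ 1 :=
  ArithmeticFunction.abs_moebius_le_one

/-- `q^φ(n) ≤ 4 Φ_n(q)`. -/
theorem pow_totient_le (n q : ℕ) (hn : 0 < n) (hq : 2 ≤ q) :
    ((q ^ n.totient : ℕ) : ℤ) ≤ 4 * LEZsig.val n q := by
  have hqR : (2 : ℝ) ≤ q := by exact_mod_cast hq
  have hq0 : (q : ℝ) ≠ 0 := by positivity
  have hpow1 : ∀ m : ℕ, 0 < m → (1 : ℝ) < (q : ℝ) ^ m := fun m hm => one_lt_pow₀ (by linarith) hm.ne'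
  have hq1 : ((q : ℝ) - 1) ≠ 0 := by intro h; linarith
  have hf0 : ∀ m : ℕ, 0 < m → (cyclotomic m ℝ).eval (q : ℝ) ≠ 0 := fun m hm =>
    (cyclotomic_pos' m (by linarith)).ne'
  let f : ℕ → ℝ := fun m => (cyclotomic m ℝ).eval (q : ℝ) / (q : ℝ) ^ m.totient
  let g : ℕ → ℝ := fun m => 1 - ((q : ℝ) ^ m)⁻¹
  have hg : ∀ m : ℕ, 0 < m → 0 < g m ∧ g m ≤ 1 := fun m hm => by
    refine ⟨sub_pos.2 (inv_lt_one_of_one_lt₀ (hpow1 m hm)), ?_⟩
    have : (0 : ℝ) ≤ ((q : ℝ) ^ m)⁻¹ := by positivity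
    simp only [g]; linarith
  have hfg : ∀ m : ℕ, 0 < m → ∏ d ∈ m.divisors, f d = g m := by
    intro m hm
    rw [prod_div_distrib, prod_pow_eq_pow_sum, Nat.sum_totient, ← eval_prod, prod_cyclotomic_eq_X_pow_sub_one hm]
    simp only [eval_sub, eval_pow, eval_X, eval_one, g]
    field_simp
  have hinv := (ArithmeticFunction.prod_eq_iff_prod_pow_moebius_eq_of_nonzero (f := f) (g := g)
    (fun m hm => div_ne_zero (hf0 m hm) (pow_ne_zero _ hq0)) (fun m hm => (hg m hm).1.ne')).1 hfg n hn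
  have hterm : ∀ x ∈ n.divisorsAntidiagonal, g x.2 ≤ g x.2 ^ ArithmeticFunction.moebius x.1 := by
    intro x hx
    have hpos : 0 < x.2 := Nat.pos_of_ne_zero fun h => by
      have := (Nat.mem_divisorsAntidiagonal.1 hx).1
      rw [h, mul_zero] at this; omega
    obtain ⟨h1, h2⟩ := hg _ hpos
    have hμ := moebius_abs_le_one x.1
    rw [abs_le] at hμ
    conv_lhs => rw [← zpow_one (g x.2)]
    exact zpow_le_zpow_right_of_le_one₀ h1 h2 hμ.2
  have hprod : ∏ d ∈ n.divisors, g d ≤ f n := by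
    rw [← hinv, ← Nat.map_div_left_divisors, prod_map]
    refine prod_le_prod (fun d hd => (hg d (Nat.pos_of_mem_divisors hd)).1.le) fun d hd => ?_
    refine hterm (n / d, d) (Nat.mem_divisorsAntidiagonal.2 ⟨Nat.div_mul_cancel (Nat.mem_divisors.1 hd).1, hn.ne'⟩)
  have hbound : (1 : ℝ) / 4 ≤ ∏ d ∈ n.divisors, g d := by
    obtain ⟨k, rfl⟩ : ∃ k, n = k + 1 := ⟨n - 1, by omega⟩
    have h1 : ∏ i ∈ range (k + 1), (1 - (1 / 2) ^ (i + 1)) ≤ ∏ i ∈ range (k + 1), g (i + 1) := by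
      refine prod_le_prod (fun i _ => sub_nonneg.2 (pow_le_one₀ (by norm_num) (by norm_num))) fun i _ => ?_
      simp only [g, one_div, inv_pow]
      gcongr
    have h2 : ∏ i ∈ range (k + 1), g (i + 1) = ∏ d ∈ Icc 1 (k + 1), g d := by
      rw [show Icc 1 (k + 1) = (range (k + 1)).map (addRightEmbedding 1) by
        rw [range_eq_Ico, map_add_right_Ico]; ext; simp, prod_map]
      rfl
    have h3 : ∏ d ∈ Icc 1 (k + 1), g d ≤ ∏ d ∈ (k + 1).divisors, g d := by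
      have hsub : (k + 1).divisors ⊆ Icc 1 (k + 1) := fun d hd =>
        mem_Icc.2 ⟨Nat.pos_of_mem_divisors hd, Nat.divisor_le hd⟩
      rw [← prod_sdiff hsub]
      refine mul_le_of_le_one_left (prod_nonneg fun d hd => (hg d (Nat.pos_of_mem_divisors hd)).1.le)
        (prod_le_one (fun d hd => (hg d (mem_Icc.1 (mem_sdiff.1 hd).1).1).1.le)
          fun d hd => (hg d (mem_Icc.1 (mem_sdiff.1 hd).1).1).2)
    have h4 := euler_bound k
    have h5 : (0 : ℝ) ≤ (1 / 2) ^ (k + 2) := by positivity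
    linarith
  have hfin : (1 : ℝ) / 4 ≤ f n := hbound.trans hprod
  simp only [f] at hfin
  rw [le_div_iff₀ (by positivity), LEZsig.eval_cast] at hfin
  have : ((q ^ n.totient : ℕ) : ℝ) ≤ 4 * ((LEZsig.val n q : ℤ) : ℝ) := by push_cast; linarith
  exact_mod_cast this

/-- The primitive part of `q^e - 1`. -/
theorem exists_primitive (q e : ℕ) (hq : 2 ≤ q) (he : 3 ≤ e) :
    ∃ m : ℕ, m ∣ q ^ e - 1 ∧ (∀ i : ℕ, 1 ≤ i → i < e → Nat.Coprime m (q ^ i - 1)) ∧
      q ^ e.totient ≤ 4 * (m * (e.totient + 1)) ∧ q ^ e.totient ≤ 4 * (m * e) := by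
  have hb := pow_totient_le e q (by omega) hq
  have hVpos : 0 < LEZsig.val e q := by
    have : 1 ≤ q ^ e.totient := Nat.one_le_pow _ _ (by omega)
    omega
  obtain ⟨V, hV⟩ := Int.eq_ofNat_of_zero_le hVpos.le
  rw [hV] at hb hVpos
  have hb' : q ^ e.totient ≤ 4 * V := by exact_mod_cast hb
  have hdvd : V ∣ q ^ e - 1 := by
    have h := eval_dvd (x := (q : ℤ)) (cyclotomic.dvd_X_pow_sub_one e ℤ)
    simp only [eval_sub, eval_pow, eval_X, eval_one] at h
    rw [show (cyclotomic e ℤ).eval (q : ℤ) = ((V : ℕ) : ℤ) from hV] at h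
    refine Int.natCast_dvd_natCast.1 ?_
    rwa [Nat.cast_sub (Nat.one_le_pow _ _ (by omega)), Nat.cast_pow, Nat.cast_one]
  -- a prime of V dividing some q^i - 1 divides e and fixes the others
  have hbad : ∀ r : ℕ, r.Prime → r ∣ V → ∀ i, 1 ≤ i → i < e → r ∣ q ^ i - 1 →
      ∃ k d, ¬ r ∣ d ∧ r ^ (k + 1) * d = e ∧ d < r := by
    intro r hr hrV i hi hie hri
    haveI : Fact r.Prime := ⟨hr⟩
    obtain ⟨k, d, hd, hkd⟩ := Nat.exists_eq_pow_mul_and_not_dvd (by omega : e ≠ 0) r hr.ne_one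
    have hprim := LEZsig.primitive hd hkd.symm (by rw [hV]; exact_mod_cast hrV)
    have hd0 : 0 < d := Nat.pos_of_ne_zero fun h => hd (h ▸ dvd_zero r)
    rcases k with _ | k
    · exfalso
      have h1 : d ∣ i := hprim.dvd_of_pow_eq_one i ((LEZsig.natCast_pow_eq_one_iff (by omega)).1 hri)
      have := Nat.le_of_dvd (by omega) h1
      rw [pow_zero, one_mul] at hkd
      omega
    · exact ⟨k, d, hd, hkd.symm, (LEZsig.order_lt hprim hd0).1⟩
  by_cases hall : ∀ i, 1 ≤ i → i < e → Nat.Coprime V (q ^ i - 1)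
  · have hmul1 : V ≤ V * (e.totient + 1) := Nat.le_mul_of_pos_right _ (by omega)
    have hmul2 : V ≤ V * e := Nat.le_mul_of_pos_right _ (by omega)
    exact ⟨V, hdvd, hall, by omega, by omega⟩
  push Not at hall
  obtain ⟨i, hi, hie, hni⟩ := hall
  obtain ⟨r, hr, hrV, hri⟩ := Nat.Prime.not_coprime_iff_dvd.1 hni
  haveI : Fact r.Prime := ⟨hr⟩
  obtain ⟨k, d, hd, hkd, hdr⟩ := hbad r hr hrV i hi hie hri
  have hsq : ¬ r ^ 2 ∣ V := fun h => LEZsig.not_sq_dvd (a := q) (n := e) (by omega : 1 < q) he hd hkd (by rw [hV]; exact_mod_cast hrV)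
    (by rw [hV]; exact_mod_cast h)
  obtain ⟨m, hm⟩ := hrV
  have hre : r ∣ e := hkd ▸ (dvd_pow_self r k.succ_ne_zero).mul_right d
  have hrt : r - 1 ∣ e.totient := Nat.totient_prime hr ▸ Nat.totient_dvd_of_dvd hre
  have hr1 : r ≤ e.totient + 1 := by
    have := Nat.le_of_dvd (Nat.totient_pos.2 (by omega)) hrt
    omega
  refine ⟨m, (Dvd.intro_left r hm.symm).trans hdvd, fun j hj hje => ?_, ?_, ?_⟩
  · by_contra hc
    obtain ⟨s, hs, hsm, hsj⟩ := Nat.Prime.not_coprime_iff_dvd.1 hc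
    obtain ⟨l, d', hd', hld, hds⟩ := hbad s hs (hm ▸ hsm.mul_left r) j hj hje hsj
    have hd0 : 0 < d := Nat.pos_of_ne_zero fun h => hd (h ▸ dvd_zero r)
    have hd0' : 0 < d' := Nat.pos_of_ne_zero fun h => hd' (h ▸ dvd_zero s)
    have hsr : s = r := by
      have h1 : s ≤ r := by
        have : s ∣ r ^ (k + 1) * d := hkd ▸ hld ▸ (dvd_pow_self s l.succ_ne_zero).mul_right d'
        rcases (Nat.Prime.dvd_mul hs).1 this with h | h
        · exact ((Nat.prime_dvd_prime_iff_eq hs hr).1 (hs.dvd_of_dvd_pow h)).le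
        · exact ((Nat.le_of_dvd hd0 h).trans_lt hdr).le
      have h2 : r ≤ s := by
        have : r ∣ s ^ (l + 1) * d' := hld ▸ hre
        rcases (Nat.Prime.dvd_mul hr).1 this with h | h
        · exact ((Nat.prime_dvd_prime_iff_eq hr hs).1 (hr.dvd_of_dvd_pow h)).le
        · exact ((Nat.le_of_dvd hd0' h).trans_lt hds).le
      omega
    subst hsr
    exact hsq (hm ▸ by rw [pow_two]; exact mul_dvd_mul_left _ hsm)
  · refine hb'.trans (Nat.mul_le_mul_left 4 ?_)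
    rw [hm, mul_comm r m]
    exact Nat.mul_le_mul_left m hr1
  · refine hb'.trans (Nat.mul_le_mul_left 4 ?_)
    rw [hm, mul_comm r m]
    exact Nat.mul_le_mul_left m (Nat.le_of_dvd (by omega) hre)

theorem le_two_mul_totient_sq (n : ℕ) : n ≤ 2 * n.totient ^ 2 := by
  induction n using Nat.recOnPrimeCoprime with
  | zero => simp
  | prime_pow p k hp =>
    rcases k with _ | k
    · simp
    rw [Nat.totient_prime_pow_succ hp]
    have h2 := hp.two_le
    rcases eq_or_lt_of_le h2 with h | h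
    · subst h
      have hk : 1 ≤ 2 ^ k := Nat.one_le_two_pow
      rw [show (2 - 1 : ℕ) = 1 from rfl, mul_one, pow_succ, mul_comm (2 ^ k) 2]
      exact Nat.mul_le_mul_left 2 (Nat.le_self_pow two_ne_zero _)
    · have h3 : p ≤ (p - 1) ^ 2 := by
        obtain ⟨j, rfl⟩ : ∃ j, p = j + 3 := ⟨p - 3, by omega⟩
        rw [show j + 3 - 1 = j + 2 by omega]
        nlinarith
      calc p ^ (k + 1) = p ^ k * p := pow_succ _ _
        _ ≤ (p ^ k) ^ 2 * (p - 1) ^ 2 := Nat.mul_le_mul (Nat.le_self_pow two_ne_zero _) h3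
        _ = (p ^ k * (p - 1)) ^ 2 := (mul_pow _ _ _).symm
        _ ≤ 2 * (p ^ k * (p - 1)) ^ 2 := Nat.le_mul_of_pos_left _ (by norm_num)
  | coprime a b ha hb hab iha ihb =>
    rw [Nat.totient_mul hab]
    by_cases h2a : 2 ∣ a
    · have hbo : ¬ 2 ∣ b := fun h => by
        have := Nat.dvd_gcd h2a h
        rw [hab] at this; omega
      have hb' : b ≤ b.totient ^ 2 := odd_le b hbo
      calc a * b ≤ (2 * a.totient ^ 2) * b.totient ^ 2 := Nat.mul_le_mul iha hb'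
        _ = 2 * (a.totient * b.totient) ^ 2 := by ring
    · have ha' : a ≤ a.totient ^ 2 := odd_le a h2a
      calc a * b ≤ a.totient ^ 2 * (2 * b.totient ^ 2) := Nat.mul_le_mul ha' ihb
        _ = 2 * (a.totient * b.totient) ^ 2 := by ring
where
  odd_le : ∀ n : ℕ, ¬ 2 ∣ n → n ≤ n.totient ^ 2 := fun n => by
    induction n using Nat.recOnPrimeCoprime with
    | zero => simp
    | prime_pow p k hp =>
      intro h
      rcases k with _ | k
      · simp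
      rw [Nat.totient_prime_pow_succ hp]
      have hp2 : p ≠ 2 := fun h' => h (by rw [h']; exact dvd_pow_self 2 k.succ_ne_zero)
      have h2 := hp.two_le
      have h3 : p ≤ (p - 1) ^ 2 := by
        obtain ⟨j, rfl⟩ : ∃ j, p = j + 3 := ⟨p - 3, by omega⟩
        rw [show j + 3 - 1 = j + 2 by omega]
        nlinarith
      calc p ^ (k + 1) = p ^ k * p := pow_succ _ _
        _ ≤ (p ^ k) ^ 2 * (p - 1) ^ 2 := Nat.mul_le_mul (Nat.le_self_pow two_ne_zero _) h3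
        _ = (p ^ k * (p - 1)) ^ 2 := (mul_pow _ _ _).symm
    | coprime a b ha hb hab iha ihb =>
      intro h
      rw [Nat.totient_mul hab, mul_pow]
      exact Nat.mul_le_mul (iha fun h2 => h (h2.mul_right b)) (ihb fun h2 => h (h2.mul_left a))

theorem growth : ∀ f : ℕ, 18 ≤ f → 24 * f ^ 2 * (f + 1) < 2 ^ f := by
  intro f hf
  induction f, hf using Nat.le_induction with
  | base => norm_num
  | succ f hf ih =>
    rw [pow_succ 2 f]
    nlinarith [mul_le_mul_of_nonneg_right hf (Nat.zero_le (f ^ 2))]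

/-- The exponents left for direct checking. -/
def small : List ℕ :=
  [3, 4, 5, 6, 7, 8, 9, 10, 11, 12, 13, 14, 15, 16, 17, 18, 20, 21, 22, 24, 26, 28, 30, 32, 34, 36, 40, 42, 48, 60]

theorem small_of_totient : ∀ e < 579, e < 3 ∨ 18 ≤ Nat.totient e ∨ e ∈ small := by decide +kernel

/-- Witnesses `(q, e, m)`. -/
def table : List (ℕ × ℕ × ℕ) :=
  [(3, 3, 13), (5, 3, 31), (6, 3, 43), (7, 3, 19), (8, 3, 73), (9, 3, 91), (10, 3, 37), (4, 4, 17), (5, 4, 13),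
   (6, 4, 37), (7, 4, 25), (8, 4, 65), (9, 4, 41), (10, 4, 101), (11, 4, 61), (12, 4, 145), (2, 5, 31), (3, 5, 121),
   (4, 5, 341), (6, 6, 31), (7, 6, 43), (8, 6, 19), (9, 6, 73), (10, 6, 91), (11, 6, 37), (12, 6, 133), (13, 6, 157),
   (14, 6, 61), (2, 7, 127), (3, 8, 41), (4, 8, 257), (2, 9, 73), (3, 9, 757), (3, 10, 61), (4, 10, 41), (2, 11, 2047),
   (3, 12, 73), (4, 12, 241), (5, 12, 601), (2, 14, 43), (3, 14, 547), (2, 15, 151), (2, 16, 257), (3, 18, 703),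
   (2, 22, 683), (2, 24, 241), (2, 28, 3277), (2, 30, 331), (2, 36, 4033), (2, 42, 5419)]

/-- The exceptional pairs. -/
def exc : List (ℕ × ℕ) :=
  [(2, 6), (2, 4), (2, 10), (2, 12), (2, 18), (3, 4), (3, 6), (5, 6), (2, 3), (2, 8), (2, 20), (4, 3), (4, 6)]

theorem table_good : ∀ t ∈ table, t.2.2 ∣ t.1 ^ t.2.1 - 1 ∧ 3 * t.2.1 + 1 ≤ t.2.2 ∧
    ∀ i < t.2.1, 1 ≤ i → Nat.gcd t.2.2 (t.1 ^ i - 1) = 1 := by decide +kernel

theorem small_cases : ∀ e ∈ small, (12 * e * (e.totient + 1) < 16 ^ e.totient) ∧ ∀ q < 16, q < 2 ∨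
    12 * e * (e.totient + 1) < q ^ e.totient ∨ (q, e) ∈ exc ∨
      ∃ t ∈ table, t.1 = q ∧ t.2.1 = e := by decide +kernel

/-- A large primitive divisor. -/
theorem exists_large (q e : ℕ) (hq : 2 ≤ q) (he : 3 ≤ e) (h : (q, e) ∉ exc) :
    ∃ m : ℕ, m ∣ q ^ e - 1 ∧ (∀ i : ℕ, 1 ≤ i → i < e → Nat.Coprime m (q ^ i - 1)) ∧ 3 * e + 1 ≤ m := by
  obtain ⟨m, hm, hco, hb, -⟩ := exists_primitive q e hq he
  have key : 12 * e * (e.totient + 1) < q ^ e.totient → 3 * e + 1 ≤ m := by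
    intro hbig
    by_contra hlt
    have : m * (e.totient + 1) ≤ 3 * e * (e.totient + 1) := Nat.mul_le_mul_right _ (by omega)
    nlinarith
  by_cases hbig : 12 * e * (e.totient + 1) < q ^ e.totient
  · exact ⟨m, hm, hco, key hbig⟩
  have hf : e.totient < 18 := by
    by_contra hf
    apply hbig
    have h1 := le_two_mul_totient_sq e
    have h2 := growth e.totient (by omega)
    have h3 : 2 ^ e.totient ≤ q ^ e.totient := Nat.pow_le_pow_left hq _
    nlinarith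
  have he' : e < 579 := by
    have h1 := le_two_mul_totient_sq e
    have : e.totient ^ 2 ≤ 17 ^ 2 := Nat.pow_le_pow_left (by omega) 2
    omega
  have hes : e ∈ small := by
    rcases small_of_totient e he' with h' | h' | h'
    · omega
    · omega
    · exact h'
  obtain ⟨h16, hrest⟩ := small_cases e hes
  have hq16 : q < 16 := by
    by_contra hq16
    exact hbig (h16.trans_le (Nat.pow_le_pow_left (by omega) _))
  rcases hrest q hq16 with h' | h' | h' | ⟨t, ht, h1, h2⟩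
  · omega
  · exact absurd h' hbig
  · exact absurd h' h
  · subst h1 h2
    obtain ⟨g1, g2, g3⟩ := table_good t ht
    exact ⟨t.2.2, g1, fun i hi hie => g3 i hie hi, g2⟩

/-- In the exceptional cases the primitive part and its cofactor. -/
def excData : List (ℕ × ℕ × ℕ × ℕ) :=
  [(2, 3, 7, 1), (4, 3, 7, 9), (2, 4, 5, 3), (3, 4, 5, 16), (2, 6, 1, 63), (3, 6, 7, 104), (4, 6, 13, 315),
   (5, 6, 7, 2232), (2, 8, 17, 15), (2, 10, 11, 93), (2, 12, 13, 315), (2, 18, 19, 13797), (2, 20, 41, 25575)]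

theorem excData_good : ∀ t ∈ excData, t.1 ^ t.2.1 - 1 = t.2.2.1 * t.2.2.2 ∧ t.2.2.1 ≤ 2 * t.2.1 + 1 ∧
    t.2.2.2 ∣ (∏ i ∈ Finset.Ico 1 t.2.1, (t.1 ^ i - 1)) ^ 12 := by decide +kernel

theorem exc_mem : ∀ p ∈ exc, ∃ t ∈ excData, t.1 = p.1 ∧ t.2.1 = p.2 := by decide +kernel

theorem exc_small (q e : ℕ) (h : (q, e) ∈ exc) (m : ℕ) (hm : m ∣ q ^ e - 1)
    (hco : ∀ i : ℕ, 1 ≤ i → i < e → Nat.Coprime m (q ^ i - 1)) : m ≤ 2 * e + 1 := by
  obtain ⟨t, ht, h1, h2⟩ := exc_mem _ h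
  obtain ⟨g1, g2, g3⟩ := excData_good t ht
  simp only at h1 h2
  subst h1 h2
  have hc : Nat.Coprime m ((∏ i ∈ Finset.Ico 1 t.2.1, (t.1 ^ i - 1)) ^ 12) :=
    (Nat.Coprime.prod_right fun i hi => hco i (Finset.mem_Ico.1 hi).1 (Finset.mem_Ico.1 hi).2).pow_right _
  rw [g1] at hm
  refine (Nat.le_of_dvd ?_ ((hc.coprime_dvd_right g3).dvd_of_dvd_mul_right hm)).trans g2
  have : 0 < t.1 ^ t.2.1 - 1 := (by decide +kernel : ∀ t ∈ excData, 0 < t.1 ^ t.2.1 - 1) t ht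
  rw [g1] at this
  exact Nat.pos_of_ne_zero fun h0 => by rw [h0, zero_mul] at this; omega

/-- Large primitive prime, or a repeated one. -/
theorem exists_large_prime (q n : ℕ) (hq : 2 ≤ q) (hn : 2 ≤ n)
    (h1 : ¬ (n = 2 ∧ ∃ s t : ℕ, t ≤ 1 ∧ q + 1 = 2 ^ s * 3 ^ t))
    (h2 : ¬ (q = 2 ∧ (n = 4 ∨ n = 6 ∨ n = 10 ∨ n = 12 ∨ n = 18)))
    (h3 : ¬ (q = 3 ∧ (n = 4 ∨ n = 6))) (h4 : ¬ (q = 5 ∧ n = 6)) :
    ∃ p : ℕ, p.Prime ∧ p ∣ q ^ n - 1 ∧ (∀ i : ℕ, 1 ≤ i → i < n → ¬ p ∣ q ^ i - 1) ∧ (n + 1 < p ∨ p ^ 2 ∣ q ^ n - 1) := by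
  rcases eq_or_lt_of_le hn with rfl | hn3
  · have e2 : q ^ 2 - 1 = (q + 1) * (q - 1) := by simpa using Nat.sq_sub_sq q 1
    have key : ∀ p, p.Prime → p ≠ 2 → p ∣ q + 1 → (3 < p ∨ p ^ 2 ∣ q + 1) →
        ∃ p : ℕ, p.Prime ∧ p ∣ q ^ 2 - 1 ∧ (∀ i : ℕ, 1 ≤ i → i < 2 → ¬ p ∣ q ^ i - 1) ∧ (2 + 1 < p ∨ p ^ 2 ∣ q ^ 2 - 1) := by
      intro p hp hp2 hd hor
      refine ⟨p, hp, e2 ▸ hd.mul_right _, fun i hi hi2 h => ?_, hor.imp id fun h => e2 ▸ h.mul_right _⟩
      obtain rfl : i = 1 := by omega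
      rw [pow_one] at h
      have h' := Nat.dvd_sub hd h
      rw [show q + 1 - (q - 1) = 2 by omega] at h'
      exact hp2 ((Nat.prime_dvd_prime_iff_eq hp Nat.prime_two).1 h')
    by_cases hbig : ∃ p, p.Prime ∧ 3 < p ∧ p ∣ q + 1
    · obtain ⟨p, hp, h3p, hd⟩ := hbig
      exact key p hp (by omega) hd (Or.inl h3p)
    by_cases h9 : 3 ^ 2 ∣ q + 1
    · exact key 3 Nat.prime_three (by norm_num) ((dvd_pow_self 3 two_ne_zero).trans h9) (Or.inr h9)
    push Not at hbig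
    exfalso
    obtain ⟨s, r, hr, hsr⟩ := Nat.exists_eq_pow_mul_and_not_dvd (by omega : q + 1 ≠ 0) 2 (by norm_num)
    refine h1 ⟨rfl, s, ?_⟩
    by_cases hr1 : r = 1
    · exact ⟨0, by norm_num, by rw [hsr, hr1, pow_zero]⟩
    refine ⟨1, le_rfl, ?_⟩
    have hr3 : ∀ p, p.Prime → p ∣ r → p = 3 := fun p hp hpr => by
      have hle : p ≤ 3 := not_lt.1 fun h => hbig p hp h (hsr ▸ hpr.mul_left _)
      have := hp.two_le
      interval_cases p
      · exact absurd hpr hr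
      · rfl
    have h3r : r = 3 ^ r.primeFactorsList.length :=
      Nat.eq_prime_pow_of_unique_prime_dvd (by rintro rfl; simp at hsr) fun {d} hd hdr => hr3 d hd hdr
    rw [hsr, pow_one]
    congr 1
    rcases eq_or_ne r.primeFactorsList.length 1 with h | h
    · rw [h3r, h, pow_one]
    · exfalso
      have hl : r.primeFactorsList.length ≠ 0 := fun h0 => hr1 (by rw [h3r, h0, pow_zero])
      exact h9 (hsr ▸ (h3r ▸ pow_dvd_pow 3 (by omega : 2 ≤ r.primeFactorsList.length) : 3 ^ 2 ∣ r).mul_left _)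
  have hlarge : ∃ m : ℕ, m ∣ q ^ n - 1 ∧ (∀ i : ℕ, 1 ≤ i → i < n → Nat.Coprime m (q ^ i - 1)) ∧ n + 1 < m ∧ 1 < m := by
    by_cases hexc : (q, n) ∈ exc
    · simp only [exc, List.mem_cons, List.not_mem_nil, or_false, Prod.mk.injEq] at hexc
      have hcases : (q = 2 ∧ n = 3) ∨ (q = 4 ∧ n = 3) ∨ (q = 2 ∧ n = 8) ∨ (q = 2 ∧ n = 20) ∨ (q = 4 ∧ n = 6) := by omega
      rcases hcases with ⟨rfl, rfl⟩ | ⟨rfl, rfl⟩ | ⟨rfl, rfl⟩ | ⟨rfl, rfl⟩ | ⟨rfl, rfl⟩
      · exact ⟨7, by decide, by intro i a b; interval_cases i <;> decide, by norm_num⟩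
      · exact ⟨7, by decide, by intro i a b; interval_cases i <;> decide, by norm_num⟩
      · exact ⟨17, by decide, by intro i a b; interval_cases i <;> decide, by norm_num⟩
      · exact ⟨41, by decide, by intro i a b; interval_cases i <;> decide, by norm_num⟩
      · exact ⟨13, by decide, by intro i a b; interval_cases i <;> decide, by norm_num⟩
    · obtain ⟨m, a, b, c⟩ := exists_large q n hq hn3 hexc
      exact ⟨m, a, b, by omega, by omega⟩
  obtain ⟨m, hm, hco, hgt, hm1⟩ := hlarge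
  have hprim : ∀ p, p.Prime → p ∣ m → (∀ i : ℕ, 1 ≤ i → i < n → ¬ p ∣ q ^ i - 1) ∧ n ∣ p - 1 := by
    intro p hp hpm
    have h := fun i hi hin => fun hd => hp.one_lt.ne' (Nat.dvd_one.1 ((hco i hi hin) ▸ Nat.dvd_gcd hpm hd))
    refine ⟨h, ?_⟩
    haveI : Fact p.Prime := ⟨hp⟩
    have hone : (q : ZMod p) ^ n = 1 := (LEZsig.natCast_pow_eq_one_iff (by omega)).1 (hpm.trans hm)
    have hne : (q : ZMod p) ≠ 0 := fun h0 => by rw [h0, zero_pow (by omega)] at hone; exact zero_ne_one hone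
    have hord : orderOf (q : ZMod p) = n := by
      refine le_antisymm (Nat.le_of_dvd (by omega) (orderOf_dvd_of_pow_eq_one hone)) (not_lt.1 fun hlt => ?_)
      exact h _ (orderOf_pos_iff.2 (isOfFinOrder_iff_pow_eq_one.2 ⟨n, by omega, hone⟩)) hlt
        ((LEZsig.natCast_pow_eq_one_iff (by omega)).2 (pow_orderOf_eq_one _))
    exact hord ▸ ZMod.orderOf_dvd_card_sub_one hne
  by_cases hbig : ∃ p, p.Prime ∧ p ∣ m ∧ n + 1 < p
  · obtain ⟨p, hp, hpm, hlt⟩ := hbig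
    exact ⟨p, hp, hpm.trans hm, (hprim p hp hpm).1, Or.inl hlt⟩
  push Not at hbig
  have huniq : ∀ p, p.Prime → p ∣ m → p = n + 1 := fun p hp hpm => by
    have h5 := Nat.le_of_dvd (by have := hp.two_le; omega) (hprim p hp hpm).2
    have := hbig p hp hpm
    omega
  obtain ⟨p, hp, hpm⟩ := Nat.exists_prime_and_dvd hm1.ne'
  refine ⟨p, hp, hpm.trans hm, (hprim p hp hpm).1, Or.inr ?_⟩
  have hpe := Nat.eq_prime_pow_of_unique_prime_dvd (by omega : m ≠ 0) (p := p)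
    (fun {d} hd hdm => by rw [huniq d hd hdm, huniq p hp hpm])
  have hl : 2 ≤ m.primeFactorsList.length := by
    by_contra hl
    have : m ≤ p := hpe.le.trans ((Nat.pow_le_pow_right hp.pos (by omega : m.primeFactorsList.length ≤ 1)).trans_eq (pow_one p))
    have := huniq p hp hpm
    omega
  exact ((pow_dvd_pow p hl).trans hpe.symm.dvd).trans hm

end Cfsg.Agent.LBPrim
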