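/-
Involutions of PSL_n and the normaliser of a quadratic extension field in the matrix algebra.
-/
import Cfsg.Agent.Lib.LinearBlock.InvolutionClasses
import Cfsg.Prelude.Def_GeometricClasses

set_option autoImplicit false
set_option linter.all false

namespace Cfsg.Agent.LBLinExtInv

open Matrix Polynomial

universe u

variable {F : Type u} [Field F] {n : ℕ} {K : Subalgebra F (Matrix (Fin n) (Fin n) F)}

theorem det_ne_zero (hK : Cfsg.Geo.IsFieldSubalgebra 2 K) {k : Matrix (Fin n) (Fin n) F} (hk : k ∈ K) (h0 : k ≠ 0) :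
    k.det ≠ 0 := by
  obtain ⟨y, -, hy⟩ := hK.inv k hk h0
  intro e
  have := congrArg Matrix.det hy
  rw [det_mul, e, zero_mul, det_one] at this
  exact zero_ne_one this

theorem mul_eq_zero' (hK : Cfsg.Geo.IsFieldSubalgebra 2 K) {k l : Matrix (Fin n) (Fin n) F} (hk : k ∈ K) (hl : l ∈ K)
    (h : k * l = 0) : k = 0 ∨ l = 0 := by
  refine or_iff_not_imp_left.2 fun h0 => ?_
  obtain ⟨y, hy, hky⟩ := hK.inv k hk h0
  rw [← one_mul l, ← hky, hK.comm k hk y hy, Matrix.mul_assoc, h, mul_zero]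

theorem exists_gen (hK : Cfsg.Geo.IsFieldSubalgebra 2 K) :
    ∃ ι ∈ K, (∀ z : F, ι ≠ z • 1) ∧ ∀ k ∈ K, ∃ a b : F, k = a • 1 + b • ι := by
  obtain ⟨ι, hι, hns⟩ : ∃ ι ∈ K, ∀ z : F, ι ≠ z • 1 := by
    by_contra hc
    simp only [not_exists, not_and, not_forall, not_not] at hc
    have : K = ⊥ := eq_bot_iff.2 fun k hk => by
      obtain ⟨z, hz⟩ := hc k hk
      exact Algebra.mem_bot.2 ⟨z, by rw [hz, Algebra.algebraMap_eq_smul_one]⟩
    have h2 := hK.finrank_eq
    rw [this] at h2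
    rcases Nat.eq_zero_or_pos n with rfl | hn
    · rw [Module.finrank_zero_of_subsingleton] at h2; omega
    · haveI : Nonempty (Fin n) := ⟨⟨0, hn⟩⟩
      rw [Subalgebra.finrank_bot] at h2; omega
  refine ⟨ι, hι, hns, fun k hk => ?_⟩
  let W : Submodule F (Matrix (Fin n) (Fin n) F) := Subalgebra.toSubmodule K
  let v : Fin 2 → W := ![⟨1, K.one_mem⟩, ⟨ι, hι⟩]
  have hne1 : (1 : Matrix (Fin n) (Fin n) F) ≠ 0 := fun e => hns 0 (by rw [zero_smul, ← mul_one ι, e, mul_zero])
  have hli : LinearIndependent F v := by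
    rw [LinearIndependent.pair_iff]
    intro a b hab
    have h' : a • (1 : Matrix (Fin n) (Fin n) F) + b • ι = 0 := congrArg Subtype.val hab
    by_cases hb : b = 0
    · rw [hb, zero_smul, add_zero, smul_eq_zero] at h'
      exact ⟨h'.resolve_right hne1, hb⟩
    · refine absurd ?_ (hns (-(b⁻¹ * a)))
      have := congrArg (fun M => b⁻¹ • M) h'
      simp only [smul_add, smul_smul, inv_mul_cancel₀ hb, one_smul, smul_zero] at this
      rw [neg_smul, eq_neg_iff_add_eq_zero, add_comm]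
      exact this
  have hsp := hli.span_eq_top_of_card_eq_finrank (by
    rw [Fintype.card_fin]; exact hK.finrank_eq.symm)
  have hmem : (⟨k, hk⟩ : W) ∈ Submodule.span F (Set.range v) := hsp ▸ Submodule.mem_top
  obtain ⟨c, hc⟩ := (Submodule.mem_span_range_iff_exists_fun F).1 hmem
  refine ⟨c 0, c 1, ?_⟩
  rw [Fin.sum_univ_two] at hc
  exact (congrArg Subtype.val hc).symm

/-- A matrix conjugating the field into itself normalises it. -/
theorem mem_normalizer [Fintype F] {g : GL (Fin n) F} (h : ∀ k ∈ K, g.1 * k * (g⁻¹ : GL (Fin n) F).1 ∈ K) :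
    g ∈ Cfsg.Geo.subalgebraNormalizer K := by
  intro k
  refine ⟨h k, fun hk => ?_⟩
  let φ : K → K := fun l => ⟨g.1 * l.1 * (g⁻¹ : GL (Fin n) F).1, h _ l.2⟩
  have hinj : Function.Injective φ := fun a b e => by
    have := congrArg (fun M => (g⁻¹ : GL (Fin n) F).1 * M * g.1) (congrArg Subtype.val e)
    simp only [φ, Matrix.mul_assoc, Units.inv_mul, mul_one, Units.inv_mul_cancel_left] at this
    exact Subtype.ext this
  obtain ⟨l, hl⟩ := (Finite.injective_iff_surjective.1 hinj) ⟨_, hk⟩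
  have := congrArg (fun M => (g⁻¹ : GL (Fin n) F).1 * M * g.1) (congrArg Subtype.val hl)
  simp only [φ, Matrix.mul_assoc, Units.inv_mul, mul_one, Units.inv_mul_cancel_left] at this
  exact this ▸ l.2

/-- Commuting or anticommuting with a generator `ι` gives membership in the normaliser. -/
theorem mem_normalizer_of_gen [Fintype F] {ι : Matrix (Fin n) (Fin n) F} (hι : ι ∈ K)
    (hgen : ∀ k ∈ K, ∃ a b : F, k = a • 1 + b • ι) {g : GL (Fin n) F} {e : F} (hg : g.1 * ι = e • ι * g.1) :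
    g ∈ Cfsg.Geo.subalgebraNormalizer K := by
  refine mem_normalizer fun k hk => ?_
  obtain ⟨a, b, rfl⟩ := hgen k hk
  rw [mul_add, add_mul, Matrix.mul_smul, Matrix.mul_smul, mul_one, Matrix.smul_mul, Matrix.smul_mul, hg, Matrix.mul_assoc,
    Units.mul_inv, mul_one]
  exact add_mem (K.smul_mem K.one_mem _) (K.smul_mem (K.smul_mem hι _) _)

/-- Scalar plus rank one never normalises the field. -/
theorem not_normalizes (hK : Cfsg.Geo.IsFieldSubalgebra 2 K) (hn : 3 ≤ n) {g : GL (Fin n) F} {b : F} (hb : b ≠ 0)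
    (hrk : (g.1 - b • 1).rank = 1) : g ∉ Cfsg.Geo.subalgebraNormalizer K := by
  intro hg
  obtain ⟨R, hR⟩ : ∃ R, R = g.1 - b • 1 := ⟨_, rfl⟩
  rw [← hR] at hrk
  obtain ⟨ι, hι, hns, -⟩ := exists_gen hK
  obtain ⟨ι', hι'⟩ : ∃ ι', ι' = g.1 * ι * (g⁻¹ : GL (Fin n) F).1 := ⟨_, rfl⟩
  have hι'K : ι' ∈ K := hι' ▸ (hg ι).1 hι
  have hcomm : ι' * g.1 = g.1 * ι := by rw [hι', Matrix.mul_assoc _ _ g.1, Units.inv_mul, mul_one]
  have hg' : g.1 = b • 1 + R := by rw [hR]; abel
  rw [hg', mul_add, add_mul, Matrix.mul_smul, Matrix.smul_mul, mul_one, one_mul] at hcomm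
  have e : b • (ι' - ι) = R * ι - ι' * R := by
    rw [smul_sub, sub_eq_sub_iff_add_eq_add, hcomm, add_comm]
  have heq : ι' = ι := by
    by_contra hne
    have hd := det_ne_zero hK (K.smul_mem (sub_mem hι'K hι) b) (smul_ne_zero hb (sub_ne_zero.2 hne))
    have h1 : (R * ι - ι' * R).rank = n := by
      rw [← e, rank_of_isUnit _ ((isUnit_iff_isUnit_det _).2 (isUnit_iff_ne_zero.2 hd)), Fintype.card_fin]
    have h2 : (R * ι - ι' * R).rank ≤ 2 := by
      rw [sub_eq_add_neg, ← Matrix.mul_neg]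
      refine (show (R * ι + ι' * -R).rank ≤ (R * ι).rank + (ι' * -R).rank from ?_).trans ?_
      · simp only [Matrix.rank]
        rw [Matrix.mulVecLin_add]
        refine (Submodule.finrank_mono ?_).trans (Submodule.finrank_add_le_finrank_add_finrank _ _)
        rintro _ ⟨v, rfl⟩
        exact Submodule.add_mem_sup (LinearMap.mem_range_self (R * ι).mulVecLin v) (LinearMap.mem_range_self (ι' * -R).mulVecLin v)
      have := Matrix.rank_mul_le_left R ι
      have := Matrix.rank_mul_le_left (ι' * -R) (1 : Matrix (Fin n) (Fin n) F)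
      have h3 : (ι' * -R).rank ≤ (-R).rank := Matrix.rank_mul_le_right _ _
      have h4 : (-R).rank ≤ 1 := by
        rw [show -R = (-1 : Matrix (Fin n) (Fin n) F) * R by rw [Matrix.neg_mul, one_mul]]
        exact (Matrix.rank_mul_le_right _ _).trans hrk.le
      omega
    omega
  rw [heq, sub_self, smul_zero, eq_comm, sub_eq_zero] at e
  obtain ⟨v, hv⟩ : ∃ v, R *ᵥ v ≠ 0 := by
    by_contra hc
    simp only [not_exists, not_not] at hc
    have : R = 0 := Matrix.toLin'.injective (LinearMap.ext fun v => by simpa using hc v)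
    rw [this, Matrix.rank_zero] at hrk
    omega
  have hspan : Submodule.span F {R *ᵥ v} = LinearMap.range (Matrix.mulVecLin R) := by
    refine Submodule.eq_of_le_of_finrank_eq ((Submodule.span_singleton_le_iff_mem _ _).2 ⟨v, rfl⟩) ?_
    rw [finrank_span_singleton hv]
    exact hrk.symm
  have hmem : ι *ᵥ (R *ᵥ v) ∈ Submodule.span F {R *ᵥ v} := by
    rw [hspan]
    exact ⟨ι *ᵥ v, by rw [Matrix.mulVecLin_apply, mulVec_mulVec, mulVec_mulVec, e]⟩
  obtain ⟨t, ht⟩ := Submodule.mem_span_singleton.1 hmem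
  have hd := det_ne_zero hK (sub_mem hι (K.smul_mem K.one_mem t)) (sub_ne_zero.2 (hns t))
  exact hd (Matrix.exists_mulVec_eq_zero_iff.1 ⟨R *ᵥ v, hv, by rw [sub_mulVec, smul_mulVec, one_mulVec, ht, sub_self]⟩)

/-- The witness: scalar plus rank one, squaring to a scalar. -/
theorem exists_witness [Fintype F] (p : ℕ) [Fact p.Prime] [CharP F p] (hn : 3 ≤ n) (he : Even n)
    (h : ¬ (Odd (Fintype.card F) ∧ padicValNat 2 (Fintype.card F - 1) ≤ padicValNat 2 n)) :
    ∃ x : Matrix (Fin n) (Fin n) F, x.det = 1 ∧ (∃ z : F, x * x = z • 1) ∧ (∀ z : F, x ≠ z • 1) ∧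
      ∃ b : F, b ≠ 0 ∧ (x - b • 1).rank = 1 := by
  classical
  have hp : p.Prime := Fact.out
  obtain ⟨e, -, hF⟩ := FiniteField.card F p
  by_cases hp2 : p = 2
  · subst hp2
    let i0 : Fin n := ⟨0, by omega⟩
    let i1 : Fin n := ⟨1, by omega⟩
    have h01 : i0 ≠ i1 := by simp [i0, i1]
    haveI : Nonempty (Fin n) := ⟨i0⟩
    haveI : CharP (Matrix (Fin n) (Fin n) F) 2 := inferInstance
    refine ⟨transvection i0 i1 (1 : F), det_transvection_of_ne _ _ h01 _, ⟨1, ?_⟩, fun z hz => ?_, 1, one_ne_zero, ?_⟩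
    · rw [transvection_mul_transvection_same _ _ h01, CharTwo.add_self_eq_zero, transvection_zero, one_smul]
    · have := congrFun (congrFun hz i0) i1
      simp [transvection, h01] at this
    · rw [one_smul, transvection, add_sub_cancel_left, show Matrix.single i0 i1 (1 : F) =
        (Matrix.diagonal (Pi.single i0 (1 : F))).submatrix (Equiv.refl _) (Equiv.swap i0 i1) by
        ext a b
        simp only [submatrix_apply, Equiv.refl_apply, diagonal_apply, Matrix.single_apply]
        by_cases ha : a = i0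
        · subst ha
          by_cases hb : b = i1
          · subst hb; simp
          · by_cases hb' : b = i0
            · subst hb'; rw [Equiv.swap_apply_left, if_neg h01, if_neg (fun h => hb h.2.symm)]
            · rw [Equiv.swap_apply_of_ne_of_ne hb' hb, if_neg (Ne.symm hb'), if_neg (fun h => hb h.2.symm)]
        · rw [Pi.single_eq_of_ne ha, ite_self, if_neg (fun h => ha h.1.symm)],
        rank_submatrix, rank_diagonal]
      rw [Fintype.card_eq_one_iff]
      exact ⟨⟨i0, by simp⟩, fun ⟨a, ha⟩ => Subtype.ext (by by_contra hne; exact ha (Pi.single_eq_of_ne hne 1))⟩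
  · have hodd : Odd (Fintype.card F) := by rw [hF]; exact (hp.odd_of_ne_two hp2).pow
    rw [not_and] at h
    have hv := not_le.1 (h hodd)
    have h2 : (2 : F) ≠ 0 := by
      intro h2
      have : ((2 : ℕ) : F) = 0 := by exact_mod_cast h2
      rw [CharP.cast_eq_zero_iff F p] at this
      exact hp2 ((Nat.prime_dvd_prime_iff_eq hp Nat.prime_two).1 this)
    obtain ⟨a, ha⟩ := LBInvCl.exists_pow_eq_neg_one h2 (by omega) hv
    have ha0 : a ≠ 0 := fun e => by rw [e, zero_pow (by omega)] at ha; exact one_ne_zero (neg_eq_zero.1 ha.symm)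
    obtain ⟨lam, hlam⟩ : ∃ lam : Fin n → F, lam = fun j => if j.1 = 0 then a else -a := ⟨_, rfl⟩
    have hna : a ≠ -a := fun e => ha0 ((mul_eq_zero.1 (show (2 : F) * a = 0 by linear_combination e)).resolve_left h2)
    refine ⟨diagonal lam, ?_, ⟨a * a, ?_⟩, fun z hz => ?_, -a, neg_ne_zero.2 ha0, ?_⟩
    · obtain ⟨k, rfl⟩ : ∃ k, n = k + 1 := ⟨n - 1, by omega⟩
      have hk : Odd k := by obtain ⟨w, hw⟩ := he; exact ⟨w - 1, by omega⟩
      rw [det_diagonal, Fin.prod_univ_succ, Finset.prod_eq_pow_card (b := -a) (fun i _ => by simp [hlam]), Finset.card_univ,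
        Fintype.card_fin, hk.neg_pow, hlam]
      simp only [Fin.val_zero, if_true]
      rw [mul_neg, ← pow_succ', ha, neg_neg]
    · rw [diagonal_mul_diagonal, smul_one_eq_diagonal]
      refine congrArg diagonal (funext fun j => ?_)
      rw [hlam]; simp only; split_ifs <;> ring
    · have h0 := congrFun (congrFun hz ⟨0, by omega⟩) ⟨0, by omega⟩
      have h1 := congrFun (congrFun hz ⟨1, by omega⟩) ⟨1, by omega⟩
      simp [hlam] at h0 h1
      exact hna (h0.trans h1.symm)
    · rw [smul_one_eq_diagonal, diagonal_sub, rank_diagonal, Fintype.card_eq_one_iff]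
      refine ⟨⟨⟨0, by omega⟩, ?_⟩, fun ⟨j, hj⟩ => Subtype.ext (Fin.ext ?_)⟩
      · rw [hlam]; simp only [if_true]; exact sub_ne_zero.2 hna
      · by_contra hne
        exact hj (by rw [hlam]; simp only; rw [if_neg hne, sub_self])

/-- A representative inside the normaliser. -/
theorem main_odd [Fintype F] (p : ℕ) [Fact p.Prime] [CharP F p] (hp : p ≠ 2) (hK : Cfsg.Geo.IsFieldSubalgebra 2 K)
    {m : ℕ} (hm : 0 < m) (hnm : n = 2 * m)
    (hv : m = 1 ∨ padicValNat 2 (Fintype.card F - 1) ≤ padicValNat 2 n) {x : Matrix (Fin n) (Fin n) F}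
    (hxd : x.det = 1) {z : F} (hxz : x * x = z • 1) :
    ∃ (h : GL (Fin n) F) (P : Matrix.SpecialLinearGroup (Fin n) F), (P⁻¹).1 * x * P.1 = h.1 ∧
      h ∈ Cfsg.Geo.subalgebraNormalizer K := by
  classical
  haveI : Nonempty (Fin n) := ⟨⟨0, by omega⟩⟩
  have h2 : (2 : F) ≠ 0 := by
    intro h2
    have : ((2 : ℕ) : F) = 0 := by exact_mod_cast h2
    rw [CharP.cast_eq_zero_iff F p] at this
    exact hp ((Nat.prime_dvd_prime_iff_eq Fact.out Nat.prime_two).1 this)
  have hz : z ≠ 0 := fun e => by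
    have := congrArg Matrix.det hxz
    rw [det_mul, hxd, e, zero_smul, det_zero, mul_one] at this
    exact one_ne_zero this
  -- a generator with square a non-square scalar
  obtain ⟨ι₁, hι₁, hns₁, hgen₁⟩ := exists_gen hK
  obtain ⟨α, β, hsq₁⟩ := hgen₁ (ι₁ * ι₁) (K.mul_mem hι₁ hι₁)
  obtain ⟨ι, hιdef⟩ : ∃ ι, ι = ι₁ - (β / 2) • 1 := ⟨_, rfl⟩
  obtain ⟨d, hd⟩ : ∃ d, d = α + (β / 2) * (β / 2) := ⟨_, rfl⟩
  have hι : ι ∈ K := hιdef ▸ sub_mem hι₁ (K.smul_mem K.one_mem _)
  have hns : ∀ t : F, ι ≠ t • 1 := fun t e => hns₁ (t + β / 2) (by rw [add_smul, ← e, hιdef, sub_add_cancel])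
  have hgen : ∀ k ∈ K, ∃ a b : F, k = a • 1 + b • ι := fun k hk => by
    obtain ⟨a, b, rfl⟩ := hgen₁ k hk
    exact ⟨a + b * (β / 2), b, by rw [hιdef]; module⟩
  have hιι : ι * ι = d • 1 := by
    rw [hιdef, sub_mul, mul_sub, mul_sub, hsq₁, hd, Matrix.mul_smul, Matrix.smul_mul, mul_one, one_mul,
      Matrix.smul_mul, one_mul, smul_smul]
    rw [show (β • ι₁ : Matrix (Fin n) (Fin n) F) = (β / 2) • ι₁ + (β / 2) • ι₁ by rw [← add_smul]; congr 1; field_simp; ring]
    module
  have hdns : ¬ IsSquare d := by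
    rintro ⟨w, rfl⟩
    have : (ι - w • 1) * (ι + w • 1) = 0 := by
      rw [sub_mul, mul_add, mul_add, hιι, Matrix.mul_smul, Matrix.smul_mul, mul_one, one_mul, Matrix.smul_mul, one_mul, smul_smul]
      abel
    rcases mul_eq_zero' hK (sub_mem hι (K.smul_mem K.one_mem _)) (add_mem hι (K.smul_mem K.one_mem _)) this with e | e
    · exact hns w (sub_eq_zero.1 e)
    · exact hns (-w) (by rw [neg_smul]; exact eq_neg_of_add_eq_zero_left e)
  have hd0 : d ≠ 0 := fun e => hdns (e ▸ ⟨0, by ring⟩)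
  have hιs := LBInvCl.semisimple_of_sq p hp hd0 hιι
  -- the standard model
  let ι0 : Matrix (Fin m ⊕ Fin m) (Fin m ⊕ Fin m) F := fromBlocks 0 (d • 1) 1 0
  let e : Fin m ⊕ Fin m ≃ Fin n := finSumFinEquiv.trans (finCongr (by omega))
  let R := reindexAlgEquiv F F e
  have hι0 : R ι0 * R ι0 = d • 1 := by
    rw [← map_mul, show ι0 * ι0 = d • 1 by
      simp only [ι0]; rw [fromBlocks_multiply, ← fromBlocks_one, fromBlocks_smul]; simp, map_smul, map_one]
  have hcp : (R ι0).charpoly = ι.charpoly := by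
    obtain ⟨k, hk1, hk⟩ := LBInvCl.charpoly_nonsquare hι0 hdns
    obtain ⟨k', hk1', hk'⟩ := LBInvCl.charpoly_nonsquare hιι hdns
    rw [hk, hk', show k = k' by omega]
  obtain ⟨Q, hQ⟩ := SemisimpleCl.exists_conjugator (LBInvCl.semisimple_of_sq p hp hd0 hι0) hιs hcp
  -- finish from an element of the normaliser
  have fin : ∀ (h : GL (Fin n) F), h.1 * h.1 = z • 1 → h.1.charpoly = x.charpoly → (∃ e : F, h.1 * ι = e • ι * h.1) →
      ∃ (h : GL (Fin n) F) (P : Matrix.SpecialLinearGroup (Fin n) F), (P⁻¹).1 * x * P.1 = h.1 ∧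
        h ∈ Cfsg.Geo.subalgebraNormalizer K := fun h hh hc ⟨e, he⟩ => by
    obtain ⟨P, hP⟩ := LBInvCl.sl_conj_semisimple (by omega) (LBInvCl.semisimple_of_sq p hp hz hxz)
      (LBInvCl.semisimple_of_sq p hp hz hh) hc.symm
    exact ⟨h, P, hP, mem_normalizer_of_gen hι hgen he⟩
  have fin0 : ∀ (A : Matrix (Fin m ⊕ Fin m) (Fin m ⊕ Fin m) F) (e : F), A * A = z • 1 → A.charpoly = x.charpoly →
      A * ι0 = e • ι0 * A →
      ∃ (h : GL (Fin n) F) (P : Matrix.SpecialLinearGroup (Fin n) F), (P⁻¹).1 * x * P.1 = h.1 ∧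
        h ∈ Cfsg.Geo.subalgebraNormalizer K := fun A e hA hc hAι => by
    have hR : R A * R A = z • 1 := by rw [← map_mul, hA, map_smul, map_one]
    let g : GL (Fin n) F := GeneralLinearGroup.mkOfDetNeZero (R A) fun e0 => by
      have := congrArg Matrix.det hR
      rw [det_mul, e0, mul_zero, det_smul, det_one, mul_one] at this
      exact pow_ne_zero _ hz this.symm
    have hg : g.1 = R A := rfl
    refine fin (Q * g * Q⁻¹) ?_ ?_ ⟨e, ?_⟩
    · rw [← Units.val_mul, show Q * g * Q⁻¹ * (Q * g * Q⁻¹) = Q * (g * g) * Q⁻¹ by group]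
      simp only [Units.val_mul, hg, hR, Matrix.mul_smul, Matrix.smul_mul, mul_one, Units.mul_inv]
    · rw [Units.val_mul, Units.val_mul, hg, Matrix.coe_units_inv, charpoly_units_conj]
      exact (charpoly_reindex _ _).trans hc
    · have e1 : R A * R ι0 = e • R ι0 * R A := by rw [← map_mul, hAι, map_mul, map_smul]
      have e2 : ι = Q.1 * R ι0 * (Q⁻¹ : GL (Fin n) F).1 := by
        rw [hQ, Matrix.mul_assoc, Units.mul_inv, mul_one]
      rw [Units.val_mul, Units.val_mul, hg, e2]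
      simp only [Matrix.mul_assoc, Units.inv_mul_cancel_left, Matrix.smul_mul, Matrix.mul_smul] at e1 ⊢
      rw [← Matrix.mul_assoc (R A), e1]
      simp only [Matrix.mul_assoc, Matrix.smul_mul, Matrix.mul_smul]
  by_cases hsq : IsSquare z
  · obtain ⟨a, rfl⟩ := hsq
    have ha : a ≠ 0 := fun e => hz (by rw [e, mul_zero])
    obtain ⟨k, hkn, hk⟩ := LBInvCl.charpoly_square hxz
    have hsplit : ∀ (b : F) (jj : ℕ), jj ≤ m → ∏ i : Fin m, (X - C (if i.1 < jj then b else -b)) =
        (X - C b) ^ jj * (X - C (-b)) ^ (m - jj) := by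
      intro b jj hjj
      rw [Fin.prod_univ_eq_prod_range (fun i => X - C (if i < jj then b else -b)) m,
        ← Finset.prod_range_mul_prod_Ico _ hjj]
      congr 1
      · rw [Finset.prod_eq_pow_card (b := X - C b) fun i hi => by rw [if_pos (Finset.mem_range.1 hi)], Finset.card_range]
      · rw [Finset.prod_eq_pow_card (b := X - C (-b)) fun i hi => by rw [if_neg (not_lt.2 (Finset.mem_Ico.1 hi).1)],
          Nat.card_Ico]
    rcases Nat.even_or_odd k with ⟨j, hj⟩ | hko
    · let s : Fin m → F := fun i => if i.1 < j then a else -a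
      have hs : ∀ i, s i * s i = a * a := fun i => by simp only [s]; split_ifs <;> ring
      refine fin0 (fromBlocks (diagonal s) 0 0 (diagonal s)) 1 ?_ ?_ ?_
      · rw [fromBlocks_multiply, diagonal_mul_diagonal, funext hs, ← smul_one_eq_diagonal, ← fromBlocks_one, fromBlocks_smul]
        simp
      · rw [charpoly_fromBlocks_zero₂₁, charpoly_diagonal, hk]
        show (∏ i, (X - C (s i))) * (∏ i, (X - C (s i))) = _
        rw [hsplit a j (by omega), hj, show n - (j + j) = (m - j) + (m - j) by omega]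
        ring
      · simp only [ι0, one_smul, fromBlocks_multiply]
        simp
    · have hm1 : m = 1 := by
        refine hv.resolve_right fun hv' => ?_
        have hd' := det_eq_sign_charpoly_coeff x
        rw [hxd, hk, Fintype.card_fin, mul_coeff_zero, coeff_zero_eq_eval_zero, coeff_zero_eq_eval_zero, eval_pow, eval_pow,
          eval_sub, eval_sub, eval_X, eval_C, eval_C, zero_sub, zero_sub, neg_neg, hko.neg_pow] at hd'
        refine LBInvCl.pow_ne_neg_one h2 (by omega) hv' a ?_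
        have he : Even n := ⟨m, by omega⟩
        rw [he.neg_one_pow, one_mul, neg_mul, ← pow_add, Nat.add_sub_cancel' hkn] at hd'
        rw [hd', neg_neg]
      have hk1 : k = 1 := by obtain ⟨w, hw⟩ := hko; omega
      refine fin0 (fromBlocks (diagonal fun _ => a) 0 0 (diagonal fun _ => -a)) (-1) ?_ ?_ ?_
      · rw [fromBlocks_multiply, diagonal_mul_diagonal, diagonal_mul_diagonal, ← fromBlocks_one, fromBlocks_smul, smul_one_eq_diagonal]
        simp
      · rw [charpoly_fromBlocks_zero₂₁, charpoly_diagonal, charpoly_diagonal, hk, Finset.prod_const, Finset.prod_const,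
          Finset.card_univ, Fintype.card_fin, hk1, hm1, show n - 1 = 1 by omega]
      · simp only [ι0, fromBlocks_multiply, fromBlocks_smul]
        simp [smul_one_eq_diagonal, diagonal_mul_diagonal, mul_comm]
  · have hzd : IsSquare (z * d) := by
      rw [← quadraticChar_one_iff_isSquare (mul_ne_zero hz hd0), map_mul,
        quadraticChar_neg_one_iff_not_isSquare.2 hsq, quadraticChar_neg_one_iff_not_isSquare.2 hdns]
      rfl
    obtain ⟨w, hw⟩ := hzd
    have hκ : ((w / d) • ι) * ((w / d) • ι) = z • 1 := by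
      rw [smul_mul_smul_comm, hιι, smul_smul, show w / d * (w / d) * d = z by field_simp; linear_combination -hw]
    obtain ⟨k, hk1, hk⟩ := LBInvCl.charpoly_nonsquare hxz hsq
    obtain ⟨k', hk1', hk'⟩ := LBInvCl.charpoly_nonsquare hκ hsq
    refine fin (GeneralLinearGroup.mkOfDetNeZero ((w / d) • ι) fun e0 => ?_) hκ
      (by rw [hk]; exact hk'.trans (by rw [show k' = k by omega])) ⟨1, ?_⟩
    · have := congrArg Matrix.det hκ
      rw [det_mul, e0, mul_zero, det_smul, det_one, mul_one] at this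
      exact pow_ne_zero _ hz this.symm
    · show (w / d) • ι * ι = (1 : F) • ι * ((w / d) • ι)
      rw [one_smul, Matrix.smul_mul, Matrix.mul_smul]

/-- Two dimensions, characteristic two. -/
theorem main_two [Fintype F] [CharP F 2] (hK : Cfsg.Geo.IsFieldSubalgebra 2 K) (hn : n = 2) {x : Matrix (Fin n) (Fin n) F}
    (hxd : x.det = 1) (hns : ∀ z : F, x ≠ z • 1) {z : F} (hxz : x * x = z • 1) :
    ∃ (h : GL (Fin n) F) (P : Matrix.SpecialLinearGroup (Fin n) F), (P⁻¹).1 * x * P.1 = h.1 ∧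
      h ∈ Cfsg.Geo.subalgebraNormalizer K := by
  classical
  haveI : Fact (Nat.Prime 2) := ⟨Nat.prime_two⟩
  haveI : Nonempty (Fin n) := ⟨⟨0, by omega⟩⟩
  have hsq : ∀ t : F, ∃ s, t = s * s := fun t => FiniteField.isSquare_of_char_two (ringChar.eq F 2) t
  obtain ⟨a, rfl⟩ := hsq z
  have ha : a ≠ 0 := fun e => by
    have := congrArg Matrix.det hxz
    rw [det_mul, hxd, e, mul_zero, zero_smul, det_zero, mul_one] at this
    exact one_ne_zero this
  obtain ⟨ι, hι, hιns, hgen⟩ := exists_gen hK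
  letI : Field K := IsField.toField
    ⟨⟨0, ⟨ι, hι⟩, fun e => hιns 0 (by rw [zero_smul]; exact (congrArg Subtype.val e).symm)⟩,
      fun a b => Subtype.ext (hK.comm _ a.2 _ b.2), fun {a} ha0 => by
        obtain ⟨y, hy, hay⟩ := hK.inv a.1 a.2 fun e => ha0 (Subtype.ext e)
        exact ⟨⟨y, hy⟩, Subtype.ext hay⟩⟩
  haveI : Finite K := Subtype.finite
  have hι0 : (⟨ι, hι⟩ : K) ≠ 0 := fun e => hιns 0 (by rw [zero_smul]; exact congrArg Subtype.val e)
  letI : Fintype K := Fintype.ofFinite _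
  have hq : 0 < Fintype.card F := Fintype.card_pos
  have hcardK : Fintype.card K = Fintype.card F ^ 2 := by
    rw [← hK.finrank_eq]; exact Module.card_eq_pow_finrank
  have hιs : Module.End.IsSemisimple (Matrix.toLin' ι) := by
    refine SemisimpleCl.isSemisimple_of_pow 2 (m := Fintype.card K - 1) ?_ ?_
    · exact congrArg Subtype.val (FiniteField.pow_card_sub_one_eq_one (⟨ι, hι⟩ : K) hι0)
    · obtain ⟨e, -, he⟩ := FiniteField.card F 2
      rw [Nat.coprime_comm, Nat.prime_two.coprime_iff_not_dvd, hcardK, he]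
      intro h
      have h2 : 2 ∣ (2 ^ (e : ℕ)) ^ 2 := dvd_pow (dvd_pow_self 2 e.ne_zero) two_ne_zero
      have := Nat.one_le_pow 2 (2 ^ (e : ℕ)) (Nat.two_pow_pos _)
      omega
  have hιqs : Module.End.IsSemisimple (Matrix.toLin' (ι ^ Fintype.card F)) := by
    refine SemisimpleCl.isSemisimple_of_pow 2 (m := Fintype.card K - 1) ?_ ?_
    · rw [← pow_mul, mul_comm, pow_mul,
        show ι ^ (Fintype.card K - 1) = 1 from congrArg Subtype.val (FiniteField.pow_card_sub_one_eq_one (⟨ι, hι⟩ : K) hι0),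
        one_pow]
    · obtain ⟨e, -, he⟩ := FiniteField.card F 2
      rw [Nat.coprime_comm, Nat.prime_two.coprime_iff_not_dvd, hcardK, he]
      intro h
      have h2 : 2 ∣ (2 ^ (e : ℕ)) ^ 2 := dvd_pow (dvd_pow_self 2 e.ne_zero) two_ne_zero
      have := Nat.one_le_pow 2 (2 ^ (e : ℕ)) (Nat.two_pow_pos _)
      omega
  have hne : ι ^ Fintype.card F ≠ ι := fun e => by
    have h1 : FiniteField.frobeniusAlgHom F K = 1 := AlgHom.ext fun k => by
      obtain ⟨s, t, hst⟩ := hgen k.1 k.2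
      have hk : k = s • (1 : K) + t • (⟨ι, hι⟩ : K) := Subtype.ext hst
      rw [hk, map_add, map_smul, map_smul, map_one, FiniteField.coe_frobeniusAlgHom]
      simp only []
      rw [show (⟨ι, hι⟩ : K) ^ Fintype.card F = ⟨ι, hι⟩ from Subtype.ext e]
      simp
    have := FiniteField.orderOf_frobeniusAlgHom F K
    rw [h1, orderOf_one] at this
    have := hK.finrank_eq
    omega
  obtain ⟨g, hg⟩ := SemisimpleCl.exists_conjugator hιs hιqs (FiniteField.Matrix.charpoly_pow_card ι).symm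
  have hgN : g ∈ Cfsg.Geo.subalgebraNormalizer K := by
    refine mem_normalizer fun k hk => ?_
    obtain ⟨s, t, rfl⟩ := hgen k hk
    rw [mul_add, add_mul, Matrix.mul_smul, Matrix.mul_smul, mul_one, Matrix.smul_mul, Matrix.smul_mul, hg, Matrix.mul_assoc,
      Units.mul_inv, mul_one]
    exact add_mem (K.smul_mem K.one_mem _) (K.smul_mem (K.pow_mem hι _) _)
  have hord : Even (orderOf g) := by
    by_contra hodd
    rw [Nat.not_even_iff_odd] at hodd
    obtain ⟨w, hw⟩ := hodd
    have hc2 : Commute (g ^ 2).1 ι := by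
      have e2 : g.1 * (ι ^ Fintype.card F) = ι * g.1 := by
        have hcomm : g.1 * (ι ^ Fintype.card F) = (g.1 * ι * (g⁻¹ : GL (Fin n) F).1) ^ Fintype.card F * g.1 := by
          rw [Units.conj_pow, Matrix.mul_assoc _ _ g.1, Units.inv_mul, mul_one]
        rw [hcomm, hg, Matrix.mul_assoc, Units.mul_inv, mul_one, ← pow_mul, ← pow_two]
        congr 1
        have h' : (⟨ι, hι⟩ : K) ^ Fintype.card F ^ 2 = ⟨ι, hι⟩ := by rw [← hcardK]; exact FiniteField.pow_card _
        exact congrArg Subtype.val h'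
      show (g ^ 2).1 * ι = ι * (g ^ 2).1
      rw [pow_two, Units.val_mul, Matrix.mul_assoc, hg, ← Matrix.mul_assoc, e2, Matrix.mul_assoc]
    have hcg : Commute g.1 ι := by
      have : g = (g ^ 2) ^ (w + 1) := by
        rw [← pow_mul, show 2 * (w + 1) = orderOf g + 1 by omega, pow_succ, pow_orderOf_eq_one, one_mul]
      rw [this, Units.val_pow_eq_pow_val]
      exact hc2.pow_left _
    refine hne ?_
    have := hg.symm.trans hcg.eq
    exact (Units.mul_left_inj g).1 this
  obtain ⟨w, hw⟩ := hord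
  obtain ⟨h, hhdef⟩ : ∃ h, h = g ^ w := ⟨_, rfl⟩
  have hh2 : h ^ 2 = 1 := by rw [hhdef, ← pow_mul, show w * 2 = orderOf g by omega, pow_orderOf_eq_one]
  have hh1 : h ≠ 1 := by
    rw [hhdef]
    have := orderOf_pos g
    exact pow_ne_one_of_lt_orderOf (by omega) (by omega)
  have hhN : h ∈ Cfsg.Geo.subalgebraNormalizer K := hhdef ▸ pow_mem hgN w
  obtain ⟨y, hy⟩ : ∃ y, y = a⁻¹ • x := ⟨_, rfl⟩
  have hyy : y * y = 1 := by
    rw [hy, smul_mul_smul_comm, hxz, smul_smul, show a⁻¹ * a⁻¹ * (a * a) = 1 by field_simp, one_smul]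
  let gy : GL (Fin n) F := ⟨y, y, hyy, hyy⟩
  have hy2 : gy ^ 2 = 1 := by rw [pow_two]; exact Units.ext gy.3
  have hy1 : gy ≠ 1 := fun e => hns a (by
    have e' : y = 1 := congrArg Units.val e
    rw [← e', hy, smul_smul, mul_inv_cancel₀ ha, one_smul])
  haveI : CharP (Matrix (Fin n) (Fin n) F) 2 := inferInstance
  have hker : ∀ u : GL (Fin n) F, u ^ 2 = 1 → u ≠ 1 →
      (Matrix.toLinAlgEquiv' (u.1 - 1) : Module.End F (Fin n → F)) ^ 2 = 0 ∧
      Module.finrank F (LinearMap.ker (Matrix.toLinAlgEquiv' (u.1 - 1) : Module.End F (Fin n → F))) = 1 := by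
    intro u hu hu1
    let N : Module.End F (Fin n → F) := Matrix.toLinAlgEquiv' (u.1 - 1)
    have hN2 : N ^ 2 = 0 := by
      simp only [N]
      rw [← map_pow, sub_pow_char_of_commute 2 (Commute.one_right _), one_pow, ← Units.val_pow_eq_pow_val, hu,
        Units.val_one, sub_self, map_zero]
    have hN0 : N ≠ 0 := fun e => hu1 (Units.ext (sub_eq_zero.1 ((map_eq_zero_iff _ (AlgEquiv.injective _)).1 e)))
    refine ⟨hN2, ?_⟩
    have hle : LinearMap.range N ≤ LinearMap.ker N := by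
      rintro _ ⟨v, rfl⟩
      rw [LinearMap.mem_ker, ← Module.End.mul_apply, ← pow_two, hN2, LinearMap.zero_apply]
    have h1 := Submodule.finrank_mono hle
    have h2 := LinearMap.finrank_range_add_finrank_ker N
    rw [Module.finrank_fin_fun] at h2
    have h3 : Module.finrank F (LinearMap.range N) ≠ 0 := fun e =>
      hN0 (LinearMap.range_eq_bot.1 (Submodule.finrank_eq_zero.1 e))
    show Module.finrank F (LinearMap.ker N) = 1
    omega
  obtain ⟨c, hc⟩ := isConj_iff.1 (show IsConj gy h by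
    refine LBUnipPrime.isConj_of_finrank hy2 hh2 fun j => ?_
    rcases j with _ | _ | j
    · rw [pow_zero, pow_zero]
    · rw [pow_one, pow_one, (hker gy hy2 hy1).2, (hker h hh2 hh1).2]
    · rw [show j + 1 + 1 = j + 2 from rfl, pow_add, pow_add, (hker gy hy2 hy1).1, (hker h hh2 hh1).1, mul_zero, mul_zero])
  let h' : GL (Fin n) F := GeneralLinearGroup.mkOfDetNeZero (a • h.1) (by
    rw [det_smul]; exact mul_ne_zero (pow_ne_zero _ ha) (GeneralLinearGroup.det h).ne_zero)
  have hh' : h' ∈ Cfsg.Geo.subalgebraNormalizer K := by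
    have h'inv : (h'⁻¹ : GL (Fin n) F).1 = a⁻¹ • (h⁻¹ : GL (Fin n) F).1 := by
      refine left_inv_eq_right_inv (Units.inv_mul h') ?_
      show a • h.1 * (a⁻¹ • (h⁻¹ : GL (Fin n) F).1) = 1
      rw [smul_mul_smul_comm, mul_inv_cancel₀ ha, Units.mul_inv, one_smul]
    intro k
    rw [hhN k, show h'.1 * k * (h'⁻¹ : GL (Fin n) F).1 = h.1 * k * (h⁻¹ : GL (Fin n) F).1 by
      rw [h'inv, show h'.1 = a • h.1 from rfl, Matrix.smul_mul, Matrix.smul_mul, Matrix.mul_smul, smul_smul,
        mul_inv_cancel₀ ha, one_smul]]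
  have hcx : c.1 * x = h'.1 * c.1 := by
    have e : c.1 * y = h.1 * c.1 := congrArg Units.val (mul_inv_eq_iff_eq_mul.1 hc)
    show c.1 * x = a • h.1 * c.1
    rw [show x = a • y by rw [hy, smul_smul, mul_inv_cancel₀ ha, one_smul], Matrix.mul_smul, e, Matrix.smul_mul]
  obtain ⟨P, hP⟩ := LBInvCl.sl_conj c hcx fun t _ => by
    obtain ⟨s, rfl⟩ := hsq t
    exact ⟨s • 1, by rw [Matrix.smul_mul, Matrix.mul_smul, one_mul, mul_one], by
      rw [det_smul, det_one, mul_one, Fintype.card_fin, hn, pow_two]⟩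
  exact ⟨h', P, hP, hh'⟩

theorem result_of [Fintype F] (p : ℕ) [Fact p.Prime] [CharP F p] (hn : 2 ≤ n) (he : Even n)
    (hK : Cfsg.Geo.IsFieldSubalgebra 2 K) :
    (∀ x : Matrix.SpecialLinearGroup (Fin n) F,
      (∃ z : F, ((x ^ 2 : Matrix.SpecialLinearGroup (Fin n) F) : Matrix (Fin n) (Fin n) F) = z • (1 : Matrix (Fin n) (Fin n) F)) →
      (∀ z : F, (x : Matrix (Fin n) (Fin n) F) ≠ z • (1 : Matrix (Fin n) (Fin n) F)) →
      ∃ P : Matrix.SpecialLinearGroup (Fin n) F, P⁻¹ * x * P ∈ ((Cfsg.Geo.subalgebraNormalizer K).comap (Matrix.SpecialLinearGroup.toGL : Matrix.SpecialLinearGroup (Fin n) F →* GL (Fin n) F))) ↔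
    (n = 2 ∨ (Odd (Fintype.card F) ∧ padicValNat 2 (Fintype.card F - 1) ≤ padicValNat 2 n)) := by
  have hval : ∀ x : Matrix.SpecialLinearGroup (Fin n) F, (x ^ 2 : Matrix.SpecialLinearGroup (Fin n) F).1 = x.1 * x.1 :=
    fun x => by rw [pow_two]; exact Matrix.SpecialLinearGroup.coe_mul _ _
  constructor
  · intro hall
    by_contra hcon
    rw [not_or] at hcon
    have hn3 : 3 ≤ n := by omega
    obtain ⟨x, hxd, ⟨z, hz⟩, hns, b, hb, hrk⟩ := exists_witness p hn3 he hcon.2
    obtain ⟨P, hP⟩ := hall ⟨x, hxd⟩ ⟨z, (hval _).trans hz⟩ hns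
    refine not_normalizes hK hn3 hb ?_ hP
    show ((P⁻¹).1 * x * P.1 - b • 1).rank = 1
    have hu : ∀ A : Matrix.SpecialLinearGroup (Fin n) F, IsUnit A.1.det := fun A => by rw [A.2]; exact isUnit_one
    have e : (P⁻¹).1 * x * P.1 - b • 1 = (P⁻¹).1 * (x - b • 1) * P.1 := by
      rw [mul_sub, sub_mul, Matrix.mul_smul, Matrix.smul_mul, mul_one, ← Matrix.SpecialLinearGroup.coe_mul, inv_mul_cancel,
        Matrix.SpecialLinearGroup.coe_one]
    rw [e, rank_mul_eq_left_of_isUnit_det _ _ (hu P), rank_mul_eq_right_of_isUnit_det _ _ (hu P⁻¹), hrk]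
  · rintro hv x ⟨z, hz⟩ hns
    rw [hval] at hz
    obtain ⟨m, hm⟩ := he
    have key : ∃ (h : GL (Fin n) F) (P : Matrix.SpecialLinearGroup (Fin n) F), (P⁻¹).1 * x.1 * P.1 = h.1 ∧
        h ∈ Cfsg.Geo.subalgebraNormalizer K := by
      by_cases hp : p = 2
      · subst hp
        refine main_two hK (hv.resolve_right fun h => ?_) x.2 hns hz
        obtain ⟨e, -, hF⟩ := FiniteField.card F 2
        rw [hF] at h
        exact Nat.not_even_iff_odd.2 h.1 (Even.pow_of_ne_zero even_two e.ne_zero)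
      · exact main_odd p hp hK (m := m) (by omega) (by omega)
          (hv.elim (fun h => Or.inl (by omega)) (fun h => Or.inr h.2)) x.2 hz
    obtain ⟨h, P, hP, hh⟩ := key
    refine ⟨P, Subgroup.mem_comap.2 ?_⟩
    have : Matrix.SpecialLinearGroup.toGL (P⁻¹ * x * P) = h := Units.ext hP
    rw [this]; exact hh

end Cfsg.Agent.LBLinExtInv
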