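/-
Involutions of PSL_n and subfield subgroups.
-/
import Cfsg.Agent.Lib.LinearBlock.InvolutionClasses
import Cfsg.Agent.Lib.Transvec.SubfieldCore
import Cfsg.Agent.Lib.Aschbacher.Subfield
import Cfsg.Agent.Lib.Classical.SL
import Cfsg.Prelude.Def_GeometricClasses

set_option autoImplicit false
set_option linter.all false

namespace Cfsg.Agent.LBSubfieldInv

open Matrix Polynomial

universe u

variable {F : Type u} [Field F] {n : ℕ} {F₀ : Subfield F}

theorem mem_iff (g : GL (Fin n) F) : g ∈ Cfsg.Geo.subfieldSubgroup F₀ 1 ↔ Transvec.SRat F₀ g := by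
  rw [← Transvec.mem_subfield_one_iff, Cfsg.Geo.subfieldSubgroup]
  simp

theorem odd_geom (x k : ℕ) (hx : Odd x) (hk : Odd k) : ∃ u, Odd u ∧ x ^ k - 1 = (x - 1) * u := by
  refine ⟨∑ i ∈ Finset.range k, x ^ i, ?_, ?_⟩
  · rw [Finset.odd_sum_iff_odd_card_odd, Finset.filter_true_of_mem (fun i _ => hx.pow), Finset.card_range]
    exact hk
  · rw [mul_comm]
    exact (geom_sum_mul_of_one_le hx.pos k).symm

/-- For odd degree the index of the subfield subgroup is odd. -/
theorem index_odd [Fintype F] (hn : 0 < n) {k : ℕ} (hk : Odd k) (hq : Odd (Fintype.card F))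
    (hqk : Fintype.card F = Nat.card F₀ ^ k) :
    ¬ 2 ∣ ((Cfsg.Geo.subfieldSubgroup F₀ 1).comap (Matrix.SpecialLinearGroup.toGL : Matrix.SpecialLinearGroup (Fin n) F →* GL (Fin n) F)).index := by
  classical
  haveI : Fintype F₀ := Fintype.ofFinite _
  obtain ⟨H, hH⟩ : ∃ H, H = (Cfsg.Geo.subfieldSubgroup F₀ 1).comap
      (Matrix.SpecialLinearGroup.toGL : Matrix.SpecialLinearGroup (Fin n) F →* GL (Fin n) F) := ⟨_, rfl⟩
  rw [← hH]
  intro h2
  haveI : Nonempty (Fin n) := ⟨⟨0, hn⟩⟩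
  obtain ⟨Q, hQ⟩ : ∃ Q, Q = Nat.card F₀ := ⟨_, rfl⟩
  rw [← hQ] at hqk
  have hQ2 : 2 ≤ Q := hQ ▸ Finite.one_lt_card
  have hQodd : Odd Q := (Nat.odd_pow_iff (by rintro rfl; exact absurd hk (by simp))).1 (hqk ▸ hq)
  let φ : Matrix.SpecialLinearGroup (Fin n) F₀ →* Matrix.SpecialLinearGroup (Fin n) F :=
    Matrix.SpecialLinearGroup.map F₀.subtype
  have hinj : Function.Injective φ := fun a b e => Subtype.ext (Matrix.ext fun i j =>
    Subtype.ext (congrFun (congrFun (congrArg Subtype.val e) i) j))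
  have hle : φ.range ≤ H := by
    rintro _ ⟨a, rfl⟩
    rw [hH, Subgroup.mem_comap, mem_iff]
    exact ⟨1, one_ne_zero, fun i j => by rw [one_smul]; exact (a.1 i j).2⟩
  have hd : Nat.card (Matrix.SpecialLinearGroup (Fin n) F₀) ∣ Nat.card H := by
    rw [Nat.card_congr (MonoidHom.ofInjective hinj).toEquiv]
    exact Subgroup.card_dvd_of_le hle
  have key : ∀ (L : Type u) [Field L] [Fintype L], (Nat.card L - 1) * Nat.card (Matrix.SpecialLinearGroup (Fin n) L) =
      Nat.card L ^ (∑ i ∈ Finset.range n, i) * ∏ j ∈ Finset.range n, (Nat.card L ^ (j + 1) - 1) := by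
    intro L _ _
    rw [ClassicalSL.card_sl_mul, Matrix.card_GL_field, Nat.card_eq_fintype_card,
      Fin.prod_univ_eq_prod_range (fun i => Fintype.card L ^ n - Fintype.card L ^ i) n,
      ← Finset.prod_range_reflect (fun j => Fintype.card L ^ (j + 1) - 1) n, ← Finset.prod_pow_eq_pow_sum,
      ← Finset.prod_mul_distrib]
    refine Finset.prod_congr rfl fun i hi => ?_
    rw [Finset.mem_range] at hi
    rw [Nat.mul_sub, mul_one, ← pow_add, show i + (n - 1 - i + 1) = n by omega]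
  have k1 := key F
  have k0 := key F₀
  rw [Nat.card_eq_fintype_card (α := F), hqk, ← Subgroup.index_mul_card H] at k1
  rw [← hQ] at k0
  obtain ⟨c, hc⟩ := hd
  obtain ⟨i, hi⟩ := h2
  rw [hc, hi] at k1
  obtain ⟨u0, hu0odd, hu0⟩ := odd_geom Q k hQodd hk
  have hu : ∀ j : ℕ, ∃ u, Odd u ∧ (Q ^ k) ^ (j + 1) - 1 = (Q ^ (j + 1) - 1) * u := fun j => by
    rw [← pow_mul, mul_comm, pow_mul]
    exact odd_geom _ k hQodd.pow hk
  choose u hu1 hu2 using hu
  rw [Finset.prod_congr rfl fun j _ => hu2 j, Finset.prod_mul_distrib, hu0] at k1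
  obtain ⟨P, hP⟩ : ∃ P, P = ∏ j ∈ Finset.range n, (Q ^ (j + 1) - 1) := ⟨_, rfl⟩
  rw [← hP] at k0 k1
  obtain ⟨N, hN⟩ : ∃ N, N = ∑ i ∈ Finset.range n, i := ⟨_, rfl⟩
  rw [← hN] at k0 k1
  have hodd : Odd ((Q ^ k) ^ N * ∏ j ∈ Finset.range n, u j) := by
    refine hQodd.pow.pow.mul ?_
    clear k1
    induction (Finset.range n) using Finset.induction with
    | empty => simp
    | insert a t ha ih => rw [Finset.prod_insert ha]; exact (hu1 a).mul ih
  have hPpos : 0 < P := hP ▸ Finset.prod_pos fun j _ => Nat.sub_pos_of_lt (Nat.one_lt_pow (by omega) (by omega))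
  have e : P * ((Q ^ k) ^ N * ∏ j ∈ Finset.range n, u j) = P * (2 * (u0 * i * c * Q ^ N)) := by
    calc P * ((Q ^ k) ^ N * ∏ j ∈ Finset.range n, u j) = (Q ^ k) ^ N * (P * ∏ j ∈ Finset.range n, u j) := by ring
      _ = 2 * u0 * i * c * ((Q - 1) * Nat.card (Matrix.SpecialLinearGroup (Fin n) F₀)) := by rw [← k1]; ring
      _ = P * (2 * (u0 * i * c * Q ^ N)) := by rw [k0]; ring
  rw [Nat.eq_of_mul_eq_mul_left hPpos e] at hodd
  exact Nat.not_even_iff_odd.2 hodd ⟨u0 * i * c * Q ^ N, two_mul _⟩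

/-- An element rational up to a scalar has, up to a square, rational square. -/
theorem nonsquare_rational {k : ℕ} [Fintype F] (hk : Odd k) (hq : Odd (Fintype.card F))
    (hqk : Fintype.card F = Nat.card F₀ ^ k) {z : F} (hz : z ≠ 0) :
    ∃ z₀ ∈ F₀, ∃ s : F, s ≠ 0 ∧ z = z₀ * (s * s) := by
  obtain ⟨Q, hQ⟩ : ∃ Q, Q = Nat.card F₀ := ⟨_, rfl⟩
  rw [← hQ] at hqk
  have hQodd : Odd Q := (Nat.odd_pow_iff (by rintro rfl; exact absurd hk (by simp))).1 (hqk ▸ hq)
  obtain ⟨u, hu, hu'⟩ := odd_geom Q k hQodd hk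
  obtain ⟨w, hw⟩ := hu
  refine ⟨z ^ u, ?_, (z ^ w)⁻¹, inv_ne_zero (pow_ne_zero _ hz), ?_⟩
  · rw [Aschbacher.mem_subfield_iff, ← hQ, ← pow_mul, show u * Q = (Fintype.card F - 1) + u by
      rw [hqk, hu', mul_comm]
      have := hQodd.pos
      obtain ⟨t, rfl⟩ : ∃ t, Q = t + 1 := ⟨Q - 1, by omega⟩
      rw [Nat.add_sub_cancel]; ring, pow_add, FiniteField.pow_card_sub_one_eq_one z hz, one_mul]
  · have hzw : z ^ w ≠ 0 := pow_ne_zero _ hz
    rw [hw, pow_succ, two_mul, pow_add]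
    field_simp

variable [Fintype F]

theorem exists_witness (hodd : Odd (Fintype.card F)) (h2 : (2 : F) ≠ 0) (hqk : Fintype.card F = Nat.card F₀ ^ 2)
    (hn : 2 ≤ n) (hv : padicValNat 2 (Fintype.card F - 1) < padicValNat 2 n) :
    ∃ (x : Matrix (Fin n) (Fin n) F) (z : F), x.det = 1 ∧ x * x = z • 1 ∧ ¬ IsSquare z := by
  obtain ⟨m, rfl⟩ : 2 ∣ n := dvd_of_one_le_padicValNat (by omega)
  have hm : m ≠ 0 := by rintro rfl; omega
  rw [padicValNat.mul two_ne_zero hm, padicValNat.self one_lt_two] at hv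
  obtain ⟨g, hg⟩ := IsCyclic.exists_ofOrder_eq_natCard (α := Fˣ)
  rw [Nat.card_units, Nat.card_eq_fintype_card] at hg
  have hq1 : 0 < Fintype.card F - 1 := Nat.sub_pos_of_lt Fintype.one_lt_card
  obtain ⟨u, hu⟩ : 2 ^ padicValNat 2 (Fintype.card F - 1) ∣ Fintype.card F - 1 := pow_padicValNat_dvd
  obtain ⟨v, hv'⟩ : 2 ^ padicValNat 2 (Fintype.card F - 1) ∣ m := (pow_dvd_pow 2 (by omega)).trans pow_padicValNat_dvd
  have huodd : Odd u := by
    rw [← Nat.not_even_iff_odd]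
    rintro ⟨w, hw⟩
    have h' : 2 ^ (padicValNat 2 (Fintype.card F - 1) + 1) ∣ Fintype.card F - 1 :=
      ⟨w, hu.trans (by rw [hw]; ring)⟩
    exact pow_succ_padicValNat_not_dvd hq1.ne' h'
  have hgne : ¬ IsSquare (g : F) := by
    rw [FiniteField.isSquare_iff (fun h => h2 (by
      have h' := CharP.cast_eq_zero F (ringChar F); rw [h] at h'; exact_mod_cast h')) g.ne_zero]
    intro e
    have : orderOf g ∣ Fintype.card F / 2 :=
      orderOf_dvd_of_pow_eq_one (Units.ext (by rw [Units.val_pow_eq_pow_val, e, Units.val_one]))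
    rw [hg] at this
    obtain ⟨t, ht⟩ := hodd
    have := Nat.le_of_dvd (by omega) this
    omega
  obtain ⟨w, hw⟩ := huodd
  have hns : ¬ IsSquare ((g : F) ^ u) := by
    rintro ⟨s, hs⟩
    refine hgne ⟨s / (g : F) ^ w, ?_⟩
    have hgw : (g : F) ^ w ≠ 0 := pow_ne_zero _ g.ne_zero
    rw [hw, pow_succ, two_mul, pow_add] at hs
    field_simp
    linear_combination hs
  have hz1 : ((g : F) ^ u) ^ m = 1 := by
    rw [hv', ← pow_mul, ← mul_assoc, mul_comm u, ← hu, pow_mul, FiniteField.pow_card_sub_one_eq_one _ g.ne_zero, one_pow]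
  have hneg : IsSquare (-1 : F) := by
    rw [FiniteField.isSquare_neg_one_iff, hqk]
    have hQ : Odd (Nat.card F₀) := (Nat.odd_pow_iff two_ne_zero).1 (hqk ▸ hodd)
    obtain ⟨t, ht⟩ := hQ
    rw [ht, pow_two, Nat.mul_mod]
    have : (2 * t + 1) % 4 = 1 ∨ (2 * t + 1) % 4 = 3 := by omega
    rcases this with e | e <;> simp [e]
  let E : Fin m ⊕ Fin m ≃ Fin (2 * m) := finSumFinEquiv.trans (finCongr (show m + m = 2 * m by omega))
  refine ⟨reindexAlgEquiv F F E
    (fromBlocks 0 (-((g : F) ^ u) • (1 : Matrix (Fin m) (Fin m) F)) (1 : Matrix (Fin m) (Fin m) F) 0),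
    -((g : F) ^ u), ?_, ?_, fun hsq => hns ?_⟩
  · rw [det_reindexAlgEquiv]
    have : (fromBlocks 0 (-((g : F) ^ u) • (1 : Matrix (Fin m) (Fin m) F)) 1 0).det = ((g : F) ^ u) ^ m := by
      have e : (fromBlocks 0 (-((g : F) ^ u) • (1 : Matrix (Fin m) (Fin m) F)) (1 : Matrix (Fin m) (Fin m) F) 0) =
          fromBlocks (1 : Matrix (Fin m) (Fin m) F) (-1) 0 (1 : Matrix (Fin m) (Fin m) F) *
            fromBlocks (1 : Matrix (Fin m) (Fin m) F) 0 1 (1 : Matrix (Fin m) (Fin m) F) *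
            fromBlocks (1 : Matrix (Fin m) (Fin m) F) (-((g : F) ^ u) • 1) 0 ((g : F) ^ u • (1 : Matrix (Fin m) (Fin m) F)) := by
        rw [fromBlocks_multiply, fromBlocks_multiply]
        simp
      rw [e, det_mul, det_mul, det_fromBlocks_zero₂₁, det_fromBlocks_zero₁₂, det_fromBlocks_zero₂₁]
      simp
    rw [this, hz1]
  · rw [← map_mul, fromBlocks_multiply, ← map_one (reindexAlgEquiv F F E), ← map_smul, ← fromBlocks_one, fromBlocks_smul]
    simp
  · obtain ⟨s, hs⟩ := hneg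
    obtain ⟨t, ht⟩ := hsq
    exact ⟨s * t, by linear_combination -ht + t * t * hs⟩

/-- No rational-up-to-scalar matrix squares to a non-square scalar when the degree is two. -/
theorem square_of_srat (hodd : Odd (Fintype.card F)) (h2 : (2 : F) ≠ 0) (hqk : Fintype.card F = Nat.card F₀ ^ 2) (hn : 0 < n)
    {g : GL (Fin n) F} {z : F} (hg : g.1 * g.1 = z • 1) (hs : Transvec.SRat F₀ g) : IsSquare z := by
  obtain ⟨a, ha, hr⟩ := hs
  have hprod : Transvec.RatM F₀ ((a • g.1) * (a • g.1)) := Transvec.ratM_mul hr hr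
  have e := hprod ⟨0, hn⟩ ⟨0, hn⟩
  rw [smul_mul_smul_comm, hg, smul_smul, Matrix.smul_apply, one_apply_eq, smul_eq_mul, mul_one] at e
  rcases eq_or_ne z 0 with rfl | hz
  · exact ⟨0, (mul_zero 0).symm⟩
  have hne : a * a * z ≠ 0 := mul_ne_zero (mul_ne_zero ha ha) hz
  have hsq : IsSquare (a * a * z) := by
    rw [FiniteField.isSquare_iff (fun h => h2 (by
      have h' := CharP.cast_eq_zero F (ringChar F); rw [h] at h'; exact_mod_cast h')) hne]
    have h1 : (a * a * z) ^ (Nat.card F₀ - 1) = 1 := by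
      refine mul_right_cancel₀ hne ?_
      rw [← pow_succ, Nat.sub_add_cancel (Finite.one_lt_card.le), one_mul]
      exact (Aschbacher.mem_subfield_iff F₀).1 e
    obtain ⟨t, ht⟩ := (Nat.odd_pow_iff two_ne_zero).1 (hqk ▸ hodd)
    rw [show Fintype.card F / 2 = (Nat.card F₀ - 1) * (t + 1) by
      rw [hqk, ht, Nat.add_sub_cancel]
      have e : (2 * t + 1) ^ 2 = 2 * (2 * t * (t + 1)) + 1 := by ring
      omega, pow_mul, h1, one_pow]
  obtain ⟨w, hw⟩ := hsq
  exact ⟨w / a, by field_simp; linear_combination hw⟩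

theorem main_odd (p : ℕ) [Fact p.Prime] [CharP F p] (hp : p ≠ 2) (hn : 2 ≤ n) {x : Matrix (Fin n) (Fin n) F}
    (hxd : x.det = 1) {z : F} (hxz : x * x = z • 1)
    (hz0 : ¬ IsSquare z → ∃ z₀ ∈ F₀, ∃ s : F, s ≠ 0 ∧ z = z₀ * (s * s)) :
    ∃ (h : GL (Fin n) F) (P : Matrix.SpecialLinearGroup (Fin n) F), (P⁻¹).1 * x * P.1 = h.1 ∧
      h ∈ Cfsg.Geo.subfieldSubgroup F₀ 1 := by
  classical
  haveI : Nonempty (Fin n) := ⟨⟨0, by omega⟩⟩
  have hz : z ≠ 0 := fun e => by
    have := congrArg Matrix.det hxz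
    rw [det_mul, hxd, e, zero_smul, det_zero, mul_one] at this
    exact one_ne_zero this
  suffices ∃ (A : Matrix (Fin n) (Fin n) F) (a : F), a ≠ 0 ∧ Transvec.RatM F₀ (a • A) ∧ A * A = z • 1 ∧ A.charpoly = x.charpoly by
    obtain ⟨A, a, ha, hr, hA, hc⟩ := this
    obtain ⟨P, hP⟩ := LBInvCl.sl_conj_semisimple (by omega) (LBInvCl.semisimple_of_sq p hp hz hxz)
      (LBInvCl.semisimple_of_sq p hp hz hA) hc.symm
    exact ⟨GeneralLinearGroup.mkOfDetNeZero A (by rw [LBInvCl.det_eq_of_charpoly hc, hxd]; exact one_ne_zero), P, hP,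
      (mem_iff _).2 ⟨a, ha, hr⟩⟩
  by_cases hsq : IsSquare z
  · obtain ⟨b, rfl⟩ := hsq
    have hb : b ≠ 0 := fun e => hz (by rw [e, mul_zero])
    obtain ⟨k, hkn, hk⟩ := LBInvCl.charpoly_square hxz
    refine ⟨diagonal fun i => if i.1 < k then b else -b, b⁻¹, inv_ne_zero hb, fun i j => ?_, ?_, ?_⟩
    · rw [Matrix.smul_apply, diagonal_apply, smul_eq_mul]
      by_cases hij : i = j
      · rw [if_pos hij]
        split_ifs
        · rw [inv_mul_cancel₀ hb]; exact F₀.one_mem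
        · rw [mul_neg, inv_mul_cancel₀ hb]; exact F₀.neg_mem F₀.one_mem
      · rw [if_neg hij, mul_zero]; exact F₀.zero_mem
    · rw [diagonal_mul_diagonal, smul_one_eq_diagonal]
      exact congrArg diagonal (funext fun i => by split_ifs <;> ring)
    · rw [charpoly_diagonal, hk, Fin.prod_univ_eq_prod_range (fun i => X - C (if i < k then b else -b)) n,
        ← Finset.prod_range_mul_prod_Ico _ hkn]
      congr 1
      · rw [Finset.prod_eq_pow_card (b := X - C b) fun i hi => by rw [if_pos (Finset.mem_range.1 hi)], Finset.card_range]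
      · rw [Finset.prod_eq_pow_card (b := X - C (-b)) fun i hi => by rw [if_neg (not_lt.2 (Finset.mem_Ico.1 hi).1)],
          Nat.card_Ico]
  · obtain ⟨z₀, hz₀, s, hs, rfl⟩ := hz0 hsq
    obtain ⟨k, hkn, hk⟩ := LBInvCl.charpoly_nonsquare hxz hsq
    obtain ⟨R, hR⟩ : ∃ R : Matrix (Fin k ⊕ Fin k) (Fin k ⊕ Fin k) F, R = fromBlocks 0 (z₀ • 1) 1 0 := ⟨_, rfl⟩
    let e : Fin k ⊕ Fin k ≃ Fin n := finSumFinEquiv.trans (finCongr (by omega))
    have hA2 : (s • reindexAlgEquiv F F e R) * (s • reindexAlgEquiv F F e R) = (z₀ * (s * s)) • 1 := by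
      rw [smul_mul_smul_comm, ← map_mul, hR, fromBlocks_multiply, mul_comm z₀, mul_smul (s * s)]
      congr 1
      rw [← map_one (reindexAlgEquiv F F e), ← map_smul, ← fromBlocks_one, fromBlocks_smul]
      simp
    refine ⟨_, s⁻¹, inv_ne_zero hs, fun i j => ?_, hA2, ?_⟩
    · rw [smul_smul, inv_mul_cancel₀ hs, one_smul, reindexAlgEquiv_apply, reindex_apply, submatrix_apply, hR]
      rcases e.symm i with a | a <;> rcases e.symm j with b | b <;>
        simp [Matrix.smul_apply, one_apply] <;> split_ifs <;> first | exact hz₀ | exact F₀.one_mem | exact F₀.zero_mem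
    · obtain ⟨k', hk'n, hk'⟩ := LBInvCl.charpoly_nonsquare hA2 hsq
      rw [hk', hk, show k' = k by omega]

theorem main_two [CharP F 2] (hn : 2 ≤ n) {x : Matrix (Fin n) (Fin n) F}
    (hxd : x.det = 1) (hns : ∀ z : F, x ≠ z • 1) {z : F} (hxz : x * x = z • 1) :
    ∃ (h : GL (Fin n) F) (P : Matrix.SpecialLinearGroup (Fin n) F), (P⁻¹).1 * x * P.1 = h.1 ∧
      h ∈ Cfsg.Geo.subfieldSubgroup F₀ 1 := by
  classical
  haveI : Fact (Nat.Prime 2) := ⟨Nat.prime_two⟩
  haveI : Nonempty (Fin n) := ⟨⟨0, by omega⟩⟩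
  haveI : CharP (Matrix (Fin n) (Fin n) F) 2 := inferInstance
  have hsq : ∀ t : F, ∃ s, t = s * s := fun t => FiniteField.isSquare_of_char_two (ringChar.eq F 2) t
  obtain ⟨a, rfl⟩ := hsq z
  have ha : a ≠ 0 := fun e => by
    have := congrArg Matrix.det hxz
    rw [det_mul, hxd, e, mul_zero, zero_smul, det_zero, mul_one] at this
    exact one_ne_zero this
  obtain ⟨y, hy⟩ : ∃ y, y = a⁻¹ • x := ⟨_, rfl⟩
  have hyy : y * y = 1 := by
    rw [hy, smul_mul_smul_comm, hxz, smul_smul, show a⁻¹ * a⁻¹ * (a * a) = 1 by field_simp, one_smul]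
  let φ : Module.End F (Fin n → F) := Matrix.toLinAlgEquiv' (y - 1)
  have hphi : φ * φ = 0 := by
    simp only [φ]
    rw [← map_mul, show (y - 1) * (y - 1) = 0 by
      rw [sub_mul, one_mul, mul_sub, mul_one, hyy, CharTwo.sub_eq_add, CharTwo.sub_eq_add, CharTwo.sub_eq_add,
        add_comm y 1, CharTwo.add_self_eq_zero], map_zero]
  obtain ⟨k, hk⟩ : ∃ k, k = Module.finrank F (LinearMap.range φ) := ⟨_, rfl⟩
  have hker : Module.finrank F (LinearMap.ker φ) + k = n := by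
    rw [hk, add_comm, LinearMap.finrank_range_add_finrank_ker, Module.finrank_fin_fun]
  have hk0 : 0 < k := by
    refine Nat.pos_of_ne_zero fun e => hns a ?_
    rw [hk] at e
    have h0 : φ = 0 := LinearMap.range_eq_bot.1 (Submodule.finrank_eq_zero.1 e)
    have hy1 : y = 1 := sub_eq_zero.1 ((map_eq_zero_iff _ (AlgEquiv.injective _)).1 h0)
    rw [← hy1, hy, smul_smul, mul_inv_cancel₀ ha, one_smul]
  have hkm : 2 * k ≤ n := by
    have : LinearMap.range φ ≤ LinearMap.ker φ := by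
      rintro _ ⟨v, rfl⟩
      rw [LinearMap.mem_ker, ← Module.End.mul_apply, hphi, LinearMap.zero_apply]
    have := Submodule.finrank_mono this
    omega
  let e : (Fin k ⊕ Fin k) ⊕ Fin (n - 2 * k) ≃ Fin n :=
    ((Equiv.sumCongr finSumFinEquiv (Equiv.refl _)).trans finSumFinEquiv).trans (finCongr (by omega))
  let E := reindexAlgEquiv F F e
  obtain ⟨U, hU⟩ : ∃ U : Matrix ((Fin k ⊕ Fin k) ⊕ Fin (n - 2 * k)) ((Fin k ⊕ Fin k) ⊕ Fin (n - 2 * k)) F,
      U = fromBlocks (fromBlocks 1 1 0 1) 0 0 1 := ⟨_, rfl⟩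
  have hU2 : U * U = 1 := by
    haveI : Nonempty (Fin k) := ⟨⟨0, hk0⟩⟩
    haveI : CharP (Matrix (Fin k) (Fin k) F) 2 := inferInstance
    rw [hU, fromBlocks_multiply, ← fromBlocks_one, fromBlocks_multiply]
    simp [CharTwo.add_self_eq_zero]
  let g : GL (Fin n) F := ⟨y, y, hyy, hyy⟩
  let h : GL (Fin n) F := ⟨E U, E U, by rw [← map_mul, hU2, map_one], by rw [← map_mul, hU2, map_one]⟩
  have hg2 : g ^ 2 = 1 := by rw [pow_two]; exact Units.ext g.3
  have hh2 : h ^ 2 = 1 := by rw [pow_two]; exact Units.ext h.3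
  let ψ : Module.End F (Fin n → F) := Matrix.toLinAlgEquiv' (E U - 1)
  obtain ⟨N, hN⟩ : ∃ N : Matrix ((Fin k ⊕ Fin k) ⊕ Fin (n - 2 * k)) ((Fin k ⊕ Fin k) ⊕ Fin (n - 2 * k)) F,
      N = fromBlocks (fromBlocks 0 1 0 0) 0 0 0 := ⟨_, rfl⟩
  have e1 : E U - 1 = E N := by
    rw [← map_one E, ← map_sub, hU, hN, ← fromBlocks_one, ← fromBlocks_one, sub_eq_add_neg, fromBlocks_neg, fromBlocks_add,
      fromBlocks_neg, fromBlocks_add]
    simp
  have hpsi : ψ * ψ = 0 := by
    simp only [ψ]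
    rw [e1, ← map_mul, ← map_mul, hN, fromBlocks_multiply, fromBlocks_multiply]
    simp
  have hrk : Module.finrank F (LinearMap.range ψ) = k := by
    refine (congrArg (fun A => Module.finrank F (LinearMap.range (Matrix.toLinAlgEquiv' A : Module.End F (Fin n → F)))) e1).trans ?_
    show (E N).rank = k
    rw [show E N = reindex e e N from rfl, rank_reindex, hN,
      show (fromBlocks (fromBlocks 0 1 0 0) 0 0 0 : Matrix ((Fin k ⊕ Fin k) ⊕ Fin (n - 2 * k)) ((Fin k ⊕ Fin k) ⊕ Fin (n - 2 * k)) F) =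
        (diagonal (Sum.elim (Sum.elim (fun _ => (1 : F)) 0) 0)).submatrix (Equiv.refl _)
          (Equiv.sumCongr (Equiv.sumComm _ _) (Equiv.refl _)) by
      ext ((i | i) | i) ((j | j) | j) <;> simp [diagonal_apply, one_apply],
      rank_submatrix, rank_diagonal]
    refine (Fintype.card_congr ?_).trans (Fintype.card_fin k)
    exact
      { toFun := fun i => match i with
          | ⟨Sum.inl (Sum.inl i), hi⟩ => i
          | ⟨Sum.inl (Sum.inr i), hi⟩ => absurd rfl hi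
          | ⟨Sum.inr i, hi⟩ => absurd rfl hi
        invFun := fun i => ⟨Sum.inl (Sum.inl i), by simp⟩
        left_inv := fun ⟨i, hi⟩ => by
          rcases i with (i | i) | i
          · rfl
          · exact absurd rfl hi
          · exact absurd rfl hi
        right_inv := fun i => rfl }
  have hconj : IsConj g h := by
    refine LBUnipPrime.isConj_of_finrank hg2 hh2 fun j => ?_
    show Module.finrank F (LinearMap.ker (φ ^ j)) = Module.finrank F (LinearMap.ker (ψ ^ j))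
    rcases j with _ | _ | j
    · rw [pow_zero, pow_zero]
    · have := LinearMap.finrank_range_add_finrank_ker ψ
      rw [Module.finrank_fin_fun, hrk] at this
      rw [pow_one, pow_one]
      omega
    · rw [pow_succ' φ, pow_succ' φ, ← mul_assoc, hphi, zero_mul, pow_succ' ψ, pow_succ' ψ, ← mul_assoc, hpsi, zero_mul]
  obtain ⟨cc, hcc⟩ := isConj_iff.1 hconj
  have hcx : cc.1 * x = E (a • U) * cc.1 := by
    have e : cc.1 * y = E U * cc.1 := congrArg Units.val (mul_inv_eq_iff_eq_mul.1 hcc)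
    rw [show x = a • y by rw [hy, smul_smul, mul_inv_cancel₀ ha, one_smul], map_smul, Matrix.mul_smul, e, Matrix.smul_mul]
  obtain ⟨P, hP⟩ := LBInvCl.sl_conj cc hcx fun t ht => by
    obtain ⟨r, rfl⟩ := hsq t
    obtain ⟨D, hD⟩ : ∃ D : Fin k → F, D = Function.update (1 : Fin k → F) ⟨0, hk0⟩ r := ⟨_, rfl⟩
    obtain ⟨M, hM⟩ : ∃ M : Matrix ((Fin k ⊕ Fin k) ⊕ Fin (n - 2 * k)) ((Fin k ⊕ Fin k) ⊕ Fin (n - 2 * k)) F,
        M = fromBlocks (fromBlocks (diagonal D) 0 0 (diagonal D)) 0 0 1 := ⟨_, rfl⟩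
    have hMU : M * (a • U) = (a • U) * M := by
      rw [hM, hU, Matrix.mul_smul, Matrix.smul_mul]
      simp only [fromBlocks_multiply, Matrix.mul_zero, Matrix.zero_mul, add_zero, zero_add, Matrix.one_mul, Matrix.mul_one]
    refine ⟨(cc⁻¹ : GL (Fin n) F).1 * E M * cc.1, ?_, ?_⟩
    · have ex : x = (cc⁻¹ : GL (Fin n) F).1 * E (a • U) * cc.1 := by
        rw [Matrix.mul_assoc, ← hcx, ← Matrix.mul_assoc, Units.inv_mul, one_mul]
      rw [ex]
      simp only [Matrix.mul_assoc, Units.mul_inv_cancel_left]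
      rw [← Matrix.mul_assoc (E M), ← map_mul, hMU, map_mul, Matrix.mul_assoc]
    · rw [det_mul, det_mul, show E M = reindexAlgEquiv F F e M from rfl, det_reindexAlgEquiv, hM,
        det_fromBlocks_zero₂₁, det_fromBlocks_zero₂₁, det_one, mul_one, det_diagonal, hD,
        Finset.prod_update_of_mem (Finset.mem_univ _)]
      rw [show (∏ i ∈ Finset.univ \ {(⟨0, hk0⟩ : Fin k)}, (1 : Fin k → F) i) = 1 by simp, mul_one]
      have := congrArg Matrix.det (Units.inv_mul cc)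
      rw [det_mul, det_one] at this
      linear_combination (r * r) * this
  let h' : GL (Fin n) F := GeneralLinearGroup.mkOfDetNeZero (E (a • U)) (by
    rw [← hP, det_mul, det_mul, hxd, (P⁻¹).2, P.2]; simp)
  refine ⟨h', P, hP, (mem_iff _).2 ⟨a⁻¹, inv_ne_zero ha, ?_⟩⟩
  show Transvec.RatM F₀ (a⁻¹ • E (a • U))
  rw [← map_smul, smul_smul, inv_mul_cancel₀ ha, one_smul, hU]
  intro i j
  show (fromBlocks (fromBlocks 1 1 0 1) 0 0 1 : Matrix ((Fin k ⊕ Fin k) ⊕ Fin (n - 2 * k)) ((Fin k ⊕ Fin k) ⊕ Fin (n - 2 * k)) F)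
    (e.symm i) (e.symm j) ∈ F₀
  rcases e.symm i with (a | a) | a <;> rcases e.symm j with (b | b) | b <;>
    simp [one_apply] <;> split_ifs <;> first | exact F₀.one_mem | exact F₀.zero_mem

theorem result_of (p : ℕ) [Fact p.Prime] [CharP F p] (hn : 2 ≤ n) {k : ℕ} (hk : k.Prime)
    (hqk : Fintype.card F = Nat.card F₀ ^ k)
    (hΩ : 2 ∣ ((Cfsg.Geo.subfieldSubgroup F₀ 1).comap (Matrix.SpecialLinearGroup.toGL : Matrix.SpecialLinearGroup (Fin n) F →* GL (Fin n) F)).index) :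
    (∀ x : Matrix.SpecialLinearGroup (Fin n) F,
      (∃ z : F, ((x ^ 2 : Matrix.SpecialLinearGroup (Fin n) F) : Matrix (Fin n) (Fin n) F) = z • (1 : Matrix (Fin n) (Fin n) F)) →
      (∀ z : F, (x : Matrix (Fin n) (Fin n) F) ≠ z • (1 : Matrix (Fin n) (Fin n) F)) →
      ∃ P : Matrix.SpecialLinearGroup (Fin n) F, P⁻¹ * x * P ∈ ((Cfsg.Geo.subfieldSubgroup F₀ 1).comap (Matrix.SpecialLinearGroup.toGL : Matrix.SpecialLinearGroup (Fin n) F →* GL (Fin n) F))) ↔
    (Odd (Fintype.card F) → (k = 2 ∧ padicValNat 2 n ≤ padicValNat 2 (Fintype.card F - 1))) := by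
  have hval : ∀ x : Matrix.SpecialLinearGroup (Fin n) F, (x ^ 2 : Matrix.SpecialLinearGroup (Fin n) F).1 = x.1 * x.1 :=
    fun x => by rw [pow_two]; exact Matrix.SpecialLinearGroup.coe_mul _ _
  have hpp : p.Prime := Fact.out
  obtain ⟨e, -, hF⟩ := FiniteField.card F p
  have h2of : Odd (Fintype.card F) → (2 : F) ≠ 0 ∧ p ≠ 2 := fun hodd => by
    have hp : p ≠ 2 := by
      rintro rfl
      rw [hF] at hodd
      exact Nat.not_even_iff_odd.2 hodd (Even.pow_of_ne_zero even_two e.ne_zero)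
    refine ⟨fun h2 => ?_, hp⟩
    have : ((2 : ℕ) : F) = 0 := by exact_mod_cast h2
    rw [CharP.cast_eq_zero_iff F p] at this
    exact hp ((Nat.prime_dvd_prime_iff_eq hpp Nat.prime_two).1 this)
  constructor
  · intro hall hodd
    obtain ⟨h2, hp⟩ := h2of hodd
    have hk2 : k = 2 := (hk.eq_two_or_odd').resolve_right fun hko => index_odd (by omega) hko hodd hqk hΩ
    refine ⟨hk2, ?_⟩
    subst hk2
    by_contra hv
    rw [not_le] at hv
    obtain ⟨x, z, hxd, hxz, hns⟩ := exists_witness hodd h2 hqk hn hv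
    obtain ⟨P, hP⟩ := hall ⟨x, hxd⟩ ⟨z, (hval _).trans hxz⟩ (fun w e => hns ⟨w, by
      have hxz' := hxz
      rw [show x = w • 1 from e, smul_mul_smul_comm, one_mul] at hxz'
      have := congrFun (congrFun hxz' ⟨0, by omega⟩) ⟨0, by omega⟩
      simpa using this.symm⟩)
    refine hns (square_of_srat hodd h2 hqk (show 0 < n by omega) ?_ ((mem_iff _).1 hP))
    show ((P⁻¹).1 * x * P.1) * ((P⁻¹).1 * x * P.1) = z • 1
    have hPi : P.1 * (P⁻¹).1 = 1 := by rw [← Matrix.SpecialLinearGroup.coe_mul, mul_inv_cancel]; rfl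
    have hiP : (P⁻¹).1 * P.1 = 1 := by rw [← Matrix.SpecialLinearGroup.coe_mul, inv_mul_cancel]; rfl
    calc ((P⁻¹).1 * x * P.1) * ((P⁻¹).1 * x * P.1) = (P⁻¹).1 * x * (P.1 * (P⁻¹).1) * x * P.1 := by
          simp only [Matrix.mul_assoc]
      _ = (P⁻¹).1 * (x * x) * P.1 := by rw [hPi, mul_one, Matrix.mul_assoc (P⁻¹).1 x x]
      _ = z • 1 := by rw [hxz, Matrix.mul_smul, Matrix.smul_mul, mul_one, hiP]
  · rintro hR x ⟨z, hz⟩ hns
    rw [hval] at hz
    have key : ∃ (h : GL (Fin n) F) (P : Matrix.SpecialLinearGroup (Fin n) F), (P⁻¹).1 * x.1 * P.1 = h.1 ∧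
        h ∈ Cfsg.Geo.subfieldSubgroup F₀ 1 := by
      by_cases hp : p = 2
      · subst hp
        exact main_two hn x.2 hns hz
      · refine main_odd p hp hn x.2 hz fun hsq => ?_
        have hodd : Odd (Fintype.card F) := by rw [hF]; exact (hpp.odd_of_ne_two hp).pow
        obtain ⟨h2, -⟩ := h2of hodd
        obtain ⟨hk2, hv⟩ := hR hodd
        exfalso
        subst hk2
        obtain ⟨m, hm, hc⟩ := LBInvCl.charpoly_nonsquare hz hsq
        have hd := det_eq_sign_charpoly_coeff x.1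
        rw [x.2, hc, Fintype.card_fin, coeff_zero_eq_eval_zero, eval_pow, eval_sub, eval_pow, eval_X, eval_C,
          zero_pow two_ne_zero, zero_sub, hm, pow_mul, neg_one_sq, one_pow, one_mul] at hd
        have hzne : -z ≠ 0 := fun e => by rw [e, zero_pow (by omega)] at hd; exact one_ne_zero hd
        have hm0 : m ≠ 0 := by omega
        rw [hm, padicValNat.mul two_ne_zero hm0, padicValNat.self one_lt_two] at hv
        refine hsq ?_
        obtain ⟨g, hg⟩ : ∃ g, g = Nat.gcd m (Fintype.card F - 1) := ⟨_, rfl⟩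
        have hgm : g ∣ m := hg ▸ Nat.gcd_dvd_left _ _
        obtain ⟨c, hc'⟩ : g ∣ Fintype.card F - 1 := hg ▸ Nat.gcd_dvd_right _ _
        have hpow : (-z) ^ g = 1 := hg ▸ pow_gcd_eq_one.2 ⟨hd.symm, FiniteField.pow_card_sub_one_eq_one _ hzne⟩
        obtain ⟨c', hc''⟩ : 2 ∣ c := by
          by_contra hc2
          have h1 : 2 ^ padicValNat 2 (Fintype.card F - 1) ∣ g * c := hc' ▸ pow_padicValNat_dvd
          have h2' := ((Nat.prime_two.coprime_iff_not_dvd.2 hc2).pow_left _).dvd_of_dvd_mul_right h1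
          have := (padicValNat_dvd_iff_le hm0).1 (h2'.trans hgm)
          omega
        have hhalf : (-z) ^ (Fintype.card F / 2) = 1 := by
          rw [show Fintype.card F / 2 = g * c' by
            have : Fintype.card F - 1 = 2 * (g * c') := by rw [hc', hc'']; ring
            omega, pow_mul, hpow, one_pow]
        have hneg : IsSquare (-1 : F) := by
          rw [FiniteField.isSquare_neg_one_iff, hqk]
          obtain ⟨t, ht⟩ := (Nat.odd_pow_iff two_ne_zero).1 (hqk ▸ hodd)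
          rw [ht, pow_two, Nat.mul_mod]
          have : (2 * t + 1) % 4 = 1 ∨ (2 * t + 1) % 4 = 3 := by omega
          rcases this with e | e <;> simp [e]
        have hsq' : IsSquare (-z) := (FiniteField.isSquare_iff (by rw [ringChar.eq F p]; exact hp) hzne).2 hhalf
        obtain ⟨s, hs⟩ := hneg
        obtain ⟨t, ht⟩ := hsq'
        exact ⟨s * t, by linear_combination -ht + t * t * hs⟩
    obtain ⟨h, P, hP, hh⟩ := key
    refine ⟨P, Subgroup.mem_comap.2 ?_⟩
    have : Matrix.SpecialLinearGroup.toGL (P⁻¹ * x * P) = h := Units.ext hP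
    rw [this]; exact hh

end Cfsg.Agent.LBSubfieldInv
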