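/-
Elements of order p fixing a non-degenerate subspace: the conditions on partitions.
-/
import Cfsg.Agent.Lib.LinearBlock.OrthTypeElem

set_option autoImplicit false
set_option linter.all false

namespace Cfsg.Agent.LBType

open QuadraticMap Module Matrix

variable {F : Type*} [Field F] [Fintype F] (p : ℕ) [Fact p.Prime] [CharP F p] {ι : Type} [Fintype ι] [DecidableEq ι]
  {Q : QuadraticForm F (ι → F)} {P : Submodule F (ι → F) → Prop} {m : ℕ}

/-- Every element of order p of Ω fixes a non-degenerate m-space with the property P. -/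
def Fixes (Q : QuadraticForm F (ι → F)) (P : Submodule F (ι → F) → Prop) (m : ℕ) : Prop :=
  ∀ x : GL ι F, x ∈ Cfsg.Geo.omegaGL (⇑Q) → x ^ p = 1 → (∀ z : F, x.1 ≠ z • (1 : Matrix ι ι F)) →
    ∃ W : Submodule F (ι → F), (finrank F W = m ∧ Cfsg.Geo.IsNondegenerateOn (QuadraticMap.polar ⇑Q) W ∧ P W) ∧
      W.map (Matrix.toLin' x.1) ≤ W

theorem key (hp2 : p ≠ 2) (hQ : (polarBilin Q).Nondegenerate) (hn : 5 ≤ Fintype.card ι) (hfix : Fixes p Q P m)
    (μ : Multiset ℕ) (hμ : ∀ e ∈ μ, 0 < e ∧ e ≤ p) (hev : ∀ e : ℕ, Even e → Even (μ.count e))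
    (hsum : μ.sum = Fintype.card ι) (hodd : ∃ e ∈ μ, Odd e) (hbig : ∃ e ∈ μ, 2 ≤ e) :
    ∃ W : Submodule F (ι → F), P W ∧ finrank F W = m ∧ ∃ ν : Multiset ℕ, ν ≤ μ ∧ ν.sum = m ∧
      (∀ e : ℕ, Even e → Even (ν.count e)) ∧ ((∀ e, e ≠ 2 → ν.count e = 0) → Cfsg.Geo.IsPlusTypeOn (⇑Q) W) := by
  classical
  have hp : p.Prime := Fact.out
  have h2 : (2 : F) ≠ 0 := Ring.two_ne_zero (fun e => hp2 ((ringChar.eq F p) ▸ e))
  obtain ⟨t, d, hmap⟩ : ∃ (t : ℕ) (d : Fin t → ℕ), (Finset.univ : Finset (Fin t)).val.map d = μ :=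
    ⟨μ.toList.length, μ.toList.get, by rw [Fin.univ_def, Multiset.map_coe, List.map_get_finRange, Multiset.coe_toList]⟩
  have hmem : ∀ k, d k ∈ μ := fun k => hmap ▸ Multiset.mem_map_of_mem _ (Finset.mem_univ k)
  have hcnt : ∀ j, (Finset.univ.filter fun k : Fin t => d k = j).card = μ.count j := fun j => by
    rw [← hmap, Multiset.count_map, Finset.card_def, Finset.filter_val]
    congr 1
    exact Multiset.filter_congr fun k _ => eq_comm
  have hex : ∀ {e : ℕ}, e ∈ μ → ∃ k, d k = e := fun he => by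
    rw [← hmap, Multiset.mem_map] at he
    exact he.imp fun k hk => hk.2
  obtain ⟨x, hxΩ, hxp, hlay⟩ := exists_elem p hp2 hQ hn d (fun k => (hμ _ (hmem k)).1) (fun k => (hμ _ (hmem k)).2)
    (by rw [← hsum, ← hmap]; rfl) (fun j hj _ => by rw [hcnt]; exact hev j hj)
    (by obtain ⟨e, he, ho⟩ := hodd; obtain ⟨k, rfl⟩ := hex he; exact ⟨k, ho⟩)
  obtain ⟨N, hN⟩ : ∃ N : Module.End F (ι → F), N = Matrix.toLin' x.1 - 1 := ⟨_, rfl⟩
  rw [← hN] at hlay
  have hns : ∀ z : F, x.1 ≠ z • (1 : Matrix ι ι F) := by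
    intro z hz
    haveI : Nonempty ι := Fintype.card_pos_iff.1 (by omega)
    have e1 : (x ^ p).1 = (1 : Matrix ι ι F) := by rw [hxp]; rfl
    rw [Units.val_pow_eq_pow_val, hz, smul_pow, one_pow] at e1
    have e2 : z ^ p = 1 := by simpa [Matrix.smul_apply] using congrFun (congrFun e1 (Classical.arbitrary ι)) (Classical.arbitrary ι)
    have e3 : z = 1 := by
      have : (z - 1) ^ p = 0 := by rw [sub_pow_char, e2, one_pow, sub_self]
      exact sub_eq_zero.1 (pow_eq_zero_iff (Fact.out : p.Prime).ne_zero |>.1 this)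
    have h0 : N = 0 := by rw [hN, hz, e3, one_smul, Matrix.toLin'_one, Module.End.one_eq_id, sub_self]
    obtain ⟨e, he, he2⟩ := hbig
    obtain ⟨k, hk⟩ := hex he
    have h3 := hlay 1
    rw [lay_of_nilp N (m := 1) (by rw [pow_one, h0])] at h3
    exact Finset.notMem_empty k (Finset.card_eq_zero.1 h3.symm ▸ Finset.mem_filter.2 ⟨Finset.mem_univ k, by omega⟩)
  obtain ⟨W, ⟨hWm, hWnd, hWP⟩, hmap'⟩ := hfix x hxΩ hxp hns
  obtain ⟨B, hB⟩ : ∃ B : LinearMap.BilinForm F (ι → F), B = polarBilin Q := ⟨_, rfl⟩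
  have hBv : ∀ u v, B u v = polar Q u v := fun u v => by rw [hB]; rfl
  have hs : B.IsSymm := ⟨fun u v => by show B u v = B v u; rw [hBv, hBv, Orth.b_comm]⟩
  have hxm : ∀ v, Q (x.1 *ᵥ v) = Q v := Orth.mem_isometryGroup.1 (by
    obtain ⟨y, -, hy⟩ := Subgroup.mem_map.1 hxΩ
    rw [← hy]; exact y.2)
  have hNv : ∀ v, v + N v = x.1 *ᵥ v := fun v => by
    rw [hN, LinearMap.sub_apply, Module.End.one_apply, Matrix.toLin'_apply, add_sub_cancel]
  have hPres : Pres B N := fun u v => by
    rw [hNv, hNv, hBv, hBv, polar, polar, ← Matrix.mulVec_add, hxm, hxm, hxm]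
  have hNp : N ^ p = 0 := by
    have e1 : (x.1 - 1) ^ p = 0 := by
      haveI : Nonempty ι := Fintype.card_pos_iff.1 (by omega)
      rw [sub_pow_char_of_commute (p := p) (Commute.one_right x.1), ← Units.val_pow_eq_pow_val, hxp, Units.val_one,
        one_pow, sub_self]
    rw [hN, show Matrix.toLin' x.1 - 1 = Matrix.toLinAlgEquiv' (x.1 - 1) by rw [map_sub, map_one]; rfl, ← map_pow, e1,
      map_zero]
  -- W and its orthogonal
  have hWi : ∀ v ∈ W, N v ∈ W := fun v hv => by
    have := sub_mem (hmap' ⟨v, hv, rfl⟩) hv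
    rw [hN]; exact this
  have hWsur : W.map (Matrix.toLin' x.1) = W := Submodule.eq_of_le_of_finrank_eq hmap'
    (LinearEquiv.finrank_eq (Submodule.equivMapOfInjective _ (by
      rw [← LinearMap.ker_eq_bot, LinearMap.ker_eq_bot']
      intro v hv
      have e := congrArg (fun w => (x⁻¹).1 *ᵥ w) hv
      simpa [Matrix.toLin'_apply, Matrix.mulVec_mulVec] using e) _).symm)
  have hnd : (B.restrict W).Nondegenerate := by
    refine (LinearMap.BilinForm.nondegenerate_iff_ker_eq_bot).2 (LinearMap.ker_eq_bot'.2 fun w hw => ?_)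
    by_contra h0
    obtain ⟨-, y, hy, hy0⟩ := hWnd w w.2 (fun h => h0 (Subtype.ext h))
    exact hy0 (by rw [← hBv]; exact LinearMap.congr_fun hw ⟨y, hy⟩)
  have hc : IsCompl W (B.orthogonal W) :=
    LinearMap.BilinForm.isCompl_orthogonal_of_restrict_nondegenerate hs.isRefl hnd
  have hW'i : ∀ v ∈ B.orthogonal W, N v ∈ B.orthogonal W := fun v hv => by
    have h1 : x.1 *ᵥ v ∈ B.orthogonal W := fun w hw => by
      obtain ⟨w', hw', rfl⟩ := (hWsur.symm ▸ hw : w ∈ W.map (Matrix.toLin' x.1))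
      have := hPres w' v
      rw [hNv, hNv] at this
      show B (Matrix.toLin' x.1 w') (x.1 *ᵥ v) = 0
      rw [Matrix.toLin'_apply, this]
      exact hv w' hw'
    have := sub_mem h1 hv
    rw [← hNv v, add_sub_cancel_left] at this
    exact this
  obtain ⟨NW, hNW⟩ : ∃ NW, NW = N.restrict hWi := ⟨_, rfl⟩
  have hPW : Pres (B.restrict W) NW := fun u v => by
    rw [hNW]; exact hPres u v
  have hsW : (B.restrict W).IsSymm := hs.restrict W
  have hpW : NW ^ p = 0 := LinearMap.ext fun w => Subtype.ext (by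
    rw [hNW, pow_restrict_apply, hNp]; rfl)
  refine ⟨W, hWP, hWm, parts NW p, ?_, ?_, ?_, ?_⟩
  · refine Multiset.le_iff_count.2 fun e => ?_
    rw [count_parts]
    split_ifs with h
    · have h1 := lay_split N hc hWi hW'i (e - 1)
      have h2' := lay_split N hc hWi hW'i e
      have h3 := lay_le (N.restrict hW'i) (Nat.sub_le e 1)
      rw [← hNW, hlay] at h1 h2'
      have h4 : (Finset.univ.filter fun k : Fin t => e - 1 < d k).card
          = (Finset.univ.filter fun k : Fin t => e < d k).card + μ.count e := by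
        rw [← hcnt, ← Finset.card_union_of_disjoint (Finset.disjoint_filter.2 fun k _ a b => by omega), ← Finset.filter_or]
        exact congrArg _ (Finset.filter_congr fun k _ => by omega)
      omega
    · exact Nat.zero_le _
  · rw [sum_parts_eq NW hpW, hWm]
  · intro e he
    rw [count_parts]
    split_ifs with h
    · exact even_lay_sub hPW hnd hsW h2 hpW he h.1
    · exact Even.zero
  · intro hall
    have hle : m / 2 ≤ finrank F (soc NW 1) := by
      have hs' := sum_parts_eq NW hpW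
      rw [hWm] at hs'
      have h3 : parts NW p = Multiset.replicate ((parts NW p).count 2) 2 := Multiset.ext.2 fun e => by
        rw [Multiset.count_replicate]
        split_ifs with h
        · rw [h]
        · exact hall e (fun e' => h e'.symm)
      rw [h3, Multiset.sum_replicate, smul_eq_mul, count_parts] at hs'
      show m / 2 ≤ lay NW 1
      simp only [show (2 : ℕ) - 1 = 1 from rfl] at hs'
      split_ifs at hs' <;> omega
    obtain ⟨f, hfl⟩ := exists_linearIndependent_of_le_finrank hle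
    have hm2 : 2 * (m / 2) = m := by
      have hs' := sum_parts_eq NW hpW
      rw [hWm] at hs'
      have h3 : parts NW p = Multiset.replicate ((parts NW p).count 2) 2 := Multiset.ext.2 fun e => by
        rw [Multiset.count_replicate]
        split_ifs with h
        · rw [h]
        · exact hall e (fun e' => h e'.symm)
      rw [h3, Multiset.sum_replicate, smul_eq_mul] at hs'
      omega
    refine ⟨(Submodule.span F (Set.range f)).map (W.subtype ∘ₗ (soc NW 1).subtype), ?_, ?_, ?_⟩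
    · rintro _ ⟨u, -, rfl⟩
      exact (u : W).2
    · rintro _ ⟨u, -, rfl⟩
      have h := soc_isotropic hPW hpW u.2 u.2
      show Q ((u : W) : ι → F) = 0
      have h' : polar Q ((u : W) : ι → F) ((u : W) : ι → F) = 0 := by rw [← hBv]; exact h
      rw [Orth.b_self] at h'
      exact (mul_eq_zero.1 h').resolve_left h2
    · have hinj : Function.Injective ⇑(W.subtype ∘ₗ (soc NW 1).subtype) := by
        rw [LinearMap.coe_comp]
        exact (Submodule.injective_subtype W).comp (Submodule.injective_subtype _)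
      rw [← LinearEquiv.finrank_eq (Submodule.equivMapOfInjective _ hinj _),
        finrank_span_eq_card hfl, Fintype.card_fin, hWm, hm2]

/-- The partition condition. -/
theorem partitions (hp2 : p ≠ 2) (hQ : (polarBilin Q).Nondegenerate) (hn : 5 ≤ Fintype.card ι) (hme : Even m)
    (hmn : m ≤ Fintype.card ι) (hfix : Fixes p Q P m)
    (μ : Multiset ℕ) (hμ : ∀ e ∈ μ, 0 < e ∧ e ≤ p) (hev : ∀ e : ℕ, Even e → Even (μ.count e))
    (hsum : μ.sum = Fintype.card ι) : ∃ ν : Multiset ℕ, ν ≤ μ ∧ ν.sum = m ∧ ∀ e : ℕ, Even e → Even (ν.count e) := by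
  classical
  have hp : p.Prime := Fact.out
  by_cases hbig : ∃ e ∈ μ, 2 ≤ e
  swap
  · push Not at hbig
    have h1 : μ = Multiset.replicate (Multiset.card μ) 1 := Multiset.eq_replicate_card.2 fun e he => by
      have := hbig e he; have := hμ e he; omega
    refine ⟨Multiset.replicate m 1, ?_, by simp, fun e he => ?_⟩
    · rw [h1, Multiset.replicate_le_replicate]
      have := congrArg Multiset.sum h1
      rw [hsum, Multiset.sum_replicate, smul_eq_mul, mul_one] at this
      omega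
    · rw [Multiset.count_replicate, if_neg (by rintro rfl; exact absurd he (by decide))]
      exact Even.zero
  by_cases hodd : ∃ e ∈ μ, Odd e
  · obtain ⟨W, -, -, ν, h1, h2, h3, -⟩ := key p hp2 hQ hn hfix μ hμ hev hsum hodd hbig
    exact ⟨ν, h1, h2, h3⟩
  push Not at hodd
  obtain ⟨e, he, he2⟩ := hbig
  have hee : Even e := Nat.not_odd_iff_even.1 (hodd e he)
  obtain ⟨μ₀, hμ₀⟩ : ∃ μ₀, μ = μ₀ + Multiset.replicate 2 e := by
    refine ⟨μ - Multiset.replicate 2 e, (tsub_add_cancel_of_le (Multiset.le_count_iff_replicate_le.1 ?_)).symm⟩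
    obtain ⟨c, hc⟩ := hev e hee
    have := Multiset.count_pos.2 he
    omega
  obtain ⟨ρ, hρ⟩ : ∃ ρ : Multiset ℕ, ρ = {e + 1, e - 1} := ⟨_, rfl⟩
  have hep : e + 1 ≤ p := by
    have := (hμ e he).2
    rcases this.lt_or_eq with h | h
    · exact h
    · exact absurd (h ▸ hee) (Nat.not_even_iff_odd.2 (hp.odd_of_ne_two hp2))
  have hρm : ∀ f ∈ ρ, f = e + 1 ∨ f = e - 1 := fun f hf => by rw [hρ] at hf; simpa using hf
  have hρo : ∀ f ∈ ρ, Odd f := fun f hf => by
    rcases hρm f hf with rfl | rfl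
    · exact hee.add_one
    · exact Nat.Even.sub_odd (by omega) hee odd_one
  have hρc : ∀ f, Even f → ρ.count f = 0 := fun f hf => Multiset.count_eq_zero.2 fun h =>
    absurd hf (Nat.not_even_iff_odd.2 (hρo f h))
  have h0 : ∀ f ∈ μ₀, Even f := fun f hf => Nat.not_odd_iff_even.1 (hodd f (hμ₀ ▸ Multiset.mem_add.2 (Or.inl hf)))
  obtain ⟨W, -, -, ν, hν, hνs, hνe, -⟩ := key p hp2 hQ hn hfix (μ₀ + ρ)
    (fun f hf => by
      rcases Multiset.mem_add.1 hf with h | h
      · exact hμ f (hμ₀ ▸ Multiset.mem_add.2 (Or.inl h))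
      · rcases hρm f h with rfl | rfl <;> omega)
    (fun f hf => by
      rw [Multiset.count_add, hρc f hf, add_zero]
      have := hev f hf
      rw [hμ₀, Multiset.count_add, Multiset.count_replicate] at this
      split_ifs at this
      · simpa [Nat.even_add, even_two] using this
      · simpa using this)
    (by
      rw [hμ₀, Multiset.sum_add, Multiset.sum_replicate, smul_eq_mul] at hsum
      rw [Multiset.sum_add, hρ]
      simp
      omega)
    ⟨e + 1, Multiset.mem_add.2 (Or.inr (by rw [hρ]; simp)), hee.add_one⟩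
    ⟨e + 1, Multiset.mem_add.2 (Or.inr (by rw [hρ]; simp)), by omega⟩
  -- ν = (ν ∩ μ₀) + (a part of ρ)
  obtain ⟨ν₀, hν₀⟩ : ∃ ν₀, ν₀ = ν.filter (fun f => Even f) := ⟨_, rfl⟩
  obtain ⟨ν₁, hν₁⟩ : ∃ ν₁, ν₁ = ν.filter (fun f => ¬ Even f) := ⟨_, rfl⟩
  have hsplit : ν₀ + ν₁ = ν := by rw [hν₀, hν₁, Multiset.filter_add_not]
  have hl0 : ν₀ ≤ μ₀ := by
    rw [hν₀]
    refine (Multiset.filter_le_filter _ hν).trans ?_
    rw [Multiset.filter_add, Multiset.filter_eq_self.2 h0, Multiset.filter_eq_nil.2 fun f hf =>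
      Nat.not_even_iff_odd.2 (hρo f hf), add_zero]
  have hl1 : ν₁ ≤ ρ := by
    rw [hν₁]
    refine (Multiset.filter_le_filter _ hν).trans ?_
    rw [Multiset.filter_add, Multiset.filter_eq_nil.2 fun f hf h => h (h0 f hf), zero_add]
    exact Multiset.filter_le _ _
  have hs0 : Even ν₀.sum := by
    rw [even_iff_two_dvd]
    exact Multiset.dvd_sum fun f hf => even_iff_two_dvd.1 (Multiset.mem_filter.1 (hν₀ ▸ hf)).2
  have hm' : ν₀.sum + ν₁.sum = m := by rw [← Multiset.sum_add, hsplit, hνs]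
  have hρcard : Multiset.card ρ = 2 := by rw [hρ]; simp
  have hc0 : ∀ f, Even f → Even (ν₀.count f) := fun f hf => by
    rw [hν₀, Multiset.count_filter, if_pos hf]; exact hνe f hf
  by_cases hν1 : ν₁ = ρ
  · refine ⟨ν₀ + Multiset.replicate 2 e, hμ₀ ▸ add_le_add hl0 le_rfl, ?_, fun f hf => ?_⟩
    · rw [Multiset.sum_add, Multiset.sum_replicate, smul_eq_mul]
      rw [hν1, hρ] at hm'
      simp at hm'
      omega
    · rw [Multiset.count_add, Multiset.count_replicate]
      refine Even.add (hc0 f hf) ?_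
      split_ifs
      · exact even_two
      · exact Even.zero
  · refine ⟨ν₀, hμ₀ ▸ le_add_right hl0, ?_, hc0⟩
    have hlt := Multiset.card_lt_card (lt_of_le_of_ne hl1 hν1)
    rw [hρcard] at hlt
    rcases Nat.lt_or_ge (Multiset.card ν₁) 1 with h | h
    · rw [Multiset.card_eq_zero.1 (by omega : Multiset.card ν₁ = 0), Multiset.sum_zero, add_zero] at hm'
      exact hm'
    · obtain ⟨f, hf⟩ := Multiset.card_eq_one.1 (by omega : Multiset.card ν₁ = 1)
      rw [hf, Multiset.sum_singleton] at hm'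
      have hfo := hρo f (Multiset.mem_of_le hl1 (hf ▸ Multiset.mem_singleton_self f))
      exact absurd (hm' ▸ hs0.add_odd hfo) (Nat.not_odd_iff_even.2 hme)

/-- The conditions read by a two-part test partition. -/
theorem test_twos {a : ℕ} {r ν : Multiset ℕ} (hr : ∀ f ∈ r, Odd f) (hν : ν ≤ Multiset.replicate (2 * a) 2 + r)
    (hev : ∀ e : ℕ, Even e → Even (ν.count e)) :
    ∃ c : ℕ, ∃ ν₁, ν₁ ≤ r ∧ ν.sum = 4 * c + ν₁.sum ∧ ν = Multiset.replicate (2 * c) 2 + ν₁ := by
  obtain ⟨c, hc⟩ := hev 2 even_two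
  have h1 : ν.filter (fun f => f = 2) = Multiset.replicate (2 * c) 2 := by
    rw [Multiset.filter_eq' ν 2, hc, two_mul]
  have h2 : ν.filter (fun f => ¬ f = 2) ≤ r := by
    refine (Multiset.filter_le_filter _ hν).trans ?_
    rw [Multiset.filter_add, Multiset.filter_eq_nil.2 (fun f hf h => h (Multiset.eq_of_mem_replicate hf)), zero_add]
    exact Multiset.filter_le _ _
  refine ⟨c, _, h2, ?_, ?_⟩
  · conv_lhs => rw [← Multiset.filter_add_not (fun f => f = 2) ν, Multiset.sum_add, h1, Multiset.sum_replicate, smul_eq_mul]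
    ring
  · rw [← h1, Multiset.filter_add_not]

end Cfsg.Agent.LBType
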