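/-
Elements of prime order of `Sp_2d(q)`, `q` even, and the orthogonal subgroups.
-/
import Cfsg.Agent.Lib.LinearBlock.SpOrthChar2

set_option autoImplicit false
set_option linter.all false

namespace Cfsg.Agent.LBSpOrth

open QuadraticMap Module Matrix LBEven Polynomial LBRootPoly LBRootTwist LBEvenRoot

variable {F : Type*} [Field F] [Fintype F] [DecidableEq F] [CharP F 2] {d r : ℕ}

/-- An element of order `r` without fixed vectors. -/
theorem exists_fpf [Fact r.Prime] (hr2 : r ≠ 2) (hd : 1 ≤ d) {i : ℕ} (hi : i = orderOf (Fintype.card F : ZMod r))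
    (hdvd : i ∣ 2 * d) (hodd : Odd i → i ∣ d) :
    ∃ x ∈ Cfsg.spGL d F, x ^ r = 1 ∧ x ≠ 1 ∧ ¬ (Polynomial.X - Polynomial.C 1) ∣ x.1.charpoly := by
  haveI : Fact (Nat.Prime 2) := ⟨Nat.prime_two⟩
  have hr : r.Prime := Fact.out
  have hrp : r ≠ 2 := hr2
  have hi0 : 0 < i := Nat.pos_of_ne_zero fun e => by rw [e] at hdvd; simp at hdvd; omega
  have hcard := card_factors (F := F) 2 hr hrp
  obtain ⟨g, hg⟩ : (factors F r).Nonempty := by
    rw [← Finset.card_pos]
    refine Nat.pos_of_ne_zero fun e => ?_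
    rw [e, zero_mul] at hcard
    have := hr.two_le; omega
  obtain ⟨hg1, hgm, hgi, hgd⟩ := (mem_factors hr.ne_zero).1 hg
  have hgdeg : g.natDegree = i := hi ▸ natDegree_factor hr hgm hgi hgd hg1
  have hg0 := factor_coeff_zero hr.ne_zero hgd
  obtain ⟨hn1, hnm, hni, hnd'⟩ := (mem_factors hr.ne_zero).1 (rc_mem_factors (RingHom.id F) hid hr hg)
  have hndeg : (rc (RingHom.id F) g).natDegree = i := hi ▸ natDegree_factor hr hnm hni hnd' hn1
  obtain ⟨f, hf, hfX⟩ : ∃ f : F[X], SR r (2 * d) f ∧ ¬ (Polynomial.X - Polynomial.C 1) ∣ f := by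
    by_cases he : Even i
    · have hself := (rc_self_iff' 2 hr hr2 hrp hg).2 (hi ▸ he)
      refine ⟨g ^ (2 * d / i), ⟨⟨?_, hgm.pow _, fun p hpm hpi hpd => ?_⟩, by rw [rc_pow, hself]⟩, fun hX => ?_⟩
      · rw [natDegree_pow, hgdeg, Nat.div_mul_cancel hdvd]
      · exact (hpi.prime.dvd_of_dvd_pow hpd).trans hgd
      · exact hg1 (eq_of_monic_of_associated hgm (monic_X_sub_C 1)
          ((irreducible_X_sub_C (1 : F)).associated_of_dvd hgi ((irreducible_X_sub_C (1 : F)).prime.dvd_of_dvd_pow hX)).symm)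
    · have hdd := hodd (Nat.not_even_iff_odd.1 he)
      refine ⟨(g * rc (RingHom.id F) g) ^ (d / i), ⟨⟨?_, (hgm.mul hnm).pow _, fun p hpm hpi hpd => ?_⟩, ?_⟩, fun hX => ?_⟩
      · rw [natDegree_pow, hgm.natDegree_mul hnm, hgdeg, hndeg, mul_add, Nat.div_mul_cancel hdd, two_mul]
      · rcases hpi.prime.dvd_or_dvd (hpi.prime.dvd_of_dvd_pow hpd) with e | e
        · exact e.trans hgd
        · exact e.trans hnd'
      · rw [rc_pow, rc_mul, rc_rc _ hid hgm hg0, mul_comm]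
      · rcases (irreducible_X_sub_C (1 : F)).prime.dvd_or_dvd ((irreducible_X_sub_C (1 : F)).prime.dvd_of_dvd_pow hX) with e | e
        · exact hg1 (eq_of_monic_of_associated hgm (monic_X_sub_C 1) ((irreducible_X_sub_C (1 : F)).associated_of_dvd hgi e).symm)
        · exact hn1 (eq_of_monic_of_associated hnm (monic_X_sub_C 1) ((irreducible_X_sub_C (1 : F)).associated_of_dvd hni e).symm)
  obtain ⟨⟨hdeg, hG⟩, hfix⟩ := hf
  have hne := coeff_zero_ne hr.ne_zero hG
  have hsym := (rc_fix_iff _ hid hG.1 hne hdeg).1 hfix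
  have h0 : f.coeff 0 = 1 := by
    have e1 := hsym (2 * d) le_rfl
    rw [Nat.sub_self, RingHom.id_apply, show f.coeff (2 * d) = 1 from hdeg ▸ hG.1.coeff_natDegree, mul_one] at e1
    have e2 := hsym 0 (Nat.zero_le _)
    rw [Nat.sub_zero, show f.coeff (2 * d) = 1 from hdeg ▸ hG.1.coeff_natDegree, RingHom.id_apply] at e2
    have e3 : (f.coeff 0 - 1) * (f.coeff 0 - 1) = 0 := by
      linear_combination -e2 + (1 - f.coeff 0) * (two_zero (F := F))
    exact sub_eq_zero.1 (mul_self_eq_zero.1 e3)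
  obtain ⟨A, hA⟩ := SympClasses.exists_charpoly_eq hG.1 hdeg h0 fun j hj => by rw [hsym j hj, h0, one_mul]; rfl
  obtain ⟨j, hj⟩ := SemisimpleCl.exists_coprime_pow (F := F) 2 A
  obtain ⟨B, hB⟩ : ∃ B, B = A ^ Fintype.card F ^ j := ⟨_, rfl⟩
  rw [← hB] at hj
  have hk : ∀ n, ((A : Matrix (Fin d ⊕ Fin d) (Fin d ⊕ Fin d) F) ^ Fintype.card F ^ n).charpoly =
      (A : Matrix (Fin d ⊕ Fin d) (Fin d ⊕ Fin d) F).charpoly := by
    intro n
    induction n with
    | zero => simp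
    | succ n ih => rw [pow_succ, pow_mul, FiniteField.Matrix.charpoly_pow_card, ih]
  obtain ⟨M, hM⟩ : ∃ M, M = (B : Matrix (Fin d ⊕ Fin d) (Fin d ⊕ Fin d) F) := ⟨_, rfl⟩
  have hMc : M.charpoly = f := by rw [hM, hB, SubmonoidClass.coe_pow, hk, hA]
  have hMr : M ^ r = 1 :=
    LBRootPoly.pow_eq_one 2 (by rw [hM, ← SubmonoidClass.coe_pow, pow_orderOf_eq_one]; rfl) hj (hMc.symm ▸ hG) hr.ne_zero
  have hMd : M.det ≠ 0 := fun e => by
    have := congrArg Matrix.det hMr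
    rw [det_pow, e, zero_pow hr.ne_zero, det_one] at this
    exact zero_ne_one this
  refine ⟨GeneralLinearGroup.mkOfDetNeZero M hMd, ?_, Units.ext ?_, fun e => ?_, ?_⟩
  · exact (ClassicalSp.mem_iff_preserves M).1 (hM ▸ B.2)
  · rw [Units.val_pow_eq_pow_val, Units.val_one]; exact hMr
  · have hM1 : M = 1 := congrArg Units.val e
    rw [hM1, Matrix.charpoly_one, ← C_1] at hMc
    refine hfX (hMc ▸ dvd_pow_self _ ?_)
    simp; omega
  · show ¬ _ ∣ M.charpoly
    rw [hMc]; exact hfX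

/-- The index of the orthogonal group. -/
theorem index_eq (hd : 1 ≤ d) {Q : QuadraticForm F (Fin d ⊕ Fin d → F)} (hQ : ∀ u v, polar Q u v = Cfsg.sympForm d F u v) :
    (IsPlus d Q → (Cfsg.Geo.quadSimilarityGroup (⇑Q)).relIndex (Cfsg.spGL d F) * 2 = Fintype.card F ^ d * (Fintype.card F ^ d + 1)) ∧
    (¬ IsPlus d Q → (Cfsg.Geo.quadSimilarityGroup (⇑Q)).relIndex (Cfsg.spGL d F) * 2 = Fintype.card F ^ d * (Fintype.card F ^ d - 1)) := by
  obtain ⟨a⟩ : Nonempty (Fin d) := ⟨⟨0, by omega⟩⟩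
  have hnd := nondeg_sympForm hQ
  have hinf : Cfsg.Geo.quadSimilarityGroup (⇑Q) ⊓ Cfsg.spGL d F = Cfsg.isometryGroup F (⇑Q) := by
    ext g
    rw [Subgroup.mem_inf, Orth.mem_isometryGroup]
    constructor
    · rintro ⟨⟨c, hc⟩, hg⟩
      obtain ⟨v, hv⟩ : ∃ v, polar Q (Pi.single (Sum.inl a) 1) v ≠ 0 := by
        by_contra hcon
        simp only [not_exists, not_not] at hcon
        simpa using congrFun (Orth.eq_zero_of_b hnd hcon) (Sum.inl a)
      have e : polar Q (g.1 *ᵥ Pi.single (Sum.inl a) 1) (g.1 *ᵥ v) = (c : F) * polar Q (Pi.single (Sum.inl a) 1) v := by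
        simp only [polar, ← mulVec_add, hc]; ring
      rw [hQ, (mem_spGL.1 hg) _ v, ← hQ] at e
      have hc1 : (c : F) = 1 := (mul_right_cancel₀ hv (by rw [one_mul]; exact e)).symm
      exact fun w => by rw [hc, hc1, one_mul]
    · intro hg
      refine ⟨⟨1, fun w => by rw [Units.val_one, one_mul]; exact hg w⟩, mem_spGL.2 fun u v => ?_⟩
      rw [← hQ, ← hQ]
      simp only [polar, ← mulVec_add, hg]
  have hcardS : Nat.card (Cfsg.spGL d F) = Nat.card (Matrix.symplecticGroup (Fin d) F) := by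
    refine Nat.card_congr
      { toFun := fun g => ⟨g.1.1, (ClassicalSp.mem_iff_preserves _).2 g.2⟩
        invFun := fun A => ⟨GeneralLinearGroup.mkOfDetNeZero A.1 (SymplecticGroup.symplectic_det A.2).ne_zero,
          (ClassicalSp.mem_iff_preserves A.1).1 A.2⟩
        left_inv := fun g => Subtype.ext (Units.ext rfl)
        right_inv := fun A => Subtype.ext rfl }
  have hmul : (Cfsg.Geo.quadSimilarityGroup (⇑Q)).relIndex (Cfsg.spGL d F) * Nat.card (Orth.oGroup Q) = Nat.card (Cfsg.spGL d F) := by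
    rw [← Orth.card_isometryGroup Q rfl, ← hinf, Subgroup.relIndex,
      ← Subgroup.card_mul_index ((Cfsg.Geo.quadSimilarityGroup (⇑Q)).subgroupOf (Cfsg.spGL d F)), mul_comm]
    congr 1
    rw [← Subgroup.inf_subgroupOf_right]
    exact (Nat.card_congr (Subgroup.subgroupOfEquivOfLe inf_le_right).toEquiv).symm
  rw [hcardS, ClassicalSp.card_sp, Nat.card_eq_fintype_card (α := F)] at hmul
  obtain ⟨k, rfl⟩ : ∃ k, d = k + 1 := ⟨d - 1, by omega⟩
  have hq : 2 ≤ Fintype.card F := Fintype.one_lt_card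
  obtain ⟨P, hP⟩ : ∃ P, P = ∏ i ∈ Finset.range k, (Fintype.card F ^ (2 * (i + 1)) - 1) := ⟨_, rfl⟩
  have hPpos : 0 < P := hP ▸ Finset.prod_pos fun i _ => Nat.sub_pos_of_lt (Nat.one_lt_pow (by omega) (by omega))
  have e : Fintype.card F ^ (2 * (k + 1)) - 1 = (Fintype.card F ^ (k + 1) - 1) * (Fintype.card F ^ (k + 1) + 1) := by
    rw [Orth.sub_one_mul_add_one, ← pow_add, two_mul]
  have hpow : Fintype.card F ^ ((k + 1) ^ 2) = Fintype.card F ^ ((k + 1) * k) * Fintype.card F ^ (k + 1) := by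
    rw [← pow_add]; congr 1; ring
  rw [Finset.prod_range_succ, ← hP, e, hpow] at hmul
  have hX : 1 < Fintype.card F ^ (k + 1) := Nat.one_lt_pow (by omega) (by omega)
  have hY : 0 < Fintype.card F ^ ((k + 1) * k) := Nat.pow_pos (by omega)
  refine ⟨fun hp => ?_, fun hp => ?_⟩
  · obtain ⟨g, hg⟩ := hp
    rw [Nat.card_congr (Orth.oCongr g fun v => (hg v).symm).toEquiv, Orth.card_oGroup_qPlus,
      Nat.card_eq_fintype_card (α := F), ← hP] at hmul
    refine Nat.eq_of_mul_eq_mul_left (show 0 < Fintype.card F ^ ((k + 1) * k) * (Fintype.card F ^ (k + 1) - 1) * P by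
      have : 0 < Fintype.card F ^ (k + 1) - 1 := by omega
      positivity) ?_
    linear_combination hmul
  · have hV : finrank F (Fin (k + 1) ⊕ Fin (k + 1) → F) = 2 * (k + 1) := by simp [two_mul]
    obtain ⟨ζ, hζ, g, hg⟩ := (LBQuad.classify_even hnd hV).resolve_left hp
    rw [Nat.card_congr (Orth.oCongr g fun v => (hg v).symm).toEquiv] at hmul
    rw [Orth.card_oGroup_qMinus (LBQuad.bin_aniso hζ), Nat.card_eq_fintype_card (α := F)] at hmul
    simp only [Nat.add_sub_cancel] at hmul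
    rw [← hP] at hmul
    refine Nat.eq_of_mul_eq_mul_left (show 0 < Fintype.card F ^ ((k + 1) * k) * (Fintype.card F ^ (k + 1) + 1) * P by
      positivity) ?_
    linear_combination hmul

theorem scalar_one (hd : 1 ≤ d) {z : F} {x : GL (Fin d ⊕ Fin d) F} (hx : x ∈ Cfsg.spGL d F)
    (hz : x.1 = z • (1 : Matrix (Fin d ⊕ Fin d) (Fin d ⊕ Fin d) F)) : z = 1 := by
  obtain ⟨a⟩ : Nonempty (Fin d) := ⟨⟨0, by omega⟩⟩
  have hJ : Cfsg.sympForm d F (Pi.single (Sum.inr a) 1) (Pi.single (Sum.inl a) 1) ≠ 0 := by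
    rw [Cfsg.sympForm, single_dotProduct, one_mul, mulVec_single_one]
    simp [Matrix.J]
  have e := (mem_spGL.1 hx) (Pi.single (Sum.inr a) 1) (Pi.single (Sum.inl a) 1)
  rw [hz, smul_mulVec, smul_mulVec, one_mulVec, one_mulVec, Cfsg.sympForm, mulVec_smul, smul_dotProduct, dotProduct_smul,
    smul_eq_mul, smul_eq_mul, ← mul_assoc] at e
  have e2 : z * z = 1 := mul_right_cancel₀ hJ (e.trans (one_mul _).symm)
  have e3 : (z - 1) * (z - 1) = 0 := by linear_combination e2 + (1 - z) * (two_zero (F := F))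
  exact sub_eq_zero.1 (mul_self_eq_zero.1 e3)

theorem pow_eq_of_scalar (hd : 1 ≤ d) {x : GL (Fin d ⊕ Fin d) F} (hx : x ∈ Cfsg.spGL d F) {n : ℕ}
    (h : ∃ z : F, (x ^ n).1 = z • (1 : Matrix (Fin d ⊕ Fin d) (Fin d ⊕ Fin d) F)) : x ^ n = 1 := by
  obtain ⟨z, hz⟩ := h
  refine Units.ext ?_
  rw [hz, scalar_one hd (pow_mem hx n) hz, one_smul, Units.val_one]

theorem not_scalar (hd : 1 ≤ d) {x : GL (Fin d ⊕ Fin d) F} (hx : x ∈ Cfsg.spGL d F) (h1 : x ≠ 1) (z : F) :
    x.1 ≠ z • (1 : Matrix (Fin d ⊕ Fin d) (Fin d ⊕ Fin d) F) := fun hz =>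
  h1 (Units.ext (by rw [hz, scalar_one hd hx hz, one_smul, Units.val_one]))

end Cfsg.Agent.LBSpOrth
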