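/-
Elements of prime order of orthogonal groups in characteristic two and non-singular points.
-/
import Cfsg.Agent.Lib.LinearBlock.FpfOrth
import Cfsg.Agent.Lib.LinearBlock.SpOrthElusive

set_option autoImplicit false
set_option linter.all false

namespace Cfsg.Agent.LBPoint

open QuadraticMap Module Matrix LBEven commutatorElement LBSpOrth

variable {F : Type*} [Field F] {ι : Type} [Fintype ι] [DecidableEq ι] {Q : QuadraticForm F (ι → F)} {d : ℕ}

theorem mem_omega {x : GL ι F} (hx : x ∈ Cfsg.Geo.omegaGL (⇑Q)) : ∀ v, Q (x.1 *ᵥ v) = Q v := by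
  obtain ⟨g, -, rfl⟩ := hx
  exact Orth.mem_isometryGroup.1 g.2

/-- The number of non-singular points. -/
theorem card_points [Fintype F] :
    Nat.card {W : Submodule F (ι → F) // finrank F W = 1 ∧ ∃ v ∈ W, Q v ≠ 0} * (Fintype.card F - 1) + Nat.card {v // Q v = 0} =
      Fintype.card F ^ Fintype.card ι := by
  classical
  have h1 : Nat.card {v // Q v = 0} + Nat.card {v // Q v ≠ 0} = Fintype.card F ^ Fintype.card ι := by
    rw [Nat.card_eq_fintype_card, Nat.card_eq_fintype_card, Fintype.card_subtype_compl, Nat.add_sub_cancel' (Fintype.card_subtype_le _),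
      Fintype.card_fun]
  let f : {W : Submodule F (ι → F) // finrank F W = 1 ∧ ∃ v ∈ W, Q v ≠ 0} × Fˣ → {v // Q v ≠ 0} := fun x =>
    ⟨(x.2 : F) • x.1.2.2.choose, by
      rw [QuadraticMap.map_smul, smul_eq_mul]
      exact mul_ne_zero (mul_ne_zero x.2.ne_zero x.2.ne_zero) x.1.2.2.choose_spec.2⟩
  have hspan : ∀ W : {W : Submodule F (ι → F) // finrank F W = 1 ∧ ∃ v ∈ W, Q v ≠ 0}, W.1 = Submodule.span F {W.2.2.choose} := by
    intro W
    obtain ⟨hmem, hne⟩ := W.2.2.choose_spec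
    refine (Submodule.eq_of_le_of_finrank_eq ((Submodule.span_singleton_le_iff_mem _ _).2 hmem) ?_).symm
    rw [finrank_span_singleton (fun e => hne (by rw [e, map_zero]))]
    exact W.2.1.symm
  have hbij : Function.Bijective f := by
    refine ⟨fun a b h => ?_, fun v => ?_⟩
    · have hv : (a.2 : F) • a.1.2.2.choose = (b.2 : F) • b.1.2.2.choose := congrArg Subtype.val h
      have hW : a.1 = b.1 := Subtype.ext (by
        rw [hspan a.1, hspan b.1, ← Submodule.span_singleton_smul_eq a.2.isUnit a.1.2.2.choose, hv,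
          Submodule.span_singleton_smul_eq b.2.isUnit])
      refine Prod.ext hW (Units.ext ?_)
      rw [hW] at hv
      refine smul_left_injective F (show b.1.2.2.choose ≠ 0 from fun e => b.1.2.2.choose_spec.2 (by rw [e, map_zero])) ?_
      simpa [hW] using hv
    · have hv0 : v.1 ≠ 0 := fun e => v.2 (by rw [e, map_zero])
      let W : {W : Submodule F (ι → F) // finrank F W = 1 ∧ ∃ v ∈ W, Q v ≠ 0} :=
        ⟨Submodule.span F {v.1}, finrank_span_singleton hv0, v.1, Submodule.mem_span_singleton_self _, v.2⟩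
      obtain ⟨c, hc⟩ := Submodule.mem_span_singleton.1 ((hspan W) ▸ Submodule.mem_span_singleton_self v.1 :
        v.1 ∈ Submodule.span F {W.2.2.choose})
      have hc0 : c ≠ 0 := fun e => hv0 (by rw [← hc, e, zero_smul])
      exact ⟨(W, Units.mk0 c hc0), Subtype.ext hc⟩
  have h2 := Nat.card_eq_of_bijective f hbij
  rw [Nat.card_prod, Nat.card_units, Nat.card_eq_fintype_card (α := F)] at h2
  omega

/-- A non-singular fixed vector gives a fixed point. -/
theorem point_of_fixed {x : GL ι F} {v : ι → F} (hv : x.1 *ᵥ v = v) (hQv : Q v ≠ 0) :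
    ∃ W : Submodule F (ι → F), (finrank F W = 1 ∧ ∃ v ∈ W, Q v ≠ 0) ∧ W.map (Matrix.toLin' x.1) ≤ W := by
  refine ⟨Submodule.span F {v}, ⟨finrank_span_singleton (fun e => hQv (by rw [e, map_zero])), v, Submodule.mem_span_singleton_self v, hQv⟩, ?_⟩
  rw [Submodule.map_span, Set.image_singleton, toLin'_apply, hv]

variable [CharP F 2]

theorem fixed_of_point {x : GL ι F} (hx : ∀ v, Q (x.1 *ᵥ v) = Q v) {W : Submodule F (ι → F)} (hW : finrank F W = 1)
    (hv : ∃ v ∈ W, Q v ≠ 0) (hmap : W.map (Matrix.toLin' x.1) ≤ W) : ∃ v, x.1 *ᵥ v = v ∧ Q v ≠ 0 := by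
  obtain ⟨v, hvW, hQv⟩ := hv
  refine ⟨v, ?_, hQv⟩
  obtain ⟨c, hc⟩ := exists_smul_eq_of_finrank_eq_one hW (x := (⟨v, hvW⟩ : W))
    (fun e => hQv (by rw [show v = 0 from congrArg Subtype.val e, map_zero])) ⟨_, hmap ⟨v, hvW, rfl⟩⟩
  have e : c • v = x.1 *ᵥ v := (congrArg Subtype.val hc).trans (toLin'_apply _ _)
  have e2 := hx v
  rw [← e, QuadraticMap.map_smul, smul_eq_mul] at e2
  have e3 : c * c = 1 := mul_right_cancel₀ hQv (e2.trans (one_mul _).symm)
  have e4 : (c - 1) * (c - 1) = 0 := by linear_combination e3 + (1 - c) * (CharTwo.two_eq_zero (R := F))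
  rw [← e, sub_eq_zero.1 (mul_self_eq_zero.1 e4), one_smul]

theorem scalar_one [Nonempty ι] (hQ : (polarBilin Q).Nondegenerate) {z : F} {x : GL ι F} (hx : ∀ v, Q (x.1 *ᵥ v) = Q v)
    (hz : x.1 = z • (1 : Matrix ι ι F)) : z = 1 := by
  obtain ⟨u, v, huv⟩ : ∃ u v, polar Q u v ≠ 0 := by
    by_contra hc
    simp only [not_exists, not_not] at hc
    obtain ⟨a⟩ := ‹Nonempty ι›
    simpa using congrFun (Orth.eq_zero_of_b hQ (hc (Pi.single a 1))) a
  have e : polar Q (x.1 *ᵥ u) (x.1 *ᵥ v) = polar Q u v := by simp only [polar, ← mulVec_add, hx]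
  rw [hz, smul_mulVec, smul_mulVec, one_mulVec, one_mulVec, polar_smul_left, polar_smul_right, smul_eq_mul, smul_eq_mul,
    ← mul_assoc] at e
  have e3 : z * z = 1 := mul_right_cancel₀ huv (e.trans (one_mul _).symm)
  have e4 : (z - 1) * (z - 1) = 0 := by linear_combination e3 + (1 - z) * (CharTwo.two_eq_zero (R := F))
  exact sub_eq_zero.1 (mul_self_eq_zero.1 e4)

/-- An involution fixes a non-singular vector, unless the form is hyperbolic of even half-dimension. -/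
theorem involution_fix [Finite F] (hd : 1 ≤ d) (hι : Fintype.card ι = 2 * d) (hQ : (polarBilin Q).Nondegenerate)
    (h : IsPlus d Q → Odd d) {x : GL ι F} (hx : ∀ v, Q (x.1 *ᵥ v) = Q v) (hx2 : x ^ 2 = 1) :
    ∃ v, x.1 *ᵥ v = v ∧ Q v ≠ 0 := by
  by_contra hcon
  simp only [not_exists, not_and, not_not] at hcon
  obtain ⟨N, hN⟩ : ∃ N, N = toLin' (x.1 - 1) := ⟨_, rfl⟩
  have e : x.1 * x.1 = 1 := by rw [← Units.val_mul, ← pow_two, hx2, Units.val_one]
  have h2m : (2 : Matrix ι ι F) = 0 := by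
    rw [← map_ofNat (Matrix.scalar ι (α := F)) 2, CharTwo.two_eq_zero, map_zero]
  have hle : LinearMap.range N ≤ LinearMap.ker N := LinearMap.range_le_ker_iff.2 (by
    rw [hN, ← toLin'_mul, show (x.1 - 1) * (x.1 - 1) = 0 by
      calc (x.1 - 1) * (x.1 - 1) = x.1 * x.1 + 1 - 2 * x.1 := by noncomm_ring
        _ = 2 - 2 * x.1 := by rw [e]; norm_num
        _ = 0 := by rw [h2m, zero_mul, sub_zero], map_zero])
  have h1 := LinearMap.finrank_range_add_finrank_ker N
  rw [finrank_fintype_fun_eq_card, hι] at h1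
  have hrk := Submodule.finrank_mono hle
  have hsing : ∀ u ∈ LinearMap.ker N, Q u = 0 := fun u hu => by
    refine hcon u ?_
    rw [LinearMap.mem_ker, hN, toLin'_apply, sub_mulVec, one_mulVec, sub_eq_zero] at hu
    exact hu
  by_cases hp : IsPlus d Q
  · obtain ⟨l, hl⟩ := h hp
    obtain ⟨g, hg⟩ := hp
    have hb : finrank F (LinearMap.ker N) ≤ d := by
      obtain ⟨-, hb⟩ := LBQuad.singular_bound (F := F) Orth.zero_nondeg (fun w _ => Subsingleton.elim w 0) d
      let e := g.trans (Orth.plusPad (F := F) d).symm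
      have := hb ((LinearMap.ker N).map e.toLinearMap) (by
        rintro _ ⟨u, hu, rfl⟩
        show Orth.qPad F d 0 ((Orth.plusPad (F := F) d).symm (g u)) = 0
        rw [← Orth.plusPad_spec, LinearEquiv.apply_symm_apply, ← hg, hsing u hu])
      rwa [← LinearEquiv.finrank_eq (Submodule.equivMapOfInjective _ e.injective _)] at this
    let C : (ι → F) →ₗ[F] (ι → F) →ₗ[F] F := (polarBilin Q).comp N
    have hC : ∀ v, C v v = 0 := fun v => by
      show polar Q (N v) v = 0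
      have e : x.1 *ᵥ v = N v + v := by rw [hN, toLin'_apply, sub_mulVec, one_mulVec, sub_add_cancel]
      have e2 := QuadraticMap.map_add Q (N v) v
      rw [← e, hx, hsing (N v) (hle ⟨v, rfl⟩)] at e2
      linear_combination -e2
    have hinj : Function.Injective (polarBilin Q) := by
      rw [← LinearMap.ker_eq_bot, LinearMap.ker_eq_bot']
      exact fun u hu => Orth.eq_zero_of_b hQ fun y => LinearMap.congr_fun hu y
    obtain ⟨k, hk⟩ := Transvec.Orth.even_finrank_range_alt C hC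
    rw [LinearMap.range_comp, ← LinearEquiv.finrank_eq (Submodule.equivMapOfInjective _ hinj (LinearMap.range N))] at hk
    omega
  · have hf : d ≤ finrank F (LinearMap.ker N) := by omega
    obtain ⟨f, hfl⟩ := exists_linearIndependent_of_le_finrank hf
    refine hp ((isPlus_iff hd hι hQ).2 ⟨(Submodule.span F (Set.range f)).map (Submodule.subtype _), ?_, ?_⟩)
    · rintro _ ⟨u, -, rfl⟩
      exact hsing _ u.2
    · rw [← LinearEquiv.finrank_eq (Submodule.equivMapOfInjective _ (Submodule.injective_subtype _) _),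
        finrank_span_eq_card hfl, Fintype.card_fin]

omit [Fintype ι] [DecidableEq ι] in
/-- For even `d` some involution of `Ω⁺` fixes only singular vectors. -/
theorem exists_omega_witness [Fintype F] [DecidableEq F] {c : ℕ} (hc : 2 ≤ c) :
    ∃ x ∈ Cfsg.Geo.omegaGL (⇑(Orth.qPlus F (c + c))), x ^ 2 = 1 ∧ x ≠ 1 ∧
      ∀ v, x.1 *ᵥ v = v → Orth.qPlus F (c + c) v = 0 := by
  haveI : Fact (Nat.Prime 2) := ⟨Nat.prime_two⟩
  have hneg : ∀ {a : Type} (M : Matrix a a F), -M = M := fun M => by ext i j; exact CharTwo.neg_eq _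
  have hdeg : (Polynomial.X + 1 : Polynomial F).natDegree < c := by
    rw [← Polynomial.C_1, Polynomial.natDegree_X_add_C]; omega
  obtain ⟨C, hC⟩ := SemisimpleCl.exists_charpoly (n := c) (f := (Polynomial.X ^ c + (Polynomial.X + 1) : Polynomial F))
    (Polynomial.monic_X_pow_add (by rw [← Polynomial.C_1, Polynomial.degree_X_add_C]; exact_mod_cast (by omega : 1 < c)))
    (by rw [Polynomial.natDegree_add_eq_left_of_natDegree_lt] <;> rw [Polynomial.natDegree_X_pow]; exact hdeg)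
  have hCd : C.det ≠ 0 := by
    rw [Matrix.det_eq_sign_charpoly_coeff, hC]
    refine mul_ne_zero (pow_ne_zero _ (neg_ne_zero.2 one_ne_zero)) ?_
    rw [Polynomial.coeff_zero_eq_eval_zero]
    simp [zero_pow (by omega : c ≠ 0)]
  obtain ⟨E, hE⟩ : ∃ E, E = C + 1 := ⟨_, rfl⟩
  have hEd : E.det ≠ 0 := by
    have h1 := Matrix.eval_charpoly C 1
    rw [hC, map_one, sub_eq_add_neg, hneg C, add_comm (1 : Matrix (Fin c) (Fin c) F), ← hE] at h1
    rw [← h1]
    simp [CharTwo.add_self_eq_zero]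
  obtain ⟨e⟩ : Nonempty (Fin c ⊕ Fin c ≃ Fin (c + c)) := ⟨finSumFinEquiv⟩
  let φ : Matrix (Fin c ⊕ Fin c) (Fin c ⊕ Fin c) F ≃ₐ[F] Matrix (Fin (c + c)) (Fin (c + c)) F := Matrix.reindexAlgEquiv F F e
  have hφt : ∀ M, (φ M)ᵀ = φ Mᵀ := fun M => Matrix.transpose_reindex _ _ _
  -- an alternating matrix
  have halt : ∀ (Y : Matrix (Fin c) (Fin c) F) (w : Fin (c + c) → F), w ⬝ᵥ (φ (fromBlocks 0 Y Yᵀ 0) *ᵥ w) = 0 := by
    intro Y w
    obtain ⟨w, rfl⟩ : ∃ u, w = u ∘ e.symm := ⟨w ∘ e, funext fun a => by simp⟩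
    show (w ∘ e.symm) ⬝ᵥ (Matrix.reindex e e _ *ᵥ (w ∘ e.symm)) = 0
    rw [Matrix.reindex_apply, Matrix.submatrix_mulVec_equiv, Equiv.symm_symm, Function.comp_assoc, Equiv.symm_comp_self,
      Function.comp_id, comp_equiv_dotProduct_comp_equiv]
    obtain ⟨w1, w2, rfl⟩ : ∃ a b, w = Sum.elim a b := ⟨w ∘ Sum.inl, w ∘ Sum.inr, (Sum.elim_comp_inl_inr w).symm⟩
    rw [fromBlocks_mulVec, sumElim_dotProduct_sumElim, Sum.elim_comp_inl, Sum.elim_comp_inr, zero_mulVec, zero_mulVec, zero_add, add_zero,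
      mulVec_transpose, dotProduct_comm w2, ← Matrix.dotProduct_mulVec]
    exact CharTwo.add_self_eq_zero _
  obtain ⟨A, hA⟩ : ∃ A, A = φ (fromBlocks C 0 0 1) := ⟨_, rfl⟩
  obtain ⟨B, hB⟩ : ∃ B, B = φ (fromBlocks C⁻¹ᵀ 0 0 1) := ⟨_, rfl⟩
  obtain ⟨S, hS⟩ : ∃ S, S = φ (fromBlocks 0 1 1ᵀ 0) := ⟨_, rfl⟩
  obtain ⟨U, hU⟩ : ∃ U, U = φ (fromBlocks 0 C Cᵀ 0) := ⟨_, rfl⟩
  have hAB : A * Bᵀ = 1 := by
    rw [hA, hB, hφt, ← map_mul, fromBlocks_transpose, fromBlocks_multiply, Matrix.transpose_transpose]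
    simp [Matrix.mul_nonsing_inv C hCd.isUnit, fromBlocks_one]
  have hAS : A * S * Aᵀ = U := by
    rw [hA, hS, hU, hφt, ← map_mul, ← map_mul, fromBlocks_transpose, fromBlocks_multiply, fromBlocks_multiply]
    simp
  obtain ⟨g, hg⟩ : ∃ g : GL (Fin (c + c) ⊕ Fin (c + c)) F, g.1 = fromBlocks A 0 0 B := by
    refine ⟨⟨fromBlocks A 0 0 B, fromBlocks Bᵀ 0 0 Aᵀ, ?_, ?_⟩, rfl⟩ <;> rw [fromBlocks_multiply] <;>
      simp [hAB, mul_eq_one_comm.1 hAB, ← fromBlocks_one]
    · rw [← transpose_one, ← hAB, transpose_mul, transpose_transpose]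
    · rw [← transpose_one, ← mul_eq_one_comm.1 hAB, transpose_mul, transpose_transpose]
  have hUS : U + S = φ (fromBlocks 0 E Eᵀ 0) := by
    rw [hU, hS, ← map_add, fromBlocks_add, hE, transpose_add]; simp
  have hu : ∀ Y : Matrix (Fin c) (Fin c) F, ∃ u : GL (Fin (c + c) ⊕ Fin (c + c)) F,
      u.1 = fromBlocks 1 (φ (fromBlocks 0 Y Yᵀ 0)) 0 1 ∧ u ^ 2 = 1 ∧ u ∈ Cfsg.isometryGroup F (⇑(Orth.qPlus F (c + c))) := by
    intro Y
    obtain ⟨T, hT⟩ : ∃ T, T = φ (fromBlocks 0 Y Yᵀ 0) := ⟨_, rfl⟩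
    have hsq : fromBlocks (1 : Matrix (Fin (c + c)) (Fin (c + c)) F) T 0 1 * fromBlocks 1 T 0 1 = (1 : Matrix (Fin (c + c) ⊕ Fin (c + c)) (Fin (c + c) ⊕ Fin (c + c)) F) := by
      rw [fromBlocks_multiply, ← fromBlocks_one]
      congr 1 <;> simp
      ext i j; simp [CharTwo.add_self_eq_zero]
    refine ⟨⟨fromBlocks 1 T 0 1, fromBlocks 1 T 0 1, hsq, hsq⟩, by rw [← hT], Units.ext (by rw [pow_two]; exact hsq),
      Orth.mem_isometryGroup.2 fun v => ?_⟩
    show Orth.qPlus F (c + c) (fromBlocks 1 T 0 1 *ᵥ v) = _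
    simp only [Orth.coe_qPlus, Cfsg.quadFormPlus]
    rw [fromBlocks_mulVec]
    have h0 := halt Y (v ∘ Sum.inr)
    rw [← hT] at h0
    simp only [Sum.elim_inl, Sum.elim_inr, one_mulVec, zero_mulVec, zero_add, Pi.add_apply, Function.comp_apply, add_mul,
      Finset.sum_add_distrib]
    rw [add_eq_left, ← h0, dotProduct]
    exact Finset.sum_congr rfl fun i _ => mul_comm _ _
  obtain ⟨u, huv, hu2, hum⟩ := hu 1
  rw [← hS] at huv
  obtain ⟨w, hwv, hw2, hwm⟩ := hu E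
  rw [← hUS] at hwv
  have hgm : g ∈ Cfsg.isometryGroup F (⇑(Orth.qPlus F (c + c))) := by
    refine Orth.mem_isometryGroup.2 fun v => ?_
    show Orth.qPlus F (c + c) (g.1 *ᵥ v) = _
    simp only [Orth.coe_qPlus, Cfsg.quadFormPlus, hg]
    rw [fromBlocks_mulVec]
    simp only [Sum.elim_inl, Sum.elim_inr, zero_mulVec, add_zero, zero_add]
    show (A *ᵥ (v ∘ Sum.inl)) ⬝ᵥ (B *ᵥ (v ∘ Sum.inr)) = _
    rw [Matrix.dotProduct_mulVec, ← Matrix.mulVec_transpose, mulVec_mulVec,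
      show Bᵀ * A = 1 from mul_eq_one_comm.1 hAB, one_mulVec]
    rfl
  have hcomm : g * u * g⁻¹ * u⁻¹ = w := by
    have hu' : u⁻¹ = u := inv_eq_of_mul_eq_one_left (by rw [← pow_two, hu2])
    rw [hu', mul_inv_eq_iff_eq_mul.2 (show g * u = (w * u) * g from Units.ext ?_), mul_assoc, ← pow_two, hu2, mul_one]
    rw [Units.val_mul, Units.val_mul, Units.val_mul, hg, huv, hwv, fromBlocks_multiply, fromBlocks_multiply, fromBlocks_multiply]
    congr 1 <;> simp
    rw [show S + (U + S) = U from by rw [add_left_comm, show S + S = 0 from by ext; simp [CharTwo.add_self_eq_zero], add_zero], ← hAS]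
    rw [Matrix.mul_assoc (A * S), show Aᵀ * B = 1 by rw [← transpose_one, ← mul_eq_one_comm.1 hAB, transpose_mul, transpose_transpose],
      mul_one]
  refine ⟨w, ⟨⁅(⟨g, hgm⟩ : ↥(Cfsg.isometryGroup F (⇑(Orth.qPlus F (c + c))))), ⟨u, hum⟩⁆, ?_, ?_⟩, hw2, fun e1 => ?_, fun v hv => ?_⟩
  · show _ ∈ commutator _
    rw [commutator_eq_closure]
    exact Subgroup.subset_closure (commutator_mem_commutatorSet _ _)
  · rw [← hcomm]; rfl
  · rw [e1, Units.val_one, hUS, ← fromBlocks_one] at hwv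
    have h3 := (fromBlocks_inj.1 hwv).2.1.symm
    rw [← map_zero φ, φ.injective.eq_iff, ← fromBlocks_zero] at h3
    exact hEd (by
      haveI : Nonempty (Fin c) := ⟨⟨0, by omega⟩⟩
      rw [(fromBlocks_inj.1 h3).2.1, Matrix.det_zero])
  · rw [hwv, fromBlocks_mulVec] at hv
    have h0 : (U + S) *ᵥ (v ∘ Sum.inr) = 0 := funext fun i => by
      have := congrFun hv (Sum.inl i)
      simpa using this
    have hinj : IsUnit (U + S) := by
      rw [hUS]
      refine IsUnit.map φ ((isUnit_iff_isUnit_det _).2 ?_)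
      have e2 : fromBlocks (0 : Matrix (Fin c) (Fin c) F) E Eᵀ 0 * fromBlocks 0 E⁻¹ᵀ E⁻¹ 0 = 1 := by
        rw [fromBlocks_multiply]
        simp [← Matrix.transpose_mul, Matrix.mul_nonsing_inv E hEd.isUnit, Matrix.nonsing_inv_mul E hEd.isUnit, fromBlocks_one]
      exact (isUnit_iff_isUnit_det _).1 ⟨⟨_, _, e2, mul_eq_one_comm.1 e2⟩, rfl⟩
    have hz : v ∘ Sum.inr = 0 := mulVec_injective_iff_isUnit.2 hinj (h0.trans (mulVec_zero _).symm)
    simp only [Orth.coe_qPlus, Cfsg.quadFormPlus]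
    exact Finset.sum_eq_zero fun i _ => by rw [show v (Sum.inr i) = 0 from congrFun hz i, mul_zero]

end Cfsg.Agent.LBPoint

namespace Cfsg.Agent.LBPoint

open QuadraticMap Module Matrix LBEven

/-- The arithmetic of a prime dividing `q^d - ε`. -/
theorem order_arith {q r d : ℕ} [Fact r.Prime] (hr2 : r ≠ 2) {i : ℕ} (hi : i = orderOf (q : ZMod r)) (hd : 1 ≤ d)
    (hpm : (q : ZMod r) ^ d = 1 ∨ (q : ZMod r) ^ d = -1) :
    i ∣ 2 * d ∧ (Odd i → i ∣ d) ∧ ((q : ZMod r) ^ d = 1 → LBEvenRoot.Typ i d) ∧ ((q : ZMod r) ^ d = -1 → ¬ LBEvenRoot.Typ i d) := by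
  have hr : r.Prime := Fact.out
  haveI : Fact (2 < r) := ⟨lt_of_le_of_ne hr.two_le (Ne.symm hr2)⟩
  have h2 : (q : ZMod r) ^ (2 * d) = 1 := by
    rw [mul_comm, pow_mul]; rcases hpm with e | e <;> rw [e] <;> ring
  have hdvd : i ∣ 2 * d := hi ▸ orderOf_dvd_of_pow_eq_one h2
  have hi0 : 0 < i := Nat.pos_of_ne_zero fun e => by rw [e] at hdvd; simp at hdvd; omega
  have hodd : Odd i → i ∣ d := fun ho => Nat.Coprime.dvd_of_dvd_mul_left (Nat.coprime_two_right.2 ho) hdvd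
  obtain ⟨s, hs⟩ := hdvd
  have hdiv : 2 * d / i = s := by rw [hs, Nat.mul_div_cancel_left _ hi0]
  have hev : ∀ k, i = k + k → (q : ZMod r) ^ d = (-1) ^ s := fun k hk => by
    have hxk : (q : ZMod r) ^ k = -1 := by
      have h2 : ((q : ZMod r) ^ k) ^ 2 = 1 := by
        rw [← pow_mul, show k * 2 = orderOf (q : ZMod r) by omega, pow_orderOf_eq_one]
      exact (sq_eq_one_iff.1 h2).resolve_left (pow_ne_one_of_lt_orderOf (by omega) (by omega))
    have hds : d = k * s := by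
      have : 2 * d = 2 * (k * s) := by rw [hs, hk]; ring
      omega
    rw [hds, pow_mul, hxk]
  refine ⟨⟨s, hs⟩, hodd, fun h1 he => ?_, fun h1 hT => ?_⟩
  · obtain ⟨k, hk⟩ := he
    rw [hdiv]
    by_contra ho
    rw [hev k hk, (Nat.not_even_iff_odd.1 ho).neg_one_pow] at h1
    exact ZMod.neg_one_ne_one h1
  · by_cases he : Even i
    · have hse : Even s := hdiv ▸ hT he
      obtain ⟨k, hk⟩ := he
      rw [hev k hk, hse.neg_one_pow] at h1
      exact ZMod.neg_one_ne_one h1.symm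
    · rw [orderOf_dvd_iff_pow_eq_one.1 (hi ▸ hodd (Nat.not_even_iff_odd.1 he))] at h1
      exact ZMod.neg_one_ne_one h1.symm

/-- The derangements of odd prime order. -/
theorem not_all_odd {F : Type*} [Field F] [Fintype F] [DecidableEq F] [CharP F 2] {ι : Type} [Fintype ι] [DecidableEq ι]
    {Q : QuadraticForm F (ι → F)} {d r : ℕ} [Fact r.Prime] (hr2 : r ≠ 2) (hd : 1 ≤ d) (hι : Fintype.card ι = 2 * d)
    (hQ : (polarBilin Q).Nondegenerate) (hs : (Fintype.card F : ZMod r) ^ d = 1 ∨ (Fintype.card F : ZMod r) ^ d = -1)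
    (hp : IsPlus d Q ↔ (Fintype.card F : ZMod r) ^ d = 1) :
    ∃ x ∈ Cfsg.Geo.omegaGL (⇑Q), (∃ z : F, (x ^ r).1 = z • (1 : Matrix ι ι F)) ∧ (∀ z : F, x.1 ≠ z • (1 : Matrix ι ι F)) ∧
      ¬ ∃ W : Submodule F (ι → F), (finrank F W = 1 ∧ ∃ v ∈ W, Q v ≠ 0) ∧ W.map (Matrix.toLin' x.1) ≤ W := by
  haveI : Fact (Nat.Prime 2) := ⟨Nat.prime_two⟩
  haveI : Fact (2 < r) := ⟨lt_of_le_of_ne (Fact.out : r.Prime).two_le (Ne.symm hr2)⟩
  haveI : Nonempty ι := Fintype.card_pos_iff.1 (by omega)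
  obtain ⟨hdvd, hodd, h1, h2⟩ := order_arith hr2 rfl hd hs
  have hT : IsPlus d Q ↔ LBEvenRoot.Typ (orderOf (Fintype.card F : ZMod r)) d := by
    rw [hp]
    exact ⟨h1, fun h => hs.resolve_right fun e => h2 e h⟩
  obtain ⟨x, hx, hxr, hx1, hfix⟩ := LBFpf.exists_elem 2 hr2 hr2 hd rfl hdvd hodd hι hQ hT
  refine ⟨x, hx, ⟨1, by rw [hxr, one_smul, Units.val_one]⟩, fun z hz => hx1 (Units.ext ?_), ?_⟩
  · rw [hz, scalar_one hQ (mem_omega hx) hz, one_smul, Units.val_one]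
  · rintro ⟨W, ⟨hW, hv⟩, hmap⟩
    obtain ⟨v, hv, hQv⟩ := fixed_of_point (mem_omega hx) hW hv hmap
    exact hQv (by rw [hfix v hv, map_zero])

end Cfsg.Agent.LBPoint
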