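/-
Classes of elements of prime order r dividing q - 1 in PGL_n(q).
-/
import Cfsg.Agent.Lib.Classical.SemisimpleClasses
import Cfsg.Agent.Lib.LinearBlock.RootUnityPolys

set_option autoImplicit false
set_option linter.all false

namespace Cfsg.Agent.LBPGLRoot

open Polynomial Matrix UniqueFactorizationMonoid

universe u

variable {F : Type u} [Field F] {n r : ℕ} [Fact r.Prime]

/-- The linear factor of the `j`-th root of unity. -/
noncomputable def fac (ω : F) (j : ZMod r) : F[X] := X - C (ω ^ j.val)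

/-- The diagonal matrix with multiplicities `a`. -/
noncomputable def repD (ω : F) (a : ZMod r → ℕ) (h : ∑ j, a j = n) : Matrix (Fin n) (Fin n) F :=
  reindexAlgEquiv F F (Fintype.equivFinOfCardEq (α := Σ j, Fin (a j)) (by simp [h]))
    (diagonal fun s : Σ j, Fin (a j) => ω ^ s.1.val)

theorem fac_injective {ω : F} (hω : IsPrimitiveRoot ω r) : Function.Injective (fac (r := r) ω) := fun i j h => by
  apply ZMod.val_injective
  exact hω.pow_inj (ZMod.val_lt i) (ZMod.val_lt j) (C_injective (sub_right_injective h))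

theorem val_add_pow {ω : F} (hω : IsPrimitiveRoot ω r) (i j : ZMod r) : ω ^ (i + j).val = ω ^ i.val * ω ^ j.val := by
  rw [← pow_add, ZMod.val_add, ← pow_eq_pow_mod _ hω.pow_eq_one]

theorem charpoly_repD (ω : F) (a : ZMod r → ℕ) (h : ∑ j, a j = n) :
    (repD ω a h).charpoly = ∏ j, fac ω j ^ a j := by
  rw [repD, reindexAlgEquiv_apply, charpoly_reindex, charpoly_diagonal, Fintype.prod_sigma]
  simp [fac]

theorem charpoly_smul_repD {ω : F} (hω : IsPrimitiveRoot ω r) (t : ZMod r) (a : ZMod r → ℕ) (h : ∑ j, a j = n) :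
    (ω ^ t.val • repD ω a h).charpoly = ∏ j, fac ω j ^ a (j - t) := by
  rw [repD, ← map_smul, reindexAlgEquiv_apply, charpoly_reindex, ← diagonal_smul, charpoly_diagonal, Fintype.prod_sigma,
    ← Equiv.prod_comp (Equiv.addRight t) (fun j => fac ω j ^ a (j - t))]
  refine Finset.prod_congr rfl fun j _ => ?_
  simp [fac, add_comm j t, val_add_pow hω]

theorem exp_unique {ω : F} (hω : IsPrimitiveRoot ω r) {a b : ZMod r → ℕ}
    (h : ∏ j, fac ω j ^ a j = ∏ j, fac ω j ^ b j) : a = b := by
  classical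
  have hc : ∀ (e : ZMod r → ℕ) i, (normalizedFactors (∏ j, fac ω j ^ e j)).count (fac ω i) = e i := by
    intro e i
    have : normalizedFactors (∏ j, fac ω j ^ e j) = ∑ j, Multiset.replicate (e j) (fac ω j) := by
      induction (Finset.univ : Finset (ZMod r)) using Finset.induction with
      | empty => simp
      | insert x s hx ih =>
        rw [Finset.prod_insert hx, Finset.sum_insert hx,
          normalizedFactors_mul (pow_ne_zero _ (X_sub_C_ne_zero _))
            (monic_prod_of_monic _ _ fun j _ => (monic_X_sub_C _).pow _).ne_zero,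
          ih, normalizedFactors_pow, normalizedFactors_irreducible (show Irreducible (fac ω x) from irreducible_X_sub_C _),
          (show (fac ω x).Monic from monic_X_sub_C _).normalize_eq_self, Multiset.nsmul_singleton]
    rw [this, Multiset.count_sum', Finset.sum_eq_single i]
    · simp
    · intro j _ hj; rw [Multiset.count_replicate, if_neg fun e => hj (fac_injective hω e)]
    · simp
  funext i
  rw [← hc a i, h, hc]

theorem exists_exponents [Fintype F] {ω : F} (hω : IsPrimitiveRoot ω r) {G : Matrix (Fin n) (Fin n) F} (hG : G ^ r = 1) :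
    ∃ a : ZMod r → ℕ, (∑ j, a j = n) ∧ G.charpoly = ∏ j, fac ω j ^ a j := by
  classical
  have hmem : ∀ u ∈ normalizedFactors G.charpoly, ∃ j : ZMod r, u = fac ω j := by
    intro u hu
    have hui := irreducible_of_normalized_factor u hu
    have hd : u ∣ X ^ r - 1 :=
      (Spectra.dvd_minpoly_of_dvd_charpoly G hui (dvd_of_mem_normalizedFactors hu)).trans
        (minpoly.dvd F G (by rw [map_sub, map_pow, aeval_X, map_one, hG, sub_self]))
    rw [X_pow_sub_one_eq_prod (Fact.out : r.Prime).pos hω] at hd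
    obtain ⟨z, hz, hdz⟩ := hui.prime.exists_mem_finset_dvd hd
    haveI : NeZero r := ⟨(Fact.out : r.Prime).ne_zero⟩
    obtain ⟨i, hi, rfl⟩ := hω.eq_pow_of_pow_eq_one ((Polynomial.mem_nthRootsFinset (Fact.out : r.Prime).pos 1).1 hz)
    exact ⟨(i : ZMod r), by
      rw [fac, ZMod.val_natCast, Nat.mod_eq_of_lt hi]
      exact eq_of_monic_of_associated (LBRootPoly.monic_of_mem hu) (monic_X_sub_C _)
        (hui.associated_of_dvd (irreducible_X_sub_C _) hdz)⟩
  have hrep : normalizedFactors G.charpoly =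
      ∑ j : ZMod r, Multiset.replicate ((normalizedFactors G.charpoly).count (fac ω j)) (fac ω j) := by
    ext u
    rw [Multiset.count_sum']
    simp only [Multiset.count_replicate]
    by_cases hu : u ∈ normalizedFactors G.charpoly
    · obtain ⟨j, rfl⟩ := hmem u hu
      rw [Finset.sum_eq_single j (fun i _ hi => if_neg fun e => hi (fac_injective hω e)) (by simp), if_pos rfl]
    · rw [Multiset.count_eq_zero.2 hu]
      symm
      refine Finset.sum_eq_zero fun j _ => ?_
      split_ifs with e
      · rw [e]; exact Multiset.count_eq_zero.2 hu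
      · rfl
  refine ⟨fun j => (normalizedFactors G.charpoly).count (fac ω j), ?_, ?_⟩
  · have hp : G.charpoly = ∏ j : ZMod r, fac ω j ^ (normalizedFactors G.charpoly).count (fac ω j) := by
      conv_lhs => rw [← LBRootPoly.prod_of_monic (charpoly_monic G), hrep]
      rw [Multiset.prod_sum]
      simp
    have := congrArg natDegree hp
    rw [charpoly_natDegree_eq_dim, Fintype.card_fin, natDegree_prod_of_monic _ _ fun j _ => (monic_X_sub_C _).pow _] at this
    conv_rhs => rw [this]
    exact Finset.sum_congr rfl fun j _ => by rw [natDegree_pow, show (fac ω j).natDegree = 1 from natDegree_X_sub_C _, mul_one]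
  · conv_lhs => rw [← LBRootPoly.prod_of_monic (charpoly_monic G), hrep]
    rw [Multiset.prod_sum]
    simp

theorem charpoly_nonpower {G : Matrix (Fin n) (Fin n) F} {z : F} (hG : G ^ r = z • 1) (hz : ∀ b : F, b ^ r ≠ z) :
    ∃ k, n = r * k ∧ G.charpoly = (X ^ r - C z) ^ k := by
  classical
  have hr : r.Prime := Fact.out
  have hirr := (X_pow_sub_C_irreducible_iff_of_prime hr).2 hz
  have hmon := monic_X_pow_sub_C z hr.ne_zero
  have hall : normalizedFactors G.charpoly = Multiset.replicate (normalizedFactors G.charpoly).card (X ^ r - C z) := by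
    refine Multiset.eq_replicate.2 ⟨rfl, fun u hu => ?_⟩
    have hui := irreducible_of_normalized_factor u hu
    refine eq_of_monic_of_associated (LBRootPoly.monic_of_mem hu) hmon (hui.associated_of_dvd hirr ?_)
    exact (Spectra.dvd_minpoly_of_dvd_charpoly G hui (dvd_of_mem_normalizedFactors hu)).trans
      (minpoly.dvd F G (by rw [map_sub, map_pow, aeval_X, aeval_C, Algebra.algebraMap_eq_smul_one, hG, sub_self]))
  refine ⟨(normalizedFactors G.charpoly).card, ?_, ?_⟩
  · have := congrArg natDegree (LBRootPoly.prod_of_monic (charpoly_monic G))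
    rw [hall, Multiset.prod_replicate, natDegree_pow, natDegree_X_pow_sub_C, charpoly_natDegree_eq_dim, Fintype.card_fin] at this
    exact this.symm.trans (mul_comm _ _)
  · conv_lhs => rw [← LBRootPoly.prod_of_monic (charpoly_monic G), hall, Multiset.prod_replicate]

theorem exists_nonpower_matrix {z : F} {k : ℕ} (hn : n = r * k) :
    ∃ G : Matrix (Fin n) (Fin n) F, G ^ r = z • 1 := by
  have hr : r.Prime := Fact.out
  obtain ⟨pb, hpb⟩ : ∃ pb, pb = AdjoinRoot.powerBasis' (monic_X_pow_sub_C z hr.ne_zero) := ⟨_, rfl⟩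
  have hdim : pb.dim = r := by rw [hpb, AdjoinRoot.powerBasis'_dim, natDegree_X_pow_sub_C]
  have hgen : pb.gen ^ r = algebraMap F (AdjoinRoot (X ^ r - C z)) z := by
    rw [hpb, AdjoinRoot.powerBasis'_gen]
    have := AdjoinRoot.mk_self (f := (X ^ r - C z : F[X]))
    rwa [map_sub, map_pow, AdjoinRoot.mk_X, AdjoinRoot.mk_C, sub_eq_zero] at this
  let e : Fin pb.dim × Fin k ≃ Fin n := Fintype.equivFinOfCardEq (by simp [hdim, hn])
  refine ⟨reindexAlgEquiv F F e (blockDiagonal fun _ => Algebra.leftMulMatrix pb.basis pb.gen), ?_⟩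
  rw [← map_pow, ← blockDiagonal_pow]
  have : ((fun _ : Fin k => Algebra.leftMulMatrix pb.basis pb.gen) ^ r) = fun _ : Fin k => z • (1 : Matrix (Fin pb.dim) (Fin pb.dim) F) := by
    funext i
    rw [Pi.pow_apply, ← map_pow, hgen, AlgHom.commutes, Algebra.algebraMap_eq_smul_one]
  rw [this, show (fun _ : Fin k => z • (1 : Matrix (Fin pb.dim) (Fin pb.dim) F)) = z • (1 : Fin k → Matrix (Fin pb.dim) (Fin pb.dim) F) from rfl,
    blockDiagonal_smul, blockDiagonal_one, map_smul, map_one]

theorem semisimple_of_pow [Fintype F] (hrq : r ∣ Fintype.card F - 1) {G : Matrix (Fin n) (Fin n) F} {z : F} (hz : z ≠ 0)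
    (hG : G ^ r = z • 1) : Module.End.IsSemisimple (Matrix.toLin' G) := by
  obtain ⟨p, hp⟩ := CharP.exists F
  obtain ⟨e, hpp, he⟩ := FiniteField.card F p
  haveI : Fact p.Prime := ⟨hpp⟩
  refine SemisimpleCl.isSemisimple_of_pow p (m := r * (Fintype.card F - 1)) ?_ ?_
  · rw [pow_mul, hG, _root_.smul_pow, one_pow, FiniteField.pow_card_sub_one_eq_one z hz, one_smul]
  · have hc : (Fintype.card F - 1).Coprime p := by
      refine (hpp.coprime_iff_not_dvd.2 fun h => ?_).symm
      have h2 : p ∣ Fintype.card F := he ▸ dvd_pow_self p e.ne_zero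
      have h3 := Nat.dvd_sub h2 h
      have := Fintype.card_pos (α := F)
      rw [show Fintype.card F - (Fintype.card F - 1) = 1 by omega] at h3
      exact hpp.ne_one (Nat.dvd_one.1 h3)
    exact Nat.Coprime.mul_left (hc.coprime_dvd_left hrq) hc

theorem isConj_of_charpoly [Fintype F] (hrq : r ∣ Fintype.card F - 1) {A B : GL (Fin n) F} {y z : F}
    (hA : A.1 ^ r = y • 1) (hB : B.1 ^ r = z • 1) (hy : y ≠ 0) (hz : z ≠ 0) (hc : A.1.charpoly = B.1.charpoly) :
    IsConj A B := by
  obtain ⟨P, hP⟩ := SemisimpleCl.exists_conjugator (semisimple_of_pow hrq hy hA) (semisimple_of_pow hrq hz hB) hc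
  exact isConj_iff.2 ⟨P, by rw [mul_inv_eq_iff_eq_mul]; exact Units.ext hP⟩

/-! ### Classes in the quotient -/

/-- Classes of the projective group. -/
abbrev PG (F : Type u) [Field F] (n : ℕ) := GL (Fin n) F ⧸ Subgroup.center (GL (Fin n) F)

theorem mem_center_iff (g : GL (Fin n) F) :
    g ∈ Subgroup.center (GL (Fin n) F) ↔ ∃ c : Fˣ, g.1 = (c : F) • (1 : Matrix (Fin n) (Fin n) F) := by
  rw [GeneralLinearGroup.center_eq_range_scalar]
  constructor
  · rintro ⟨c, rfl⟩
    exact ⟨c, by simp [GeneralLinearGroup.scalar, smul_one_eq_diagonal]⟩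
  · rintro ⟨c, hc⟩
    exact ⟨c, Units.ext (by rw [hc]; simp [GeneralLinearGroup.scalar, smul_one_eq_diagonal])⟩

theorem mk_class_eq_iff (G H : GL (Fin n) F) :
    ConjClasses.mk (QuotientGroup.mk G : PG F n) = ConjClasses.mk (QuotientGroup.mk H) ↔
      ∃ (c : Fˣ) (P : GL (Fin n) F), H.1 = (c : F) • (P * G * P⁻¹ : GL (Fin n) F).1 := by
  rw [ConjClasses.mk_eq_mk_iff_isConj, isConj_iff]
  constructor
  · rintro ⟨x, hx⟩
    obtain ⟨P, rfl⟩ := QuotientGroup.mk_surjective x
    rw [← QuotientGroup.mk_inv, ← QuotientGroup.mk_mul, ← QuotientGroup.mk_mul, QuotientGroup.eq, mem_center_iff] at hx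
    obtain ⟨c, hc⟩ := hx
    refine ⟨c, P, ?_⟩
    have : H.1 = (P * G * P⁻¹ : GL (Fin n) F).1 * ((P * G * P⁻¹)⁻¹ * H : GL (Fin n) F).1 := by
      rw [← Units.val_mul, mul_inv_cancel_left]
    rw [this, hc, Matrix.mul_smul, mul_one]
  · rintro ⟨c, P, h⟩
    refine ⟨(P : PG F n), ?_⟩
    rw [← QuotientGroup.mk_inv, ← QuotientGroup.mk_mul, ← QuotientGroup.mk_mul, QuotientGroup.eq, mem_center_iff]
    refine ⟨c, ?_⟩
    rw [Units.val_mul, h, Matrix.mul_smul, ← Units.val_mul, inv_mul_cancel, Units.val_one]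

theorem orderOf_mk (G : GL (Fin n) F) :
    orderOf (QuotientGroup.mk G : PG F n) = r ↔
      (∃ z : Fˣ, G.1 ^ r = (z : F) • 1) ∧ ¬ ∃ c : Fˣ, G.1 = (c : F) • 1 := by
  constructor
  · intro h
    refine ⟨?_, fun hc => ?_⟩
    · have e : (QuotientGroup.mk G : PG F n) ^ r = 1 := h ▸ pow_orderOf_eq_one _
      rw [← QuotientGroup.mk_pow, QuotientGroup.eq_one_iff, mem_center_iff, Units.val_pow_eq_pow_val] at e
      exact e
    · have e : (QuotientGroup.mk G : PG F n) = 1 := (QuotientGroup.eq_one_iff G).2 ((mem_center_iff G).2 hc)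
      rw [e, orderOf_one] at h
      exact (Fact.out : r.Prime).ne_one h.symm
  · rintro ⟨hz, hns⟩
    refine orderOf_eq_prime ?_ fun e => hns ((mem_center_iff G).1 ((QuotientGroup.eq_one_iff G).1 e))
    rw [← QuotientGroup.mk_pow, QuotientGroup.eq_one_iff, mem_center_iff, Units.val_pow_eq_pow_val]
    exact hz

/-- Multiplicity tuples. -/
def Tup (n r : ℕ) [Fact r.Prime] : Type := {a : ZMod r → ℕ // (∑ j, a j = n) ∧ ∀ j, a j < n}

/-- Cyclic shift of the tuples. -/
instance shiftAction : MulAction (Multiplicative (ZMod r)) (Tup n r) where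
  smul t a := ⟨fun j => a.1 (j - t.toAdd), (Equiv.sum_comp (Equiv.subRight t.toAdd) a.1).trans a.2.1, fun j => a.2.2 _⟩
  one_smul a := Subtype.ext (funext fun j => by show a.1 (j - 0) = a.1 j; rw [sub_zero])
  mul_smul s t a := Subtype.ext (funext fun j => by
    show a.1 (j - (s.toAdd + t.toAdd)) = a.1 (j - s.toAdd - t.toAdd); rw [sub_add_eq_sub_sub])

theorem smul_apply (t : Multiplicative (ZMod r)) (a : Tup n r) (j : ZMod r) : (t • a).1 j = a.1 (j - t.toAdd) := rfl

instance finite_tup : Finite (Tup n r) :=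
  Finite.of_injective (fun a : Tup n r => fun j => (⟨a.1 j, a.2.2 j⟩ : Fin n))
    fun a b h => Subtype.ext (funext fun j => congrArg Fin.val (congrFun h j))

theorem card_tup (hn : 1 ≤ n) : Nat.card (Tup n r) + r = Nat.choose (n + r - 1) (r - 1) := by
  classical
  have hr : r.Prime := Fact.out
  let A := {a : ZMod r → ℕ // ∑ j, a j = n}
  haveI : Fintype A := Fintype.ofEquiv (Sym (ZMod r) n) (Sym.equivNatSumOfFintype (ZMod r) n)
  have hA : Fintype.card A = Nat.choose (n + r - 1) (r - 1) := by
    rw [← Fintype.card_congr (Sym.equivNatSumOfFintype (ZMod r) n), Sym.card_sym_eq_choose, ZMod.card,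
      Nat.choose_symm_of_eq_add (show r + n - 1 = n + (r - 1) by have := hr.two_le; omega), add_comm n r]
  have h := Fintype.card_subtype_compl (fun a : A => ∃ j, a.1 j = n)
  have hex : Fintype.card {a : A // ∃ j, a.1 j = n} = r := by
    conv_rhs => rw [← ZMod.card r]
    refine (Fintype.card_of_bijective (f := fun j : ZMod r =>
      (⟨⟨Pi.single j n, Finset.sum_pi_single' j n Finset.univ |>.trans (by simp)⟩, j, by simp⟩ : {a : A // ∃ j, a.1 j = n})) ⟨?_, ?_⟩).symm
    · intro i j h
      have := congrFun (congrArg (fun a : {a : A // ∃ j, a.1 j = n} => a.1.1) h) i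
      simp only [Pi.single_eq_same] at this
      by_contra hne
      rw [Pi.single_eq_of_ne hne] at this
      omega
    · rintro ⟨⟨a, ha⟩, j, hj⟩
      refine ⟨j, Subtype.ext (Subtype.ext (funext fun i => ?_))⟩
      show (Pi.single j n : ZMod r → ℕ) i = a i
      rcases eq_or_ne i j with rfl | hne
      · rw [Pi.single_eq_same]; exact hj.symm
      · rw [Pi.single_eq_of_ne hne]
        rw [← Finset.add_sum_erase _ _ (Finset.mem_univ j)] at ha
        have := Finset.single_le_sum (f := a) (fun x _ => Nat.zero_le _) (Finset.mem_erase.2 ⟨hne, Finset.mem_univ i⟩)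
        change a j = n at hj
        omega
  have hsub : Nat.card (Tup n r) = Fintype.card {a : A // ¬ ∃ j, a.1 j = n} := by
    rw [← Nat.card_eq_fintype_card]
    refine Nat.card_congr
      { toFun := fun a => ⟨⟨a.1, a.2.1⟩, fun ⟨j, hj⟩ => absurd hj (Nat.ne_of_lt (a.2.2 j))⟩
        invFun := fun a => ⟨a.1.1, a.1.2, fun j => lt_of_le_of_ne
          ((Finset.single_le_sum (fun x _ => Nat.zero_le _) (Finset.mem_univ j)).trans_eq a.1.2) fun e => a.2 ⟨j, e⟩⟩
        left_inv := fun a => rfl
        right_inv := fun a => rfl }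
  have := Fintype.card_subtype_le (fun a : A => ∃ j, a.1 j = n)
  rw [hsub, h, hex, ← hA]
  omega

theorem card_fixed (hn : 2 ≤ n) :
    Nat.card (MulAction.fixedPoints (Multiplicative (ZMod r)) (Tup n r)) = if r ∣ n then 1 else 0 := by
  have hr : r.Prime := Fact.out
  have hconst : ∀ a : Tup n r, a ∈ MulAction.fixedPoints (Multiplicative (ZMod r)) (Tup n r) →
      (∀ j, a.1 j = a.1 0) ∧ r * a.1 0 = n := fun a ha => by
    have h0 : ∀ j, a.1 j = a.1 0 := fun j => by
      have := congrFun (congrArg Subtype.val (ha (Multiplicative.ofAdd j))) j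
      rw [smul_apply, toAdd_ofAdd, sub_self] at this
      exact this.symm
    refine ⟨h0, ?_⟩
    have := a.2.1
    rw [Finset.sum_congr rfl fun j _ => h0 j, Finset.sum_const, Finset.card_univ, ZMod.card, smul_eq_mul] at this
    exact this
  split_ifs with hd
  · rw [Nat.card_eq_one_iff_unique]
    refine ⟨⟨fun a b => Subtype.ext (Subtype.ext (funext fun j => ?_))⟩, ?_⟩
    · rw [(hconst _ a.2).1 j, (hconst _ b.2).1 j]
      exact Nat.eq_of_mul_eq_mul_left hr.pos ((hconst _ a.2).2.trans (hconst _ b.2).2.symm)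
    · exact ⟨⟨⟨fun _ => n / r, by
        rw [Finset.sum_const, Finset.card_univ, ZMod.card, smul_eq_mul, Nat.mul_div_cancel' hd],
        fun _ => Nat.div_lt_self (by omega) hr.one_lt⟩, fun t => Subtype.ext rfl⟩⟩
  · rw [Nat.card_eq_zero]
    exact Or.inl ⟨fun a => hd ⟨_, (hconst _ a.2).2.symm⟩⟩

theorem card_orbits {G X : Type*} [Group G] [MulAction G X] [Finite X] (hG : Nat.card G = r) :
    r * Nat.card (MulAction.orbitRel.Quotient G X) =
      Nat.card X + (r - 1) * Nat.card (MulAction.fixedPoints G X) := by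
  classical
  have hr : r.Prime := Fact.out
  haveI : Finite G := Nat.finite_of_card_ne_zero (hG ▸ hr.ne_zero)
  haveI : Fintype G := Fintype.ofFinite G
  haveI : Fintype X := Fintype.ofFinite X
  haveI : Fintype (MulAction.orbitRel.Quotient G X) := Fintype.ofFinite _
  have hb := MulAction.sum_card_fixedBy_eq_card_orbits_mul_card_group G X
  have hfix : ∀ g : G, g ≠ 1 → MulAction.fixedBy X g = MulAction.fixedPoints G X := fun g hg => by
    ext x
    refine ⟨fun hx h => ?_, fun hx => hx g⟩
    have hgen : Subgroup.zpowers g = ⊤ := by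
      haveI : Fact (Nat.card G).Prime := ⟨hG ▸ hr⟩
      exact zpowers_eq_top_of_prime_card rfl hg
    have hm : h ∈ Subgroup.zpowers g := hgen ▸ Subgroup.mem_top h
    have hsub : Subgroup.zpowers g ≤ MulAction.stabilizer G x := Subgroup.zpowers_le.2 hx
    exact hsub hm
  rw [← Finset.add_sum_erase _ _ (Finset.mem_univ (1 : G))] at hb
  have h1 : Fintype.card (MulAction.fixedBy X (1 : G)) = Fintype.card X :=
    Fintype.card_congr ⟨fun a => a.1, fun a => ⟨a, one_smul G a⟩, fun _ => rfl, fun _ => rfl⟩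
  have h2 : ∑ g ∈ Finset.univ.erase (1 : G), Fintype.card (MulAction.fixedBy X g) =
      (r - 1) * Fintype.card (MulAction.fixedPoints G X) := by
    rw [Finset.sum_congr rfl fun g hg => show Fintype.card (MulAction.fixedBy X g) = Fintype.card (MulAction.fixedPoints G X) from
      Fintype.card_congr (Equiv.setCongr (hfix g (Finset.ne_of_mem_erase hg))), Finset.sum_const,
      Finset.card_erase_of_mem (Finset.mem_univ _), Finset.card_univ, ← Nat.card_eq_fintype_card (α := G), hG, smul_eq_mul]
  rw [h1, h2, ← Nat.card_eq_fintype_card, ← Nat.card_eq_fintype_card, ← Nat.card_eq_fintype_card, ← Nat.card_eq_fintype_card,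
    hG] at hb
  rw [hb, mul_comm]

theorem card_nonpower [Fintype F] (hrq : r ∣ Fintype.card F - 1) :
    Nat.card {v : Fˣ ⧸ (powMonoidHom r : Fˣ →* Fˣ).range // v ≠ 1} = r - 1 := by
  classical
  haveI : Fintype (Fˣ ⧸ (powMonoidHom r : Fˣ →* Fˣ).range) := Fintype.ofFinite _
  have hk : Nat.card (powMonoidHom r : Fˣ →* Fˣ).ker = r := by
    rw [IsCyclic.card_powMonoidHom_ker, Nat.card_units, Nat.card_eq_fintype_card, Nat.gcd_eq_right hrq]
  have hidx : Nat.card (Fˣ ⧸ (powMonoidHom r : Fˣ →* Fˣ).range) = r := by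
    have h1 := Subgroup.card_mul_index (powMonoidHom r : Fˣ →* Fˣ).ker
    rw [Subgroup.index_ker, hk] at h1
    have h2 := Subgroup.card_mul_index (powMonoidHom r : Fˣ →* Fˣ).range
    have hpos : 0 < Nat.card ↥(powMonoidHom r : Fˣ →* Fˣ).range := Nat.card_pos
    rw [← h1, mul_comm r] at h2
    exact Nat.eq_of_mul_eq_mul_left hpos h2
  rw [Nat.card_eq_fintype_card, Fintype.card_subtype_compl, Fintype.card_subtype_eq, ← Nat.card_eq_fintype_card, hidx]

theorem card_classes [Fintype F] (hn : 2 ≤ n) (hrq : r ∣ Fintype.card F - 1) :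
    Nat.card {C : ConjClasses (PG F n) // ∃ g : PG F n, ConjClasses.mk g = C ∧ orderOf g = r} =
      (Nat.choose (n + r - 1) (r - 1) - r - (if r ∣ n then 1 else 0)) / r + r * (if r ∣ n then 1 else 0) := by
  classical
  have hr : r.Prime := Fact.out
  obtain ⟨u, hu⟩ := exists_prime_orderOf_dvd_card' r (show r ∣ Nat.card Fˣ by
    rwa [Nat.card_units, Nat.card_eq_fintype_card])
  have hω : IsPrimitiveRoot (u : F) r :=
    (hu ▸ IsPrimitiveRoot.orderOf u).map_of_injective (f := Units.coeHom F) Units.val_injective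
  obtain ⟨ω, hωdef⟩ : ∃ ω, ω = (u : F) := ⟨_, rfl⟩
  rw [← hωdef] at hω
  have hω0 : ω ≠ 0 := hω.ne_zero hr.ne_zero
  let T := {v : Fˣ ⧸ (powMonoidHom r : Fˣ →* Fˣ).range // v ≠ 1 ∧ r ∣ n}
  let O := MulAction.orbitRel.Quotient (Multiplicative (ZMod r)) (Tup n r)
  have hrepr : ∀ (a : ZMod r → ℕ) (h : ∑ j, a j = n), repD ω a h ^ r = (1 : F) • 1 := fun a h => by
    rw [repD, ← map_pow, diagonal_pow, one_smul]
    rw [show (fun s : Σ j, Fin (a j) => ω ^ s.1.val) ^ r = 1 from funext fun s => by
      rw [Pi.pow_apply, ← pow_mul, mul_comm, pow_mul, hω.pow_eq_one, one_pow, Pi.one_apply]]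
    show reindexAlgEquiv F F _ (diagonal fun _ => (1 : F)) = 1
    rw [diagonal_one, map_one]
  have hdetD : ∀ (a : ZMod r → ℕ) (h : ∑ j, a j = n), (repD ω a h).det ≠ 0 := fun a h e => by
    have := congrArg Matrix.det (hrepr a h)
    rw [det_pow, e, zero_pow hr.ne_zero, one_smul, det_one] at this
    exact zero_ne_one this
  let D : Tup n r → GL (Fin n) F := fun a => GeneralLinearGroup.mkOfDetNeZero (repD ω a.1 a.2.1) (hdetD _ _)
  have hDr : ∀ a, (D a).1 ^ r = ((1 : Fˣ) : F) • 1 := fun a => by rw [Units.val_one]; exact hrepr a.1 a.2.1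
  have hDns : ∀ a : Tup n r, ¬ ∃ c : Fˣ, (D a).1 = (c : F) • 1 := by
    rintro a ⟨c, hc⟩
    obtain ⟨t, htc⟩ : ∃ t : ZMod r, ω ^ t.val = (c : F) := by
      have hcr : (c : F) ^ r = 1 := by
        have h := hDr a
        rw [hc, _root_.smul_pow, one_pow, Units.val_one] at h
        have := congrFun (congrFun h ⟨0, by omega⟩) ⟨0, by omega⟩
        simpa using this
      haveI : NeZero r := ⟨hr.ne_zero⟩
      obtain ⟨i, hi, h⟩ := hω.eq_pow_of_pow_eq_one hcr
      exact ⟨(i : ZMod r), by rw [ZMod.val_natCast, Nat.mod_eq_of_lt hi, h]⟩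
    have hcp : (D a).1.charpoly = fac ω t ^ n := by
      rw [hc, smul_one_eq_diagonal, charpoly_diagonal, Finset.prod_const, Finset.card_univ, Fintype.card_fin, fac, htc]
    have he := (charpoly_repD ω a.1 a.2.1).symm.trans hcp
    rw [show fac ω t ^ n = ∏ j, fac ω j ^ (Pi.single t n : ZMod r → ℕ) j by
      rw [Finset.prod_eq_single t (fun j _ hj => by rw [Pi.single_eq_of_ne hj, pow_zero]) (by simp), Pi.single_eq_same]] at he
    have := a.2.2 t
    rw [exp_unique hω he, Pi.single_eq_same] at this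
    omega
  have hR : ∀ v : T, ∃ G : GL (Fin n) F, G.1 ^ r = ((v.1.out : Fˣ) : F) • 1 := fun v => by
    obtain ⟨k, hk⟩ := v.2.2
    obtain ⟨G, hG⟩ := exists_nonpower_matrix (F := F) (z := ((v.1.out : Fˣ) : F)) hk
    refine ⟨GeneralLinearGroup.mkOfDetNeZero G fun e => ?_, hG⟩
    have := congrArg Matrix.det hG
    rw [det_pow, e, zero_pow hr.ne_zero, det_smul, det_one, mul_one] at this
    exact pow_ne_zero _ (v.1.out).ne_zero this.symm
  choose R hR using hR
  have hnp : ∀ z : Fˣ, (QuotientGroup.mk z : Fˣ ⧸ (powMonoidHom r : Fˣ →* Fˣ).range) ≠ 1 → ∀ b : F, b ^ r ≠ (z : F) :=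
    fun z hz b hb => hz ((QuotientGroup.eq_one_iff z).2 ⟨Units.mk0 b (fun e => z.ne_zero (by
      rw [← hb, e, zero_pow hr.ne_zero])), Units.ext (by simpa using hb)⟩)
  have hRns : ∀ v : T, ¬ ∃ c : Fˣ, (R v).1 = (c : F) • 1 := by
    rintro v ⟨c, hc⟩
    have h := hR v
    rw [hc, _root_.smul_pow, one_pow] at h
    have e := congrFun (congrFun h ⟨0, by omega⟩) ⟨0, by omega⟩
    refine hnp v.1.out (by rw [QuotientGroup.out_eq']; exact v.2.1) (c : F) ?_
    simpa using e
  have hpowconj : ∀ (c : Fˣ) (P G : GL (Fin n) F) (z : F), G.1 ^ r = z • 1 →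
      ((c : F) • (P * G * P⁻¹ : GL (Fin n) F).1) ^ r = ((c : F) ^ r * z) • 1 := fun c P G z hG => by
    rw [_root_.smul_pow, ← Units.val_pow_eq_pow_val (P * G * P⁻¹) r, conj_pow, Units.val_mul, Units.val_mul, Units.val_pow_eq_pow_val, hG,
      Matrix.mul_smul, Matrix.smul_mul, mul_one, Units.mul_inv, smul_smul]
  have hcoef : ∀ y z : F, y • (1 : Matrix (Fin n) (Fin n) F) = z • 1 → y = z := fun y z h => by
    simpa using congrFun (congrFun h ⟨0, by omega⟩) ⟨0, by omega⟩
  -- shifts
  have hshift : ∀ (t : ZMod r) (a : Tup n r),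
      ConjClasses.mk (QuotientGroup.mk (D a) : PG F n) =
        ConjClasses.mk (QuotientGroup.mk (D (Multiplicative.ofAdd t • a))) := fun t a => by
    rw [mk_class_eq_iff]
    let c : Fˣ := Units.mk0 (ω ^ t.val) (pow_ne_zero _ hω0)
    let B : GL (Fin n) F := GeneralLinearGroup.mkOfDetNeZero ((c : F) • (D a).1) (by
      rw [det_smul]; exact mul_ne_zero (pow_ne_zero _ c.ne_zero) (hdetD a.1 a.2.1))
    have hB : B.1 ^ r = ((c : F) ^ r * 1) • 1 := by
      show ((c : F) • (D a).1) ^ r = _
      rw [_root_.smul_pow, hDr, Units.val_one, smul_smul]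
    obtain ⟨P, hP⟩ := isConj_iff.1 (isConj_of_charpoly hrq hB (hDr (Multiplicative.ofAdd t • a))
      (by rw [mul_one]; exact pow_ne_zero _ c.ne_zero) one_ne_zero (by
        show (ω ^ t.val • repD ω a.1 a.2.1).charpoly = (repD ω (Multiplicative.ofAdd t • a).1 (Multiplicative.ofAdd t • a).2.1).charpoly
        rw [charpoly_smul_repD hω, charpoly_repD]
        rfl))
    refine ⟨c, P, ?_⟩
    rw [← hP, Units.val_mul, Units.val_mul, Units.val_mul, Units.val_mul]
    show P.1 * ((c : F) • (D a).1) * (P⁻¹ : GL (Fin n) F).1 = _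
    rw [Matrix.mul_smul, Matrix.smul_mul]
  let Φ : O ⊕ T → {C : ConjClasses (PG F n) // ∃ g : PG F n, ConjClasses.mk g = C ∧ orderOf g = r} := Sum.elim
    (Quotient.lift (fun a => ⟨ConjClasses.mk (QuotientGroup.mk (D a)), _, rfl,
      (orderOf_mk (D a)).2 ⟨⟨1, hDr a⟩, hDns a⟩⟩) fun a b hab => Subtype.ext (by
        obtain ⟨t, rfl⟩ := hab
        exact (hshift t.toAdd b).symm))
    (fun v => ⟨ConjClasses.mk (QuotientGroup.mk (R v)), _, rfl, (orderOf_mk (R v)).2 ⟨⟨v.1.out, hR v⟩, hRns v⟩⟩)
  have hbij : Function.Bijective Φ := by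
    constructor
    · rintro (a | v) (b | w) h <;> have h' := congrArg Subtype.val h
      · induction a using Quotient.inductionOn with | h a => ?_
        induction b using Quotient.inductionOn with | h b => ?_
        simp only [Φ, Sum.elim_inl, Quotient.lift_mk] at h'
        obtain ⟨c, P, hc⟩ := (mk_class_eq_iff _ _).1 h'
        have hcr : (c : F) ^ r = 1 := by
          have e := hpowconj c P (D a) _ (hDr a)
          rw [← hc, hDr b] at e
          simpa using (hcoef _ _ e).symm
        haveI : NeZero r := ⟨hr.ne_zero⟩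
        obtain ⟨i, hi, hic⟩ := hω.eq_pow_of_pow_eq_one hcr
        obtain ⟨t, ht⟩ : ∃ t : ZMod r, ω ^ t.val = (c : F) :=
          ⟨(i : ZMod r), by rw [ZMod.val_natCast, Nat.mod_eq_of_lt hi, hic]⟩
        have hcp : (D b).1.charpoly = (ω ^ t.val • (D a).1).charpoly := by
          rw [hc, ht, Units.val_mul, Units.val_mul, ← Matrix.smul_mul, ← Matrix.mul_smul,
            Matrix.coe_units_inv, charpoly_units_conj]
        refine congrArg Sum.inl (Quotient.sound ?_)
        refine (MulAction.orbitRel (Multiplicative (ZMod r)) (Tup n r)).symm ⟨Multiplicative.ofAdd t, ?_⟩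
        refine Subtype.ext (exp_unique hω ?_)
        exact ((charpoly_smul_repD hω t a.1 a.2.1).symm.trans hcp.symm).trans (charpoly_repD ω b.1 b.2.1)
      · exfalso
        induction a using Quotient.inductionOn with | h a => ?_
        simp only [Φ, Sum.elim_inl, Sum.elim_inr, Quotient.lift_mk] at h'
        obtain ⟨c, P, hc⟩ := (mk_class_eq_iff _ _).1 h'
        have e := hpowconj c P (D a) _ (hDr a)
        rw [← hc, hR w] at e
        refine hnp w.1.out (by rw [QuotientGroup.out_eq']; exact w.2.1) (c : F) ?_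
        simpa using (hcoef _ _ e).symm
      · exfalso
        induction b using Quotient.inductionOn with | h b => ?_
        simp only [Φ, Sum.elim_inl, Sum.elim_inr, Quotient.lift_mk] at h'
        obtain ⟨c, P, hc⟩ := (mk_class_eq_iff _ _).1 h'.symm
        have e := hpowconj c P (D b) _ (hDr b)
        rw [← hc, hR v] at e
        refine hnp v.1.out (by rw [QuotientGroup.out_eq']; exact v.2.1) (c : F) ?_
        simpa using (hcoef _ _ e).symm
      · simp only [Φ, Sum.elim_inr] at h'
        obtain ⟨c, P, hc⟩ := (mk_class_eq_iff _ _).1 h'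
        have e := hpowconj c P (R v) _ (hR v)
        rw [← hc, hR w] at e
        refine congrArg Sum.inr (Subtype.ext ?_)
        rw [← QuotientGroup.out_eq' v.1, ← QuotientGroup.out_eq' w.1, QuotientGroup.eq]
        refine ⟨c, Units.ext ?_⟩
        have := hcoef _ _ e
        rw [powMonoidHom_apply, Units.val_pow_eq_pow_val, Units.val_mul, this, mul_comm ((c : F) ^ r), ← mul_assoc,
          Units.inv_mul, one_mul]
    · rintro ⟨C, g, rfl, hg⟩
      obtain ⟨G, rfl⟩ := QuotientGroup.mk_surjective g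
      obtain ⟨⟨z, hz⟩, hns⟩ := (orderOf_mk G).1 hg
      by_cases hv : (QuotientGroup.mk z : Fˣ ⧸ (powMonoidHom r : Fˣ →* Fˣ).range) = 1
      · obtain ⟨b, hb⟩ := (QuotientGroup.eq_one_iff z).1 hv
        rw [powMonoidHom_apply] at hb
        let G' : Matrix (Fin n) (Fin n) F := ((b⁻¹ : Fˣ) : F) • G.1
        have hG' : G' ^ r = 1 := by
          simp only [G']
          rw [_root_.smul_pow, hz, smul_smul, ← hb, Units.val_pow_eq_pow_val, ← mul_pow, Units.inv_mul, one_pow, one_smul]
        obtain ⟨a, ha, hac⟩ := exists_exponents hω hG'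
        have hlt : ∀ j, a j < n := by
          intro j
          refine lt_of_le_of_ne ((Finset.single_le_sum (fun x _ => Nat.zero_le _) (Finset.mem_univ j)).trans_eq ha) fun e => ?_
          refine hns ⟨b * Units.mk0 (ω ^ j.val) (pow_ne_zero _ hω0), ?_⟩
          have hzero : ∀ i, i ≠ j → a i = 0 := fun i hi => by
            have h' := ha
            rw [← Finset.add_sum_erase _ _ (Finset.mem_univ j)] at h'
            have := Finset.single_le_sum (f := a) (fun x _ => Nat.zero_le _) (Finset.mem_erase.2 ⟨hi, Finset.mem_univ i⟩)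
            omega
          have hcp : G'.charpoly = ((ω ^ j.val) • (1 : Matrix (Fin n) (Fin n) F)).charpoly := by
            rw [hac, Finset.prod_eq_single j (fun i _ hi => by rw [hzero i hi, pow_zero]) (by simp), e,
              smul_one_eq_diagonal, charpoly_diagonal, Finset.prod_const, Finset.card_univ, Fintype.card_fin, fac]
          have hsc : ((ω ^ j.val) • (1 : Matrix (Fin n) (Fin n) F)) ^ r = (1 : F) • 1 := by
            rw [_root_.smul_pow, one_pow, ← pow_mul, mul_comm, pow_mul, hω.pow_eq_one, one_pow]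
          obtain ⟨P, hP⟩ := SemisimpleCl.exists_conjugator
            (semisimple_of_pow hrq one_ne_zero (hG'.trans (one_smul F _).symm))
            (semisimple_of_pow hrq one_ne_zero hsc) hcp
          rw [Matrix.smul_mul, one_mul] at hP
          have hP' : G' = (ω ^ j.val) • 1 := by
            have := congrArg (fun M => (P⁻¹ : GL (Fin n) F).1 * M) hP
            simp only [← Matrix.mul_assoc, Units.inv_mul, one_mul, Matrix.mul_smul] at this
            exact this
          simp only [G'] at hP'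
          rw [Units.val_mul, mul_smul]
          show G.1 = (b : F) • ((ω ^ j.val) • 1)
          rw [← hP', smul_smul, Units.mul_inv, one_smul]
        refine ⟨Sum.inl ⟦⟨a, ha, hlt⟩⟧, Subtype.ext ?_⟩
        show ConjClasses.mk (QuotientGroup.mk (D ⟨a, ha, hlt⟩) : PG F n) = ConjClasses.mk (QuotientGroup.mk G)
        rw [mk_class_eq_iff]
        have hGd : G'.det ≠ 0 := fun e => by
          have := congrArg Matrix.det hG'
          rw [det_pow, e, zero_pow hr.ne_zero, det_one] at this
          exact zero_ne_one this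
        obtain ⟨P, hP⟩ := isConj_iff.1 (isConj_of_charpoly hrq (hDr ⟨a, ha, hlt⟩)
          (show (GeneralLinearGroup.mkOfDetNeZero G' hGd).1 ^ r = (1 : F) • 1 from hG'.trans (one_smul F _).symm)
          (by rw [Units.val_one]; exact one_ne_zero) one_ne_zero (by
            show (repD ω a ha).charpoly = G'.charpoly
            rw [charpoly_repD, hac]))
        refine ⟨b, P, ?_⟩
        rw [hP]
        show G.1 = (b : F) • (((b⁻¹ : Fˣ) : F) • G.1)
        rw [smul_smul, Units.mul_inv, one_smul]
      · obtain ⟨k, hk, hkc⟩ := charpoly_nonpower hz (hnp z hv)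
        let v : T := ⟨QuotientGroup.mk z, hv, ⟨k, hk⟩⟩
        obtain ⟨s, hs⟩ := QuotientGroup.eq.1 (QuotientGroup.out_eq' v.1).symm.symm
        refine ⟨Sum.inr v, Subtype.ext ?_⟩
        simp only [Φ, Sum.elim_inr]
        rw [mk_class_eq_iff]
        have hz' : (s : F) ^ r * ((v.1.out : Fˣ) : F) = (z : F) := by
          have := congrArg Units.val hs
          rw [powMonoidHom_apply, Units.val_pow_eq_pow_val, Units.val_mul] at this
          rw [this, mul_comm (((v.1.out)⁻¹ : Fˣ) : F), mul_assoc, Units.inv_mul, mul_one]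
        let B : GL (Fin n) F := GeneralLinearGroup.mkOfDetNeZero ((s : F) • (R v).1) (by
          rw [det_smul]; exact mul_ne_zero (pow_ne_zero _ s.ne_zero) (GeneralLinearGroup.det (R v)).ne_zero)
        have hB : B.1 ^ r = (z : F) • 1 := by
          show ((s : F) • (R v).1) ^ r = _
          rw [_root_.smul_pow, hR, smul_smul, hz']
        obtain ⟨k', hk', hkc'⟩ := charpoly_nonpower hB (hnp z hv)
        obtain ⟨P, hP⟩ := isConj_iff.1 (isConj_of_charpoly hrq hB hz z.ne_zero z.ne_zero (by
          rw [hkc', hkc, Nat.eq_of_mul_eq_mul_left hr.pos (hk'.symm.trans hk)]))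
        refine ⟨s, P, ?_⟩
        rw [← hP, Units.val_mul, Units.val_mul, Units.val_mul, Units.val_mul]
        show P.1 * ((s : F) • (R v).1) * (P⁻¹ : GL (Fin n) F).1 = _
        rw [Matrix.mul_smul, Matrix.smul_mul]
  rw [← Nat.card_eq_of_bijective Φ hbij, Nat.card_sum]
  have hT : Nat.card T = (r - 1) * (if r ∣ n then 1 else 0) := by
    split_ifs with hd
    · rw [mul_one, ← card_nonpower (F := F) hrq]
      exact Nat.card_congr (Equiv.subtypeEquivRight fun v => by simp [hd])
    · rw [mul_zero, Nat.card_eq_zero]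
      exact Or.inl ⟨fun v => hd v.2.2⟩
  have hO := card_orbits (r := r) (G := Multiplicative (ZMod r)) (X := Tup n r) (by
    rw [Nat.card_congr Multiplicative.toAdd, Nat.card_zmod])
  have hf := card_fixed (r := r) hn
  have hX := card_tup (r := r) (show 1 ≤ n by omega)
  rw [hT]
  show Nat.card O + _ = _
  change r * Nat.card O = _ at hO
  have hfx : Nat.card (MulAction.fixedPoints (Multiplicative (ZMod r)) (Tup n r)) ≤ Nat.card (Tup n r) :=
    Finite.card_subtype_le _
  generalize Nat.card (MulAction.fixedPoints (Multiplicative (ZMod r)) (Tup n r)) = f at hO hf hfx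
  rw [← hf]
  generalize Nat.card O = o at hO ⊢
  generalize Nat.card (Tup n r) = x at hO hX hfx
  rw [← hX, Nat.add_sub_cancel]
  obtain ⟨r', hr'⟩ : ∃ r', r = r' + 1 := ⟨r - 1, by have := hr.pos; omega⟩
  subst hr'
  simp only [Nat.add_sub_cancel] at hO ⊢
  have hof : f ≤ o := by
    have h : (r' + 1) * f ≤ (r' + 1) * o := by rw [hO, add_mul, one_mul]; omega
    exact Nat.le_of_mul_le_mul_left h (Nat.succ_pos r')
  obtain ⟨d, rfl⟩ : ∃ d, o = f + d := ⟨o - f, by omega⟩
  have hx : x = f + (r' + 1) * d := by linarith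
  rw [hx, Nat.add_sub_cancel_left, Nat.mul_div_cancel_left _ (by omega)]
  ring

end Cfsg.Agent.LBPGLRoot
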