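/-
Classes of elements of odd prime order r dividing q + 1 in PGU_n(q).
-/
import Cfsg.Agent.Lib.LinearBlock.PGLRootClasses
import Cfsg.Agent.Lib.LinearBlock.GUConj
import Cfsg.Agent.Lib.Classical.HermSU

set_option autoImplicit false
set_option linter.all false

namespace Cfsg.Agent.LBPGURoot

open Polynomial Matrix LBPGLRoot

universe u

variable {F : Type u} [Field F] {n r q : ℕ} [Fact r.Prime] {σ : F →+* F}

theorem card_nonone {A : Type*} [CommGroup A] [Finite A] [IsCyclic A] (h : r ∣ Nat.card A) :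
    Nat.card {v : A ⧸ (powMonoidHom r : A →* A).range // v ≠ 1} = r - 1 := by
  classical
  haveI : Fintype (A ⧸ (powMonoidHom r : A →* A).range) := Fintype.ofFinite _
  have hk : Nat.card (powMonoidHom r : A →* A).ker = r := by
    rw [IsCyclic.card_powMonoidHom_ker, Nat.gcd_eq_right h]
  have hidx : Nat.card (A ⧸ (powMonoidHom r : A →* A).range) = r := by
    have h1 := Subgroup.card_mul_index (powMonoidHom r : A →* A).ker
    rw [Subgroup.index_ker, hk] at h1
    have h2 := Subgroup.card_mul_index (powMonoidHom r : A →* A).range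
    have hpos : 0 < Nat.card ↥(powMonoidHom r : A →* A).range := Nat.card_pos
    rw [← h1, mul_comm r] at h2
    exact Nat.eq_of_mul_eq_mul_left hpos h2
  rw [Nat.card_eq_fintype_card, Fintype.card_subtype_compl, Fintype.card_subtype_eq, ← Nat.card_eq_fintype_card, hidx]

/-- Monomial matrices with unit norm entries. -/
theorem monomial_mem (hσ : ∀ x, σ x = x ^ q) {π : Equiv.Perm (Fin n)} {c : Fin n → F} (hc : ∀ i, c i * σ (c i) = 1)
    {g : GL (Fin n) F} (hg : ∀ i j, g.1 i j = if i = π j then c j else 0) : g ∈ Cfsg.GU n F q := by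
  rw [HermSU.mem_GU_iff hσ]
  ext a b
  rw [Matrix.mul_apply, Finset.sum_eq_single (π a)]
  · rw [transpose_apply, hg, map_apply, hg, if_pos rfl]
    rcases eq_or_ne a b with rfl | hab
    · rw [if_pos rfl, one_apply_eq]; exact hc a
    · rw [if_neg fun e => hab (π.injective e), map_zero, mul_zero, one_apply_ne hab]
  · intro i _ hi
    rw [transpose_apply, hg, if_neg hi, zero_mul]
  · simp

theorem monomial_pow {π : Equiv.Perm (Fin n)} {c : Fin n → F} {M : Matrix (Fin n) (Fin n) F}
    (hM : ∀ i j, M i j = if i = π j then c j else 0) (m : ℕ) (i j : Fin n) :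
    (M ^ m) i j = if i = (π ^ m) j then ∏ s ∈ Finset.range m, c ((π ^ s) j) else 0 := by
  induction m generalizing i with
  | zero => simp [one_apply]
  | succ m ih =>
    rw [pow_succ', Matrix.mul_apply, Finset.sum_eq_single ((π ^ m) j)]
    · rw [hM, ih, if_pos rfl, pow_succ' π, Equiv.Perm.mul_apply, Finset.prod_range_succ]
      split_ifs <;> ring
    · intro x _ hx
      rw [ih, if_neg hx, mul_zero]
    · simp

theorem exists_nonpower (hσ : ∀ x, σ x = x ^ q) {z : F} (hz : z * σ z = 1) {k : ℕ} (hn : n = r * k) :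
    ∃ g : ↥(Cfsg.GU n F q), (g : GL (Fin n) F).1 ^ r = z • 1 := by
  classical
  haveI : NeZero r := ⟨(Fact.out : r.Prime).ne_zero⟩
  obtain ⟨e⟩ : Nonempty (Fin k × ZMod r ≃ Fin n) := ⟨Fintype.equivFinOfCardEq (by simp [hn, mul_comm])⟩
  let d : ZMod r → F := Function.update 1 0 z
  let π : Equiv.Perm (Fin n) := (e.symm.trans ((Equiv.refl _).prodCongr (Equiv.addRight 1))).trans e
  let c : Fin n → F := fun i => d (e.symm i).2
  have hd : ∀ j, d j * σ (d j) = 1 := fun j => by
    by_cases h : j = 0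
    · subst h; simp [d, hz]
    · simp [d, h]
  let M : Matrix (Fin n) (Fin n) F := Matrix.of fun i j => if i = π j then c j else 0
  have hM : ∀ i j, M i j = if i = π j then c j else 0 := fun i j => rfl
  have hπ : ∀ (s : ℕ) (j : Fin n), e.symm ((π ^ s) j) = ((e.symm j).1, (e.symm j).2 + s) := by
    intro s j
    induction s with
    | zero => simp
    | succ s ih =>
      rw [pow_succ', Equiv.Perm.mul_apply]
      simp only [π, Equiv.trans_apply, Equiv.symm_apply_apply, ih, Equiv.prodCongr_apply, Prod.map, Equiv.refl_apply,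
        Equiv.coe_addRight, Nat.cast_add, Nat.cast_one, add_assoc]
  have hpow : M ^ r = z • 1 := by
    ext i j
    rw [monomial_pow hM, Matrix.smul_apply, one_apply]
    have hr : (π ^ r) j = j := e.symm.injective (by rw [hπ, ZMod.natCast_self, add_zero])
    rw [hr]
    split_ifs with h
    · rw [smul_eq_mul, mul_one]
      simp only [c, hπ]
      rw [← Fin.prod_univ_eq_prod_range (fun s => d ((e.symm j).2 + (s : ZMod r))) r]
      have hb : Function.Bijective (fun s : Fin r => ((e.symm j).2 + ((s : ℕ) : ZMod r))) := by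
        rw [Fintype.bijective_iff_injective_and_card]
        refine ⟨fun a b h => Fin.ext ?_, by simp⟩
        have := congrArg ZMod.val (add_left_cancel h)
        rwa [ZMod.val_natCast, ZMod.val_natCast, Nat.mod_eq_of_lt a.2, Nat.mod_eq_of_lt b.2] at this
      rw [Fintype.prod_bijective _ hb _ d (fun _ => rfl)]
      rw [Finset.prod_update_of_mem (Finset.mem_univ _)]
      simp
    · rw [smul_zero]
  have hdet : M.det ≠ 0 := fun e0 => by
    have := congrArg Matrix.det hpow
    rw [det_pow, e0, zero_pow (Fact.out : r.Prime).ne_zero, det_smul, det_one, mul_one] at this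
    exact pow_ne_zero _ (fun e1 => by rw [e1, zero_mul] at hz; exact zero_ne_one hz) this.symm
  exact ⟨⟨GeneralLinearGroup.mkOfDetNeZero M hdet, monomial_mem hσ (fun i => hd _) (fun i j => hM i j)⟩, hpow⟩

variable [Fintype F]

theorem gcd_pred_succ (hq : 2 ≤ q) (hr2 : r ≠ 2) (hrq : r ∣ q + 1) : ¬ r ∣ q - 1 := fun h => by
  have h2 := Nat.dvd_sub hrq h
  rw [show q + 1 - (q - 1) = 2 by omega] at h2
  exact hr2 ((Nat.prime_dvd_prime_iff_eq Fact.out Nat.prime_two).1 h2)

theorem norm_one_of_pow (hF : Fintype.card F = q ^ 2) (hq : 2 ≤ q) (hσ : ∀ x, σ x = x ^ q) (hr2 : r ≠ 2) (hrq : r ∣ q + 1)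
    {b : F} (hb : (b * σ b) ^ r = 1) : b * σ b = 1 := by
  have hb0 : b ≠ 0 := fun e => by
    rw [e, zero_mul, zero_pow (Fact.out : r.Prime).ne_zero] at hb; exact zero_ne_one hb
  have h1 : (b * σ b) ^ (q - 1) = 1 := by
    rw [hσ, ← pow_succ', ← pow_mul, show (q + 1) * (q - 1) = Fintype.card F - 1 by
      rw [hF]; obtain ⟨t, rfl⟩ : ∃ t, q = t + 1 := ⟨q - 1, by omega⟩
      rw [Nat.add_sub_cancel, show (t + 1) ^ 2 = (t + 1 + 1) * t + 1 by ring, Nat.add_sub_cancel],
      FiniteField.pow_card_sub_one_eq_one b hb0]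
  have := pow_gcd_eq_one.2 ⟨hb, h1⟩
  rwa [(Nat.Prime.coprime_iff_not_dvd Fact.out).2 (gcd_pred_succ hq hr2 hrq), pow_one] at this

/-- Classes in the projective unitary group. -/
abbrev PGU (F : Type u) [Field F] (n q : ℕ) := ↥(Cfsg.GU n F q) ⧸ Subgroup.center ↥(Cfsg.GU n F q)

theorem card_classes (hF : Fintype.card F = q ^ 2) (hn : 2 ≤ n) (hr2 : r ≠ 2) (hrq : r ∣ q + 1) :
    Nat.card {C : ConjClasses (PGU F n q) // ∃ g : PGU F n q, ConjClasses.mk g = C ∧ orderOf g = r} =
      (Nat.choose (n + r - 1) (r - 1) - r - (if r ∣ n then 1 else 0)) / r + r * (if r ∣ n then 1 else 0) := by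
  classical
  have hr : r.Prime := Fact.out
  haveI : NeZero r := ⟨hr.ne_zero⟩
  obtain ⟨σ, hσ, hne, hinv, hq, hq2⟩ := HermStd.exists_sigma hF
  have hrF : r ∣ Fintype.card F - 1 := by
    rw [hF]; obtain ⟨t, rfl⟩ : ∃ t, q = t + 1 := ⟨q - 1, by omega⟩
    rw [show (t + 1) ^ 2 = (t + 1 + 1) * t + 1 by ring, Nat.add_sub_cancel]
    exact dvd_mul_of_dvd_left hrq _
  let U := HermSU.normOne σ
  have hU : Nat.card U = q + 1 := HermSU.card_normOne hne hinv hq
  haveI : Fact r.Prime := ⟨hr⟩
  obtain ⟨w, hw⟩ := exists_prime_orderOf_dvd_card' r (show r ∣ Nat.card U by rwa [hU])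
  have hω' : IsPrimitiveRoot ((w : Fˣ) : F) r :=
    (hw ▸ IsPrimitiveRoot.orderOf w).map_of_injective (f := (Units.coeHom F).comp U.subtype)
      (Units.val_injective.comp Subtype.val_injective)
  obtain ⟨ω, hωdef⟩ : ∃ ω, ω = ((w : Fˣ) : F) := ⟨_, rfl⟩
  rw [← hωdef] at hω'
  have hω := hω'
  have hω0 : ω ≠ 0 := hω.ne_zero hr.ne_zero
  have hωU : ∀ m : ℕ, ω ^ m * σ (ω ^ m) = 1 := fun m => by
    rw [map_pow, ← mul_pow, hωdef, show ((w : Fˣ) : F) * σ ((w : Fˣ) : F) = 1 from w.2, one_pow]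
  have hcenter : ∀ g : ↥(Cfsg.GU n F q), g ∈ Subgroup.center ↥(Cfsg.GU n F q) ↔
      ∃ c : U, (g : GL (Fin n) F).1 = ((c : Fˣ) : F) • 1 := by
    intro g
    constructor
    · intro hg
      obtain ⟨c, hc⟩ := HermSU.scalar_of_commute hne hinv hσ hn hq g.1.1 fun A hA => by
        have := Subgroup.mem_center_iff.1 hg ⟨_, HermSU.toGL_mem_GU ⟨A, hA⟩⟩
        exact (congrArg (fun X : Cfsg.GU n F q => X.1.1) this).symm
      have hu : c * σ c = 1 := by
        haveI : NeZero n := ⟨by omega⟩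
        have := congrFun (congrFun ((HermSU.mem_GU_iff hσ g.1).1 g.2) 0) 0
        simpa [hc] using this
      exact ⟨⟨Units.mk0 c (fun h => by simp [h] at hu), hu⟩, by rw [hc, smul_one_eq_diagonal]; rfl⟩
    · rintro ⟨c, hc⟩
      rw [Subgroup.mem_center_iff]
      intro h
      refine Subtype.ext (Units.ext ?_)
      show h.1.1 * g.1.1 = g.1.1 * h.1.1
      rw [hc, Matrix.mul_smul, Matrix.smul_mul, mul_one, one_mul]
  have hclass : ∀ G H : ↥(Cfsg.GU n F q),
      ConjClasses.mk (QuotientGroup.mk G : PGU F n q) = ConjClasses.mk (QuotientGroup.mk H) ↔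
        ∃ (c : U) (P : ↥(Cfsg.GU n F q)), H.1.1 = ((c : Fˣ) : F) • (P * G * P⁻¹ : ↥(Cfsg.GU n F q)).1.1 := by
    intro G H
    rw [ConjClasses.mk_eq_mk_iff_isConj, isConj_iff]
    constructor
    · rintro ⟨x, hx⟩
      obtain ⟨P, rfl⟩ := QuotientGroup.mk_surjective x
      rw [← QuotientGroup.mk_inv, ← QuotientGroup.mk_mul, ← QuotientGroup.mk_mul, QuotientGroup.eq, hcenter] at hx
      obtain ⟨c, hc⟩ := hx
      refine ⟨c, P, ?_⟩
      have : H.1.1 = (P * G * P⁻¹ : ↥(Cfsg.GU n F q)).1.1 * ((P * G * P⁻¹)⁻¹ * H : ↥(Cfsg.GU n F q)).1.1 := by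
        rw [← Units.val_mul, ← Subgroup.coe_mul, mul_inv_cancel_left]
      rw [this, hc, Matrix.mul_smul, mul_one]
    · rintro ⟨c, P, h⟩
      refine ⟨(P : PGU F n q), ?_⟩
      rw [← QuotientGroup.mk_inv, ← QuotientGroup.mk_mul, ← QuotientGroup.mk_mul, QuotientGroup.eq, hcenter]
      refine ⟨c, ?_⟩
      rw [Subgroup.coe_mul, Units.val_mul, h, Matrix.mul_smul, ← Units.val_mul, ← Subgroup.coe_mul, inv_mul_cancel]
      rfl
  have horder : ∀ G : ↥(Cfsg.GU n F q), orderOf (QuotientGroup.mk G : PGU F n q) = r ↔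
      (∃ z : U, G.1.1 ^ r = ((z : Fˣ) : F) • 1) ∧ ¬ ∃ c : U, G.1.1 = ((c : Fˣ) : F) • 1 := by
    intro G
    constructor
    · intro h
      refine ⟨?_, fun hc => ?_⟩
      · have e : (QuotientGroup.mk G : PGU F n q) ^ r = 1 := h ▸ pow_orderOf_eq_one _
        rw [← QuotientGroup.mk_pow, QuotientGroup.eq_one_iff, hcenter, SubmonoidClass.coe_pow, Units.val_pow_eq_pow_val] at e
        exact e
      · have e : (QuotientGroup.mk G : PGU F n q) = 1 := (QuotientGroup.eq_one_iff G).2 ((hcenter G).2 hc)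
        rw [e, orderOf_one] at h
        exact hr.ne_one h.symm
    · rintro ⟨hz, hns⟩
      refine orderOf_eq_prime ?_ fun e => hns ((hcenter G).1 ((QuotientGroup.eq_one_iff G).1 e))
      rw [← QuotientGroup.mk_pow, QuotientGroup.eq_one_iff, hcenter, SubmonoidClass.coe_pow, Units.val_pow_eq_pow_val]
      exact hz
  have hconj : ∀ (G H : ↥(Cfsg.GU n F q)) (y z : F), G.1.1 ^ r = y • 1 → H.1.1 ^ r = z • 1 → y ≠ 0 → z ≠ 0 →
      G.1.1.charpoly = H.1.1.charpoly → IsConj G H := fun G H y z hG hH hy hz hc =>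
    LBGUConj.isConj_of_gl hF G H (LBPGLRoot.isConj_of_charpoly hrF hG hH hy hz hc)
  have hscale : ∀ (c : U) (G : ↥(Cfsg.GU n F q)), ∃ B : ↥(Cfsg.GU n F q), B.1.1 = ((c : Fˣ) : F) • G.1.1 := by
    intro c G
    refine ⟨⟨_, HermSU.diag_mem_GU hσ (d := fun _ : Fin n => c.1) fun _ => c.2⟩ * G, ?_⟩
    rw [Subgroup.coe_mul, Units.val_mul]
    show Matrix.diagonal (fun _ => ((c : Fˣ) : F)) * G.1.1 = _
    rw [← smul_one_eq_diagonal, Matrix.smul_mul, one_mul]
  let T := {v : U ⧸ (powMonoidHom r : U →* U).range // v ≠ 1 ∧ r ∣ n}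
  let O := MulAction.orbitRel.Quotient (Multiplicative (ZMod r)) (Tup n r)
  have hrepU : ∀ a : Tup n r, ∃ g : ↥(Cfsg.GU n F q), g.1.1 = repD ω a.1 a.2.1 := fun a => by
    let e : (Σ j, Fin (a.1 j)) ≃ Fin n := Fintype.equivFinOfCardEq (by simp [a.2.1])
    refine ⟨⟨_, HermSU.diag_mem_GU hσ (d := fun i : Fin n => Units.mk0 (ω ^ (e.symm i).1.val) (pow_ne_zero _ hω0))
      fun i => hωU _⟩, ?_⟩
    show Matrix.diagonal (fun i => ω ^ (e.symm i).1.val) = repD ω a.1 a.2.1
    rw [repD, reindexAlgEquiv_apply, reindex_apply, submatrix_diagonal_equiv]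
    rfl
  choose D hD using hrepU
  have hDr : ∀ a, (D a).1.1 ^ r = (((1 : U) : Fˣ) : F) • 1 := fun a => by
    rw [hD, repD, ← map_pow, diagonal_pow]
    rw [show (fun s : Σ j, Fin (a.1 j) => ω ^ s.1.val) ^ r = fun _ => (1 : F) from funext fun s => by
      rw [Pi.pow_apply, ← pow_mul, mul_comm, pow_mul, hω.pow_eq_one, one_pow]]
    rw [diagonal_one, map_one]
    simp
  have hroot : ∀ c : F, c ^ r = 1 → ∃ t : ZMod r, ω ^ t.val = c := fun c hc => by
    obtain ⟨i, hi, h⟩ := hω.eq_pow_of_pow_eq_one hc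
    exact ⟨(i : ZMod r), by rw [ZMod.val_natCast, Nat.mod_eq_of_lt hi, h]⟩
  have hcoef : ∀ y z : F, y • (1 : Matrix (Fin n) (Fin n) F) = z • 1 → y = z := fun y z h => by
    simpa using congrFun (congrFun h ⟨0, by omega⟩) ⟨0, by omega⟩
  have hDns : ∀ a : Tup n r, ¬ ∃ c : U, (D a).1.1 = ((c : Fˣ) : F) • 1 := by
    rintro a ⟨c, hc⟩
    have hcr : ((c : Fˣ) : F) ^ r = 1 := by
      have h := hDr a
      rw [hc, _root_.smul_pow, one_pow] at h
      exact (hcoef _ _ h).trans (by simp)
    obtain ⟨t, htc⟩ := hroot _ hcr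
    have hcp : (D a).1.1.charpoly = fac ω t ^ n := by
      rw [hc, smul_one_eq_diagonal, charpoly_diagonal, Finset.prod_const, Finset.card_univ, Fintype.card_fin, fac, htc]
    rw [hD, charpoly_repD, show fac ω t ^ n = ∏ j, fac ω j ^ (Pi.single t n : ZMod r → ℕ) j by
      rw [Finset.prod_eq_single t (fun j _ hj => by rw [Pi.single_eq_of_ne hj, pow_zero]) (by simp), Pi.single_eq_same]] at hcp
    have := a.2.2 t
    rw [exp_unique hω hcp, Pi.single_eq_same] at this
    omega
  have hR : ∀ v : T, ∃ G : ↥(Cfsg.GU n F q), G.1.1 ^ r = (((v.1.out : U) : Fˣ) : F) • 1 := fun v => by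
    obtain ⟨k, hk⟩ := v.2.2
    exact exists_nonpower hσ (v.1.out).2 hk
  choose R hR using hR
  have hnp : ∀ z : U, (QuotientGroup.mk z : U ⧸ (powMonoidHom r : U →* U).range) ≠ 1 → ∀ b : F, b ^ r ≠ ((z : Fˣ) : F) := by
    intro z hz b hb
    refine hz ((QuotientGroup.eq_one_iff z).2 ?_)
    have hbN : b * σ b = 1 := by
      refine norm_one_of_pow hF hq2 hσ hr2 hrq ?_
      rw [mul_pow, ← map_pow, hb]
      exact z.2
    exact ⟨⟨Units.mk0 b (fun e => by rw [e, zero_mul] at hbN; exact zero_ne_one hbN), hbN⟩,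
      Subtype.ext (Units.ext (by simpa using hb))⟩
  have hRns : ∀ v : T, ¬ ∃ c : U, (R v).1.1 = ((c : Fˣ) : F) • 1 := by
    rintro v ⟨c, hc⟩
    have h := hR v
    rw [hc, _root_.smul_pow, one_pow] at h
    exact hnp v.1.out (by rw [QuotientGroup.out_eq']; exact v.2.1) _ (hcoef _ _ h)
  have hpowconj : ∀ (c : U) (P G : ↥(Cfsg.GU n F q)) (z : F), G.1.1 ^ r = z • 1 →
      (((c : Fˣ) : F) • (P * G * P⁻¹ : ↥(Cfsg.GU n F q)).1.1) ^ r = (((c : Fˣ) : F) ^ r * z) • 1 := fun c P G z hG => by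
    rw [_root_.smul_pow, ← Units.val_pow_eq_pow_val (P * G * P⁻¹ : ↥(Cfsg.GU n F q)).1 r, ← SubmonoidClass.coe_pow, conj_pow,
      Subgroup.coe_mul, Subgroup.coe_mul, Units.val_mul, Units.val_mul, SubmonoidClass.coe_pow, Units.val_pow_eq_pow_val, hG,
      Matrix.mul_smul, Matrix.smul_mul, mul_one, Subgroup.coe_inv, Units.mul_inv, smul_smul]
  have hshift : ∀ (t : ZMod r) (a : Tup n r),
      ConjClasses.mk (QuotientGroup.mk (D a) : PGU F n q) =
        ConjClasses.mk (QuotientGroup.mk (D (Multiplicative.ofAdd t • a))) := fun t a => by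
    rw [hclass]
    let c : U := ⟨Units.mk0 (ω ^ t.val) (pow_ne_zero _ hω0), hωU _⟩
    obtain ⟨B, hB⟩ := hscale c (D a)
    have hBr : B.1.1 ^ r = (((c : Fˣ) : F) ^ r * 1) • 1 := by
      rw [hB, _root_.smul_pow, hDr, smul_smul]; simp
    obtain ⟨P, hP⟩ := isConj_iff.1 (hconj B (D (Multiplicative.ofAdd t • a)) _ _ hBr
      (hDr _) (by rw [mul_one]; exact pow_ne_zero _ (c : Fˣ).ne_zero) (Units.ne_zero _) (by
        rw [hB, hD, hD]
        show (ω ^ t.val • repD ω a.1 a.2.1).charpoly =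
          (repD ω (Multiplicative.ofAdd t • a).1 (Multiplicative.ofAdd t • a).2.1).charpoly
        rw [charpoly_smul_repD hω, charpoly_repD]
        rfl))
    refine ⟨c, P, ?_⟩
    rw [← hP, Subgroup.coe_mul, Subgroup.coe_mul, Units.val_mul, Units.val_mul, hB, Subgroup.coe_mul, Subgroup.coe_mul,
      Units.val_mul, Units.val_mul, Matrix.mul_smul, Matrix.smul_mul]
  let Φ : O ⊕ T → {C : ConjClasses (PGU F n q) // ∃ g : PGU F n q, ConjClasses.mk g = C ∧ orderOf g = r} := Sum.elim
    (Quotient.lift (fun a => ⟨ConjClasses.mk (QuotientGroup.mk (D a)), _, rfl,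
      (horder (D a)).2 ⟨⟨1, hDr a⟩, hDns a⟩⟩) fun a b hab => Subtype.ext (by
        obtain ⟨t, rfl⟩ := hab
        exact (hshift t.toAdd b).symm))
    (fun v => ⟨ConjClasses.mk (QuotientGroup.mk (R v)), _, rfl, (horder (R v)).2 ⟨⟨v.1.out, hR v⟩, hRns v⟩⟩)
  have hbij : Function.Bijective Φ := by
    constructor
    · rintro (a | v) (b | w') h <;> have h' := congrArg Subtype.val h
      · induction a using Quotient.inductionOn with | h a => ?_
        induction b using Quotient.inductionOn with | h b => ?_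
        simp only [Φ, Sum.elim_inl, Quotient.lift_mk] at h'
        obtain ⟨c, P, hc⟩ := (hclass _ _).1 h'
        have hcr : ((c : Fˣ) : F) ^ r = 1 := by
          have e := hpowconj c P (D a) _ (hDr a)
          rw [← hc, hDr b] at e
          have := (hcoef _ _ e).symm
          simpa using this
        obtain ⟨t, ht⟩ := hroot _ hcr
        have hcp : (D b).1.1.charpoly = (ω ^ t.val • (D a).1.1).charpoly := by
          rw [hc, ht, Subgroup.coe_mul, Subgroup.coe_mul, Units.val_mul, Units.val_mul, ← Matrix.smul_mul, ← Matrix.mul_smul,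
            Subgroup.coe_inv, Matrix.coe_units_inv, charpoly_units_conj]
        refine congrArg Sum.inl (Quotient.sound ?_)
        refine (MulAction.orbitRel (Multiplicative (ZMod r)) (Tup n r)).symm ⟨Multiplicative.ofAdd t, ?_⟩
        refine Subtype.ext (exp_unique hω ?_)
        rw [hD, hD] at hcp
        exact ((charpoly_smul_repD hω t a.1 a.2.1).symm.trans hcp.symm).trans (charpoly_repD ω b.1 b.2.1)
      · exfalso
        induction a using Quotient.inductionOn with | h a => ?_
        simp only [Φ, Sum.elim_inl, Sum.elim_inr, Quotient.lift_mk] at h'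
        obtain ⟨c, P, hc⟩ := (hclass _ _).1 h'
        have e := hpowconj c P (D a) _ (hDr a)
        rw [← hc, hR w'] at e
        refine hnp w'.1.out (by rw [QuotientGroup.out_eq']; exact w'.2.1) ((c : Fˣ) : F) ?_
        simpa using (hcoef _ _ e).symm
      · exfalso
        induction b using Quotient.inductionOn with | h b => ?_
        simp only [Φ, Sum.elim_inl, Sum.elim_inr, Quotient.lift_mk] at h'
        obtain ⟨c, P, hc⟩ := (hclass _ _).1 h'.symm
        have e := hpowconj c P (D b) _ (hDr b)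
        rw [← hc, hR v] at e
        refine hnp v.1.out (by rw [QuotientGroup.out_eq']; exact v.2.1) ((c : Fˣ) : F) ?_
        simpa using (hcoef _ _ e).symm
      · simp only [Φ, Sum.elim_inr] at h'
        obtain ⟨c, P, hc⟩ := (hclass _ _).1 h'
        have e := hpowconj c P (R v) _ (hR v)
        rw [← hc, hR w'] at e
        refine congrArg Sum.inr (Subtype.ext ?_)
        rw [← QuotientGroup.out_eq' v.1, ← QuotientGroup.out_eq' w'.1, QuotientGroup.eq]
        refine ⟨c, ?_⟩
        rw [powMonoidHom_apply, eq_inv_mul_iff_mul_eq]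
        refine Subtype.ext (Units.ext ?_)
        rw [Subgroup.coe_mul, Units.val_mul, SubmonoidClass.coe_pow, Units.val_pow_eq_pow_val, mul_comm]
        exact (hcoef _ _ e).symm
    · rintro ⟨C, g, rfl, hg⟩
      obtain ⟨G, rfl⟩ := QuotientGroup.mk_surjective g
      obtain ⟨⟨z, hz⟩, hns⟩ := (horder G).1 hg
      by_cases hv : (QuotientGroup.mk z : U ⧸ (powMonoidHom r : U →* U).range) = 1
      · obtain ⟨b, hb⟩ := (QuotientGroup.eq_one_iff z).1 hv
        rw [powMonoidHom_apply] at hb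
        obtain ⟨G', hG'def⟩ := hscale b⁻¹ G
        have hbz : ((z : Fˣ) : F) = ((b : Fˣ) : F) ^ r := by
          rw [← hb, SubmonoidClass.coe_pow, Units.val_pow_eq_pow_val]
        have hbb : ((b : Fˣ) : F) * ((b⁻¹ : U) : Fˣ) = 1 := by
          rw [← Units.val_mul, ← Subgroup.coe_mul, mul_inv_cancel]; rfl
        have hG' : G'.1.1 ^ r = 1 := by
          rw [hG'def, _root_.smul_pow, hz, smul_smul, hbz, ← mul_pow, mul_comm, hbb, one_pow, one_smul]
        obtain ⟨a, ha, hac⟩ := exists_exponents hω hG'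
        have hlt : ∀ j, a j < n := by
          intro j
          refine lt_of_le_of_ne ((Finset.single_le_sum (fun x _ => Nat.zero_le _) (Finset.mem_univ j)).trans_eq ha) fun e => ?_
          refine hns ⟨b * ⟨Units.mk0 (ω ^ j.val) (pow_ne_zero _ hω0), hωU _⟩, ?_⟩
          have hzero : ∀ i, i ≠ j → a i = 0 := fun i hi => by
            have h' := ha
            rw [← Finset.add_sum_erase _ _ (Finset.mem_univ j)] at h'
            have := Finset.single_le_sum (f := a) (fun x _ => Nat.zero_le _) (Finset.mem_erase.2 ⟨hi, Finset.mem_univ i⟩)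
            omega
          have hcp : G'.1.1.charpoly = ((ω ^ j.val) • (1 : Matrix (Fin n) (Fin n) F)).charpoly := by
            rw [hac, Finset.prod_eq_single j (fun i _ hi => by rw [hzero i hi, pow_zero]) (by simp), e,
              smul_one_eq_diagonal, charpoly_diagonal, Finset.prod_const, Finset.card_univ, Fintype.card_fin, fac]
          have hsc : ((ω ^ j.val) • (1 : Matrix (Fin n) (Fin n) F)) ^ r = (1 : F) • 1 := by
            rw [_root_.smul_pow, one_pow, ← pow_mul, mul_comm, pow_mul, hω.pow_eq_one, one_pow]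
          obtain ⟨P, hP⟩ := SemisimpleCl.exists_conjugator
            (semisimple_of_pow hrF one_ne_zero (hG'.trans (one_smul F _).symm))
            (semisimple_of_pow hrF one_ne_zero hsc) hcp
          rw [Matrix.smul_mul, one_mul] at hP
          have hP' : G'.1.1 = (ω ^ j.val) • 1 := by
            have := congrArg (fun M => (P⁻¹ : GL (Fin n) F).1 * M) hP
            simp only [← Matrix.mul_assoc, Units.inv_mul, one_mul, Matrix.mul_smul] at this
            exact this
          rw [hG'def] at hP'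
          rw [Subgroup.coe_mul, Units.val_mul, mul_smul]
          show G.1.1 = ((b : Fˣ) : F) • ((ω ^ j.val) • 1)
          rw [← hP', smul_smul, hbb, one_smul]
        refine ⟨Sum.inl ⟦⟨a, ha, hlt⟩⟧, Subtype.ext ?_⟩
        show ConjClasses.mk (QuotientGroup.mk (D ⟨a, ha, hlt⟩) : PGU F n q) = ConjClasses.mk (QuotientGroup.mk G)
        rw [hclass]
        obtain ⟨P, hP⟩ := isConj_iff.1 (hconj (D ⟨a, ha, hlt⟩) G' _ _ (hDr _) (hG'.trans (one_smul F _).symm)
          (Units.ne_zero _) one_ne_zero ((congrArg Matrix.charpoly (hD ⟨a, ha, hlt⟩)).trans ((charpoly_repD ω a ha).trans hac.symm)))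
        refine ⟨b, P, ?_⟩
        rw [hP, hG'def, smul_smul, hbb, one_smul]
      · obtain ⟨k, hk, hkc⟩ := charpoly_nonpower hz (hnp z hv)
        let v : T := ⟨QuotientGroup.mk z, hv, ⟨k, hk⟩⟩
        obtain ⟨s, hs⟩ := QuotientGroup.eq.1 (QuotientGroup.out_eq' v.1).symm.symm
        refine ⟨Sum.inr v, Subtype.ext ?_⟩
        simp only [Φ, Sum.elim_inr]
        rw [hclass]
        have hz' : ((s : Fˣ) : F) ^ r * (((v.1.out : U) : Fˣ) : F) = ((z : Fˣ) : F) := by
          have h0 : s ^ r * v.1.out = z := by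
            rw [powMonoidHom_apply] at hs
            rw [hs, mul_comm, mul_inv_cancel_left]
          rw [← h0, Subgroup.coe_mul, Units.val_mul, SubmonoidClass.coe_pow, Units.val_pow_eq_pow_val]
        obtain ⟨B, hB⟩ := hscale s (R v)
        have hBr : B.1.1 ^ r = ((z : Fˣ) : F) • 1 := by
          rw [hB, _root_.smul_pow, hR, smul_smul, hz']
        obtain ⟨k', hk', hkc'⟩ := charpoly_nonpower hBr (hnp z hv)
        obtain ⟨P, hP⟩ := isConj_iff.1 (hconj B G _ _ hBr hz (Units.ne_zero _) (Units.ne_zero _) (by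
          rw [hkc', hkc, Nat.eq_of_mul_eq_mul_left hr.pos (hk'.symm.trans hk)]))
        refine ⟨s, P, ?_⟩
        rw [← hP, Subgroup.coe_mul, Subgroup.coe_mul, Units.val_mul, Units.val_mul, hB, Subgroup.coe_mul, Subgroup.coe_mul,
          Units.val_mul, Units.val_mul, Matrix.mul_smul, Matrix.smul_mul]
  rw [← Nat.card_eq_of_bijective Φ hbij, Nat.card_sum]
  have hT : Nat.card T = (r - 1) * (if r ∣ n then 1 else 0) := by
    split_ifs with hd
    · rw [mul_one, ← card_nonone (A := U) (show r ∣ Nat.card U by rwa [hU])]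
      exact Nat.card_congr (Equiv.subtypeEquivRight fun v => by simp [hd])
    · rw [mul_zero, Nat.card_eq_zero]
      exact Or.inl ⟨fun v => hd v.2.2⟩
  have hO := card_orbits (r := r) (G := Multiplicative (ZMod r)) (X := Tup n r) (by
    rw [Nat.card_congr Multiplicative.toAdd, Nat.card_zmod])
  have hf := card_fixed (r := r) hn
  have hX := card_tup (r := r) (show 1 ≤ n by omega)
  rw [hT]
  show Nat.card O + _ = _
  change r * Nat.card O = _ at hO
  have hfx : Nat.card (MulAction.fixedPoints (Multiplicative (ZMod r)) (Tup n r)) ≤ Nat.card (Tup n r) :=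
    Finite.card_subtype_le _
  generalize Nat.card (MulAction.fixedPoints (Multiplicative (ZMod r)) (Tup n r)) = f at hO hf hfx
  rw [← hf]
  generalize Nat.card O = o at hO ⊢
  generalize Nat.card (Tup n r) = x at hO hX hfx
  rw [← hX, Nat.add_sub_cancel]
  obtain ⟨r', hr'⟩ : ∃ r', r = r' + 1 := ⟨r - 1, by have := hr.pos; omega⟩
  subst hr'
  simp only [Nat.add_sub_cancel] at hO ⊢
  have hof : f ≤ o := by
    have h : (r' + 1) * f ≤ (r' + 1) * o := by rw [hO, add_mul, one_mul]; omega
    exact Nat.le_of_mul_le_mul_left h (Nat.succ_pos r')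
  obtain ⟨d, rfl⟩ : ∃ d, o = f + d := ⟨o - f, by omega⟩
  have hx : x = f + (r' + 1) * d := by linarith
  rw [hx, Nat.add_sub_cancel_left, Nat.mul_div_cancel_left _ (by omega)]
  ring

end Cfsg.Agent.LBPGURoot
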