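import Cfsg.Agent.Lib.Classical.SL2Tori
import Cfsg.Agent.Lib.Classical.PSL2Involutions

/-!
The sizes of the conjugacy classes of `PSL₂`.
-/

set_option autoImplicit false

namespace Cfsg.Agent.LinearBlock.PSL2Sizes

open Matrix TwoByTwo PSL2Inv SL2Inv

variable {F : Type*} [Field F] [Fintype F]

local notation "S" => Matrix.SpecialLinearGroup (Fin 2) F
local notation "P" => Matrix.ProjectiveSpecialLinearGroup (Fin 2) F

/-- The size of the class of an element. -/
noncomputable def cls {G : Type*} [Group G] (x : G) : ℕ := (Subgroup.centralizer ({x} : Set G)).index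

theorem cls_one {G : Type*} [Group G] : cls (1 : G) = 1 := by
  rw [cls, Subgroup.index_eq_one, Subgroup.eq_top_iff']
  exact fun g => Subgroup.mem_centralizer_singleton_iff.2 (by simp)

theorem cls_conj {G : Type*} [Group G] [Finite G] {x y : G} (h : IsConj x y) : cls x = cls y := by
  have h1 := Subgroup.card_mul_index (Subgroup.centralizer ({x} : Set G))
  have h2 := Subgroup.card_mul_index (Subgroup.centralizer ({y} : Set G))
  rw [← SL2Classes.centralizer_conj_card h] at h2
  exact Nat.eq_of_mul_eq_mul_left Nat.card_pos (h1.trans h2.symm)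

/-- Outside trace zero the centraliser is the image of the centraliser upstairs. -/
theorem cls_pr_of_trace {g : S} (ht : (2 : F) = 0 ∨ g.1.trace ≠ 0) : cls (pr g) = cls g := by
  rw [cls, cls, ← Subgroup.index_comap_of_surjective (Subgroup.centralizer {pr g}) pr_surjective]
  congr 1
  ext h
  rw [Subgroup.mem_comap, Subgroup.mem_centralizer_singleton_iff, Subgroup.mem_centralizer_singleton_iff,
    ← map_mul, ← map_mul, eq_comm, pr_eq_iff]
  constructor
  · rintro (e | e)
    · exact e
    · rcases ht with h2 | ht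
      · have hn : (negOne : S) = 1 := Subtype.ext (by
          ext i j
          fin_cases i <;> fin_cases j <;> simp [coe_negOne] <;> linear_combination -h2)
        rwa [hn, one_mul] at e
      · by_cases h2' : (2 : F) = 0
        · have hn : (negOne : S) = 1 := Subtype.ext (by
            ext i j
            fin_cases i <;> fin_cases j <;> simp [coe_negOne] <;> linear_combination -h2')
          rwa [hn, one_mul] at e
        exfalso
        have h2ne := h2'
        have e' : h * g * h⁻¹ = negOne * g := by rw [e, mul_assoc, mul_inv_cancel_right]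
        have h1 := congrArg (fun z : S => z.1.trace) e'
        simp only [SL2Inv.trace_conj, trace_negOne_mul] at h1
        by_cases h2 : (2 : F) = 0
        · exact h2ne h2
        · exact ht ((mul_eq_zero.1 (show (2 : F) * g.1.trace = 0 by linear_combination h1)).resolve_left h2)
  · exact fun e => Or.inl e

/-- The size from the centraliser upstairs. -/
theorem cls_mul (g : S) {c : ℕ} (hc : Nat.card (Subgroup.centralizer ({g} : Set S)) = c) :
    c * cls g = Nat.card F * (Nat.card F ^ 2 - 1) := by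
  rw [← hc, cls, Subgroup.card_mul_index, TwoByTwo.card_sl_two]

/-- The centraliser of an element with two eigenvalues. -/
theorem card_split {g : S} (hg : ¬ IsScalar g.1) {a : F} (ha : a ^ 2 - a * g.1.trace + 1 = 0) (ha2 : a * a ≠ 1) :
    Nat.card (Subgroup.centralizer ({g} : Set S)) = Nat.card F - 1 := by
  have ha0 : a ≠ 0 := fun e => by rw [e] at ha; simp at ha
  have hd : a * a - 1 ≠ 0 := sub_ne_zero.2 ha2
  have hd2 : a ^ 2 - 1 ≠ 0 := by rwa [pow_two]
  have hd3 : -1 + a ^ 2 ≠ 0 := by rwa [neg_add_eq_sub]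
  have ht : g.1.trace = (a * a + 1) / a := by field_simp; linear_combination -ha
  rw [← Nat.card_congr (SL2Classes.centralizerEquiv g hg), ← Nat.card_units F]
  refine Nat.card_congr
    { toFun := fun ab => Units.mkOfMulEqOne (ab.1.1 + a * ab.1.2) (ab.1.1 + a⁻¹ * ab.1.2) ?_
      invFun := fun u => ⟨((a * a * (↑u⁻¹ : F) - (u : F)) / (a * a - 1), (a * (u : F) - a * (↑u⁻¹ : F)) / (a * a - 1)), ?_⟩
      left_inv := fun ab => ?_
      right_inv := fun u => ?_ }
  · obtain ⟨⟨x, y⟩, h⟩ := ab
    simp only at h ⊢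
    rw [ht] at h
    field_simp at h ⊢
    linear_combination h
  · have hu : (u : F) * (↑u⁻¹ : F) = 1 := u.mul_inv
    generalize (u : F) = x at hu ⊢
    generalize (↑u⁻¹ : F) = y at hu ⊢
    rw [ht]
    field_simp
    linear_combination (a * a - 1) ^ 2 * hu
  · refine Subtype.ext (Prod.ext ?_ ?_)
    · show (a * a * (ab.1.1 + a⁻¹ * ab.1.2) - (ab.1.1 + a * ab.1.2)) / (a * a - 1) = ab.1.1
      field_simp
      ring
    · show (a * (ab.1.1 + a * ab.1.2) - a * (ab.1.1 + a⁻¹ * ab.1.2)) / (a * a - 1) = ab.1.2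
      field_simp
      ring
  · refine Units.ext ?_
    show (a * a * (↑u⁻¹ : F) - (u : F)) / (a * a - 1) + a * ((a * (u : F) - a * (↑u⁻¹ : F)) / (a * a - 1)) = u
    field_simp
    ring

/-- The centraliser of an element with a repeated eigenvalue. -/
theorem card_unip {g : S} (hg : ¬ IsScalar g.1) {a : F} (ha : a ^ 2 - a * g.1.trace + 1 = 0) (ha2 : a * a = 1) :
    Nat.card (Subgroup.centralizer ({g} : Set S)) = Nat.card {e : F // e * e = 1} * Nat.card F := by
  have ht : g.1.trace = 2 * a := by linear_combination (-a) * ha + (a - g.1.trace) * ha2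
  rw [← Nat.card_congr (SL2Classes.centralizerEquiv g hg), ← Nat.card_prod]
  refine Nat.card_congr
    { toFun := fun ab => (⟨ab.1.1 + a * ab.1.2, ?_⟩, ab.1.2)
      invFun := fun x => ⟨(x.1.1 - a * x.2, x.2), ?_⟩
      left_inv := fun ab => ?_
      right_inv := fun x => ?_ }
  · obtain ⟨⟨x, y⟩, h⟩ := ab
    simp only at h ⊢
    rw [ht] at h
    linear_combination h + y ^ 2 * ha2
  · rw [ht]
    linear_combination x.1.2 - x.2 ^ 2 * ha2
  · exact Subtype.ext (Prod.ext (add_sub_cancel_right _ _) rfl)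
  · exact Prod.ext (Subtype.ext (sub_add_cancel _ _)) rfl

/-- The possible centraliser orders. -/
theorem card_cases {g : S} (hg : ¬ IsScalar g.1) :
    Nat.card (Subgroup.centralizer ({g} : Set S)) = Nat.card F + 1 ∨
    Nat.card (Subgroup.centralizer ({g} : Set S)) = Nat.card F - 1 ∨
    Nat.card (Subgroup.centralizer ({g} : Set S)) = Nat.card {e : F // e * e = 1} * Nat.card F := by
  by_cases h : SL2Tori.NoEigen g.1
  · exact Or.inl (SL2Tori.card_torus h)
  rw [SL2Tori.noEigen_iff] at h
  push Not at h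
  obtain ⟨a, ha⟩ := h
  rw [g.det_coe] at ha
  by_cases ha2 : a * a = 1
  · exact Or.inr (Or.inr (card_unip hg ha ha2))
  · exact Or.inr (Or.inl (card_split hg ha ha2))

theorem cls_torus {g : S} (h : Nat.card (Subgroup.centralizer ({g} : Set S)) = Nat.card F + 1) :
    cls g = Nat.card F * (Nat.card F - 1) := by
  refine Nat.eq_of_mul_eq_mul_left (show 0 < Nat.card F + 1 by omega) ((cls_mul g h).trans ?_)
  rw [show Nat.card F ^ 2 - 1 = (Nat.card F + 1) * (Nat.card F - 1) by simpa using Nat.sq_sub_sq (Nat.card F) 1]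
  ring

theorem cls_split {g : S} (h : Nat.card (Subgroup.centralizer ({g} : Set S)) = Nat.card F - 1) :
    cls g = Nat.card F * (Nat.card F + 1) := by
  have hq : 1 < Nat.card F := Finite.one_lt_card
  refine Nat.eq_of_mul_eq_mul_left (show 0 < Nat.card F - 1 by omega) ((cls_mul g h).trans ?_)
  rw [show Nat.card F ^ 2 - 1 = (Nat.card F + 1) * (Nat.card F - 1) by simpa using Nat.sq_sub_sq (Nat.card F) 1]
  ring

theorem cls_unip {g : S} {z : ℕ} (hz : z = 1 ∨ z = 2) (hdvd : z ∣ Nat.card F ^ 2 - 1)
    (h : Nat.card (Subgroup.centralizer ({g} : Set S)) = z * Nat.card F) :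
    cls g = (Nat.card F ^ 2 - 1) / z := by
  have hq : 0 < Nat.card F := Nat.card_pos
  obtain ⟨d, hd⟩ := hdvd
  rw [hd, Nat.mul_div_cancel_left _ (by omega)]
  refine Nat.eq_of_mul_eq_mul_left (show 0 < z * Nat.card F by rcases hz with rfl | rfl <;> omega)
    ((cls_mul g h).trans ?_)
  rw [hd]; ring

theorem not_scalar_of_ne {g : S} (h : pr g ≠ 1) : ¬ IsScalar g.1 := fun hs => h (pr_eq_one_iff.2 (by
  rcases SL2Tori.val_eq_pm_one hs with e | e
  · exact Or.inl (Subtype.ext e)
  · exact Or.inr (Subtype.ext e)))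

/-- The size of the class of involutions. -/
theorem cls_invol (h2 : (2 : F) ≠ 0) {g : S} (hg : g.1.trace = 0) :
    cls (pr g) = if Nat.card F % 4 = 1 then Nat.card F * (Nat.card F + 1) / 2 else Nat.card F * (Nat.card F - 1) / 2 := by
  rw [← cls_conj (isConj_pr_w h2 (pr_mul_self hg) (pr_ne_one h2 hg)), cls,
    ← Subgroup.index_comap_of_surjective (Subgroup.centralizer {pr (w : S)}) pr_surjective]
  have hm := Subgroup.card_mul_index (D : Subgroup S)
  rw [card_D h2, TwoByTwo.card_sl_two, card_C h2] at hm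
  have hq : 1 < Nat.card F := Finite.one_lt_card
  rw [show Nat.card F ^ 2 - 1 = (Nat.card F + 1) * (Nat.card F - 1) by simpa using Nat.sq_sub_sq (Nat.card F) 1] at hm
  show (D : Subgroup S).index = _
  split_ifs with h4
  · rw [if_pos h4] at hm
    have : 2 * (D : Subgroup S).index = Nat.card F * (Nat.card F + 1) :=
      Nat.eq_of_mul_eq_mul_left (show 0 < Nat.card F - 1 by omega) (by linarith)
    omega
  · rw [if_neg h4] at hm
    have : 2 * (D : Subgroup S).index = Nat.card F * (Nat.card F - 1) :=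
      Nat.eq_of_mul_eq_mul_left (show 0 < Nat.card F + 1 by omega) (by linarith)
    omega

theorem exists_split_val (h7 : (2 : F) = 0 ∧ 4 ≤ Nat.card F ∨ 7 ≤ Nat.card F) :
    ∃ a : F, a ≠ 0 ∧ a * a ≠ 1 ∧ ((2 : F) = 0 ∨ a * a ≠ -1) := by
  classical
  rw [Nat.card_eq_fintype_card] at h7
  by_contra! hno
  rcases h7 with ⟨h2, h4⟩ | h7
  · have hsub : (Finset.univ : Finset F) ⊆ {0, 1} := fun a _ => by
      by_cases ha : a = 0
      · simp [ha]
      have := Classical.byContradiction fun h => (hno a ha h).1 h2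
      rcases mul_self_eq_one_iff.1 this with e | e
      · simp [e]
      · have : a = 1 := by linear_combination e - h2
        simp [this]
    have h := (Finset.card_le_card hsub).trans Finset.card_le_two
    rw [Finset.card_univ] at h
    omega
  · by_cases hs : ∃ b : F, b * b = -1
    · obtain ⟨b, hb⟩ := hs
      have hsub : (Finset.univ : Finset F) ⊆ insert (0 : F) {1, -1, b, -b} := fun a _ => by
        by_cases ha : a = 0
        · simp [ha]
        by_cases h1 : a * a = 1
        · rcases mul_self_eq_one_iff.1 h1 with e | e <;> simp [e]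
        · have := (hno a ha h1).2
          rcases mul_self_eq_mul_self_iff.1 (this.trans hb.symm) with e | e <;> simp [e]
      have h := (Finset.card_le_card hsub).trans ((Finset.card_insert_le _ _).trans (Nat.add_le_add_right Finset.card_le_four 1))
      rw [Finset.card_univ] at h
      omega
    · have hsub : (Finset.univ : Finset F) ⊆ {0, 1, -1} := fun a _ => by
        by_cases ha : a = 0
        · simp [ha]
        by_cases h1 : a * a = 1
        · rcases mul_self_eq_one_iff.1 h1 with e | e <;> simp [e]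
        · exact absurd ⟨a, (hno a ha h1).2⟩ hs
      have h := (Finset.card_le_card hsub).trans Finset.card_le_three
      rw [Finset.card_univ] at h
      omega

theorem exists_split (h7 : (2 : F) = 0 ∧ 4 ≤ Nat.card F ∨ 7 ≤ Nat.card F) :
    ∃ g : S, ((2 : F) = 0 ∨ g.1.trace ≠ 0) ∧ Nat.card (Subgroup.centralizer ({g} : Set S)) = Nat.card F - 1 := by
  obtain ⟨a, ha0, ha1, ha2⟩ := exists_split_val h7
  let g : S := ⟨!![a, 0; 0, a⁻¹], by simp [Matrix.det_fin_two, ha0]⟩
  have ht : g.1.trace = a + a⁻¹ := by simp [g, Matrix.trace_fin_two]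
  have hns : ¬ IsScalar g.1 := by
    intro hs
    have h := hs.2.2
    simp [g] at h
    field_simp at h
    exact ha1 (by linear_combination h)
  have hpol : a ^ 2 - a * g.1.trace + 1 = 0 := by rw [ht]; field_simp; ring
  refine ⟨g, ha2.imp id (fun h e => h ?_), card_split hns hpol ha1⟩
  rw [ht] at e
  field_simp at e
  linear_combination e

theorem exists_torus (h7 : (2 : F) = 0 ∨ 4 ≤ Nat.card F) :
    ∃ g : S, ((2 : F) = 0 ∨ g.1.trace ≠ 0) ∧ Nat.card (Subgroup.centralizer ({g} : Set S)) = Nat.card F + 1 := by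
  obtain ⟨g, hg⟩ := SL2Tori.exists_noEigen (F := F)
  rcases h7 with h2 | h4
  · exact ⟨g, Or.inl h2, SL2Tori.card_torus hg⟩
  by_cases h2 : (2 : F) = 0
  · exact ⟨g, Or.inl h2, SL2Tori.card_torus hg⟩
  haveI := SL2Tori.isCyclic_torus hg
  obtain ⟨γ, hγ⟩ := IsCyclic.exists_generator (α := SL2Tori.torus g)
  have hord : orderOf (γ : S) = Nat.card F + 1 := by
    rw [Subgroup.orderOf_coe, orderOf_eq_card_of_forall_mem_zpowers hγ, SL2Tori.card_torus hg]
  have hns : ¬ IsScalar (γ : S).1 := fun hs => by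
    have h1 : ((γ : S)) ^ 2 = 1 := Subtype.ext (by
      rcases SL2Tori.val_eq_pm_one hs with e | e <;> rw [pow_two, Matrix.SpecialLinearGroup.coe_mul, e] <;> simp)
    have := Nat.le_of_dvd two_pos (orderOf_dvd_of_pow_eq_one h1)
    omega
  refine ⟨γ, Or.inr fun ht => ?_, SL2Tori.card_torus (SL2Tori.noEigen_of_mem hg γ.2 hns)⟩
  have h4' : (γ : S) ^ 4 = 1 := by
    rw [show 4 = 2 * 2 by norm_num, pow_mul, pow_two (γ : S), (mul_self_eq_negOne_iff _).2 ht, pow_two, negOne_mul_self]
  have := Nat.le_of_dvd (by norm_num) (orderOf_dvd_of_pow_eq_one h4')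
  omega

theorem exists_unip :
    ∃ g : S, ((2 : F) = 0 ∨ g.1.trace ≠ 0) ∧
      Nat.card (Subgroup.centralizer ({g} : Set S)) = Nat.card {e : F // e * e = 1} * Nat.card F := by
  refine ⟨SL2Classes.upper 1, ?_, SL2Classes.card_centralizer_upper one_ne_zero⟩
  rw [SL2Classes.trace_upper]
  exact em _

/-- The class sizes in characteristic two. -/
theorem range_even (h2 : (2 : F) = 0) (h4 : 4 ≤ Nat.card F) :
    Set.range (fun x : P => cls x) =
      {1, Nat.card F * (Nat.card F - 1), Nat.card F ^ 2 - 1, Nat.card F * (Nat.card F + 1)} := by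
  have hz : Nat.card {e : F // e * e = 1} = 1 := SL2Classes.card_sq_one_two h2
  ext n
  simp only [Set.mem_range, Set.mem_insert_iff, Set.mem_singleton_iff]
  constructor
  · rintro ⟨x, rfl⟩
    obtain ⟨g, rfl⟩ := pr_surjective x
    by_cases hg : pr g = 1
    · left; rw [hg, cls_one]
    rw [cls_pr_of_trace (Or.inl h2)]
    rcases card_cases (not_scalar_of_ne hg) with h | h | h
    · exact Or.inr (Or.inl (cls_torus h))
    · exact Or.inr (Or.inr (Or.inr (cls_split h)))
    · rw [hz] at h
      exact Or.inr (Or.inr (Or.inl (by rw [cls_unip (Or.inl rfl) (one_dvd _) h, Nat.div_one])))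
  · rintro (rfl | rfl | rfl | rfl)
    · exact ⟨1, cls_one⟩
    · obtain ⟨g, -, h⟩ := exists_torus (F := F) (Or.inl h2)
      exact ⟨pr g, (cls_pr_of_trace (Or.inl h2)).trans (cls_torus h)⟩
    · obtain ⟨g, -, h⟩ := exists_unip (F := F)
      rw [hz] at h
      exact ⟨pr g, (cls_pr_of_trace (Or.inl h2)).trans (by rw [cls_unip (Or.inl rfl) (one_dvd _) h, Nat.div_one])⟩
    · obtain ⟨g, -, h⟩ := exists_split (F := F) (Or.inl ⟨h2, h4⟩)
      exact ⟨pr g, (cls_pr_of_trace (Or.inl h2)).trans (cls_split h)⟩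

/-- The class sizes in odd characteristic. -/
theorem range_odd (h2 : (2 : F) ≠ 0) (h7 : 7 ≤ Nat.card F) (hodd : Nat.card F % 2 = 1) :
    Set.range (fun x : P => cls x) =
      {1, (Nat.card F ^ 2 - 1) / 2,
        (if Nat.card F % 4 = 1 then Nat.card F * (Nat.card F + 1) / 2 else Nat.card F * (Nat.card F - 1) / 2),
        Nat.card F * (Nat.card F - 1), Nat.card F * (Nat.card F + 1)} := by
  have hz : Nat.card {e : F // e * e = 1} = 2 := SL2Classes.card_sq_one_odd h2
  have hdvd : 2 ∣ Nat.card F ^ 2 - 1 := by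
    have : Nat.card F ^ 2 % 2 = 1 := by rw [Nat.pow_mod, hodd]
    omega
  ext n
  simp only [Set.mem_range, Set.mem_insert_iff, Set.mem_singleton_iff]
  constructor
  · rintro ⟨x, rfl⟩
    obtain ⟨g, rfl⟩ := pr_surjective x
    by_cases hg : pr g = 1
    · left; rw [hg, cls_one]
    by_cases ht : g.1.trace = 0
    · exact Or.inr (Or.inr (Or.inl (cls_invol h2 ht)))
    rw [cls_pr_of_trace (Or.inr ht)]
    rcases card_cases (not_scalar_of_ne hg) with h | h | h
    · exact Or.inr (Or.inr (Or.inr (Or.inl (cls_torus h))))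
    · exact Or.inr (Or.inr (Or.inr (Or.inr (cls_split h))))
    · rw [hz] at h
      exact Or.inr (Or.inl (cls_unip (Or.inr rfl) hdvd h))
  · rintro (rfl | rfl | rfl | rfl | rfl)
    · exact ⟨1, cls_one⟩
    · obtain ⟨g, ht, h⟩ := exists_unip (F := F)
      rw [hz] at h
      exact ⟨pr g, (cls_pr_of_trace ht).trans (cls_unip (Or.inr rfl) hdvd h)⟩
    · exact ⟨pr w, cls_invol h2 trace_w⟩
    · obtain ⟨g, ht, h⟩ := exists_torus (F := F) (Or.inr (by omega))
      exact ⟨pr g, (cls_pr_of_trace ht).trans (cls_torus h)⟩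
    · obtain ⟨g, ht, h⟩ := exists_split (F := F) (Or.inr h7)
      exact ⟨pr g, (cls_pr_of_trace ht).trans (cls_split h)⟩

end Cfsg.Agent.LinearBlock.PSL2Sizes
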