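/-
The centraliser of an involution in PSL_3(q), q odd.
-/
import Cfsg.Agent.Lib.KSG.InvolutionBasis
import Mathlib.LinearAlgebra.Matrix.ProjectiveSpecialLinearGroup
import Mathlib.LinearAlgebra.Matrix.GeneralLinearGroup.Defs
import Mathlib.RingTheory.IntegralDomain
import Mathlib.GroupTheory.SpecificGroups.Cyclic
import Mathlib.Tactic

set_option autoImplicit false

namespace Cfsg.Agent.PSL3Cent

open Matrix Module

variable {F : Type*} [Field F]

local notation "SL3" => Matrix.SpecialLinearGroup (Fin 3) F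
local notation "PSL3" => Matrix.ProjectiveSpecialLinearGroup (Fin 3) F

/-- The block matrix of an element of GL_2, of determinant 1. -/
def blk (A : GL (Fin 2) F) : Matrix (Fin 3) (Fin 3) F :=
  let a := (A : Matrix (Fin 2) (Fin 2) F)
  !![a 0 0, a 0 1, 0; a 1 0, a 1 1, 0; 0, 0, (a.det)⁻¹]

theorem blk_mul (A B : GL (Fin 2) F) : blk (A * B) = blk A * blk B := by
  ext i j
  fin_cases i <;> fin_cases j <;>
    simp [blk, Matrix.mul_apply, Fin.sum_univ_three, Fin.sum_univ_two, Matrix.det_mul, mul_comm]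

theorem blk_det (A : GL (Fin 2) F) : (blk A).det = 1 := by
  have h : ((A : Matrix (Fin 2) (Fin 2) F)).det ≠ 0 := Matrix.GeneralLinearGroup.det_ne_zero A
  rw [Matrix.det_fin_three]
  simp [blk]
  rw [Matrix.det_fin_two] at h ⊢
  field_simp

theorem blk_one : blk (1 : GL (Fin 2) F) = 1 := by
  ext i j; fin_cases i <;> fin_cases j <;> simp [blk]

/-- The block embedding. -/
def blkHom : GL (Fin 2) F →* SL3 where
  toFun A := ⟨blk A, blk_det A⟩
  map_one' := Subtype.ext blk_one
  map_mul' A B := Subtype.ext (blk_mul A B)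

theorem blk_injective : Function.Injective (blkHom (F := F)) := by
  intro A B h
  have h' : blk A = blk B := congrArg Subtype.val h
  ext i j
  fin_cases i <;> fin_cases j
  exacts [congrFun (congrFun h' 0) 0, congrFun (congrFun h' 0) 1, congrFun (congrFun h' 1) 0,
    congrFun (congrFun h' 1) 1]

theorem centralizer_iso [Fintype F] (hF : Odd (Fintype.card F)) (t : PSL3) (ht : orderOf t = 2) :
    ∃ (Z : Subgroup (GL (Fin 2) F)) (_ : Z.Normal), Z ≤ Subgroup.center (GL (Fin 2) F) ∧
      Nat.card Z = Nat.gcd (Fintype.card F - 1) 3 ∧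
      Nonempty (↥(Subgroup.centralizer ({t} : Set PSL3)) ≃* GL (Fin 2) F ⧸ Z) := by
  classical
  have h2 : (2 : F) ≠ 0 := Ring.two_ne_zero fun h => by
    have := FiniteField.even_card_of_char_two h
    rw [Nat.odd_iff] at hF; omega
  have hne : (-1 : F) ≠ 1 := fun h => h2 (by linear_combination -h)
  let π : SL3 →* PSL3 := QuotientGroup.mk' (Subgroup.center SL3)
  have hπ : Function.Surjective π := QuotientGroup.mk'_surjective _
  have hker : ∀ z : SL3, π z = 1 → (∀ x, x * z = z * x) ∧ z ^ 3 = 1 ∧ ∃ r : F, z.1 = Matrix.scalar (Fin 3) r := by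
    intro z hz
    have hzc : z ∈ Subgroup.center SL3 := (QuotientGroup.eq_one_iff _).1 hz
    obtain ⟨r, hr, hz'⟩ := Matrix.SpecialLinearGroup.mem_center_iff.1 hzc
    refine ⟨Subgroup.mem_center_iff.1 hzc, Subtype.ext ?_, r, hz'.symm⟩
    rw [Fintype.card_fin] at hr
    rw [Matrix.SpecialLinearGroup.coe_pow, ← hz', ← map_pow, hr, map_one, Matrix.SpecialLinearGroup.coe_one]
  obtain ⟨s, hs⟩ := hπ t
  have ht2 : t ^ 2 = 1 := ht ▸ pow_orderOf_eq_one t
  have ht1 : t ≠ 1 := fun h => by simp [h] at ht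
  let u : SL3 := s ^ 3
  have hu2 : u * u = 1 := by
    have h := (hker (s ^ 2) (by rw [map_pow, hs, ht2])).2.1
    rw [← pow_mul] at h
    simpa only [u, ← pow_add] using h
  have hπu : π u = t := by rw [map_pow, hs, pow_succ, ht2, one_mul]
  have hu1 : u ≠ 1 := fun h => ht1 (by rw [← hπu, h, map_one])
  have hcomm : ∀ x : SL3, Commute (π x) t ↔ Commute x u := by
    intro x
    constructor
    · intro h
      let z := x * u * x⁻¹ * u⁻¹
      have hz : π z = 1 := by
        simp only [z, map_mul, map_inv, hπu, h.eq, mul_inv_cancel_right, mul_inv_cancel]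
      obtain ⟨hzc, hz3, -⟩ := hker z hz
      have hzu : x * u * x⁻¹ = z * u := by simp [z]
      have hsq : (z * u) * (z * u) = 1 := by
        rw [← hzu, show x * u * x⁻¹ * (x * u * x⁻¹) = x * (u * u) * x⁻¹ by group, hu2, mul_one, mul_inv_cancel]
      have hz2 : z * z = 1 := by
        rw [show z * u * (z * u) = z * (u * z) * u by simp only [mul_assoc], hzc u] at hsq
        rwa [show z * (z * u) * u = z * z * (u * u) by simp only [mul_assoc], hu2, mul_one] at hsq
      have hz1 : z = 1 := by
        rw [pow_succ, pow_two, hz2, one_mul] at hz3; exact hz3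
      rw [hz1, one_mul] at hzu
      exact mul_inv_eq_iff_eq_mul.1 hzu
    · intro h
      rw [← hπu]; exact h.map π
  obtain ⟨b', hb'⟩ := KSG.InvolutionBasis.exists_matrix_basis h2 {u.1}
    (by rintro _ rfl; exact congrArg Subtype.val hu2) (by rintro _ rfl _ rfl; rfl)
  let c : Basis (Fin 3) F (Fin 3 → F) := b'.reindex (finCongr (Fintype.card_fin 3))
  have hc : ∀ i, ∃ e : F, (e = 1 ∨ e = -1) ∧ u.1 *ᵥ c i = e • c i := fun i => by
    rcases (by simpa [c, Basis.reindex_apply] using hb' _ rfl ((finCongr (Fintype.card_fin 3)).symm i) :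
      u.1 *ᵥ c i = c i ∨ u.1 *ᵥ c i = -c i) with h | h
    · exact ⟨1, Or.inl rfl, by rwa [one_smul]⟩
    · exact ⟨-1, Or.inr rfl, by rwa [neg_one_smul]⟩
  choose e he hce using hc
  have hdet : e 0 * e 1 * e 2 = 1 := by
    have h := KSG.InvolutionBasis.det_eq_prod c _ e hce
    rw [Fin.prod_univ_three] at h
    exact h.symm.trans u.2
  obtain ⟨σ, hσ⟩ : ∃ σ : Equiv.Perm (Fin 3), ∀ i, e (σ i) = ![-1, -1, 1] i := by
    have hnot : ¬ ∀ i, e i = 1 := fun hall => hu1 (Subtype.ext (Matrix.toLin'.injective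
      (c.ext fun i => by simp [hce, hall])))
    rcases he 0 with a | a <;> rcases he 1 with b | b <;> rcases he 2 with d | d
    all_goals rw [a, b, d] at hdet
    all_goals first
      | (refine absurd ?_ hnot; intro i; fin_cases i <;> assumption)
      | (refine absurd ?_ hne; linear_combination hdet)
      | (refine ⟨1, ?_⟩; intro i; fin_cases i <;> simp [a, b, d] <;> done)
      | (refine ⟨Equiv.swap 0 2, ?_⟩; intro i; fin_cases i <;> simp [a, b, d, Equiv.swap_apply_of_ne_of_ne] <;> done)
      | (refine ⟨Equiv.swap 1 2, ?_⟩; intro i; fin_cases i <;> simp [a, b, d, Equiv.swap_apply_of_ne_of_ne] <;> done)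
  let bb : Basis (Fin 3) F (Fin 3 → F) := c.reindex σ.symm
  let B : Matrix (Fin 3) (Fin 3) F := Matrix.of fun r i => bb i r
  have hBli : LinearIndependent F B.col := bb.linearIndependent
  have hBu : IsUnit B := Matrix.linearIndependent_cols_iff_isUnit.1 hBli
  have hBd : IsUnit B.det := (Matrix.isUnit_iff_isUnit_det _).1 hBu
  let dd : Matrix (Fin 3) (Fin 3) F := Matrix.diagonal ![-1, -1, 1]
  have huB : u.1 * B = B * dd := by
    ext r i
    rw [Matrix.mul_diagonal]
    have h : u.1 *ᵥ bb i = ![(-1 : F), -1, 1] i • bb i := by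
      rw [← hσ i]; simpa [bb, Basis.reindex_apply] using hce (σ i)
    have h' := congrFun h r
    simp only [Pi.smul_apply, smul_eq_mul] at h'
    rw [mul_comm] at h'
    exact h'
  let emb : GL (Fin 2) F →* SL3 :=
    { toFun := fun A => ⟨B * blk A * B⁻¹, by
        rw [Matrix.det_mul, Matrix.det_mul, blk_det, mul_one, ← Matrix.det_mul, Matrix.mul_nonsing_inv _ hBd,
          Matrix.det_one]⟩
      map_one' := Subtype.ext (by
        show B * blk 1 * B⁻¹ = 1
        rw [blk_one, mul_one, Matrix.mul_nonsing_inv _ hBd])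
      map_mul' := fun X Y => Subtype.ext (by
        show B * blk (X * Y) * B⁻¹ = B * blk X * B⁻¹ * (B * blk Y * B⁻¹)
        rw [blk_mul, show B * blk X * B⁻¹ * (B * blk Y * B⁻¹) = B * blk X * (B⁻¹ * B) * blk Y * B⁻¹ by
          simp only [mul_assoc], Matrix.nonsing_inv_mul _ hBd, mul_one]
        simp only [mul_assoc]) }
  have hudd : u.1 = B * dd * B⁻¹ := by rw [← huB, mul_assoc, Matrix.mul_nonsing_inv _ hBd, mul_one]
  have hconj : ∀ X Y : Matrix (Fin 3) (Fin 3) F, (B * X * B⁻¹) * (B * Y * B⁻¹) = B * (X * Y) * B⁻¹ := fun X Y => by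
    rw [show B * X * B⁻¹ * (B * Y * B⁻¹) = B * X * (B⁻¹ * B) * Y * B⁻¹ by simp only [mul_assoc],
      Matrix.nonsing_inv_mul _ hBd, mul_one]
    simp only [mul_assoc]
  have hembc : ∀ A, Commute (emb A) u := fun A => by
    refine Subtype.ext ?_
    show B * blk A * B⁻¹ * u.1 = u.1 * (B * blk A * B⁻¹)
    rw [hudd, hconj, hconj]
    congr 2
    ext i j
    fin_cases i <;> fin_cases j <;> simp [blk, dd]
  let φ : GL (Fin 2) F →* ↥(Subgroup.centralizer ({t} : Set PSL3)) :=
    (π.comp emb).codRestrict _ fun A => Subgroup.mem_centralizer_singleton_iff.2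
      ((hcomm (emb A)).2 (hembc A))
  have hφ : Function.Surjective φ := by
    rintro ⟨y, hy⟩
    obtain ⟨x, rfl⟩ := hπ y
    have hxu : Commute x u := (hcomm x).1 (Subgroup.mem_centralizer_singleton_iff.1 hy)
    let N := B⁻¹ * x.1 * B
    have hx : x.1 = B * N * B⁻¹ := by
      simp only [N, ← mul_assoc]
      rw [Matrix.mul_nonsing_inv _ hBd, one_mul, mul_assoc, Matrix.mul_nonsing_inv _ hBd, mul_one]
    have hN : N * dd = dd * N := by
      have h : x.1 * u.1 = u.1 * x.1 := congrArg Subtype.val hxu.eq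
      rw [hx, hudd, hconj, hconj] at h
      have h' := congrArg (fun M => B⁻¹ * M * B) h
      simpa only [← mul_assoc, Matrix.nonsing_inv_mul _ hBd, one_mul,
        Matrix.nonsing_inv_mul_cancel_right _ _ hBd] using h'
    have hz : ∀ i : Fin 3, i ≠ 2 → N i 2 = 0 ∧ N 2 i = 0 := by
      intro i hi
      have hdi : ![(-1 : F), -1, 1] i = -1 := by fin_cases i <;> simp_all
      have h1 := congrFun (congrFun hN i) 2
      have h3 := congrFun (congrFun hN 2) i
      rw [Matrix.mul_diagonal, Matrix.diagonal_mul, hdi] at h1 h3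
      simp at h1 h3
      exact ⟨(mul_eq_zero.1 (show (2 : F) * N i 2 = 0 by linear_combination h1)).resolve_left h2,
        (mul_eq_zero.1 (show (2 : F) * N 2 i = 0 by linear_combination -h3)).resolve_left h2⟩
    have hNd : N.det = 1 := by
      have h := x.2
      rw [hx, Matrix.det_mul, Matrix.det_mul, mul_comm B.det, mul_assoc, ← Matrix.det_mul,
        Matrix.mul_nonsing_inv _ hBd, Matrix.det_one, mul_one] at h
      exact h
    have h33 : (N 0 0 * N 1 1 - N 0 1 * N 1 0) * N 2 2 = 1 := by
      rw [Matrix.det_fin_three, (hz 0 (by decide)).1, (hz 0 (by decide)).2, (hz 1 (by decide)).1,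
        (hz 1 (by decide)).2] at hNd
      linear_combination hNd
    let A : GL (Fin 2) F := Matrix.GeneralLinearGroup.mkOfDetNeZero !![N 0 0, N 0 1; N 1 0, N 1 1] (by
      rw [Matrix.det_fin_two_of]; exact left_ne_zero_of_mul_eq_one h33)
    have hA : blk A = N := by
      have hAv : (A : Matrix (Fin 2) (Fin 2) F) = !![N 0 0, N 0 1; N 1 0, N 1 1] := rfl
      have hinv : (N 0 0 * N 1 1 - N 0 1 * N 1 0)⁻¹ = N 2 2 := inv_eq_of_mul_eq_one_right h33
      ext i j
      fin_cases i <;> fin_cases j <;>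
        simp [blk, hAv, Matrix.det_fin_two, (hz 0 (by decide)).1, (hz 0 (by decide)).2, (hz 1 (by decide)).1,
          (hz 1 (by decide)).2, hinv]
    refine ⟨A, Subtype.ext ?_⟩
    show π (emb A) = π x
    congr 1
    refine Subtype.ext ?_
    show B * blk A * B⁻¹ = x.1
    rw [hA, ← hx]
  have hscal : ∀ A, φ A = 1 ↔ ∃ r : F, r ^ 3 = 1 ∧ (A : Matrix (Fin 2) (Fin 2) F) = Matrix.scalar (Fin 2) r := by
    intro A
    constructor
    · intro h
      have h1 : π (emb A) = 1 := congrArg Subtype.val h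
      obtain ⟨-, h3, r, hr⟩ := hker _ h1
      have hblk : blk A = Matrix.scalar (Fin 3) r := by
        have h' : B * blk A * B⁻¹ = Matrix.scalar (Fin 3) r := hr
        have := congrArg (fun M => B⁻¹ * M * B) h'
        simp only [← mul_assoc, Matrix.nonsing_inv_mul _ hBd, one_mul,
          Matrix.nonsing_inv_mul_cancel_right _ _ hBd] at this
        rw [this, ← (Matrix.scalar_commute r (fun x => Commute.all r x) B⁻¹).eq, mul_assoc,
          Matrix.nonsing_inv_mul _ hBd, mul_one]
      refine ⟨r, ?_, ?_⟩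
      · have := congrArg Matrix.det hblk
        rw [blk_det] at this
        simpa using this.symm
      · ext i j
        fin_cases i <;> fin_cases j
        · simpa [blk] using congrFun (congrFun hblk 0) 0
        · simpa [blk] using congrFun (congrFun hblk 0) 1
        · simpa [blk] using congrFun (congrFun hblk 1) 0
        · simpa [blk] using congrFun (congrFun hblk 1) 1
    · rintro ⟨r, hr, hA⟩
      refine Subtype.ext ((QuotientGroup.eq_one_iff _).2 (Matrix.SpecialLinearGroup.mem_center_iff.2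
        ⟨r, by simpa using hr, ?_⟩))
      show _ = B * blk A * B⁻¹
      have hblk : blk A = Matrix.scalar (Fin 3) r := by
        have hinv : (r * r)⁻¹ = r := inv_eq_of_mul_eq_one_right (by rw [← hr]; ring)
        ext i j
        fin_cases i <;> fin_cases j <;> simp [blk, hA, Matrix.det_fin_two, hinv] <;>
          exact inv_eq_of_mul_eq_one_right (by rw [← hr]; ring)
      rw [hblk, ← (Matrix.scalar_commute r (fun x => Commute.all r x) B).eq, mul_assoc, Matrix.mul_nonsing_inv _ hBd, mul_one]
  refine ⟨φ.ker, inferInstance, fun A hA => ?_, ?_, ⟨(QuotientGroup.quotientKerEquivOfSurjective φ hφ).symm⟩⟩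
  · obtain ⟨r, -, hr⟩ := (hscal A).1 hA
    refine Subgroup.mem_center_iff.2 fun X => Units.ext ?_
    rw [Units.val_mul, Units.val_mul, hr]
    exact (Matrix.scalar_commute r (fun x => Commute.all r x) _).eq.symm
  · let e3 : {r : Fˣ // (powMonoidHom 3 : Fˣ →* Fˣ) r = 1} ≃ φ.ker :=
      Equiv.ofBijective (fun r => ⟨Units.map (Matrix.scalar (Fin 2)).toMonoidHom r.1, (hscal _).2
        ⟨(r.1 : F), by rw [← Units.val_pow_eq_pow_val, show r.1 ^ 3 = 1 from r.2, Units.val_one], rfl⟩⟩)
        ⟨fun a b hab => Subtype.ext (Units.ext (by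
          simpa using congrFun (congrFun (congrArg (fun z : φ.ker => ((z.1 : GL (Fin 2) F) : Matrix (Fin 2) (Fin 2) F)) hab) 0) 0)),
        fun A => by
          obtain ⟨r, hr, hA⟩ := (hscal A.1).1 A.2
          have hr0 : r ≠ 0 := fun h => by simp [h] at hr
          exact ⟨⟨Units.mk0 r hr0, Units.ext (by simpa using hr)⟩, Subtype.ext (Units.ext hA.symm)⟩⟩
    rw [← Nat.card_congr e3]
    show Nat.card (powMonoidHom 3 : Fˣ →* Fˣ).ker = _
    rw [IsCyclic.card_powMonoidHom_ker, Nat.card_units, Nat.card_eq_fintype_card]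

end Cfsg.Agent.PSL3Cent
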