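/-
Element orders of PSU(3,q), q odd.
-/
import Cfsg.Agent.Lib.Spectra.UnitaryOrders
import Mathlib.LinearAlgebra.Matrix.Adjugate
import Mathlib.FieldTheory.Finite.Basic
import Mathlib.Tactic.LinearCombination

set_option autoImplicit false
set_option linter.style.haveILetI false

namespace Cfsg.Agent.LBPSU3

open Polynomial Cfsg.Agent.UnitarySpectra

variable {F : Type*} [Field F]

local notation "M3" => Matrix (Fin 3) (Fin 3) F

/-- The characteristic polynomial of a `3 × 3` matrix. -/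
theorem charpoly_three (M : M3) :
    M.charpoly = X ^ 3 - C M.trace * X ^ 2 + C M.adjugate.trace * X - C M.det := by
  simp [Matrix.charpoly, Matrix.det_fin_three, Matrix.trace_fin_three,
    Matrix.adjugate_fin_three]
  ring

theorem aeval_X_sub_C (M : M3) (a : F) : aeval M (X - C a) = M - a • (1 : M3) := by
  simp [Algebra.algebraMap_eq_smul_one]

/-- Roots with a common power. -/
theorem pow_scalar_of_roots (p : ℕ) [Fact p.Prime] [CharP F p] (hp3 : 3 ≤ p) {M : M3} {a b e C₀ : F}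
    {k : ℕ} (h : aeval M ((X - C a) * (X - C b) * (X - C e)) = 0)
    (ha : a ^ k = C₀) (hb : b ^ k = C₀) (he : e ^ k = C₀) : M ^ (k * p) = C₀ ^ p • (1 : M3) := by
  have hd : ∀ x : F, x ^ k = C₀ → (X - C x) ∣ (X ^ k - C C₀ : F[X]) := fun x hx => by
    rw [dvd_iff_isRoot]; simp [hx]
  obtain ⟨r, hr⟩ : (X - C a) * (X - C b) * (X - C e) ∣ (X ^ k - C C₀ : F[X]) ^ 3 := by
    rw [pow_succ, pow_two]
    exact mul_dvd_mul (mul_dvd_mul (hd a ha) (hd b hb)) (hd e he)
  have h3 : (M ^ k - C₀ • (1 : M3)) ^ 3 = 0 := by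
    have := congrArg (aeval M) hr
    rw [map_mul (aeval M) _ r, h, zero_mul] at this
    simpa [Algebra.algebraMap_eq_smul_one] using this
  have hp := pow_eq_zero_of_le hp3 h3
  rw [sub_pow_char_of_commute (p := p) ((Commute.one_right _).smul_right _), ← pow_mul, _root_.smul_pow,
    one_pow, sub_eq_zero] at hp
  exact hp

/-- Distinct roots with a common power. -/
theorem pow_scalar_of_distinct {M : M3} {a b e C₀ : F} {k : ℕ}
    (h : aeval M ((X - C a) * (X - C b) * (X - C e)) = 0) (hab : a ≠ b) (hae : a ≠ e) (hbe : b ≠ e)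
    (ha : a ^ k = C₀) (hb : b ^ k = C₀) (he : e ^ k = C₀) : M ^ k = C₀ • (1 : M3) := by
  have hd : ∀ x : F, x ^ k = C₀ → (X - C x) ∣ (X ^ k - C C₀ : F[X]) := fun x hx => by
    rw [dvd_iff_isRoot]; simp [hx]
  have hc : ∀ x y : F, x ≠ y → IsCoprime (X - C x) (X - C y) := fun x y hxy =>
    isCoprime_X_sub_C_of_isUnit_sub (sub_ne_zero.2 hxy).isUnit
  obtain ⟨r, hr⟩ : (X - C a) * (X - C b) * (X - C e) ∣ (X ^ k - C C₀ : F[X]) :=
    IsCoprime.mul_dvd ((hc a e hae).mul_left (hc b e hbe)) ((hc a b hab).mul_dvd (hd a ha) (hd b hb))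
      (hd e he)
  have := congrArg (aeval M) hr
  rw [map_mul (aeval M) _ r, h, zero_mul] at this
  rw [← sub_eq_zero]
  simpa [Algebra.algebraMap_eq_smul_one] using this

theorem pow_eq_one_of_dvd {α : Type*} [Monoid α] {x : α} {m k : ℕ} (h : x ^ m = 1) (hk : m ∣ k) : x ^ k = 1 :=
  orderOf_dvd_iff_pow_eq_one.1 ((orderOf_dvd_of_pow_eq_one h).trans hk)

theorem dvd_three_mul {m k d : ℕ} (hd : d = Nat.gcd 3 m) (h : m ∣ d * k) : m ∣ 3 * k :=
  h.trans (Nat.mul_dvd_mul_right (hd ▸ Nat.gcd_dvd_left 3 m) k)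

section Setup

variable [Fintype F] {q : ℕ} (p : ℕ) [Fact p.Prime] [CharP F p]

/-- The standing data. -/
structure Data (F : Type*) [Field F] [Fintype F] (q : ℕ) where
  σ : F ≃+* F
  hσ : ∀ x, σ x = x ^ q
  hσ2 : orderOf σ = 2
  ζ : F
  hζ : σ ζ * ζ = 1
  hζ1 : ζ ≠ 1
  hζo : orderOf ζ = q + 1
  hF : Fintype.card F = q ^ 2
  hq : Odd q
  μ : F
  hμ : σ μ ≠ μ
  g : F
  hg : g ≠ 0
  hgo : orderOf g = q ^ 2 - 1

theorem exists_data (hp : p ≠ 2) (hF : Fintype.card F = q ^ 2) :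
    Nonempty (Data F q) ∧ ∃ a, 1 ≤ a ∧ q = p ^ a := by
  have hpp : p.Prime := Fact.out
  obtain ⟨n, -, hn⟩ := FiniteField.card F p
  obtain ⟨a, -, hqa⟩ := (Nat.dvd_prime_pow hpp).1 (show q ∣ p ^ (n : ℕ) by
    rw [← hn, hF]; exact dvd_pow_self q two_ne_zero)
  have ha : 1 ≤ a := by
    by_contra h
    have h1 := Fintype.one_lt_card (α := F)
    rw [hF, hqa, show a = 0 by omega] at h1
    simp at h1
  have hq2 : 2 ≤ q := hqa ▸ hpp.two_le.trans (Nat.le_self_pow (by omega) p)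
  have : ExpChar F p := ExpChar.prime hpp
  obtain ⟨σ, hσ⟩ : ∃ σ : F ≃+* F, ∀ x, σ x = x ^ q :=
    ⟨RingEquiv.ofBijective (iterateFrobenius F p a)
      (Finite.injective_iff_bijective.1 (RingHom.injective _)),
      fun x => by simp [iterateFrobenius_def, hqa]⟩
  obtain ⟨g, hg⟩ := IsCyclic.exists_ofOrder_eq_natCard (α := Fˣ)
  rw [Nat.card_units, Nat.card_eq_fintype_card, hF] at hg
  have hμ : σ (g : F) ≠ g := by
    intro h
    have h1 : g ^ q = g := Units.ext (by rw [Units.val_pow_eq_pow_val, ← hσ, h])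
    have h2 : g ^ (q - 1) = 1 := by
      have : g ^ (q - 1) * g = 1 * g := by
        rw [one_mul, ← pow_succ, Nat.sub_add_cancel (by omega), h1]
      exact mul_right_cancel this
    have h3 := Nat.le_of_dvd (by omega) (hg ▸ orderOf_dvd_of_pow_eq_one h2)
    have h4 : 2 * q ≤ q ^ 2 := by rw [sq]; exact Nat.mul_le_mul_right q hq2
    omega
  have hfac : q ^ 2 - 1 = (q - 1) * (q + 1) := by
    rw [mul_comm]; simpa using Nat.sq_sub_sq q 1
  have hgF : orderOf (g : F) = q ^ 2 - 1 := by rw [orderOf_units, hg]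
  have hζo : orderOf ((g : F) ^ (q - 1)) = q + 1 := by
    rw [orderOf_pow_of_dvd (by omega) (by rw [hgF, hfac]; exact dvd_mul_right _ _), hgF, hfac,
      Nat.mul_div_cancel_left _ (by omega)]
  refine ⟨⟨{
    σ := σ, hσ := hσ, hσ2 := ?_, ζ := (g : F) ^ (q - 1), hζ := ?_, hζ1 := ?_, hζo := hζo, hF := hF,
    hq := ?_, μ := g, hμ := hμ, g := g, hg := g.ne_zero, hgo := hgF }⟩, a, ha, hqa⟩
  · have : Fact (Nat.Prime 2) := ⟨Nat.prime_two⟩
    exact orderOf_eq_prime (RingEquiv.ext fun x => by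
        rw [sq]; show σ (σ x) = x; rw [hσ, hσ, ← pow_mul, ← sq, ← hF, FiniteField.pow_card])
      fun h => hμ (by rw [h]; rfl)
  · rw [hσ, ← pow_succ, ← hζo, pow_orderOf_eq_one]
  · intro h; rw [h, orderOf_one] at hζo; omega
  · rw [hqa]; exact (hpp.odd_of_ne_two hp).pow

variable {p} (D : Data F q)

namespace Data

include D

theorem σσ (x : F) : D.σ (D.σ x) = x := by
  rw [D.hσ, D.hσ, ← pow_mul, ← sq, ← D.hF, FiniteField.pow_card]

theorem q3 : 3 ≤ q := by
  obtain ⟨k, hk⟩ := D.hq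
  rcases Nat.eq_zero_or_pos k with rfl | h
  · exfalso
    have := Fintype.one_lt_card (α := F)
    rw [D.hF, hk] at this
    simp at this
  · omega

theorem norm_iff (x : F) : D.σ x * x = 1 ↔ x ^ (q + 1) = 1 := by rw [pow_succ, D.hσ]

theorem psu_pow_iff (s : Cfsg.SU 3 F q) (k : ℕ) :
    (QuotientGroup.mk s : Cfsg.PSU 3 F q) ^ k = 1 ↔
      ∃ c : F, ((s : Matrix.SpecialLinearGroup (Fin 3) F) : M3) ^ k = c • (1 : M3) := by
  rw [← QuotientGroup.mk_pow, mk_eq_one_iff D.σ D.hσ le_rfl D.hζ D.hζ1, coe_pow_SU]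

theorem dvd_pair {d k : ℕ} (hd : d = Nat.gcd 3 (q + 1)) {x : F} (hx : x ≠ 0) :
    (q ^ 2 - 1) ∣ d * k → x ^ (3 * k) = 1 ∧ x ^ ((q + 1) * k) = 1 := by
  intro h
  have h1 : x ^ (q ^ 2 - 1) = 1 := by
    rw [← D.hF]; exact FiniteField.pow_card_sub_one_eq_one x hx
  exact ⟨pow_eq_one_of_dvd h1 (h.trans (Nat.mul_dvd_mul_right (hd ▸ Nat.gcd_dvd_left _ _) k)),
    pow_eq_one_of_dvd h1 (h.trans (Nat.mul_dvd_mul_right (hd ▸ Nat.gcd_dvd_right _ _) k))⟩

/-- The torus of order `q + 1`. -/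
theorem exists_q_add_one : ∃ x : Cfsg.PSU 3 F q, orderOf x = q + 1 := by
  have hz0 : D.ζ ≠ 0 := right_ne_zero_of_mul_eq_one D.hζ
  obtain ⟨v, hv⟩ : ∃ v : Fin 3 → F, v = ![D.ζ, D.ζ⁻¹, 1] := ⟨_, rfl⟩
  obtain ⟨s, hs⟩ := exists_mem_SU (q := q) D.σ D.hσ (M := Matrix.diagonal v)
    (by
      rw [adj, Matrix.diagonal_map (map_zero D.σ), Matrix.diagonal_transpose, Matrix.diagonal_mul_diagonal,
        ← Matrix.diagonal_one]
      congr 1
      funext i
      fin_cases i <;> simp [hv, D.hζ]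
      rw [← mul_inv, D.hζ, inv_one])
    (by simp [Matrix.det_diagonal, Fin.prod_univ_three, hv, hz0])
  refine ⟨QuotientGroup.mk s, SympSpectra.orderOf_eq_of_forall fun k => ?_⟩
  rw [D.psu_pow_iff, hs, Matrix.diagonal_pow, ← D.hζo, orderOf_dvd_iff_pow_eq_one]
  constructor
  · rintro ⟨c, hc⟩
    have h0 := congrFun (congrFun hc 0) 0
    have h2 := congrFun (congrFun hc 2) 2
    simp [hv] at h0 h2
    rw [h0, h2]
  · intro h
    refine ⟨1, ?_⟩
    rw [one_smul, ← Matrix.diagonal_one]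
    congr 1
    funext i
    fin_cases i <;> simp [hv, h]

/-- The split torus. -/
theorem exists_split {d : ℕ} (hd : d = Nat.gcd 3 (q + 1)) :
    ∃ x : Cfsg.PSU 3 F q, orderOf x = (q ^ 2 - 1) / d := by
  obtain ⟨T, hT⟩ : ∃ T : F × F × F →+* F × F × F, ∀ x, T x = (D.σ x.2.1, D.σ x.1, D.σ x.2.2) :=
    ⟨((D.σ.toRingHom.comp ((RingHom.fst F F).comp (RingHom.snd F (F × F)))).prod
      ((D.σ.toRingHom.comp (RingHom.fst F (F × F))).prod
        (D.σ.toRingHom.comp ((RingHom.snd F F).comp (RingHom.snd F (F × F)))))), fun x => rfl⟩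
  obtain ⟨u, hu⟩ : ∃ u : F × F × F, u = (D.g, (D.σ D.g)⁻¹, D.σ D.g / D.g) := ⟨_, rfl⟩
  have hg0 := D.hg
  have hσg : D.σ D.g ≠ 0 := by simpa using hg0
  obtain ⟨-, s, -, -, hs⟩ := exists_psu_of_alg D.σ D.hσ D.hσ2 le_rfl D.hζ D.hζ1 (A := F × F × F)
    (by simp [Module.finrank_prod]) T (fun x => by simp [hT, D.σσ])
    (fun c => by simp [hT, Prod.algebraMap_apply])
    (LinearMap.id.coprod (LinearMap.id.coprod LinearMap.id)) (fun x => by simp [hT]; ring)
    (fun x hx => Prod.ext (by simpa using hx (1, 0, 0))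
      (Prod.ext (by simpa using hx (0, 1, 0)) (by simpa using hx (0, 0, 1)))) u
    (by simp [hT, hu, D.σσ]; exact ⟨by field_simp, by field_simp, by field_simp⟩)
    (by rw [norm_prod_eq, norm_prod_eq]; simp [hu, Algebra.norm_self]; field_simp)
  refine ⟨QuotientGroup.mk s, SympSpectra.orderOf_eq_of_forall fun k => ?_⟩
  rw [hs]
  have hdpos : 0 < d := hd ▸ Nat.gcd_pos_of_pos_left _ (by norm_num)
  have hdd : d ∣ q ^ 2 - 1 := (hd ▸ Nat.gcd_dvd_right 3 (q + 1)).trans ⟨q - 1, by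
    simpa using Nat.sq_sub_sq q 1⟩
  rw [Nat.div_dvd_iff_dvd_mul hdd hdpos]
  constructor
  · rintro ⟨c, hc⟩
    simp [hu, Prod.algebraMap_apply, Prod.ext_iff] at hc
    obtain ⟨h1, h2, h3⟩ := hc
    have e1 : D.g ^ k * (D.σ D.g) ^ k = 1 := by
      rw [h1, ← h2, inv_mul_cancel₀ (pow_ne_zero k hσg)]
    have e2 : (D.σ D.g) ^ k = D.g ^ k * D.g ^ k := by
      rw [div_pow, div_eq_iff (pow_ne_zero k hg0)] at h3
      rw [h3, h1]
    have o1 : orderOf D.g ∣ (q + 1) * k := orderOf_dvd_of_pow_eq_one (by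
      rw [add_mul, one_mul, pow_add, pow_mul, ← D.hσ, mul_comm]; exact e1)
    have o2 : orderOf D.g ∣ 3 * k := orderOf_dvd_of_pow_eq_one (by
      rw [← e1, e2]; ring)
    rw [D.hgo] at o1 o2
    have := Nat.dvd_gcd o2 o1
    rwa [Nat.gcd_mul_right, ← hd] at this
  · intro h
    obtain ⟨h1, h2⟩ := D.dvd_pair hd hg0 h
    have e1 : (D.σ D.g) ^ k * D.g ^ k = 1 := by
      rw [D.hσ, ← pow_mul, ← pow_add, ← h2]; congr 1; ring
    have e2 : (D.σ D.g) ^ k = D.g ^ k * D.g ^ k := by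
      have e3 : D.g ^ k * D.g ^ k * D.g ^ k = 1 := by rw [← h1]; ring
      exact mul_right_cancel₀ (pow_ne_zero k hg0) (e1.trans e3.symm)
    refine ⟨D.g ^ k, ?_⟩
    simp [hu, Prod.algebraMap_apply, Prod.ext_iff]
    refine ⟨?_, ?_⟩
    · rw [inv_eq_of_mul_eq_one_right e1]
    · rw [div_pow, e2, mul_div_assoc, div_self (pow_ne_zero k hg0), mul_one]

/-- Mixed elements. -/
theorem exists_mixed (p : ℕ) [Fact p.Prime] [CharP F p] (hp : p ∣ q) {d : ℕ} (hd : d = Nat.gcd 3 (q + 1)) :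
    ∃ x : Cfsg.PSU 3 F q, orderOf x = p * (q + 1) / d := by
  have hpp : p.Prime := Fact.out
  obtain ⟨τ, ℓ, w, hτ, hτl, hℓ, hnd, hw, hord⟩ :=
    exists_unipotent_block p D.σ D.σσ D.hμ (m := 2) (by omega)
  rw [show Nat.clog p 2 = 1 from Nat.clog_eq_one le_rfl hpp.two_le, pow_one] at hord
  have : Module.Finite F (AdjoinRoot (X ^ 2 : F[X])) := (monic_X_pow _).finite_adjoinRoot
  have : Nontrivial (AdjoinRoot (X ^ 2 : F[X])) := AdjoinRoot.nontrivial _ (by
    rw [degree_X_pow]; norm_num)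
  obtain ⟨T, hT⟩ : ∃ T : AdjoinRoot (X ^ 2 : F[X]) × F →+* AdjoinRoot (X ^ 2 : F[X]) × F,
      ∀ x, T x = (τ x.1, D.σ x.2) :=
    ⟨(τ.comp (RingHom.fst _ F)).prod (D.σ.toRingHom.comp (RingHom.snd _ F)), fun x => rfl⟩
  have hz0 : D.ζ ≠ 0 := right_ne_zero_of_mul_eq_one D.hζ
  have hwp : (w : AdjoinRoot (X ^ 2 : F[X])) ^ p = 1 := by
    rw [← Units.val_pow_eq_pow_val, ← hord, pow_orderOf_eq_one, Units.val_one]
  have hNw : Algebra.norm F (w : AdjoinRoot (X ^ 2 : F[X])) = 1 :=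
    Spectra.eq_one_of_pow_char_pow p (T := 1) (by rw [pow_one, ← map_pow, hwp, map_one])
  obtain ⟨u, hu⟩ : ∃ u : AdjoinRoot (X ^ 2 : F[X]) × F,
      u = (algebraMap F (AdjoinRoot (X ^ 2 : F[X])) D.ζ * (w : AdjoinRoot (X ^ 2 : F[X])), (D.ζ ^ 2)⁻¹) := ⟨_, rfl⟩
  obtain ⟨-, s, -, -, hs⟩ := exists_psu_of_alg D.σ D.hσ D.hσ2 le_rfl D.hζ D.hζ1
    (A := AdjoinRoot (X ^ 2 : F[X]) × F)
    (by rw [Module.finrank_prod, Spectra.finrank_adjoinRoot_X_pow, Module.finrank_self]) T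
    (fun x => by simp [hT, hτ, D.σσ]) (fun c => by rw [hT]; exact Prod.ext (hτl c) rfl)
    (ℓ.coprod LinearMap.id) (fun x => by simp [hT, hℓ])
    (fun x hx => Prod.ext (hnd _ fun y => by simpa using hx (y, 0)) (by simpa using hx (0, 1))) u
    (by
      rw [hT, hu]
      refine Prod.ext ?_ ?_
      · show τ (_ * _) * (_ * _) = 1
        rw [map_mul, hτl, mul_mul_mul_comm, ← map_mul, D.hζ, map_one, one_mul, hw]
      · show D.σ (D.ζ ^ 2)⁻¹ * (D.ζ ^ 2)⁻¹ = 1
        rw [map_inv₀, ← mul_inv, map_pow, ← mul_pow, D.hζ, one_pow, inv_one])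
    (by
      rw [norm_prod_eq, hu]
      simp only [map_mul, hNw, mul_one, Algebra.norm_algebraMap, Algebra.norm_self, MonoidHom.id_apply,
        Spectra.finrank_adjoinRoot_X_pow]
      exact mul_inv_cancel₀ (pow_ne_zero 2 hz0))
  have hdpos : 0 < d := hd ▸ Nat.gcd_pos_of_pos_left _ (by norm_num)
  have hdd : d ∣ q + 1 := hd ▸ Nat.gcd_dvd_right 3 (q + 1)
  refine ⟨QuotientGroup.mk s, SympSpectra.orderOf_eq_of_forall fun k => ?_⟩
  rw [hs, Nat.mul_div_assoc _ hdd]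
  have hcop : p.Coprime ((q + 1) / d) := by
    refine hpp.coprime_iff_not_dvd.2 fun h => hpp.not_dvd_one ?_
    exact (Nat.dvd_add_right hp).1 (h.trans (Nat.div_dvd_of_dvd hdd))
  rw [show p * ((q + 1) / d) ∣ k ↔ p ∣ k ∧ q + 1 ∣ d * k from
    ⟨fun h => ⟨(dvd_mul_right _ _).trans h, (Nat.div_dvd_iff_dvd_mul hdd hdpos).1 ((dvd_mul_left _ _).trans h)⟩,
     fun h => hcop.mul_dvd_of_dvd_of_dvd h.1 ((Nat.div_dvd_iff_dvd_mul hdd hdpos).2 h.2)⟩]
  constructor
  · rintro ⟨c, hc⟩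
    rw [hu, Prod.pow_mk, Prod.algebraMap_apply, Prod.ext_iff] at hc
    obtain ⟨h1, h2⟩ := hc
    simp only at h1 h2
    rw [mul_pow, ← map_pow] at h1
    have hwk : (w : AdjoinRoot (X ^ 2 : F[X])) ^ k = algebraMap F _ ((D.ζ ^ k)⁻¹ * c) := by
      rw [map_mul, ← h1, ← mul_assoc, ← map_mul, inv_mul_cancel₀ (pow_ne_zero k hz0), map_one, one_mul]
    have hc1 : (D.ζ ^ k)⁻¹ * c = 1 := Spectra.eq_one_of_pow_char_pow p (T := 1)
      ((algebraMap F (AdjoinRoot (X ^ 2 : F[X]))).injective (by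
        rw [pow_one, map_pow, ← hwk, ← pow_mul, mul_comm, pow_mul, hwp, one_pow, map_one]))
    rw [hc1, map_one] at hwk
    refine ⟨hord ▸ orderOf_dvd_of_pow_eq_one (Units.ext (by rw [Units.val_pow_eq_pow_val, hwk, Units.val_one])),
      ?_⟩
    have hck : c = D.ζ ^ k := by
      rw [inv_mul_eq_iff_eq_mul₀ (pow_ne_zero k hz0), mul_one] at hc1; exact hc1
    have o3 : orderOf D.ζ ∣ 3 * k := orderOf_dvd_of_pow_eq_one (by
      have h2' : ((D.ζ ^ 2)⁻¹) ^ k = c := by simpa using h2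
      rw [inv_pow, hck, inv_eq_iff_eq_inv] at h2'
      rw [show 3 * k = 2 * k + k by ring, pow_add, pow_mul, h2', inv_mul_cancel₀ (pow_ne_zero k hz0)])
    rw [D.hζo] at o3
    have := Nat.dvd_gcd o3 (dvd_mul_right (q + 1) k)
    rwa [Nat.gcd_mul_right, ← hd] at this
  · rintro ⟨h1, h2⟩
    have h3 : D.ζ ^ (3 * k) = 1 := orderOf_dvd_iff_pow_eq_one.1 (D.hζo ▸ dvd_three_mul hd h2)
    refine ⟨D.ζ ^ k, ?_⟩
    rw [hu, Prod.pow_mk, Prod.algebraMap_apply]
    refine Prod.ext ?_ ?_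
    · show (_ * _) ^ k = algebraMap F _ (D.ζ ^ k)
      rw [mul_pow, pow_eq_one_of_dvd hwp h1, mul_one, map_pow]
    · show ((D.ζ ^ 2)⁻¹) ^ k = D.ζ ^ k
      refine (inv_pow _ k).trans (inv_eq_of_mul_eq_one_right ?_)
      rw [← h3]; ring

/-- The reducible case. -/
theorem bound_left (p : ℕ) [Fact p.Prime] [CharP F p] (hp2 : p ≠ 2) (_hpq : p ∣ q) {d : ℕ}
    (hd : d = Nat.gcd 3 (q + 1)) (s : Cfsg.SU 3 F q) (E : M3) (hE : E * E = E) (hEa : adj D.σ E = E)
    (h0 : E ≠ 0) (h1 : E ≠ 1) (hc : Commute E ((s : Matrix.SpecialLinearGroup (Fin 3) F) : M3)) :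
    orderOf (QuotientGroup.mk s : Cfsg.PSU 3 F q) ∣ q + 1 ∨
      orderOf (QuotientGroup.mk s : Cfsg.PSU 3 F q) ∣ p * (q + 1) / d ∨
      orderOf (QuotientGroup.mk s : Cfsg.PSU 3 F q) ∣ (q ^ 2 - 1) / d := by
  have hpp : p.Prime := Fact.out
  have hp3 : 3 ≤ p := by have := hpp.two_le; omega
  -- reduce to rank one
  obtain ⟨E, hE, hEa, h0, hc, hr⟩ : ∃ E' : M3, E' * E' = E' ∧ adj D.σ E' = E' ∧ E' ≠ 0 ∧
      Commute E' ((s : Matrix.SpecialLinearGroup (Fin 3) F) : M3) ∧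
      Module.finrank F (LinearMap.range (Matrix.toLin' E')) = 1 := by
    have hker : LinearMap.ker (Matrix.toLin' E) = LinearMap.range (Matrix.toLin' (1 - E)) := by
      apply le_antisymm
      · intro x hx
        refine ⟨x, ?_⟩
        rw [LinearMap.mem_ker] at hx
        rw [map_sub, Matrix.toLin'_one, LinearMap.sub_apply, hx, sub_zero, LinearMap.id_apply]
      · rintro _ ⟨y, rfl⟩
        rw [LinearMap.mem_ker, ← Matrix.toLin'_mul_apply, mul_sub, mul_one, hE, sub_self, map_zero,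
          LinearMap.zero_apply]
    have hsum := LinearMap.finrank_range_add_finrank_ker (Matrix.toLin' E)
    rw [hker, Module.finrank_fintype_fun_eq_card, Fintype.card_fin] at hsum
    have hne : ∀ A : M3, A ≠ 0 → 1 ≤ Module.finrank F (LinearMap.range (Matrix.toLin' A)) := fun A hA => by
      refine Submodule.one_le_finrank_iff.2 fun h => hA ?_
      rw [LinearMap.range_eq_bot] at h
      exact Matrix.toLin'.injective (h.trans (map_zero _).symm)
    have h0' : (1 - E) ≠ 0 := sub_ne_zero.2 (Ne.symm h1)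
    have := hne E h0
    have := hne _ h0'
    rcases (show Module.finrank F (LinearMap.range (Matrix.toLin' E)) = 1 ∨
        Module.finrank F (LinearMap.range (Matrix.toLin' (1 - E))) = 1 by omega) with h | h
    · exact ⟨E, hE, hEa, h0, hc, h⟩
    · refine ⟨1 - E, ?_, by rw [adj_sub, adj_one, hEa], h0', (Commute.one_left _).sub_left hc, h⟩
      rw [sub_mul, one_mul, mul_sub, mul_one, hE, sub_self, sub_zero]
  obtain ⟨M, hM⟩ : ∃ M : M3, M = ((s : Matrix.SpecialLinearGroup (Fin 3) F) : M3) := ⟨_, rfl⟩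
  rw [← hM] at hc
  have hMu : adj D.σ M * M = 1 := hM ▸ (mem_SU_iff D.σ D.hσ _).1 s.2
  have hMdet : M.det = 1 := hM ▸ (s : Matrix.SpecialLinearGroup (Fin 3) F).2
  obtain ⟨⟨v, hvR⟩, hv0, hspan⟩ := finrank_eq_one_iff'.1 hr
  have hvE : Matrix.toLin' E v = v := by
    obtain ⟨y, rfl⟩ := hvR
    rw [← Matrix.toLin'_mul_apply, hE]
  obtain ⟨c, hcv⟩ : ∃ c : F, Matrix.toLin' M v = c • v := by
    have hmem : Matrix.toLin' M v ∈ LinearMap.range (Matrix.toLin' E) :=
      ⟨Matrix.toLin' M v, by rw [← Matrix.toLin'_mul_apply, hc.eq, Matrix.toLin'_mul_apply, hvE]⟩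
    obtain ⟨c, hc'⟩ := hspan ⟨_, hmem⟩
    exact ⟨c, (congrArg Subtype.val hc').symm⟩
  have hME : M * E = c • E := by
    apply Matrix.toLin'.injective
    refine LinearMap.ext fun x => ?_
    obtain ⟨a, ha⟩ := hspan ⟨Matrix.toLin' E x, LinearMap.mem_range_self _ x⟩
    have ha' : a • v = Matrix.toLin' E x := congrArg Subtype.val ha
    rw [Matrix.toLin'_mul_apply, map_smul Matrix.toLin', LinearMap.smul_apply, ← ha', map_smul, hcv, smul_comm]
  have hc1 : D.σ c * c = 1 := by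
    have hAE : adj D.σ (M * E) = adj D.σ (c • E) := by rw [hME]
    rw [adj_mul, adj_smul, hEa] at hAE
    have h2 : (E * adj D.σ M) * (M * E) = (D.σ c • E) * (c • E) := by rw [hAE, hME]
    rw [mul_assoc, ← mul_assoc (adj D.σ M), hMu, one_mul, hE, smul_mul_smul_comm, hE] at h2
    by_contra hne
    have : (D.σ c * c - 1) • E = 0 := by rw [sub_smul, one_smul, ← h2, sub_self]
    exact h0 ((smul_eq_zero.1 this).resolve_left (sub_ne_zero.2 hne))
  have hc0 : c ≠ 0 := right_ne_zero_of_mul_eq_one hc1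
  -- the characteristic polynomial
  have hadj : M.adjugate = adj D.σ M :=
    (left_inv_eq_right_inv hMu (by rw [Matrix.mul_adjugate, hMdet, one_smul])).symm
  obtain ⟨T, hT⟩ : ∃ T, M.trace = T := ⟨_, rfl⟩
  have htr : M.adjugate.trace = D.σ T := by
    rw [hadj, ← hT]; simp [adj, Matrix.trace, map_sum]
  have hP : M.charpoly = X ^ 3 - C T * X ^ 2 + C (D.σ T) * X - 1 := by
    rw [charpoly_three, hT, htr, hMdet, map_one]
  have hroot : c ^ 3 - T * c ^ 2 + D.σ T * c - 1 = 0 := by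
    have h : M.charpoly.eval c = 0 := by
      rw [Matrix.eval_charpoly]
      by_contra hne
      have hu : IsUnit (Matrix.scalar (Fin 3) c - M) :=
        (Matrix.isUnit_iff_isUnit_det _).2 (Ne.isUnit hne)
      refine h0 (hu.mul_right_eq_zero.1 ?_)
      rw [sub_mul, hME, Matrix.scalar_apply, ← Matrix.smul_one_eq_diagonal, smul_mul_assoc, one_mul, sub_self]
    simpa [hP] using h
  obtain ⟨t, ht⟩ : ∃ t, t = T - c := ⟨_, rfl⟩
  have hTc : D.σ T = D.σ c + c * t := by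
    have : c * D.σ T = c * (D.σ c + c * t) := by rw [ht]; linear_combination hroot - hc1
    exact mul_left_cancel₀ hc0 this
  have hσt : D.σ t = c * t := by
    rw [ht, map_sub, hTc, ← ht]; ring
  -- squares
  have h2 : (2 : F) ≠ 0 := by
    have h : ((2 : ℕ) : F) ≠ 0 := by
      rw [Ne, CharP.cast_eq_zero_iff F p, Nat.prime_dvd_prime_iff_eq hpp Nat.prime_two]; exact hp2
    exact_mod_cast h
  have hchar : ringChar F ≠ 2 := by rw [ringChar.eq F p]; exact hp2
  obtain ⟨m, hm⟩ := D.hq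
  have hhalf : q ^ 2 / 2 = (q + 1) * m := by
    rw [hm, show (2 * m + 1) ^ 2 = 1 + ((2 * m + 1 + 1) * m) * 2 by ring, Nat.add_mul_div_right _ _ (by norm_num : 0 < 2)]
    norm_num
  have hsq : IsSquare (t ^ 2 - 4 * D.σ c) := by
    have e : t ^ 2 - 4 * D.σ c = D.σ c * (t * D.σ t - 4) := by
      rw [hσt]; linear_combination (-(t ^ 2)) * hc1
    rw [e]
    refine IsSquare.mul ?_ ?_
    · rw [FiniteField.isSquare_iff hchar (by simpa using hc0), D.hF, hhalf, pow_mul]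
      have : (D.σ c) ^ (q + 1) = 1 := by rw [← map_pow, (D.norm_iff c).1 hc1, map_one]
      rw [this, one_pow]
    · obtain ⟨y, hy⟩ : ∃ y, y = t * D.σ t - 4 := ⟨_, rfl⟩
      rw [← hy]
      rcases eq_or_ne y 0 with rfl | hy0
      · exact IsSquare.zero
      have hσy : D.σ y = y := by
        rw [hy, map_sub, map_mul, D.σσ, mul_comm, map_ofNat]
      have hy1 : y ^ (q - 1) = 1 := by
        refine mul_right_cancel₀ hy0 ?_
        rw [one_mul, ← pow_succ, Nat.sub_add_cancel (by omega), ← D.hσ, hσy]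
      rw [FiniteField.isSquare_iff hchar hy0, D.hF]
      refine pow_eq_one_of_dvd hy1 ⟨m + 1, ?_⟩
      rw [hhalf, hm, Nat.add_sub_cancel]; ring
  obtain ⟨w, hw⟩ := hsq
  obtain ⟨μ, hμ⟩ : ∃ μ, μ = (t + w) / 2 := ⟨_, rfl⟩
  obtain ⟨ν, hν⟩ : ∃ ν, ν = (t - w) / 2 := ⟨_, rfl⟩
  have hμν : μ + ν = t := by rw [hμ, hν]; field_simp; ring
  have hμν' : μ * ν = D.σ c := by
    rw [hμ, hν]; field_simp; linear_combination hw
  have hCH : aeval M ((X - C c) * (X - C μ) * (X - C ν)) = 0 := by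
    have e : (X - C c) * (X - C μ) * (X - C ν) = M.charpoly := by
      rw [hP, hTc, show T = c + (μ + ν) by rw [hμν, ht]; ring, ← hμν, ← hμν']
      simp only [map_add, map_mul]
      have hprod : C c * (C μ * C ν) = (1 : F[X]) := by
        rw [← map_mul, ← map_mul, hμν', mul_comm, hc1, map_one]
      linear_combination (-1 : F[X]) * hprod
    rw [e]; exact M.aeval_self_charpoly
  have hμ0 : μ ≠ 0 := fun h => by rw [h, zero_mul, eq_comm] at hμν'; simp [hc0] at hμν'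
  have hν0 : ν ≠ 0 := fun h => by rw [h, mul_zero, eq_comm] at hμν'; simp [hc0] at hμν'
  have hdd : d ∣ q + 1 := hd ▸ Nat.gcd_dvd_right 3 (q + 1)
  -- case split
  have hcases : (D.σ μ * μ = 1 ∧ D.σ ν * ν = 1) ∨ (D.σ μ * μ ≠ 1 ∧ D.σ μ * ν = 1) := by
    have ha : μ * (D.σ μ) = 1 ∨ ν * (D.σ μ) = 1 := by
      have h1 : μ ^ 2 - t * μ + D.σ c = 0 := by linear_combination μ * hμν - hμν'
      have h2 := congrArg D.σ h1
      simp only [map_add, map_sub, map_mul, map_pow, map_zero, hσt, D.σσ] at h2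
      have : (μ * D.σ μ - 1) * (ν * D.σ μ - 1) = 0 := by
        linear_combination (D.σ c) * h2 + (D.σ μ) ^ 2 * hμν' - (D.σ μ) * hμν + (t * D.σ μ - 1) * hc1
      exact (mul_eq_zero.1 this).imp sub_eq_zero.1 sub_eq_zero.1
    by_cases hN : D.σ μ * μ = 1
    · refine Or.inl ⟨hN, ?_⟩
      have := congrArg D.σ hμν'
      rw [D.σσ, map_mul] at this
      calc D.σ ν * ν = (D.σ ν * ν) * (D.σ μ * μ) := by rw [hN, mul_one]
        _ = (D.σ μ * D.σ ν) * (μ * ν) := by ring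
        _ = 1 := by rw [this, hμν', mul_comm, hc1]
    · refine Or.inr ⟨hN, ?_⟩
      rcases ha with h | h
      · exact absurd (mul_comm μ _ ▸ h) hN
      · rwa [mul_comm]
  rcases hcases with ⟨hμ1, hν1⟩ | ⟨hμ1, hνμ⟩
  · rw [D.norm_iff] at hμ1 hν1
    have hcq := (D.norm_iff c).1 hc1
    have hprod : c * μ * ν = 1 := by rw [mul_assoc, hμν', mul_comm, hc1]
    have two : ∀ a b : F, a ^ (q + 1) = 1 → a * a * b = 1 →
        a ^ ((q + 1) / d) = b ^ ((q + 1) / d) := fun a b ha hab => by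
      have hk : q + 1 ∣ 3 * ((q + 1) / d) :=
        dvd_three_mul hd (by rw [Nat.mul_div_cancel' hdd])
      have ha0 : a ≠ 0 := fun h => by rw [h] at hab; simp at hab
      have h3 : a ^ (3 * ((q + 1) / d)) = 1 := pow_eq_one_of_dvd ha hk
      refine mul_left_cancel₀ (pow_ne_zero ((q + 1) / d) (mul_ne_zero ha0 ha0)) ?_
      rw [← mul_pow (a * a) b, hab, one_pow, ← h3]; ring
    by_cases hdist : c ≠ μ ∧ c ≠ ν ∧ μ ≠ ν
    · left
      refine orderOf_dvd_of_pow_eq_one ((D.psu_pow_iff s _).2 ⟨1, ?_⟩)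
      rw [← hM]
      exact pow_scalar_of_distinct hCH hdist.1 hdist.2.1 hdist.2.2 hcq hμ1 hν1
    · right; left
      rw [Nat.mul_div_assoc _ hdd, mul_comm]
      refine orderOf_dvd_of_pow_eq_one ((D.psu_pow_iff s _).2 ?_)
      rw [← hM]
      simp only [not_and_or, ne_eq, not_not] at hdist
      rcases hdist with h | h | h
      · exact ⟨_, pow_scalar_of_roots p hp3 hCH rfl (by rw [h])
          (two c ν hcq (by rw [← hprod, h])).symm⟩
      · exact ⟨_, pow_scalar_of_roots p hp3 hCH rfl (two c μ hcq (by rw [← hprod, h]; ring)).symm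
          (by rw [h])⟩
      · exact ⟨_, pow_scalar_of_roots p hp3 hCH (two μ c hμ1 (by rw [← hprod, h]; ring)).symm rfl (by rw [h])⟩
  · right; right
    refine orderOf_dvd_of_pow_eq_one ((D.psu_pow_iff s _).2 ⟨μ ^ ((q ^ 2 - 1) / d), ?_⟩)
    rw [← hM]
    obtain ⟨k, hk⟩ : ∃ k, k = (q ^ 2 - 1) / d := ⟨_, rfl⟩
    rw [← hk]
    have hdd2 : d ∣ q ^ 2 - 1 := hdd.trans ⟨q - 1, by simpa using Nat.sq_sub_sq q 1⟩
    obtain ⟨e3, eq1⟩ := D.dvd_pair hd hμ0 (k := k) (by rw [hk, Nat.mul_div_cancel' hdd2])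
    have hσμ : D.σ μ ≠ 0 := left_ne_zero_of_mul_eq_one hνμ
    have hcμ : c * μ = D.σ μ := by
      refine mul_right_cancel₀ hν0 ?_
      rw [mul_assoc, hμν', mul_comm, hc1, hνμ]
    refine pow_scalar_of_distinct hCH (fun h => hμ1 (h ▸ hc1)) (fun h => hμ1 ?_) (fun h => hμ1 ?_) ?_ rfl ?_
    · have h' : D.σ ν * μ = 1 := by
        have := congrArg D.σ hνμ
        rw [map_mul, D.σσ, map_one, mul_comm] at this
        exact this
      rw [h] at hc1
      calc D.σ μ * μ = (D.σ μ * μ) * (D.σ ν * ν) := by rw [hc1, mul_one]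
        _ = (D.σ μ * ν) * (D.σ ν * μ) := by ring
        _ = 1 := by rw [hνμ, h', one_mul]
    · rwa [← h] at hνμ
    · refine mul_right_cancel₀ (pow_ne_zero k hμ0) ?_
      rw [← mul_pow, hcμ, D.hσ, ← pow_mul]
      refine mul_right_cancel₀ (pow_ne_zero k hμ0) ?_
      rw [← pow_add, show q * k + k = (q + 1) * k by ring, eq1, ← e3]
      ring
    · refine mul_left_cancel₀ (pow_ne_zero k hσμ) ?_
      rw [← mul_pow, hνμ, one_pow, ← eq1, D.hσ, ← pow_mul, ← pow_add]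
      congr 1; ring

end Data

end Setup

/-- Commuting elements of orders `p` and `r` do not coexist in `SL₃`. -/
theorem eq_one_of_commute_unipotent [Fintype F] (p r : ℕ) [Fact p.Prime] [CharP F p] (hp3 : 3 ≤ p)
    (hrp : r.Coprime p) (hr : r.Coprime (Fintype.card F ^ 2 - 1)) {u w : M3} (hu : u ^ p = 1) (hu1 : u ≠ 1)
    (hw : w ^ r = 1) (hcomm : Commute u w) : w = 1 := by
  obtain ⟨N, hN⟩ : ∃ N : Module.End F (Fin 3 → F), N = Matrix.toLin' (u - 1) := ⟨_, rfl⟩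
  have hN0 : N ≠ 0 := fun h => hu1 (sub_eq_zero.1 (Matrix.toLin'.injective (hN ▸ h.trans (map_zero _).symm)))
  have hnil : (u - 1) ^ p = 0 := by
    rw [sub_pow_char_of_commute (p := p) (Commute.one_right u), hu, one_pow, sub_self]
  have hinv : ∀ x, Matrix.toLin' w (N x) = N (Matrix.toLin' w x) := fun x => by
    rw [hN, ← Matrix.toLin'_mul_apply, ← Matrix.toLin'_mul_apply,
      ((hcomm.sub_left (Commute.one_left w))).eq]
  have hkerne : LinearMap.ker N ≠ ⊥ := by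
    intro h
    have hu' : IsUnit (u - 1) := by
      rw [← Matrix.mulVec_injective_iff_isUnit]
      have := LinearMap.ker_eq_bot.1 h
      rwa [hN] at this
    exact (hu'.pow p).ne_zero hnil
  have hrn := LinearMap.finrank_range_add_finrank_ker N
  rw [Module.finrank_fintype_fun_eq_card, Fintype.card_fin] at hrn
  obtain ⟨L, hL1, hLinv⟩ : ∃ L : Submodule F (Fin 3 → F), Module.finrank F L = 1 ∧
      ∀ x ∈ L, Matrix.toLin' w x ∈ L := by
    have h1 : 1 ≤ Module.finrank F (LinearMap.ker N) := Submodule.one_le_finrank_iff.2 hkerne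
    have h2 : 1 ≤ Module.finrank F (LinearMap.range N) :=
      Submodule.one_le_finrank_iff.2 fun h => hN0 (LinearMap.range_eq_bot.1 h)
    rcases (show Module.finrank F (LinearMap.ker N) = 1 ∨ Module.finrank F (LinearMap.range N) = 1 by omega)
      with h | h
    · exact ⟨_, h, fun x hx => by
        rw [LinearMap.mem_ker] at hx ⊢
        rw [← hinv, hx, map_zero]⟩
    · exact ⟨_, h, fun x hx => by
        obtain ⟨y, rfl⟩ := hx
        exact ⟨_, (hinv y).symm⟩⟩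
  obtain ⟨⟨v, hvL⟩, hv0, hspan⟩ := finrank_eq_one_iff'.1 hL1
  have hv : v ≠ 0 := fun h => hv0 (Subtype.ext h)
  obtain ⟨l, hl⟩ := hspan ⟨_, hLinv v hvL⟩
  have hl' : Matrix.toLin' w v = l • v := (congrArg Subtype.val hl).symm
  have hpow : ∀ i : ℕ, Matrix.toLin' (w ^ i) v = l ^ i • v := by
    intro i
    induction i with
    | zero => simp
    | succ i ih => rw [pow_succ', Matrix.toLin'_mul_apply, ih, map_smul, hl', smul_smul, pow_succ]
  have hlr : l ^ r = 1 := by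
    have h := hpow r
    rw [hw, Matrix.toLin'_one, LinearMap.id_apply] at h
    exact (sub_eq_zero.1 ((smul_eq_zero.1 (show (l ^ r - 1) • v = 0 by rw [sub_smul, one_smul, ← h, sub_self])).resolve_right hv))
  have hcard : 1 ≤ Fintype.card F := Fintype.card_pos
  have hdiv : Fintype.card F - 1 ∣ Fintype.card F ^ 2 - 1 :=
    ⟨Fintype.card F + 1, by rw [mul_comm]; simpa using Nat.sq_sub_sq (Fintype.card F) 1⟩
  have hl1 : l = 1 := by
    have hl0 : l ≠ 0 := by
      rintro rfl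
      rcases Nat.eq_zero_or_pos r with rfl | h
      · simp only [Nat.coprime_zero_left] at hrp
        exact (Fact.out : p.Prime).ne_one hrp
      · rw [zero_pow (by omega)] at hlr; exact zero_ne_one hlr
    rw [← orderOf_eq_one_iff]
    exact Nat.eq_one_of_dvd_coprimes hr (orderOf_dvd_of_pow_eq_one hlr)
      ((orderOf_dvd_of_pow_eq_one (FiniteField.pow_card_sub_one_eq_one l hl0)).trans hdiv)
  have hroot : w.charpoly.IsRoot 1 := by
    rw [IsRoot.def, Matrix.eval_charpoly]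
    refine Matrix.exists_mulVec_eq_zero_iff.1 ⟨v, hv, ?_⟩
    rw [Matrix.sub_mulVec, map_one, Matrix.one_mulVec, ← Matrix.toLin'_apply w v, hl', hl1, one_smul, sub_self]
  obtain ⟨G, hG⟩ := dvd_iff_isRoot.2 hroot
  have hG2 : G.natDegree = 2 := by
    have hG0 : G ≠ 0 := fun h => w.charpoly_monic.ne_zero (by rw [hG, h, mul_zero])
    have := congrArg natDegree hG
    rw [Matrix.charpoly_natDegree_eq_dim, Fintype.card_fin, natDegree_mul (X_sub_C_ne_zero 1) hG0,
      natDegree_X_sub_C] at this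
    omega
  have hr0 : r ≠ 0 := by
    rintro rfl
    simp only [Nat.coprime_zero_left] at hrp
    exact (Fact.out : p.Prime).ne_one hrp
  have hnilw : IsNilpotent (aeval w (X - C 1 : F[X])) := by
    refine Spectra.isNilpotent_aeval w fun f hf hfd => ?_
    have hfr : f ∣ X ^ r - 1 := hfd.trans (minpoly.dvd F w (by simp [hw]))
    have hfc : f ∣ w.charpoly := hfd.trans w.minpoly_dvd_charpoly
    rw [hG] at hfc
    rcases hf.prime.dvd_or_dvd hfc with h | h
    · exact h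
    have hfd2 : f.natDegree ≤ 2 := hG2 ▸ natDegree_le_of_dvd h (fun hG0 => by rw [hG0] at hG2; simp at hG2)
    have hfQ : f ∣ X ^ (Fintype.card F ^ 2 - 1 + 1) - X := by
      refine Spectra.irreducible_dvd_X_pow_succ_sub_X hf ?_
      rw [Nat.card_eq_fintype_card]
      rcases (show f.natDegree = 1 ∨ f.natDegree = 2 by have := hf.natDegree_pos; omega) with e | e <;> rw [e]
      · simpa using hdiv
    have : Fact (Irreducible f) := ⟨hf⟩
    have e1 : AdjoinRoot.root f ^ r = 1 := by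
      have := AdjoinRoot.mk_eq_zero.2 hfr
      rwa [map_sub, map_pow, map_one, AdjoinRoot.mk_X, sub_eq_zero] at this
    have hne : AdjoinRoot.root f ≠ 0 := fun h0 => by
      rw [h0, zero_pow hr0] at e1; exact zero_ne_one e1
    have e2 : AdjoinRoot.root f ^ (Fintype.card F ^ 2 - 1) = 1 := by
      have := AdjoinRoot.mk_eq_zero.2 hfQ
      rw [map_sub, map_pow, AdjoinRoot.mk_X, sub_eq_zero, pow_succ] at this
      exact mul_right_cancel₀ hne (by rw [this, one_mul])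
    have e3 : AdjoinRoot.root f = 1 := orderOf_eq_one_iff.1
      (Nat.eq_one_of_dvd_coprimes hr (orderOf_dvd_of_pow_eq_one e1) (orderOf_dvd_of_pow_eq_one e2))
    rw [← AdjoinRoot.mk_eq_zero, map_sub, AdjoinRoot.mk_X, e3, map_one, map_one, sub_self]
  have h3 := Spectra.pow_card_eq_zero_of_isNilpotent hnilw
  rw [Fintype.card_fin, aeval_X_sub_C, one_smul] at h3
  have hwp := pow_eq_zero_of_le hp3 h3
  rw [sub_pow_char_of_commute (p := p) (Commute.one_right w), one_pow, sub_eq_zero] at hwp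
  rw [← orderOf_eq_one_iff]
  exact Nat.eq_one_of_dvd_coprimes hrp (orderOf_dvd_of_pow_eq_one hw) (orderOf_dvd_of_pow_eq_one hwp)

end Cfsg.Agent.LBPSU3
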