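/-
The commuting graph on the involutions of SU_3(q), q odd.
-/
import Cfsg.Agent.Lib.LinearBlock.SU3Involutions

set_option autoImplicit false

namespace Cfsg.Agent.SU3Inv

open Matrix Hermitian Module

variable {F : Type*} [Field F] [Fintype F] {q : ℕ} (D : Data F q)

local notation "H" => Cfsg.hermForm 3 F q
local notation "V" => (Fin 3 → F)

include D in
/-- A common perpendicular point exists when the two points do not span a tangent line. -/
theorem exists_perp {v w : V} (hv : H v v = 1) (hw : H w w = 1) (hn : H w v * D.σ (H w v) ≠ 1) :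
    ∃ u : V, H u u = 1 ∧ H u v = 0 ∧ H u w = 0 := by
  have hh := isHerm D
  set c := H w v with hc
  let d : V := w - c • v
  have hdv : H d v = 0 := by simp only [d]; rw [hh.sub_left, hh.smul_left, hv, mul_one, ← hc, sub_self]
  have hdd : H d d = 1 - c * D.σ c := by
    have h1 : H d w = 1 - c * D.σ c := by
      simp only [d]; rw [hh.sub_left, hh.smul_left, hw, hh.symm w v, ← hc]
    have h3 : H d d + D.σ c * H d v = H d w := by
      rw [← hh.smul_right, ← hh.add_right]; simp [d]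
    rw [hdv, mul_zero, add_zero] at h3
    rw [h3, h1]
  have hne : H d d ≠ 0 := by rw [hdd]; exact sub_ne_zero.2 (Ne.symm hn)
  obtain ⟨a, ha⟩ := exists_norm D.hne D.hinv
    (show D.σ (H d d)⁻¹ = (H d d)⁻¹ by rw [map_inv₀, hh.self_fixed])
  have ha0 : a ≠ 0 := by rintro rfl; rw [zero_mul] at ha; exact inv_ne_zero hne ha.symm
  have he : H (a • d) (a • d) = 1 := by
    rw [hh.smul_left, hh.smul_right, ← mul_assoc, ha, inv_mul_cancel₀ hne]
  have hve : H v (a • d) = 0 := by rw [hh.smul_right, hh.eq_zero_comm.1 hdv, mul_zero]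
  obtain ⟨u, hu, huv, hud, -⟩ := exists_third D hv he hve
  refine ⟨u, hu, huv, ?_⟩
  rw [hh.smul_right, mul_eq_zero] at hud
  have hud' : H u d = 0 := hud.resolve_left ((map_ne_zero D.σ).2 ha0)
  have hw' : w = d + c • v := by simp [d]
  rw [hw', hh.add_right, hh.smul_right, hud', huv, mul_zero, add_zero]

include D in
theorem same_of_tangent {v w u : V} (hv : H v v = 1) (hw : H w w = 1) (hu : H u u = 1) (huv : H u v = 0)
    (huw : H u w = 0) (hn : H w v * D.σ (H w v) = 1) : Same v w := by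
  have hh := isHerm D
  obtain ⟨s, hs, hsv, hsu, -⟩ := exists_third D hv hu (hh.eq_zero_comm.1 huv)
  let b : Fin 3 → V := ![v, u, s]
  have hb : ∀ i j, H (b i) (b j) = if i = j then 1 else 0 := by
    intro i j
    fin_cases i <;> fin_cases j <;>
      simp [b, hv, hu, hs, huv, hsv, hsu, hh.eq_zero_comm.1 huv, hh.eq_zero_comm.1 hsv, hh.eq_zero_comm.1 hsu]
  have h : w = H w v • v + H w s • s := by
    simpa [b, Fin.sum_univ_three, hh.eq_zero_comm.1 huw] using frame_expand D hb w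
  refine ⟨H w v, ?_⟩
  have h1 : H w w = H w v * D.σ (H w v) + H w s * D.σ (H w s) := by
    conv_lhs => arg 5; rw [h]
    rw [hh.add_right, hh.smul_right, hh.smul_right]; ring
  rw [hn, hw, left_eq_add, mul_eq_zero, map_eq_zero, or_self] at h1
  rwa [h1, zero_smul, add_zero] at h

include D in
/-- Coordinates with respect to a frame. -/
theorem exists_coords {v : V} (hv : H v v = 1) : ∃ ψ : V ≃ₗ[F] V, (∀ a b, H (ψ a) (ψ b) = H a b) ∧
    (∀ a, H (ψ a) v = a 0) ∧ ∀ a, Same v (ψ a) ↔ Fin.tail a = 0 := by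
  have hh := isHerm D
  obtain ⟨b, hb, hb0⟩ := exists_frame D hv
  have hψ : ∀ a : V, (frameBasis D hb).equivFun.symm a = ∑ i, a i • b i := fun a => by
    rw [Basis.equivFun_symm_apply]
    exact Finset.sum_congr rfl fun i _ => by rw [show (frameBasis D hb) i = b i from Basis.mk_apply _ _ i]
  have h0 : ∀ a, H ((frameBasis D hb).equivFun.symm a) v = a 0 := fun a => by
    rw [hψ, hh.sum_left, ← hb0]
    simp [hh.smul_left, hb]
  refine ⟨(frameBasis D hb).equivFun.symm, fun a c => ?_, h0, fun a => ?_⟩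
  · rw [hψ, hψ]
    conv_rhs => rw [pi_eq_sum_univ' a, pi_eq_sum_univ' c]
    exact hh.map_sum_eq (fun i j => by rw [hb, HermStd.hermForm_single D.hσ]) _ _
  · constructor
    · rintro ⟨c, hc⟩
      have hv' : v = (frameBasis D hb).equivFun.symm (Pi.single 0 1) := by
        rw [hψ]; simp [Pi.single_apply, ite_smul, hb0]
      rw [hv', ← map_smul] at hc
      rw [(frameBasis D hb).equivFun.symm.injective hc]
      funext i
      simp [Fin.tail]
    · intro ht
      refine ⟨a 0, ?_⟩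
      have h1 : a 1 = 0 := congrFun ht 0
      have h2 : a 2 = 0 := congrFun ht 1
      rw [hψ, Fin.sum_univ_three, h1, h2, hb0]
      simp

include D in
theorem card_perp {v : V} (hv : H v v = 1) :
    Nat.card {w : {w : V // H w w = 1} // H w.1 v = 0} + q = q ^ 3 := by
  obtain ⟨ψ, hψ, hψ0, -⟩ := exists_coords D hv
  have hcons := fun (a : F) (u : Fin 2 → F) => HermStd.hermForm_cons D.hne D.hinv D.hσ a a u u
  let e : {u : Fin 2 → F // Cfsg.hermForm 2 F q u u = 1} ≃ {w : {w : V // H w w = 1} // H w.1 v = 0} :=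
    { toFun := fun u => ⟨⟨ψ (Fin.cons 0 u.1), by rw [hψ, hcons, u.2, zero_mul, zero_add]⟩, by
        show H (ψ (Fin.cons 0 u.1)) v = 0
        rw [hψ0, Fin.cons_zero]⟩
      invFun := fun w => ⟨Fin.tail (ψ.symm w.1.1), by
        have h0 : ψ.symm w.1.1 0 = 0 := by
          rw [← hψ0 (ψ.symm w.1.1), LinearEquiv.apply_symm_apply]; exact w.2
        have h1 := w.1.2
        rw [← ψ.apply_symm_apply w.1.1, hψ, ← Fin.cons_self_tail (ψ.symm w.1.1), hcons, h0, zero_mul,
          zero_add] at h1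
        exact h1⟩
      left_inv := fun u => Subtype.ext (by simp)
      right_inv := fun w => by
        have h0 : ψ.symm w.1.1 0 = 0 := by
          rw [← hψ0 (ψ.symm w.1.1), LinearEquiv.apply_symm_apply]; exact w.2
        refine Subtype.ext (Subtype.ext ?_)
        show ψ (Fin.cons 0 (Fin.tail (ψ.symm w.1.1))) = w.1.1
        conv_lhs => arg 2; arg 1; rw [← h0]
        rw [Fin.cons_self_tail, LinearEquiv.apply_symm_apply] }
  rw [← Nat.card_congr e]
  have h := HermStd.card_norm_mul D.hne D.hinv D.hσ 2 D.hfix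
  have hq := two_le D
  apply Nat.cast_injective (R := ℤ)
  refine mul_left_cancel₀ (show (q : ℤ) ≠ 0 by omega) ?_
  push_cast at h ⊢
  linear_combination h

include D in
theorem card_tangent {v : V} (hv : H v v = 1) :
    Nat.card {w : {w : V // H w w = 1} // H w.1 v * D.σ (H w.1 v) = 1 ∧ ¬ Same v w.1} + (q + 1) * (q + 1) =
      (q + 1) * (q ^ 3 + q ^ 2) := by
  obtain ⟨ψ, hψ, hψ0, hψs⟩ := exists_coords D hv
  have hcons := fun (a : F) (u : Fin 2 → F) => HermStd.hermForm_cons D.hne D.hinv D.hσ a a u u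
  let I := {u : Fin 2 → F // Cfsg.hermForm 2 F q u u = 0}
  let z : I := ⟨0, by simp [Cfsg.hermForm]⟩
  let e : HermSU.normOne D.σ × {u : I // u ≠ z} ≃
      {w : {w : V // H w w = 1} // H w.1 v * D.σ (H w.1 v) = 1 ∧ ¬ Same v w.1} :=
    { toFun := fun x => ⟨⟨ψ (Fin.cons ((x.1 : Fˣ) : F) x.2.1.1), by
          rw [hψ, hcons, x.2.1.2, add_zero]; exact x.1.2⟩, by
          show H (ψ (Fin.cons _ _)) v * _ = 1
          rw [hψ0, Fin.cons_zero]; exact x.1.2, by
          show ¬ Same v (ψ (Fin.cons _ _))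
          rw [hψs, Fin.tail_cons]
          exact fun h => x.2.2 (Subtype.ext h)⟩
      invFun := fun w =>
        have h0 : ψ.symm w.1.1 0 = H w.1.1 v := by rw [← hψ0 (ψ.symm w.1.1), LinearEquiv.apply_symm_apply]
        (⟨Units.mk0 (ψ.symm w.1.1 0) (by rw [h0]; exact left_ne_zero_of_mul_eq_one w.2.1), by
            show ψ.symm w.1.1 0 * D.σ (ψ.symm w.1.1 0) = 1
            rw [h0]; exact w.2.1⟩,
          ⟨⟨Fin.tail (ψ.symm w.1.1), by
            have h1 := w.1.2
            rw [← ψ.apply_symm_apply w.1.1, hψ, ← Fin.cons_self_tail (ψ.symm w.1.1), hcons, h0, w.2.1] at h1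
            exact add_eq_left.1 h1⟩, fun h => w.2.2 (by
            rw [← ψ.apply_symm_apply w.1.1, hψs]; exact congrArg Subtype.val h)⟩)
      left_inv := fun x => by
        refine Prod.ext (Subtype.ext (Units.ext ?_)) (Subtype.ext (Subtype.ext ?_)) <;> simp
      right_inv := fun w => by
        refine Subtype.ext (Subtype.ext ?_)
        show ψ (Fin.cons _ (Fin.tail (ψ.symm w.1.1))) = w.1.1
        rw [Units.val_mk0, Fin.cons_self_tail, LinearEquiv.apply_symm_apply] }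
  classical
  rw [← Nat.card_congr e, Nat.card_prod, HermSU.card_normOne D.hne D.hinv D.hfix]
  have hI := HermStd.card_iso_mul D.hne D.hinv D.hσ 2 D.hfix
  have h1 : Nat.card {u : I // u ≠ z} + 1 = Nat.card I := by
    rw [Nat.card_eq_fintype_card, Nat.card_eq_fintype_card, Fintype.card_subtype_compl, Fintype.card_subtype_eq]
    have : 0 < Fintype.card I := Fintype.card_pos_iff.2 ⟨z⟩
    omega
  have hq := two_le D
  apply Nat.cast_injective (R := ℤ)
  refine mul_left_cancel₀ (show (q : ℤ) ≠ 0 by omega) ?_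
  have h1' : ((Nat.card {u : I // u ≠ z} : ℤ)) + 1 = Nat.card I := by exact_mod_cast h1
  push_cast at hI h1' ⊢
  linear_combination (q + 1 : ℤ) * q * h1' + (q + 1 : ℤ) * hI

theorem near_iff (v w : {v : V // H v v = 1}) :
    (refl D w ≠ refl D v ∧ Commute (refl D v) (refl D w)) ↔ H w.1 v.1 = 0 := by
  have hh := isHerm D
  rw [commute_iff, ne_comm, Ne, refl_eq_iff]
  constructor
  · rintro ⟨h1, h | h⟩
    · exact hh.eq_zero_comm.1 h
    · exact absurd h h1
  · intro h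
    refine ⟨?_, Or.inl (hh.eq_zero_comm.1 h)⟩
    rintro ⟨c, hc⟩
    have h1 := w.2
    rw [hc, hh.smul_left] at h
    rw [v.2, mul_one] at h
    rw [hc, h, zero_smul, hh.zero_left] at h1
    exact zero_ne_one h1

theorem far_iff (v w : {v : V // H v v = 1}) :
    (¬ Commute (refl D v) (refl D w) ∧ ∀ y : ↥(Cfsg.SU 3 F q), y ≠ 1 → y * y = 1 →
      ¬ (Commute (refl D v) y ∧ Commute y (refl D w))) ↔
      H w.1 v.1 * D.σ (H w.1 v.1) = 1 ∧ ¬ Same v.1 w.1 := by
  have hh := isHerm D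
  rw [commute_iff]
  constructor
  · rintro ⟨h1, h⟩
    push Not at h1
    refine ⟨?_, h1.2⟩
    by_contra hn
    obtain ⟨u, hu, huv, huw⟩ := exists_perp D v.2 w.2 hn
    exact h (refl D ⟨u, hu⟩) (refl_ne_one D _) (refl_sq D _)
      ⟨(commute_iff D _ _).2 (Or.inl (hh.eq_zero_comm.1 huv)), (commute_iff D _ _).2 (Or.inl huw)⟩
  · rintro ⟨hn, hs⟩
    have h0 : H v.1 w.1 ≠ 0 := fun h => by
      rw [hh.eq_zero_comm.1 h, zero_mul] at hn; exact zero_ne_one hn
    refine ⟨fun h => h.elim h0 hs, fun y hy hy2 ⟨hc1, hc2⟩ => ?_⟩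
    obtain ⟨u, rfl⟩ := refl_surj D y hy hy2
    rcases (commute_iff D v u).1 hc1 with h1 | h1
    · rcases (commute_iff D u w).1 hc2 with h3 | h3
      · exact hs (same_of_tangent D v.2 w.2 u.2 (hh.eq_zero_comm.1 h1) h3 hn)
      · rw [(refl_eq_iff D u w).2 h3] at hc1
        exact ((commute_iff D v w).1 hc1).elim h0 hs
    · rw [← (refl_eq_iff D v u).2 h1] at hc2
      exact ((commute_iff D v w).1 hc2).elim h0 hs

omit [Field F] [Fintype F] in
theorem card_split {α : Type*} [Finite α] (P Q : α → Prop) :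
    Nat.card {x // P x ∧ Q x} + Nat.card {x // P x ∧ ¬ Q x} = Nat.card {x // P x} := by
  classical
  have := Fintype.ofFinite α
  simp only [Nat.card_eq_fintype_card, Fintype.card_subtype]
  rw [← Finset.filter_filter, ← Finset.filter_filter]
  exact Finset.card_filter_add_card_filter_not _

include D in
theorem counts (t : ↥(Cfsg.SU 3 F q)) (ht : t ≠ 1) (ht2 : t * t = 1) :
    Nat.card {x : ↥(Cfsg.SU 3 F q) // x ≠ 1 ∧ x * x = 1 ∧ x ≠ t ∧ Commute t x} = q * (q - 1) ∧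
    Nat.card {x : ↥(Cfsg.SU 3 F q) // x ≠ 1 ∧ x * x = 1 ∧ ¬ Commute t x ∧
        ∃ y : ↥(Cfsg.SU 3 F q), y ≠ 1 ∧ y * y = 1 ∧ Commute t y ∧ Commute y x} = q * (q - 2) * (q ^ 2 - 1) ∧
    Nat.card {x : ↥(Cfsg.SU 3 F q) // x ≠ 1 ∧ x * x = 1 ∧ ¬ Commute t x ∧
        ∀ y : ↥(Cfsg.SU 3 F q), y ≠ 1 → y * y = 1 → ¬ (Commute t y ∧ Commute y x)} = (q + 1) * (q ^ 2 - 1) := by
  classical
  obtain ⟨v, rfl⟩ := refl_surj D t ht ht2
  set t := refl D v
  have hq := two_le D
  have hq2 : 1 ≤ q ^ 2 := Nat.one_le_pow _ _ (by omega)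
  have hsub : q ≤ q ^ 2 := Nat.le_self_pow (by norm_num) q
  have hA := card_pred D (fun x => x ≠ t ∧ Commute t x)
  have hC := card_pred D (fun x => ¬ Commute t x ∧
      ∀ y : ↥(Cfsg.SU 3 F q), y ≠ 1 → y * y = 1 → ¬ (Commute t y ∧ Commute y x))
  rw [Nat.card_congr (Equiv.subtypeEquivRight fun w => near_iff D v w)] at hA
  rw [Nat.card_congr (Equiv.subtypeEquivRight fun w => far_iff D v w)] at hC
  have hp := card_perp D v.2
  have ht' := card_tangent D v.2
  rw [hA] at hp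
  rw [hC] at ht'
  simp only [and_assoc] at hp ht'
  have eA : Nat.card {x : ↥(Cfsg.SU 3 F q) // x ≠ 1 ∧ x * x = 1 ∧ x ≠ t ∧ Commute t x} = q * (q - 1) := by
    apply Nat.cast_injective (R := ℤ)
    refine mul_left_cancel₀ (show (q : ℤ) + 1 ≠ 0 by omega) ?_
    have hp' := congrArg (Nat.cast : ℕ → ℤ) hp
    push_cast [Nat.cast_sub (show 1 ≤ q by omega)] at hp' ⊢
    linear_combination hp'
  have eC : Nat.card {x : ↥(Cfsg.SU 3 F q) // x ≠ 1 ∧ x * x = 1 ∧ ¬ Commute t x ∧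
      ∀ y : ↥(Cfsg.SU 3 F q), y ≠ 1 → y * y = 1 → ¬ (Commute t y ∧ Commute y x)} = (q + 1) * (q ^ 2 - 1) := by
    apply Nat.cast_injective (R := ℤ)
    refine mul_left_cancel₀ (show (q : ℤ) + 1 ≠ 0 by omega) ?_
    have h' := congrArg (Nat.cast : ℕ → ℤ) ht'
    push_cast [Nat.cast_sub hq2] at h' ⊢
    linear_combination h'
  refine ⟨eA, ?_, eC⟩
  have hall := card_inv D
  have h1 := card_split (fun x : ↥(Cfsg.SU 3 F q) => x ≠ 1 ∧ x * x = 1) (fun x => Commute t x)
  have h2 := card_split (fun x : ↥(Cfsg.SU 3 F q) => x ≠ 1 ∧ x * x = 1 ∧ Commute t x) (fun x => x = t)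
  have h3 := card_split (fun x : ↥(Cfsg.SU 3 F q) => x ≠ 1 ∧ x * x = 1 ∧ ¬ Commute t x)
    (fun x => ∀ y : ↥(Cfsg.SU 3 F q), y ≠ 1 → y * y = 1 → ¬ (Commute t y ∧ Commute y x))
  have ht1 : Nat.card {x // (x ≠ 1 ∧ x * x = 1 ∧ Commute t x) ∧ x = t} = 1 := by
    refine Nat.card_eq_one_iff_exists.2 ⟨⟨t, ⟨ht, ht2, Commute.refl t⟩, rfl⟩, ?_⟩
    rintro ⟨x, -, hx⟩
    exact Subtype.ext hx
  rw [ht1, Nat.card_congr (Equiv.subtypeEquivRight (q := fun x => x ≠ 1 ∧ x * x = 1 ∧ x ≠ t ∧ Commute t x)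
    fun x => ⟨fun ⟨⟨a, b, c⟩, d⟩ => ⟨a, b, d, c⟩, fun ⟨a, b, c, d⟩ => ⟨⟨a, b, d⟩, c⟩⟩), eA] at h2
  simp only [and_assoc] at h1 h3
  rw [eC, Nat.card_congr (Equiv.subtypeEquivRight (p := fun x => x ≠ 1 ∧ x * x = 1 ∧ ¬ Commute t x ∧
      ¬ ∀ y : ↥(Cfsg.SU 3 F q), y ≠ 1 → y * y = 1 → ¬ (Commute t y ∧ Commute y x))
    (q := fun x => x ≠ 1 ∧ x * x = 1 ∧ ¬ Commute t x ∧
      ∃ y : ↥(Cfsg.SU 3 F q), y ≠ 1 ∧ y * y = 1 ∧ Commute t y ∧ Commute y x)
    fun x => by simp only [not_forall, not_not, exists_prop])] at h3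
  rw [← h2, ← h3, hall] at h1
  apply Nat.cast_injective (R := ℤ)
  have h1' := congrArg (Nat.cast : ℕ → ℤ) h1
  push_cast [Nat.cast_sub hsub, Nat.cast_sub (show 1 ≤ q by omega), Nat.cast_sub (show 2 ≤ q by omega),
    Nat.cast_sub hq2] at h1' ⊢
  linear_combination h1'

include D in
theorem diameter (t x : ↥(Cfsg.SU 3 F q)) (ht : t ≠ 1) (ht2 : t * t = 1) (hx : x ≠ 1) (hx2 : x * x = 1) :
    ∃ y z : ↥(Cfsg.SU 3 F q), y ≠ 1 ∧ y * y = 1 ∧ z ≠ 1 ∧ z * z = 1 ∧
      Commute t y ∧ Commute y z ∧ Commute z x := by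
  have hh := isHerm D
  obtain ⟨v, rfl⟩ := refl_surj D t ht ht2
  obtain ⟨w, rfl⟩ := refl_surj D x hx hx2
  obtain ⟨b, hb, hb0⟩ := exists_frame D v.2
  obtain ⟨y, hy, hyv, hn⟩ : ∃ y : V, H y y = 1 ∧ H v.1 y = 0 ∧ H w.1 y * D.σ (H w.1 y) ≠ 1 := by
    by_cases hv : H w.1 v.1 * D.σ (H w.1 v.1) = 1
    · by_contra hall
      push Not at hall
      have h1 := hall (b 1) (by rw [hb]; simp) (by rw [← hb0, hb]; simp)
      have h3 := hall (b 2) (by rw [hb]; simp) (by rw [← hb0, hb]; simp)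
      have h : H w.1 w.1 = ∑ i, H w.1 (b i) * D.σ (H w.1 (b i)) := by
        conv_lhs => arg 5; rw [frame_expand D hb w.1]
        rw [Fin.sum_univ_three, Fin.sum_univ_three]
        simp only [hh.add_right, hh.smul_right]
        ring
      rw [w.2, Fin.sum_univ_three, hb0, hv, h1, h3] at h
      exact D.h2 (by linear_combination -h)
    · obtain ⟨u, hu, huv, huw⟩ := exists_perp D v.2 w.2 hv
      exact ⟨u, hu, hh.eq_zero_comm.1 huv, by simp [hh.eq_zero_comm.1 huw]⟩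
  obtain ⟨z, hz, hzy, hzw⟩ := exists_perp D hy w.2 hn
  exact ⟨refl D ⟨y, hy⟩, refl D ⟨z, hz⟩, refl_ne_one D _, refl_sq D _, refl_ne_one D _, refl_sq D _,
    (commute_iff D _ _).2 (Or.inl hyv), (commute_iff D _ _).2 (Or.inl (hh.eq_zero_comm.1 hzy)),
    (commute_iff D _ _).2 (Or.inl hzw)⟩

end Cfsg.Agent.SU3Inv
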