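/-
Classes of involutions in SU_n(q), q even: determined by the rank of a - 1.
-/
import Cfsg.Agent.Lib.Classical.HermSU
import Mathlib.LinearAlgebra.Matrix.Rank
import Mathlib.LinearAlgebra.Matrix.SchurComplement
import Mathlib.LinearAlgebra.Projection

set_option autoImplicit false

namespace Cfsg.Agent.SUInv

open Matrix Module Hermitian

variable {F : Type*} [Field F] [Finite F] [CharP F 2] {n : ℕ} {σ : F →+* F}
  {h : (Fin n → F) → (Fin n → F) → F} (hh : IsHerm σ h)

local notation "V" => (Fin n → F)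

/-- The part `a - 1` of an involutory isometry `a`. -/
structure IsNil (h : (Fin n → F) → (Fin n → F) → F) (N : (Fin n → F) →ₗ[F] (Fin n → F)) : Prop where
  sq : ∀ v, N (N v) = 0
  adj : ∀ v w, h (N v) w = h v (N w)

include hh

omit [Finite F] [CharP F 2] in
theorem sum_right {ι : Type*} (s : Finset ι) (v : V) (x : ι → V) :
    h v (∑ i ∈ s, x i) = ∑ i ∈ s, h v (x i) := by
  rw [hh.symm, hh.sum_left, map_sum]
  exact Finset.sum_congr rfl fun i _ => (hh.symm _ _).symm

/-- An adapted family for `N`. -/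
theorem exists_adapted {N : V →ₗ[F] V} (hN : IsNil h N) {r : ℕ} (hr : finrank F (LinearMap.range N) = r) :
    ∃ x : Fin r → V, (∀ i j, h (x i) (N (x j)) = if i = j then 1 else 0) ∧ ∀ i j, h (x i) (x j) = 0 := by
  classical
  obtain ⟨W, hW⟩ := Submodule.exists_isCompl (LinearMap.ker N)
  have hdim : finrank F W = r := by
    have h1 := Submodule.finrank_add_eq_of_isCompl hW
    have h2 := LinearMap.finrank_range_add_finrank_ker N
    omega
  have hβ : IsHerm σ (fun a b : W => h a.1 (N b.1)) := by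
    refine ⟨hh.ne_id, hh.invol, fun a b v => hh.add_left _ _ _, fun c a v => hh.smul_left _ _ _, fun a b => ?_, fun a ha => ?_⟩
    · rw [← hh.symm, hN.adj]
    · have hz : N a.1 = 0 := hh.nondeg _ fun v => by
        obtain ⟨k, hk, w, hw, rfl⟩ := Submodule.mem_sup.1
          (show v ∈ LinearMap.ker N ⊔ W by rw [hW.sup_eq_top]; trivial)
        rw [hh.add_right, hN.adj _ k, LinearMap.mem_ker.1 hk, hh.zero_right, zero_add, hN.adj]
        exact ha ⟨w, hw⟩
      exact Subtype.ext ((Submodule.disjoint_def.1 hW.disjoint) a.1 hz a.2)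
  obtain ⟨z, hz⟩ := Hermitian.exists_orthonormal (n := r) hβ hdim
  choose t ht using fun i => exists_trace hh.ne_id hh.invol (hh.self_fixed (z i).1)
  let S : Fin r → Fin r → F := fun i j => if i < j then h (z i).1 (z j).1 else if i = j then t i else 0
  let w : Fin r → V := fun j => ∑ k, σ (S k j) • (z k).1
  have hw : ∀ i j, h (z i).1 (N (w j)) = S i j := by
    intro i j
    rw [map_sum, sum_right hh, Finset.sum_eq_single i]
    · rw [map_smul, hh.smul_right, hh.invol, show h (z i).1 (N (z i).1) = 1 from by simpa using hz i i, mul_one]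
    · intro k _ hk
      rw [map_smul, hh.smul_right, show h (z i).1 (N (z k).1) = 0 from by simpa [hk.symm] using hz i k, mul_zero]
    · exact fun h => absurd (Finset.mem_univ _) h
  refine ⟨fun i => (z i).1 + N (w i), fun i j => ?_, fun i j => ?_⟩
  · dsimp only
    rw [map_add, hN.sq, add_zero, hh.add_left, hN.adj, hN.sq, hh.zero_right, add_zero]
    exact hz i j
  · dsimp only
    rw [hh.add_left, hh.add_right, hh.add_right, hN.adj (w i) (N (w j)), hN.sq, hh.zero_right, add_zero, hw,
      hh.symm (z j).1 (N (w i)), hw]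
    rcases lt_trichotomy i j with hij | hij | hij
    · simp only [S, hij, not_lt.2 hij.le, hij.ne', if_true, if_false, map_zero, add_zero]
      exact CharTwo.add_self_eq_zero _
    · subst hij
      simp only [S, lt_irrefl, if_true, if_false]
      rw [add_assoc, ht]; exact CharTwo.add_self_eq_zero _
    · simp only [S, hij, not_lt.2 hij.le, hij.ne', if_true, if_false, add_zero]
      rw [← hh.symm]; exact CharTwo.add_self_eq_zero _

/-- Isometry carrying one operator to the other. -/
theorem exists_conj {N N' : V →ₗ[F] V} (hN : IsNil h N) (hN' : IsNil h N') {r : ℕ}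
    (hr : finrank F (LinearMap.range N) = r) (hr' : finrank F (LinearMap.range N') = r) :
    ∃ g : V ≃ₗ[F] V, (∀ u v, h (g u) (g v) = h u v) ∧ ∀ v, g (N v) = N' (g v) := by
  classical
  obtain ⟨x, hx, hxx⟩ := exists_adapted hh hN hr
  obtain ⟨y, hy, hyy⟩ := exists_adapted hh hN' hr'
  have hzero : ∀ {M : V →ₗ[F] V} (u : Fin r → V), IsNil h M → ∀ i j, h (M (u i)) (M (u j)) = 0 := fun u hM i j => by
    rw [hM.adj, hM.sq, hh.zero_right]
  have key : ∀ {M : V →ₗ[F] V}, IsNil h M → ∀ u : Fin r → V, (∀ i j, h (u i) (M (u j)) = if i = j then 1 else 0) →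
      (∀ i j, h (u i) (u j) = 0) → LinearIndependent F (Sum.elim u fun i => M (u i)) := by
    intro M hM u hu huu
    rw [Fintype.linearIndependent_iff]
    intro c hc
    rw [Fintype.sum_sum_type] at hc
    simp only [Sum.elim_inl, Sum.elim_inr] at hc
    rintro (i | i)
    · have h0 := congrArg (fun w => h w (M (u i))) hc
      simpa [hh.add_left, hh.sum_left, hh.smul_left, hu, hzero u hM, hh.zero_left] using h0
    · have h0 := congrArg (fun w => h w (u i)) hc
      have hMu : ∀ j, h (M (u j)) (u i) = if j = i then 1 else 0 := fun j => by rw [hM.adj, hu]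
      simpa [hh.add_left, hh.sum_left, hh.smul_left, huu, hMu, hh.zero_left] using h0
  have hlix := key hN x hx hxx
  have hliy := key hN' y hy hyy
  let e : Fin (r + r) ≃ Fin r ⊕ Fin r := finSumFinEquiv.symm
  obtain ⟨g, hg, hgb⟩ := hh.exists_iso_of_gram (x := Sum.elim x (fun i => N (x i)) ∘ e)
    (y := Sum.elim y (fun i => N' (y i)) ∘ e) (hlix.comp e e.injective) (hliy.comp e e.injective) (fun i j => by
      simp only [Function.comp_apply]
      rcases e i with a | a <;> rcases e j with b | b <;> simp only [Sum.elim_inl, Sum.elim_inr]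
      · rw [hxx, hyy]
      · rw [hx, hy]
      · rw [hN.adj, hN'.adj, hx, hy]
      · rw [hzero x hN, hzero y hN'])
  have hgx : ∀ i, g (x i) = y i := fun i => by simpa using hgb (e.symm (Sum.inl i))
  have hgNx : ∀ i, g (N (x i)) = N' (y i) := fun i => by simpa using hgb (e.symm (Sum.inr i))
  have hspan : ∀ (M : V →ₗ[F] V) (u : Fin r → V), LinearIndependent F (Sum.elim u fun i => M (u i)) →
      finrank F (LinearMap.range M) = r → ∀ v, M v ∈ Submodule.span F (Set.range fun i => M (u i)) := by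
    intro M u hli hrM v
    have hle : Submodule.span F (Set.range fun i => M (u i)) ≤ LinearMap.range M :=
      Submodule.span_le.2 (by rintro _ ⟨i, rfl⟩; exact ⟨u i, rfl⟩)
    rw [Submodule.eq_of_le_of_finrank_eq hle (by
      rw [finrank_span_eq_card (b := fun i => M (u i)) (hli.comp Sum.inr Sum.inr_injective), Fintype.card_fin, hrM])]
    exact ⟨v, rfl⟩
  refine ⟨g, hg, fun v => ?_⟩
  have h1 : g (N v) ∈ Submodule.span F (Set.range fun i => N' (y i)) := by
    have h0 := Submodule.apply_mem_span_image_of_mem_span g.toLinearMap (hspan N x hlix hr v)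
    rw [← Set.range_comp] at h0
    simpa [Function.comp_def, hgNx] using h0
  obtain ⟨c, hc⟩ := (Submodule.mem_span_range_iff_exists_fun F).1 (Submodule.sub_mem _ h1 (hspan N' y hliy hr' (g v)))
  have hc1 : ∀ i, c i = 0 := by
    intro i
    have h3 : h (y i) (g (N v)) = h (y i) (N' (g v)) := by
      rw [← hN'.adj, ← hgNx, hg, hN.adj, ← hgx, hg]
    have h4 : h (g (N v) - N' (g v)) (y i) = 0 := by
      rw [hh.sub_left, hh.symm (y i) (g (N v)), hh.symm (y i) (N' (g v)), h3, sub_self]
    rw [← hc, hh.sum_left, Finset.sum_eq_single i] at h4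
    · simpa [hh.smul_left, hN'.adj, hy] using h4
    · intro j _ hj; simp [hh.smul_left, hN'.adj, hy, hj]
    · exact fun h => absurd (Finset.mem_univ _) h
  rw [← sub_eq_zero, ← hc]
  simp [hc1]

/-- An isometry commuting with `N` of a prescribed determinant. -/
theorem exists_det {N : V →ₗ[F] V} (hN : IsNil h N) (hN0 : N ≠ 0) {c : F} (hc : c * σ c = 1) :
    ∃ D : V →ₗ[F] V, (∀ u v, h (D u) (D v) = h u v) ∧ (∀ v, D (N v) = N (D v)) ∧ LinearMap.det D = c * c := by
  classical
  obtain ⟨r, hr⟩ : ∃ r, finrank F (LinearMap.range N) = r + 1 := by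
    refine ⟨finrank F (LinearMap.range N) - 1, ?_⟩
    have : finrank F (LinearMap.range N) ≠ 0 := fun h => hN0 (LinearMap.range_eq_bot.1 (Submodule.finrank_eq_zero.1 h))
    omega
  obtain ⟨x, hx, hxx⟩ := exists_adapted hh hN hr
  let y := x 0
  have hyy : h y y = 0 := hxx 0 0
  have hyz : h y (N y) = 1 := by simpa [y] using hx 0 0
  have hzy : h (N y) y = 1 := by rw [hN.adj, hyz]
  have hzz : h (N y) (N y) = 0 := by rw [hN.adj, hN.sq, hh.zero_right]
  let D : V →ₗ[F] V := LinearMap.id + (c - 1) •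
    ((hh.form (N y)).smulRight y + (hh.form y).smulRight (N y))
  have hD : ∀ v, D v = v + (c - 1) • (h v (N y) • y + h v y • N y) := fun v => by
    simp [D, hh.form_apply]
  refine ⟨D, fun u v => ?_, fun v => ?_, ?_⟩
  · simp only [hD, hh.add_left, hh.add_right, hh.smul_left, hh.smul_right, hyy, hyz, hzy, hzz, mul_zero,
      mul_one, zero_add, add_zero, map_sub, map_one]
    rw [← hh.symm v y, ← hh.symm v (N y)]
    linear_combination (h u (N y) * h y v + h u y * h (N y) v) * hc
  · rw [hD, hD, map_add, map_smul, map_add, map_smul, map_smul, hN.sq, hN.adj v (N y), hN.sq, hh.zero_right, hN.adj v y]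
    simp
  · let f : (Fin 2 → F) →ₗ[F] V := (c - 1) • Fintype.linearCombination F ![y, N y]
    let φ : V →ₗ[F] (Fin 2 → F) := LinearMap.pi ![hh.form (N y), hh.form y]
    have hDf : D = LinearMap.id + f.comp φ := by
      refine LinearMap.ext fun v => ?_
      rw [hD]
      simp [f, φ, Fintype.linearCombination_apply, Fin.sum_univ_two, hh.form_apply]
    rw [hDf, ← LinearMap.det_toMatrix', map_add, LinearMap.toMatrix'_id, LinearMap.toMatrix'_comp,
      Matrix.det_one_add_mul_comm]
    have hφ : φ.comp f = (c - 1) • LinearMap.id := by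
      refine LinearMap.ext fun v => funext fun i => ?_
      fin_cases i <;>
        simp [φ, f, Fintype.linearCombination_apply, Fin.sum_univ_two, hh.form_apply, hh.add_left, hh.smul_left,
          hyy, hyz, hzy, hzz]
    rw [← LinearMap.toMatrix'_comp, hφ, map_smul, LinearMap.toMatrix'_id, Matrix.det_fin_two]
    simp

omit hh in
theorem sqrt_norm {δ : F} (hδ : δ * σ δ = 1) : ∃ c : F, c * σ c = 1 ∧ c * c = δ := by
  obtain ⟨c, hc⟩ := FiniteField.isSquare_of_char_two (ringChar.eq F 2) δ
  refine ⟨c, ?_, hc.symm⟩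
  have h1 : (c * σ c) * (c * σ c) = 1 := by
    rw [← hδ, hc, map_mul]; ring
  rcases mul_self_eq_one_iff.1 h1 with h2 | h2
  · exact h2
  · rw [h2, CharTwo.neg_eq]

end Cfsg.Agent.SUInv

namespace Cfsg.Agent.SUInv

open Matrix Module Hermitian

theorem isConj_su {F : Type*} [Field F] [Fintype F] [CharP F 2] {n q : ℕ} (hF : Fintype.card F = q ^ 2)
    (a b : ↥(Cfsg.SU n F q)) (ha : a ^ 2 = 1) (hb : b ^ 2 = 1) (ha1 : a ≠ 1)
    (hr : (((a : Matrix.SpecialLinearGroup (Fin n) F) : Matrix (Fin n) (Fin n) F) - 1).rank =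
      (((b : Matrix.SpecialLinearGroup (Fin n) F) : Matrix (Fin n) (Fin n) F) - 1).rank) : IsConj a b := by
  classical
  obtain ⟨σ, hσ, hne, hinv, -, -⟩ := HermStd.exists_sigma hF
  have hh := HermStd.isHerm_std hne hinv hσ n
  let N : ↥(Cfsg.SU n F q) → (Fin n → F) →ₗ[F] (Fin n → F) := fun c => Matrix.mulVecLin (c.1.1 - 1)
  have hN' : ∀ c v, N c v = c.1.1 *ᵥ v - v := fun c v => by simp [N]
  have hnil : ∀ c : ↥(Cfsg.SU n F q), c ^ 2 = 1 → IsNil (Cfsg.hermForm n F q) (N c) := by
    intro c hc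
    have hmm : ∀ v : Fin n → F, c.1.1 *ᵥ (c.1.1 *ᵥ v) = v := fun v => by
      rw [pow_two] at hc
      rw [Matrix.mulVec_mulVec, show c.1.1 * c.1.1 = 1 from congrArg (fun g : ↥(Cfsg.SU n F q) => g.1.1) hc,
        Matrix.one_mulVec]
    refine ⟨fun v => ?_, fun v w => ?_⟩
    · rw [hN', hN', Matrix.mulVec_sub, hmm]
      funext i
      simp [CharTwo.sub_eq_add]
      linear_combination (v i + (c.1.1 *ᵥ v) i) * (CharTwo.two_eq_zero (R := F))
    · have h1 : Cfsg.hermForm n F q (c.1.1 *ᵥ v) w = Cfsg.hermForm n F q v (c.1.1 *ᵥ w) := by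
        conv_lhs => arg 5; rw [← hmm w]
        exact c.2 v _
      rw [hN', hN', hh.sub_left, h1]
      have h3 : Cfsg.hermForm n F q v (c.1.1 *ᵥ w - w) + Cfsg.hermForm n F q v w =
          Cfsg.hermForm n F q v (c.1.1 *ᵥ w) := by rw [← hh.add_right, sub_add_cancel]
      rw [← h3, add_sub_cancel_right]
  obtain ⟨g, hg, hgc⟩ := exists_conj hh (hnil a ha) (hnil b hb) (r := finrank F (LinearMap.range (N a))) rfl hr.symm
  let M := LinearMap.toMatrix' g.toLinearMap
  have hM : ∀ v, M *ᵥ v = g v := fun v => LinearMap.toMatrix'_mulVec _ v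
  have hMd : M.det * σ M.det = 1 := by
    have hMd0 : M.det ≠ 0 := by
      intro h0
      obtain ⟨v, hv, hv'⟩ := Matrix.exists_mulVec_eq_zero_iff.2 h0
      rw [hM] at hv'
      exact hv (g.injective (hv'.trans g.map_zero.symm))
    have hmem : Matrix.GeneralLinearGroup.mkOfDetNeZero M hMd0 ∈ Cfsg.GU n F q := fun u v => by
      show Cfsg.hermForm n F q (M *ᵥ u) (M *ᵥ v) = _
      rw [hM, hM, hg]
    exact HermSU.det_mem_normOne hσ hmem
  obtain ⟨c, hc, hcc⟩ := sqrt_norm (σ := σ) (δ := σ M.det) (by rw [hinv, mul_comm]; exact hMd)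
  have hb0 : N b ≠ 0 := by
    intro h0
    have h1 : finrank F (LinearMap.range (N a)) = 0 := by
      rw [show finrank F (LinearMap.range (N a)) = finrank F (LinearMap.range (N b)) from hr, h0, LinearMap.range_zero,
        finrank_bot]
    apply ha1
    refine Subtype.ext (Subtype.ext (Matrix.ext_iff_mulVec.2 fun v => ?_))
    have h3 := LinearMap.range_eq_bot.1 (Submodule.finrank_eq_zero.1 h1)
    show a.1.1 *ᵥ v = (1 : Matrix (Fin n) (Fin n) F) *ᵥ v
    rw [Matrix.one_mulVec, ← sub_eq_zero, ← hN', h3]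
    rfl
  obtain ⟨D, hD, hDN, hDd⟩ := exists_det hh (hnil b hb) hb0 hc
  let C := LinearMap.toMatrix' D * M
  have hC : ∀ v, C *ᵥ v = D (g v) := fun v => by
    simp only [C, ← Matrix.mulVec_mulVec, hM]
    exact LinearMap.toMatrix'_mulVec _ _
  have hdet : C.det = 1 := by
    rw [Matrix.det_mul, LinearMap.det_toMatrix', hDd, hcc, mul_comm, hMd]
  let C' : ↥(Cfsg.SU n F q) := ⟨⟨C, hdet⟩, fun u v => by
    show Cfsg.hermForm n F q (C *ᵥ u) (C *ᵥ v) = _
    rw [hC, hC, hD, hg]⟩
  refine isConj_iff.2 ⟨C', mul_inv_eq_iff_eq_mul.2 (Subtype.ext (Subtype.ext (Matrix.ext_iff_mulVec.2 fun v => ?_)))⟩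
  show (C * a.1.1) *ᵥ v = (b.1.1 * C) *ᵥ v
  have h := congrArg D (hgc v)
  rw [hDN, hN', hN', map_sub, map_sub] at h
  rw [← Matrix.mulVec_mulVec v C a.1.1, hC, ← Matrix.mulVec_mulVec v b.1.1 C, hC]
  exact sub_left_inj.1 h

end Cfsg.Agent.SUInv
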