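/-
Pairs of complementary totally singular subspaces of a unitary space.
-/
import Cfsg.Agent.Lib.LinearBlock.GUConj
import Cfsg.Agent.Lib.Classical.SL
import Cfsg.Prelude.Def_GeometricClasses

set_option autoImplicit false
set_option linter.all false

namespace Cfsg.Agent.LBSUPair

open Matrix Module Hermitian

variable {F : Type*} [Field F] [Fintype F] {n m q : ℕ} {σ : F →+* F}

/-- The standing data of the form. -/
structure Frob (F : Type*) [Field F] [Fintype F] (q : ℕ) (σ : F →+* F) : Prop where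
  apply : ∀ x, σ x = x ^ q
  ne : σ ≠ RingHom.id F
  inv : ∀ a, σ (σ a) = a
  fix : Nat.card (fixed σ) = q
  card : Fintype.card F = q ^ 2

theorem exists_frob (hF : Fintype.card F = q ^ 2) : ∃ σ : F →+* F, Frob F q σ := by
  obtain ⟨σ, h1, h2, h3, h4, -⟩ := HermStd.exists_sigma hF
  exact ⟨σ, h1, h2, h3, h4, hF⟩

local notation "HF" => Cfsg.hermForm n F q

/-- The rows of the pairing of a subspace. -/
noncomputable def pairing (hD : Frob F q σ) (W : Submodule F (Fin n → F)) :
    (Fin n → F) →ₗ[F] (Fin (finrank F W) → F) :=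
  LinearMap.pi fun i => (HermStd.isHerm_std hD.ne hD.inv hD.apply n).form (finBasis F W i : Fin n → F)

theorem pairing_eq_zero (hD : Frob F q σ) {W : Submodule F (Fin n → F)} {v : Fin n → F} (h : pairing hD W v = 0) :
    ∀ w ∈ W, HF v w = 0 := by
  have hh := HermStd.isHerm_std hD.ne hD.inv hD.apply n
  intro w hw
  let K : Submodule F (Fin n → F) := LinearMap.ker (hh.form v)
  have hW : W ≤ K := by
    intro u hu
    have e : u = ((∑ i, (finBasis F W).repr ⟨u, hu⟩ i • finBasis F W i : W) : Fin n → F) := by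
      rw [(finBasis F W).sum_repr]
    rw [e, Submodule.coe_sum]
    refine Submodule.sum_mem _ fun i _ => ?_
    rw [Submodule.coe_smul]
    refine K.smul_mem _ ?_
    show HF (finBasis F W i : Fin n → F) v = 0
    exact (hh.eq_zero_comm).1 (congrFun h i)
  exact (hh.eq_zero_comm).1 (hW hw)

/-- Complementary totally singular subspaces have equal dimensions. -/
theorem finrank_le (hD : Frob F q σ) {A B : Submodule F (Fin n → F)} (hAB : A ⊔ B = ⊤)
    (hB : Cfsg.Geo.IsTotallySingularFor HF B) : finrank F B ≤ finrank F A := by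
  have hh := HermStd.isHerm_std hD.ne hD.inv hD.apply n
  have hinj : Function.Injective ((pairing hD A).comp B.subtype) := (injective_iff_map_eq_zero _).2 fun v hv => by
    refine Subtype.ext (hh.nondeg _ fun w => ?_)
    obtain ⟨a, ha, b, hb, rfl⟩ := Submodule.mem_sup.1 (show w ∈ A ⊔ B by rw [hAB]; trivial)
    rw [hh.add_right, pairing_eq_zero hD (show pairing hD A v.1 = 0 from hv) a ha, hB _ v.2 _ hb, add_zero]
  have := LinearMap.finrank_le_finrank_of_injective hinj
  simpa using this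

/-- The two halves of an isometry fixing both members move equally. -/
theorem moved_le (hD : Frob F q σ) {A B : Submodule F (Fin n → F)} (hAB : A ⊔ B = ⊤)
    (hB : Cfsg.Geo.IsTotallySingularFor HF B) {y : GL (Fin n) F} (hy : y ∈ Cfsg.GU n F q)
    (hyA : A.map (Matrix.toLin' y.1) = A) (hyB : B.map (Matrix.toLin' y.1) = B) :
    finrank F (B.map (Matrix.toLin' y.1 - 1)) ≤ finrank F (A.map (Matrix.toLin' y.1 - 1)) := by
  have hh := HermStd.isHerm_std hD.ne hD.inv hD.apply n
  obtain ⟨T, hT⟩ : ∃ T, T = (Matrix.toLin' y.1 - 1 : Module.End F (Fin n → F)) := ⟨_, rfl⟩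
  rw [← hT]
  let P := (pairing hD (A.map T)).comp B.subtype
  let Q := T.comp B.subtype
  have hker : LinearMap.ker P ≤ LinearMap.ker Q := by
    intro v hv
    have hz := pairing_eq_zero hD (show pairing hD (A.map T) v.1 = 0 from hv)
    have hy' : ∀ u w : Fin n → F, HF (y.1 *ᵥ u) (y.1 *ᵥ w) = HF u w := hy
    show T v.1 = 0
    refine hh.nondeg _ fun w => ?_
    obtain ⟨a, ha, b, hb, rfl⟩ := Submodule.mem_sup.1 (show w ∈ A ⊔ B by rw [hAB]; trivial)
    rw [hh.add_right]
    have hTv : T v.1 ∈ B := by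
      rw [hT, LinearMap.sub_apply, Module.End.one_apply]
      exact sub_mem (hyB.le (Submodule.mem_map_of_mem v.2)) v.2
    rw [hB _ hTv _ hb, add_zero]
    obtain ⟨a', ha', rfl⟩ := hyA.ge ha
    have h0 := hz _ (Submodule.mem_map_of_mem (f := T) ha')
    rw [hT, LinearMap.sub_apply, Module.End.one_apply, Matrix.toLin'_apply] at h0 ⊢
    rw [Matrix.toLin'_apply, hh.sub_left, hy']
    rw [sub_eq_add_neg (y.1 *ᵥ a'), hh.add_right, show -a' = (-1 : F) • a' by simp, hh.smul_right, map_neg, map_one] at h0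
    linear_combination -h0
  have h1 := LinearMap.finrank_range_add_finrank_ker P
  have h2 := LinearMap.finrank_range_add_finrank_ker Q
  have h3 := Submodule.finrank_mono hker
  have h4 := Submodule.finrank_le (LinearMap.range P)
  rw [Module.finrank_fin_fun] at h4
  have h5 : finrank F (LinearMap.range Q) = finrank F (B.map T) := by
    rw [LinearMap.range_comp, Submodule.range_subtype]
  omega

/-- The moved space of an isometry fixing both members has even dimension. -/
theorem even_moved (hD : Frob F q σ) {A B : Submodule F (Fin n → F)} (hAB : IsCompl A B)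
    (hA : Cfsg.Geo.IsTotallySingularFor HF A) (hB : Cfsg.Geo.IsTotallySingularFor HF B) {y : GL (Fin n) F}
    (hy : y ∈ Cfsg.GU n F q)
    (hyA : A.map (Matrix.toLin' y.1) = A) (hyB : B.map (Matrix.toLin' y.1) = B) : Even (y.1 - 1).rank := by
  obtain ⟨T, hT⟩ : ∃ T, T = (Matrix.toLin' y.1 - 1 : Module.End F (Fin n → F)) := ⟨_, rfl⟩
  have he : finrank F (A.map T) = finrank F (B.map T) := hT ▸
    le_antisymm (moved_le hD (sup_comm A B ▸ hAB.sup_eq_top) hA hy hyB hyA) (moved_le hD hAB.sup_eq_top hB hy hyA hyB)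
  have hle : ∀ W : Submodule F (Fin n → F), W.map (Matrix.toLin' y.1) = W → W.map T ≤ W := fun W hW => by
    rintro _ ⟨u, hu, rfl⟩
    rw [hT, LinearMap.sub_apply, Module.End.one_apply]
    exact sub_mem (hW.le (Submodule.mem_map_of_mem hu)) hu
  have hr : (y.1 - 1).rank = finrank F (LinearMap.range T) := by
    rw [hT]
    show finrank F (LinearMap.range (y.1 - 1).mulVecLin) = _
    rw [← Matrix.toLin'_apply', map_sub, Matrix.toLin'_one]; rfl
  have h := Submodule.finrank_sup_add_finrank_inf_eq (A.map T) (B.map T)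
  rw [← Submodule.map_sup, hAB.sup_eq_top, Submodule.map_top,
    (hAB.disjoint.mono (hle A hyA) (hle B hyB)).eq_bot, finrank_bot] at h
  exact ⟨finrank F (A.map T), by omega⟩

omit [Fintype F] in
/-- An element moving one member onto the other fixes at most the other's dimension. -/
theorem swap_moved {A B : Submodule F (Fin n → F)} (hAB : IsCompl A B) {y : Matrix (Fin n) (Fin n) F}
    (hyA : A.map (Matrix.toLin' y) ≤ B) : finrank F A ≤ (y - 1).rank := by
  let Q := (Matrix.toLin' (y - 1)).comp A.subtype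
  have hinj : Function.Injective Q := (injective_iff_map_eq_zero Q).2 fun v hv => by
    have e : y *ᵥ v.1 = v.1 := by
      have : (y - 1) *ᵥ v.1 = 0 := hv
      rwa [sub_mulVec, one_mulVec, sub_eq_zero] at this
    have hB : v.1 ∈ B := by
      have := hyA (Submodule.mem_map_of_mem v.2)
      rwa [Matrix.toLin'_apply, e] at this
    exact Subtype.ext (Submodule.disjoint_def.1 hAB.disjoint _ v.2 hB)
  have := LinearMap.finrank_le_finrank_of_injective (f := Q.codRestrict (LinearMap.range (y - 1).mulVecLin)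
    fun v => ⟨v.1, rfl⟩) fun a b h => hinj (congrArg Subtype.val h)
  exact this

omit [Fintype F] in
theorem isCompl_of_decomp {D : Fin 2 → Submodule F (Fin n → F)} (hD : Cfsg.Geo.IsMDecomposition m D) :
    IsCompl (D 0) (D 1) := by
  refine ⟨hD.indep.pairwiseDisjoint (by decide), codisjoint_iff.2 (eq_top_iff.2 (hD.iSup_eq_top ▸ iSup_le fun i => ?_))⟩
  fin_cases i
  · exact le_sup_left
  · exact le_sup_right

/-- A derangement criterion. -/
theorem derange (hD : Frob F q σ) {D : Fin 2 → Submodule F (Fin n → F)} (hDm : Cfsg.Geo.IsMDecomposition m D)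
    (hDs : ∀ i, Cfsg.Geo.IsTotallySingularFor HF (D i)) {x y : GL (Fin n) F} {a : F}
    (hy : y ∈ Cfsg.GU n F q) (hxy : x.1 = a • y.1) (hodd : Odd (y.1 - 1).rank)
    (hsw : (y.1 - 1).rank < m ∨ ∃ r : ℕ, Odd r ∧ y ^ r = 1) :
    ∀ g ∈ Cfsg.GU n F q ⊓ Cfsg.Geo.specialLinear (Fin n) F, g⁻¹ * x * g ∉ Cfsg.Geo.decompositionStabilizer D := by
  rintro g hg ⟨π, hπ⟩
  have ha : a ≠ 0 := fun h => by
    rw [h, zero_smul] at hxy
    haveI : Nonempty (Fin n) := by
      by_contra hc
      rw [not_nonempty_iff] at hc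
      rw [show (y.1 - 1).rank = 0 from Nat.le_zero.1 ((Matrix.rank_le_card_width _).trans (by simp))] at hodd
      exact Nat.not_odd_zero hodd
    exact x.ne_zero hxy
  obtain ⟨y', hy'⟩ : ∃ y', y' = g⁻¹ * y * g := ⟨_, rfl⟩
  have hy'U : y' ∈ Cfsg.GU n F q := hy' ▸ mul_mem (mul_mem (inv_mem hg.1) hy) hg.1
  have hrank : (y'.1 - 1).rank = (y.1 - 1).rank := by
    rw [show y'.1 - 1 = (g⁻¹).1 * (y.1 - 1) * g.1 by rw [mul_sub, sub_mul, mul_one, Units.inv_mul, hy']; rfl,
      Matrix.rank_mul_eq_left_of_isUnit_det _ _ ((Matrix.isUnit_iff_isUnit_det _).1 g.isUnit),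
      Matrix.rank_mul_eq_right_of_isUnit_det _ _ ((Matrix.isUnit_iff_isUnit_det _).1 g⁻¹.isUnit)]
  have hπ' : ∀ i, (D i).map (Matrix.toLin' y'.1) = D (π i) := fun i => by
    rw [← hπ i, Units.val_mul, Units.val_mul, hxy, mul_smul_comm, smul_mul_assoc, map_smul,
      Submodule.map_smul _ _ a ha, hy']; rfl
  have hc := isCompl_of_decomp hDm
  by_cases h0 : π 0 = 0
  · have h1 : π 1 = 1 := by
      have h := π.injective.ne (show (1 : Fin 2) ≠ 0 by decide)
      rw [h0] at h
      exact Fin.eq_one_of_ne_zero _ h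
    have he := even_moved hD hc (hDs 0) (hDs 1) hy'U (by simpa [h0] using hπ' 0) (by simpa [h1] using hπ' 1)
    rw [hrank] at he
    exact Nat.not_even_iff_odd.2 hodd he
  have h01 : π 0 = 1 := Fin.eq_one_of_ne_zero _ h0
  rcases hsw with hsw | ⟨r, hr, hyr⟩
  · have h := swap_moved hc (show (D 0).map (Matrix.toLin' y'.1) ≤ D 1 from (h01 ▸ hπ' 0).le)
    rw [hDm.finrank_eq, hrank] at h
    omega
  · have hπ2 : ∀ i, π (π i) = i := by
      have h10 : π 1 = 0 := by
        have h := π.injective.ne (show (1 : Fin 2) ≠ 0 by decide)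
        rw [h01] at h
        rcases Fin.exists_fin_two.1 ⟨π 1, rfl⟩ with e | e
        · exact e
        · exact absurd e h
      intro i; fin_cases i <;> simp [h01, h10]
    have hk : ∀ k : ℕ, ∀ i, (D i).map (Matrix.toLin' (y' ^ k).1) = D ((π ^ k) i) := by
      intro k
      induction k with
      | zero => intro i; simp
      | succ k ih =>
        intro i
        rw [pow_succ', Units.val_mul, Matrix.toLin'_mul, Submodule.map_comp, ih, hπ', pow_succ', Equiv.Perm.mul_apply]
    have e := hk r 0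
    have hy'r : y' ^ r = 1 := by
      rw [hy', show g⁻¹ * y * g = g⁻¹ * y * g⁻¹⁻¹ by group, conj_pow, hyr]; group
    obtain ⟨s, rfl⟩ := hr
    rw [hy'r, Units.val_one, Matrix.toLin'_one, Submodule.map_id, pow_succ', pow_mul, Equiv.Perm.mul_apply,
      show π ^ 2 = 1 from Equiv.ext fun i => by rw [pow_two]; exact hπ2 i, one_pow, Equiv.Perm.one_apply, h01] at e
    have hd : D 0 = ⊥ := by
      have := hc.disjoint
      rw [← e, disjoint_self] at this
      exact this
    have := hDm.finrank_eq 0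
    rw [hd, finrank_bot] at this
    exact hDm.pos.ne this

/-- Adapted bases. -/
theorem exists_frame (hD : Frob F q σ) (e : Fin m ⊕ Fin m ≃ Fin n) {A B : Submodule F (Fin n → F)} (hAB : IsCompl A B)
    (hA : Cfsg.Geo.IsTotallySingularFor HF A) (hB : Cfsg.Geo.IsTotallySingularFor HF B)
    (hAm : finrank F A = m) (hBm : finrank F B = m) :
    ∃ P : GL (Fin n) F,
      (P.1ᵀ * P.1.map σ) = Matrix.reindexAlgEquiv F F e (fromBlocks 0 1 1 0) ∧
      Submodule.map (Matrix.toLin' P.1) (Submodule.span F (Set.range fun i => (Pi.single (e (Sum.inl i)) 1 : Fin n → F))) = A ∧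
      Submodule.map (Matrix.toLin' P.1) (Submodule.span F (Set.range fun i => (Pi.single (e (Sum.inr i)) 1 : Fin n → F))) = B := by
  classical
  have hh := HermStd.isHerm_std hD.ne hD.inv hD.apply n
  let bA : Basis (Fin m) F A := (finBasis F A).reindex (finCongr hAm)
  let θ : B →ₗ[F] (Fin m → F) := (LinearMap.pi fun i => hh.form (bA i : Fin n → F)).comp B.subtype
  have hθ : Function.Injective θ := (injective_iff_map_eq_zero θ).2 fun v hv => by
    refine Subtype.ext (hh.nondeg _ fun w => ?_)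
    obtain ⟨a, ha, b, hb, rfl⟩ := Submodule.mem_sup.1 (show w ∈ A ⊔ B by rw [hAB.sup_eq_top]; trivial)
    rw [hh.add_right, hB _ v.2 _ hb, add_zero]
    refine pairing_eq_zero hD (funext fun i => ?_) a ha
    have e2 := congrFun hv ((finCongr hAm) i)
    show HF v.1 (finBasis F A i : Fin n → F) = 0
    simpa [θ, bA, hh.form_apply] using e2
  let Θ := LinearMap.linearEquivOfInjective θ hθ (by rw [hBm, Module.finrank_fin_fun])
  let bB : Basis (Fin m) F B := (Pi.basisFun F (Fin m)).map Θ.symm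
  have hpair : ∀ i k, HF (bB k : Fin n → F) (bA i : Fin n → F) = if i = k then 1 else 0 := fun i k => by
    have e1 : Θ (bB k) = Pi.single k 1 := by simp [bB]
    have e2 := congrFun e1 i
    rw [LinearMap.linearEquivOfInjective_apply] at e2
    simpa [θ, hh.form_apply, Pi.single_apply, eq_comm] using e2
  let col : Fin m ⊕ Fin m → (Fin n → F) := Sum.elim (fun i => (bA i : Fin n → F)) (fun i => (bB i : Fin n → F))
  let M : Matrix (Fin n) (Fin n) F := Matrix.of fun r c => col (e.symm c) r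
  have hMv : ∀ c, M *ᵥ Pi.single c 1 = col (e.symm c) := fun c => by
    ext r; simp [M, mulVec_single_one]
  have hgram : Mᵀ * M.map σ = Matrix.reindexAlgEquiv F F e (fromBlocks 0 1 1 0) := by
    ext r c
    have e1 : (Mᵀ * M.map σ) r c = HF (col (e.symm r)) (col (e.symm c)) := by
      simp [Matrix.mul_apply, Cfsg.hermForm, M, hD.apply]
    rw [e1, Matrix.coe_reindexAlgEquiv, Matrix.reindex_apply, Matrix.submatrix_apply]
    generalize e.symm r = a
    generalize e.symm c = b
    rcases a with i | i <;> rcases b with k | k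
    · exact hA _ (bA i).2 _ (bA k).2
    · show HF (bA i : Fin n → F) (bB k : Fin n → F) = (1 : Matrix (Fin m) (Fin m) F) i k
      rw [hh.symm, hpair, Matrix.one_apply, apply_ite σ, map_one, map_zero]
    · show HF (bB i : Fin n → F) (bA k : Fin n → F) = (1 : Matrix (Fin m) (Fin m) F) i k
      rw [hpair, Matrix.one_apply]; simp only [eq_comm]
    · exact hB _ (bB i).2 _ (bB k).2
  have hdet : M.det ≠ 0 := fun h0 => by
    have h := congrArg Matrix.det hgram
    rw [det_mul, det_transpose, h0, zero_mul, Matrix.coe_reindexAlgEquiv, det_reindex_self] at h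
    have h1 : (fromBlocks 0 1 1 0 : Matrix (Fin m ⊕ Fin m) (Fin m ⊕ Fin m) F) * fromBlocks 0 1 1 0 = 1 := by
      simp [fromBlocks_multiply, fromBlocks_one]
    have := congrArg Matrix.det h1
    rw [det_mul, ← h, zero_mul, det_one] at this
    exact zero_ne_one this
  refine ⟨GeneralLinearGroup.mkOfDetNeZero M hdet, hgram, ?_, ?_⟩ <;>
    rw [Submodule.map_span, ← Set.range_comp]
  · rw [show (fun i => (Pi.single (e (Sum.inl i)) 1 : Fin n → F)) = fun i => (Pi.single (e (Sum.inl i)) 1 : Fin n → F) from rfl,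
      show (⇑(Matrix.toLin' (GeneralLinearGroup.mkOfDetNeZero M hdet).1) ∘ fun i => (Pi.single (e (Sum.inl i)) 1 : Fin n → F)) = (A.subtype ∘ bA) by
        funext i; simp only [Function.comp_apply, Matrix.toLin'_apply]; show M *ᵥ _ = _; rw [hMv, Equiv.symm_apply_apply]; rfl,
      Set.range_comp, ← Submodule.map_span, bA.span_eq, Submodule.map_subtype_top]
  · rw [show (⇑(Matrix.toLin' (GeneralLinearGroup.mkOfDetNeZero M hdet).1) ∘ fun i => (Pi.single (e (Sum.inr i)) 1 : Fin n → F)) = (B.subtype ∘ bB) by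
        funext i; simp only [Function.comp_apply, Matrix.toLin'_apply]; show M *ᵥ _ = _; rw [hMv, Equiv.symm_apply_apply]; rfl,
      Set.range_comp, ← Submodule.map_span, bB.span_eq, Submodule.map_subtype_top]

omit [Fintype F] in
theorem reindex_map (e : Fin m ⊕ Fin m ≃ Fin n) (f : F →+* F) (M : Matrix (Fin m ⊕ Fin m) (Fin m ⊕ Fin m) F) :
    (Matrix.reindexAlgEquiv F F e M).map f = Matrix.reindexAlgEquiv F F e (M.map f) := rfl

/-- Block elements. -/
theorem exists_block (hD : Frob F q σ) (e : Fin m ⊕ Fin m ≃ Fin n) {P P' : GL (Fin n) F}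
    (hP : P.1ᵀ * P.1.map σ = Matrix.reindexAlgEquiv F F e (fromBlocks 0 1 1 0))
    (hP' : P'.1ᵀ * P'.1.map σ = Matrix.reindexAlgEquiv F F e (fromBlocks 0 1 1 0))
    (S T : GL (Fin m) F) (hST : S.1ᵀ * T.1.map σ = 1) :
    ∃ C : GL (Fin n) F, C.1 = Matrix.reindexAlgEquiv F F e (fromBlocks S.1 0 0 T.1) ∧
      P' * C * P⁻¹ ∈ Cfsg.GU n F q := by
  classical
  obtain ⟨R, hR⟩ : ∃ R, R = Matrix.reindexAlgEquiv F F e := ⟨_, rfl⟩
  let Cm : GL (Fin n) F := ⟨R (fromBlocks S.1 0 0 T.1), R (fromBlocks (S⁻¹).1 0 0 (T⁻¹).1),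
    by rw [← map_mul, fromBlocks_multiply]; simp [fromBlocks_one],
    by rw [← map_mul, fromBlocks_multiply]; simp [fromBlocks_one]⟩
  refine ⟨Cm, hR ▸ rfl, (HermSU.mem_GU_iff hD.apply _).2 ?_⟩
  have hTS : T.1ᵀ * S.1.map σ = 1 := by
    have h2 := congrArg (fun M : Matrix (Fin m) (Fin m) F => M.map σ) hST
    simp only [Matrix.map_mul, Matrix.map_one σ (map_zero σ) (map_one σ)] at h2
    rw [show (T.1.map σ).map σ = T.1 by ext i j; exact hD.inv _, Matrix.transpose_map] at h2
    rw [← Matrix.transpose_inj, transpose_mul, transpose_transpose, transpose_one]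
    exact h2
  have hC : Cm.1ᵀ * R (fromBlocks 0 1 1 0) * Cm.1.map σ = R (fromBlocks 0 1 1 0) := by
    show (R (fromBlocks S.1 0 0 T.1))ᵀ * _ * _ = _
    subst hR
    rw [show (Matrix.reindexAlgEquiv F F e (fromBlocks S.1 0 0 T.1))ᵀ = Matrix.reindexAlgEquiv F F e (fromBlocks S.1 0 0 T.1)ᵀ from
      Matrix.transpose_reindex e e _]
    show _ * Matrix.reindexAlgEquiv F F e _ * (Matrix.reindexAlgEquiv F F e (fromBlocks S.1 0 0 T.1)).map σ = _
    rw [reindex_map, ← map_mul, ← map_mul]
    congr 1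
    rw [fromBlocks_transpose, fromBlocks_multiply, fromBlocks_map, fromBlocks_multiply]
    simp [hST, hTS]
  obtain ⟨Pi', hPi⟩ : ∃ Q, Q = (P⁻¹).1 := ⟨_, rfl⟩
  show (P'.1 * Cm.1 * (P⁻¹).1)ᵀ * (P'.1 * Cm.1 * (P⁻¹).1).map σ = 1
  rw [← hPi, transpose_mul, transpose_mul, Matrix.map_mul, Matrix.map_mul,
    show Pi'ᵀ * (Cm.1ᵀ * P'.1ᵀ) * (P'.1.map σ * Cm.1.map σ * Pi'.map σ)
      = Pi'ᵀ * (Cm.1ᵀ * (P'.1ᵀ * P'.1.map σ) * Cm.1.map σ) * Pi'.map σ by simp only [mul_assoc], hP', ← hR, hC, hR, ← hP,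
    show Pi'ᵀ * (P.1ᵀ * P.1.map σ) * Pi'.map σ = (Pi'ᵀ * P.1ᵀ) * (P.1.map σ * Pi'.map σ) by simp only [mul_assoc],
    ← transpose_mul, ← Matrix.map_mul, hPi, Units.mul_inv, transpose_one, one_mul,
    Matrix.map_one σ (map_zero σ) (map_one σ)]

omit [Fintype F] in
theorem map_blocks (e : Fin m ⊕ Fin m ≃ Fin n) {C : GL (Fin n) F} {S T : GL (Fin m) F}
    (hC : C.1 = Matrix.reindexAlgEquiv F F e (fromBlocks S.1 0 0 T.1)) :
    (Submodule.span F (Set.range fun i => (Pi.single (e (Sum.inl i)) 1 : Fin n → F))).map (Matrix.toLin' C.1)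
      = Submodule.span F (Set.range fun i => (Pi.single (e (Sum.inl i)) 1 : Fin n → F)) ∧
    (Submodule.span F (Set.range fun i => (Pi.single (e (Sum.inr i)) 1 : Fin n → F))).map (Matrix.toLin' C.1)
      = Submodule.span F (Set.range fun i => (Pi.single (e (Sum.inr i)) 1 : Fin n → F)) := by
  classical
  have hcol : ∀ c, (Matrix.toLin' C.1) (Pi.single (e c) 1) = fun r => (fromBlocks S.1 0 0 T.1) (e.symm r) c := fun c => by
    funext r
    rw [Matrix.toLin'_apply, mulVec_single_one, hC]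
    simp [Matrix.reindex_apply]
  have hdim : ∀ f : Fin m → Fin n, ∀ (W : Submodule F (Fin n → F)), W = Submodule.span F (Set.range fun i => (Pi.single (f i) 1 : Fin n → F)) →
      (∀ i, (Matrix.toLin' C.1) (Pi.single (f i) 1) ∈ W) → W.map (Matrix.toLin' C.1) = W := by
    intro f W hW h
    have hle : W.map (Matrix.toLin' C.1) ≤ W := by
      conv_lhs => rw [hW, Submodule.map_span]
      rw [Submodule.span_le]
      rintro _ ⟨_, ⟨i, rfl⟩, rfl⟩
      exact h i
    refine Submodule.eq_of_le_of_finrank_eq hle (LinearEquiv.finrank_eq (Submodule.equivMapOfInjective _ ?_ W)).symm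
    intro a b hab
    rw [Matrix.toLin'_apply, Matrix.toLin'_apply] at hab
    have := congrArg (fun v => (C⁻¹).1 *ᵥ v) hab
    simpa [mulVec_mulVec] using this
  have hsum : ∀ v : Fin n → F, v = ∑ c, v (e c) • (Pi.single (e c) 1 : Fin n → F) := fun v => by
    funext r
    rw [Finset.sum_apply, Finset.sum_eq_single (e.symm r) (fun c _ hc => by
      simp [Pi.single_apply, show r ≠ e c from fun h => hc (by simp [h])]) (by simp)]
    simp
  refine ⟨hdim _ _ rfl fun i => ?_, hdim _ _ rfl fun i => ?_⟩ <;>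
    rw [hcol, hsum (fun r => _), Fintype.sum_sum_type] <;> refine add_mem ?_ ?_ <;>
    refine Submodule.sum_mem _ fun k _ => ?_
  · exact Submodule.smul_mem _ _ (Submodule.subset_span ⟨k, rfl⟩)
  · simp
  · simp
  · exact Submodule.smul_mem _ _ (Submodule.subset_span ⟨k, rfl⟩)

/-- Every norm-one element is a quotient by a conjugate. -/
theorem exists_quot (hD : Frob F q σ) (u : Fˣ) (hu : u ^ (q + 1) = 1) : ∃ d : Fˣ, d ^ q * u = d := by
  obtain ⟨g, hg⟩ := IsCyclic.exists_generator (α := Fˣ)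
  obtain ⟨k, hk⟩ := (Subgroup.mem_zpowers_iff).1 (hg u)
  have ho : orderOf g = q ^ 2 - 1 := by
    rw [orderOf_eq_card_of_forall_mem_zpowers hg, Nat.card_units, Nat.card_eq_fintype_card, hD.card]
  have hq2 : 2 ≤ q := hD.fix ▸ Finite.one_lt_card
  have hdiv : ((q : ℤ) - 1) ∣ k := by
    have h1 : g ^ (k * (q + 1)) = 1 := by
      rw [_root_.zpow_mul, hk, ← hu, ← zpow_natCast]; norm_cast
    have h2 := orderOf_dvd_iff_zpow_eq_one.2 h1
    rw [ho, Nat.cast_sub (Nat.one_le_pow _ _ (by omega)), Nat.cast_pow, Nat.cast_one,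
      show ((q : ℤ) ^ 2 - 1) = ((q : ℤ) - 1) * (q + 1) by ring] at h2
    exact Int.dvd_of_mul_dvd_mul_right (by omega) h2
  obtain ⟨l, hl⟩ := hdiv
  refine ⟨g ^ (-l), ?_⟩
  rw [← hk, ← zpow_natCast, ← _root_.zpow_mul, ← _root_.zpow_add, hl]
  congr 1; ring

/-- The special unitary group is transitive on the pairs. -/
theorem exists_map (hD : Frob F q σ) (hn : n = m + m) (hm : 1 ≤ m) {D D' : Fin 2 → Submodule F (Fin n → F)}
    (hDm : Cfsg.Geo.IsMDecomposition m D) (hDs : ∀ i, Cfsg.Geo.IsTotallySingularFor HF (D i))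
    (hc : IsCompl (D' 0) (D' 1)) (hDs' : ∀ i, Cfsg.Geo.IsTotallySingularFor HF (D' i))
    (hfr : ∀ i, finrank F (D' i) = m) :
    ∃ g ∈ Cfsg.GU n F q ⊓ Cfsg.Geo.specialLinear (Fin n) F, ∀ i, (D i).map (Matrix.toLin' g.1) = D' i := by
  classical
  obtain ⟨e, he⟩ : ∃ e : Fin m ⊕ Fin m ≃ Fin n, e = finSumFinEquiv.trans (finCongr hn.symm) := ⟨_, rfl⟩
  obtain ⟨P, hP, hP0, hP1⟩ := exists_frame hD e (isCompl_of_decomp hDm) (hDs 0) (hDs 1) (hDm.finrank_eq 0) (hDm.finrank_eq 1)
  obtain ⟨P', hP', hP0', hP1'⟩ := exists_frame hD e hc (hDs' 0) (hDs' 1) (hfr 0) (hfr 1)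
  obtain ⟨C₁, hC₁, hg₁⟩ := exists_block hD e hP hP' 1 1 (by simp)
  have hu : (GeneralLinearGroup.det (P' * C₁ * P⁻¹))⁻¹ ^ (q + 1) = 1 := by
    have h := HermSU.det_mem_normOne hD.apply hg₁
    rw [inv_pow, inv_eq_one]
    refine Units.ext ?_
    rw [Units.val_pow_eq_pow_val, pow_succ', ← hD.apply]
    exact h
  obtain ⟨d, hd⟩ := exists_quot hD _ hu
  let S : GL (Fin m) F := GeneralLinearGroup.mkOfDetNeZero (diagonal fun i => if i = ⟨0, hm⟩ then (d : F) else 1) (by
    rw [det_diagonal]; exact Finset.prod_ne_zero_iff.2 fun i _ => by split <;> simp)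
  let T : GL (Fin m) F := GeneralLinearGroup.mkOfDetNeZero (diagonal fun i => if i = ⟨0, hm⟩ then σ ((d : F)⁻¹) else 1) (by
    rw [det_diagonal]; exact Finset.prod_ne_zero_iff.2 fun i _ => by split <;> simp)
  obtain ⟨C, hC, hg⟩ := exists_block hD e hP hP' S T (by
    show (diagonal _)ᵀ * (diagonal _).map σ = 1
    rw [diagonal_transpose, diagonal_map (map_zero σ), diagonal_mul_diagonal, ← diagonal_one]
    congr 1; funext i
    split <;> simp [hD.inv, ‹_›])
  refine ⟨P' * C * P⁻¹, ⟨hg, ?_⟩, fun i => ?_⟩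
  · show GeneralLinearGroup.det _ = 1
    have hdC : GeneralLinearGroup.det C = d * (d ^ q)⁻¹ := by
      refine Units.ext ?_
      show C.1.det = _
      rw [hC, Matrix.coe_reindexAlgEquiv, det_reindex_self, det_fromBlocks_zero₂₁]
      show (diagonal _).det * (diagonal _).det = _
      rw [det_diagonal, det_diagonal, Finset.prod_ite_eq' Finset.univ, Finset.prod_ite_eq' Finset.univ, if_pos (Finset.mem_univ _),
        if_pos (Finset.mem_univ _), Units.val_mul, Units.val_inv_eq_inv_val, Units.val_pow_eq_pow_val, hD.apply, inv_pow]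
    have hdC₁ : GeneralLinearGroup.det C₁ = 1 := Units.ext (by
      show C₁.1.det = 1
      rw [hC₁, Matrix.coe_reindexAlgEquiv, det_reindex_self, det_fromBlocks_zero₂₁]; simp)
    rw [map_mul, map_mul, hdC₁, mul_one] at hd
    rw [map_mul, map_mul, hdC, mul_comm (GeneralLinearGroup.det P'), mul_assoc]
    have hd' : d * (d ^ q)⁻¹ = (GeneralLinearGroup.det P' * GeneralLinearGroup.det P⁻¹)⁻¹ := by
      rw [mul_inv_eq_iff_eq_mul, mul_comm]
      exact hd.symm
    rw [hd', inv_mul_cancel]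
  · rw [Units.val_mul, Units.val_mul, Matrix.toLin'_mul, Matrix.toLin'_mul, Submodule.map_comp, Submodule.map_comp]
    have hinv : ∀ W : Submodule F (Fin n → F), (W.map (Matrix.toLin' P.1)).map (Matrix.toLin' (P⁻¹).1) = W := fun W => by
      rw [← Submodule.map_comp, ← Matrix.toLin'_mul, Units.inv_mul, Matrix.toLin'_one, Submodule.map_id]
    fin_cases i
    · show Submodule.map _ (Submodule.map _ (Submodule.map _ (D 0))) = D' 0
      rw [← hP0, hinv, (map_blocks e hC).1, hP0']
    · show Submodule.map _ (Submodule.map _ (Submodule.map _ (D 1))) = D' 1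
      rw [← hP1, hinv, (map_blocks e hC).2, hP1']

end Cfsg.Agent.LBSUPair
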