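/-
Elements of SU_2m(q) against pairs of totally singular subspaces.
-/
import Cfsg.Agent.Lib.LinearBlock.SUPairGeom
import Cfsg.Agent.Lib.LinearBlock.InvolutionClasses
import Cfsg.Agent.Lib.LinearBlock.UnitarySimilar

set_option autoImplicit false
set_option linter.all false

namespace Cfsg.Agent.LBSUPair

open Matrix Module Hermitian Polynomial LBRootPoly LBRootTwist

variable {F : Type*} [Field F] [Fintype F] {n m q r : ℕ} {σ : F →+* F}

local notation "HF" => Cfsg.hermForm n F q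
local notation "SU'" => Cfsg.GU n F q ⊓ Cfsg.Geo.specialLinear (Fin n) F

theorem det_unit {x : GL (Fin n) F} (hD : Frob F q σ) (hx : x ∈ Cfsg.GU n F q) : x.1.det ^ (q + 1) = 1 := by
  have h := HermSU.det_mem_normOne hD.apply hx
  rw [pow_succ', ← hD.apply]
  exact h

theorem diag_mem (hD : Frob F q σ) (t : Fin n → F) (ht : ∀ i, t i ^ (q + 1) = 1) :
    ∃ y : GL (Fin n) F, y ∈ Cfsg.GU n F q ∧ y.1 = diagonal t := by
  have ht0 : ∀ i, t i ≠ 0 := fun i h => by simpa [h] using ht i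
  refine ⟨GeneralLinearGroup.mkOfDetNeZero (diagonal t) (by rw [det_diagonal]; exact Finset.prod_ne_zero_iff.2 fun i _ => ht0 i),
    (HermSU.mem_GU_iff hD.apply _).2 ?_, rfl⟩
  show (diagonal t)ᵀ * (diagonal t).map σ = 1
  rw [diagonal_transpose, diagonal_map (map_zero σ), diagonal_mul_diagonal, ← diagonal_one]
  congr 1; funext i
  show t i * σ (t i) = 1
  rw [hD.apply, ← pow_succ', ht]

omit [Fintype F] in
theorem rank_diag_sub {t : Fin n → F} {s : Finset (Fin n)} (hs : ∀ i, i ∈ s ↔ t i ≠ 1) : (diagonal t - 1).rank = s.card := by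
  classical
  rw [← diagonal_one, diagonal_sub, rank_diagonal, Fintype.card_subtype]
  congr 1
  ext i
  simp [hs, sub_eq_zero]

/-- A unitary transvection. -/
theorem exists_transvection (hD : Frob F q σ) (p : ℕ) [Fact p.Prime] [CharP F p] (hn : 2 ≤ n) :
    ∃ y ∈ SU', y ^ p = 1 ∧ (y.1 - 1).rank = 1 := by
  classical
  have hh := HermStd.isHerm_std hD.ne hD.inv hD.apply n
  obtain ⟨c, hc⟩ := exists_norm hD.ne hD.inv (show σ (-1 : F) = -1 by simp)
  obtain ⟨a, ha⟩ : ∃ a, σ a ≠ a := by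
    by_contra h; push Not at h; exact hD.ne (RingHom.ext h)
  obtain ⟨t, ht⟩ : ∃ t, t = a - σ a := ⟨_, rfl⟩
  have ht0 : t ≠ 0 := ht ▸ sub_ne_zero.2 (Ne.symm ha)
  have htt : σ t = -t := by rw [ht, map_sub, hD.inv]; ring
  have hpos : 0 < n := by omega
  let i0 : Fin n := ⟨0, hpos⟩
  let i1 : Fin n := ⟨1, by omega⟩
  obtain ⟨v, hv⟩ : ∃ v : Fin n → F, v = Pi.single i0 1 + c • Pi.single i1 1 := ⟨_, rfl⟩
  have hvv : HF v v = 0 := by
    rw [hv, hh.add_right, hh.add_left, hh.add_left, hh.smul_right, hh.smul_right, hh.smul_left, hh.smul_left]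
    simp only [HermStd.hermForm_single hD.apply, if_pos rfl, if_neg (show i1 ≠ i0 by simp [i0, i1]),
      if_neg (show i0 ≠ i1 by simp [i0, i1]), mul_zero, mul_one, add_zero, zero_add, if_true]
    linear_combination hc
  obtain ⟨N, hN⟩ : ∃ N, N = t • vecMulVec v (σ ∘ v) := ⟨_, rfl⟩
  have hNv : ∀ u, N *ᵥ u = (t * HF u v) • v := fun u => by
    rw [hN, smul_mulVec, vecMulVec_mulVec, LBUnitary.herm_dot hD.apply, dotProduct_comm, op_smul_eq_smul, smul_smul]
  have hNN : N * N = 0 := Matrix.ext_of_mulVec_single fun i => by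
    rw [← mulVec_mulVec, hNv, hNv (Pi.single i 1), hh.smul_left, hvv, mul_zero, mul_zero, zero_smul, zero_mulVec]
  haveI : Nonempty (Fin n) := ⟨i0⟩
  haveI : CharP (Matrix (Fin n) (Fin n) F) p := inferInstance
  have hpow : (1 + N) ^ p = 1 := by
    rw [add_pow_char_of_commute _ (Commute.one_left _), one_pow, show p = 2 + (p - 2) by
      have := (Fact.out : p.Prime).two_le; omega, pow_add, pow_two, hNN, zero_mul, add_zero]
  have hdet : (1 + N).det = 1 := by
    have h := congrArg Matrix.det hpow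
    rw [det_pow, det_one] at h
    exact sub_eq_zero.1 (pow_eq_zero_iff (n := p) (Fact.out : p.Prime).ne_zero |>.1 (by
      rw [sub_pow_char, h, one_pow, sub_self]))
  obtain ⟨y, hy⟩ : ∃ y : GL (Fin n) F, y.1 = 1 + N :=
    ⟨GeneralLinearGroup.mkOfDetNeZero (1 + N) (by rw [hdet]; exact one_ne_zero), rfl⟩
  refine ⟨y, Subgroup.mem_inf.2 ⟨fun u w => ?_, ?_⟩, Units.ext (by rw [Units.val_pow_eq_pow_val, hy]; exact hpow), ?_⟩
  rotate_left
  · exact Units.ext ((congrArg Matrix.det hy).trans hdet)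
  rotate_left
  · show HF (y.1 *ᵥ u) (y.1 *ᵥ w) = HF u w
    rw [hy]
    rw [add_mulVec, add_mulVec, one_mulVec, one_mulVec, hNv u, hNv w]
    generalize hA : t * HF u v = A
    generalize hB : t * HF w v = B
    rw [hh.add_left, hh.add_right u, hh.add_right (A • v), hh.smul_left A, hh.smul_left A, hh.smul_right B u v,
      hh.smul_right B v v, hvv, ← hA, ← hB, map_mul, htt, hh.symm v w, hD.inv]
    ring
  · rw [hy, add_sub_cancel_left, hN]
    refine le_antisymm ?_ (Nat.one_le_iff_ne_zero.2 fun h0 => ?_)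
    · rw [show t • vecMulVec v (σ ∘ v) = vecMulVec (t • v) (σ ∘ v) by
        ext i j; simp [vecMulVec, mul_assoc]]
      exact rank_vecMulVec_le _ _
    · have h := LinearMap.congr_fun (LinearMap.range_eq_bot.1 (Submodule.finrank_eq_zero.1 h0)) (Pi.single i0 1)
      rw [Matrix.mulVecLin_apply, mulVec_single_one] at h
      have e := congrFun h i0
      simp [hv, vecMulVec, ht0, i0, i1] at e

/-- A witness of odd order. -/
theorem exists_odd (hD : Frob F q σ) (p : ℕ) [Fact p.Prime] [CharP F p] [Fact r.Prime] (hr2 : r ≠ 2) (hrp : r ≠ p)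
    (hn : 3 ≤ n) {j : ℕ} (hj : Odd j) (hi : orderOf (q : ZMod r) = 2 * j) (hjn : j ≤ n) :
    ∃ y ∈ SU', y ^ r = 1 ∧ Odd (y.1 - 1).rank := by
  classical
  have hr : r.Prime := Fact.out
  rcases eq_or_ne j 1 with rfl | hj1
  · -- r divides q + 1
    have hq1 : (q : ZMod r) = -1 := by
      have h := pow_orderOf_eq_one (q : ZMod r)
      rw [hi, mul_one] at h
      refine (sq_eq_one_iff.1 h).resolve_left fun h1 => ?_
      rw [h1, orderOf_one] at hi; omega
    have hdvd : r ∣ q + 1 := by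
      rw [← ZMod.natCast_eq_zero_iff, Nat.cast_add, hq1, Nat.cast_one]; ring
    obtain ⟨g, hg⟩ := IsCyclic.exists_generator (α := Fˣ)
    have hq2 : 2 ≤ q := hD.fix ▸ Finite.one_lt_card
    have ho : orderOf g = q ^ 2 - 1 := by
      rw [orderOf_eq_card_of_forall_mem_zpowers hg, Nat.card_units, Nat.card_eq_fintype_card, hD.card]
    have hd' : r ∣ q ^ 2 - 1 := hdvd.trans ⟨q - 1, by rw [← Nat.sq_sub_sq, one_pow]⟩
    have hpos : 0 < q ^ 2 - 1 := by
      have : 2 ^ 2 ≤ q ^ 2 := Nat.pow_le_pow_left hq2 2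
      omega
    obtain ⟨ζ, hζ⟩ : ∃ ζ : F, IsPrimitiveRoot ζ r :=
      ⟨_, ((ho ▸ IsPrimitiveRoot.orderOf g).pow hpos (Nat.div_mul_cancel hd').symm).map_of_injective
        (f := Units.coeHom F) Units.val_injective⟩
    let t : Fin n → F := fun i => if i.val < 2 then ζ else if i.val = 2 then ((ζ ^ 2)⁻¹) else 1
    have htr : ∀ i, t i ^ r = 1 := fun i => by
      simp only [t]; split_ifs <;>
        first | exact hζ.pow_eq_one | exact one_pow _ | rw [inv_pow, ← pow_mul, mul_comm, pow_mul, hζ.pow_eq_one, one_pow, inv_one]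
    obtain ⟨c, hc⟩ := hdvd
    obtain ⟨y, hy, hyd⟩ := diag_mem hD t fun i => by rw [hc, pow_mul, htr, one_pow]
    obtain ⟨k, rfl⟩ : ∃ k, n = 3 + k := ⟨n - 3, by omega⟩
    have htR : ∀ i : Fin k, t (Fin.natAdd 3 i) = 1 := fun i => by
      simp only [t, Fin.val_natAdd]; rw [if_neg (by omega), if_neg (by omega)]
    refine ⟨y, ⟨hy, Units.ext ?_⟩, Units.ext ?_, ?_⟩
    · show y.1.det = 1
      have hζ0 : ζ ≠ 0 := hζ.ne_zero hr.ne_zero
      rw [hyd, det_diagonal, Fin.prod_univ_add, Fin.prod_univ_three]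
      simp only [htR, Finset.prod_const_one, mul_one]
      simp [t]
      field_simp
    · rw [Units.val_pow_eq_pow_val, hyd, diagonal_pow, Units.val_one, ← diagonal_one]
      exact congrArg _ (funext htr)
    · have hne : ζ ≠ 1 := hζ.ne_one hr.one_lt
      have hne2 : ζ ^ 2 ≠ 1 := hζ.pow_ne_one_of_pos_of_lt (by norm_num) (lt_of_le_of_ne hr.two_le (Ne.symm hr2))
      rw [hyd, rank_diag_sub (s := (Finset.univ : Finset (Fin 3)).map (Fin.castAddEmb k)) (fun i => ?_)]
      · simp; decide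
      induction i using Fin.addCases with
      | left i => fin_cases i <;> simp [t, hne, hne2]
      | right i =>
        refine iff_of_false ?_ (by simp [htR])
        simp [Fin.ext_iff]
        intro a; omega
  -- an irreducible self-conjugate factor
  have hj3 : 3 ≤ j := by obtain ⟨s, rfl⟩ := hj; omega
  have hqz : (q : ZMod r) ≠ 0 := fun h => by
    have e := pow_orderOf_eq_one (q : ZMod r)
    rw [hi, h, zero_pow (by omega)] at e
    exact zero_ne_one e
  have hK : (Fintype.card F : ZMod r) = (q : ZMod r) ^ 2 := by rw [hD.card, Nat.cast_pow]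
  have hord : orderOf (Fintype.card F : ZMod r) = j := by
    rw [hK, orderOf_pow' _ two_ne_zero, hi, Nat.gcd_eq_right (dvd_mul_right 2 j), Nat.mul_div_cancel_left _ two_pos]
  have hneg : (q : ZMod r) ^ j = -1 := by
    have h := pow_orderOf_eq_one (q : ZMod r)
    rw [hi, mul_comm, pow_mul] at h
    exact (sq_eq_one_iff.1 h).resolve_left (pow_ne_one_of_lt_orderOf (by omega) (by omega))
  obtain ⟨a, ha⟩ : ∃ a, q = p ^ a := by
    obtain ⟨k, -, hk⟩ := FiniteField.card F p
    have : q ∣ p ^ (k : ℕ) := by rw [← hk, hD.card]; exact dvd_pow_self q two_ne_zero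
    obtain ⟨a, -, ha⟩ := (Nat.dvd_prime_pow Fact.out).1 this
    exact ⟨a, ha⟩
  obtain ⟨g, hg⟩ : (factors F r).Nonempty := by
    rw [← Finset.card_pos]
    refine Nat.pos_of_ne_zero fun e => ?_
    have hcard := card_factors (F := F) p hr hrp
    rw [e, zero_mul] at hcard
    have := hr.two_le; omega
  obtain ⟨hg1, hgm, hgi, hgd⟩ := (mem_factors hr.ne_zero).1 hg
  have hgdeg : g.natDegree = j := hord ▸ natDegree_factor hr hgm hgi hgd hg1
  have hself : rc σ g = g := (rc_self_iff σ hD.inv p a (fun x => ha ▸ hD.apply x) hr hg).2 ⟨(j + 1) / 2, by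
    rw [hK, ← pow_mul, ← ha, show 2 * ((j + 1) / 2) = j + 1 by obtain ⟨s, rfl⟩ := hj; omega, pow_succ, hneg, neg_one_mul]⟩
  obtain ⟨f, hf⟩ : ∃ f, f = g * (Polynomial.X - Polynomial.C 1 : F[X]) ^ (n - j) := ⟨_, rfl⟩
  have hX1 : (Polynomial.X - Polynomial.C 1 : F[X]) ∣ Polynomial.X ^ r - 1 := by
    rw [dvd_iff_isRoot]; simp
  have hG : Good r f := ⟨hf ▸ hgm.mul ((monic_X_sub_C 1).pow _), fun u hum hui hud => by
    rcases hui.prime.dvd_or_dvd (hf ▸ hud) with e | e
    · exact e.trans hgd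
    · exact (hui.prime.dvd_of_dvd_pow e).trans hX1⟩
  have hdeg : f.natDegree = n := by
    rw [hf, hgm.natDegree_mul ((monic_X_sub_C 1).pow _), natDegree_pow, natDegree_X_sub_C, hgdeg]; omega
  have hfix : rc σ f = f := by rw [hf, rc_mul, rc_pow, rc_X_sub_one, hself]
  obtain ⟨σe, hσe⟩ : ∃ τ : F ≃+* F, ∀ x, τ x = σ x := ⟨Hermitian.sEquiv hD.inv, Hermitian.sEquiv_apply hD.inv⟩
  obtain ⟨μ, hμ⟩ : ∃ μ, σe μ ≠ μ := by
    by_contra h; push Not at h; exact hD.ne (RingHom.ext fun x => (hσe x).symm.trans (h x))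
  have hσ2 : orderOf σe = 2 := by
    haveI : Fact (Nat.Prime 2) := ⟨Nat.prime_two⟩
    refine orderOf_eq_prime (RingEquiv.ext fun x => ?_) fun h => hμ ?_
    · rw [sq]; show σe (σe x) = x; rw [hσe, hσe, hD.inv]
    · rw [h]; rfl
  have hne0 := coeff_zero_ne hr.ne_zero hG
  have hsym := (rc_fix_iff σ hD.inv hG.1 hne0 hdeg).1 hfix
  obtain ⟨M, hM, hMf⟩ := UnitaryClasses.exists_charpoly_eq σe hσ2 hμ hG.1 hdeg hne0 fun i hi' => by rw [hsym i hi', hσe]
  obtain ⟨A, hA, hAM⟩ : ∃ A ∈ Cfsg.GU n F q, (A : GL (Fin n) F).1 = M := by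
    refine ⟨⟨M, UnitarySpectra.adj σe M, mul_eq_one_comm.1 hM, hM⟩, ?_, rfl⟩
    rw [HermSU.mem_GU_iff hD.apply]
    have e : M.map σ = M.map σe := by ext s t; exact (hσe _).symm
    show Mᵀ * M.map σ = 1
    rw [e, ← Matrix.transpose_inj, Matrix.transpose_mul, Matrix.transpose_transpose, Matrix.transpose_one]
    exact hM
  obtain ⟨e, he⟩ := SemisimpleCl.exists_coprime_pow (F := F) p A
  obtain ⟨B, hB⟩ : ∃ B, B = A ^ Fintype.card F ^ e := ⟨_, rfl⟩
  rw [← hB] at he
  have hk : ∀ k, (M ^ Fintype.card F ^ k).charpoly = M.charpoly := by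
    intro k
    induction k with
    | zero => simp
    | succ k ih => rw [pow_succ, pow_mul, FiniteField.Matrix.charpoly_pow_card, ih]
  have hBc : B.1.charpoly = f := by rw [hB, Units.val_pow_eq_pow_val, hAM, hk, hMf]
  have hBr : B.1 ^ r = 1 := LBRootPoly.pow_eq_one p (by rw [← Units.val_pow_eq_pow_val, pow_orderOf_eq_one]; rfl) he (hBc.symm ▸ hG) hr.ne_zero
  have hBU : B ∈ Cfsg.GU n F q := hB ▸ pow_mem hA _
  refine ⟨B, ⟨hBU, Units.ext ?_⟩, Units.ext (by rw [Units.val_pow_eq_pow_val]; exact hBr), ?_⟩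
  · show B.1.det = 1
    have h1 : B.1.det ^ r = 1 := by rw [← det_pow, hBr, det_one]
    have hcop : Nat.gcd r (q + 1) = 1 := hr.coprime_iff_not_dvd.2 fun h => by
      rw [← ZMod.natCast_eq_zero_iff, Nat.cast_add, Nat.cast_one, add_eq_zero_iff_eq_neg] at h
      have : (q : ZMod r) ^ 2 = 1 := by rw [h, neg_one_sq]
      have := Nat.le_of_dvd two_pos (orderOf_dvd_of_pow_eq_one this)
      omega
    have := (pow_gcd_eq_one).2 ⟨h1, det_unit hD hBU⟩
    rwa [hcop, pow_one] at this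
  · obtain ⟨T, hT⟩ : ∃ T, T = Matrix.toLin' B.1 := ⟨_, rfl⟩
    have hss : Module.End.IsSemisimple T := by
      refine hT ▸ SemisimpleCl.isSemisimple_of_pow p hBr ((Nat.coprime_primes hr Fact.out).2 hrp)
    have hker : finrank F (Module.End.eigenspace T 1) = n - j := by
      rw [← (Module.End.isFinitelySemisimple_iff_isSemisimple.2 hss).maxGenEigenspace_eq_eigenspace,
        LinearMap.finrank_maxGenEigenspace_eq, hT, Matrix.charpoly_toLin', hBc, hf, rootMultiplicity_mul (by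
          rw [← hf]; exact hG.1.ne_zero), rootMultiplicity_X_sub_C_pow, rootMultiplicity_eq_zero (fun h => hg1
            (eq_of_monic_of_associated hgm (monic_X_sub_C 1) ((irreducible_X_sub_C (1 : F)).associated_of_dvd hgi
              (dvd_iff_isRoot.2 h)).symm)), zero_add]
    have h1 := LinearMap.finrank_range_add_finrank_ker (B.1 - 1).mulVecLin
    rw [Module.finrank_fin_fun, show LinearMap.ker (B.1 - 1).mulVecLin = Module.End.eigenspace T 1 by
      rw [Module.End.eigenspace_def, hT, one_smul, ← Matrix.toLin'_apply', map_sub, Matrix.toLin'_one]; rfl, hker] at h1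
    rw [show (B.1 - 1).rank = j by rw [Matrix.rank]; omega]
    exact hj

/-- The primes of the index. -/
theorem index_prime (hD : Frob F q σ) (p : ℕ) [Fact p.Prime] [CharP F p] (hn : n = m + m) (hm : 1 ≤ m)
    {D : Fin 2 → Submodule F (Fin n → F)} (hDm : Cfsg.Geo.IsMDecomposition m D)
    (hDs : ∀ i, Cfsg.Geo.IsTotallySingularFor HF (D i)) [Fact r.Prime]
    (hΩ : r ∣ (Cfsg.Geo.decompositionStabilizer D).relIndex SU') :
    r = p ∨ ∃ l, Odd l ∧ l < n ∧ r ∣ q ^ l + 1 := by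
  classical
  have hr : r.Prime := Fact.out
  obtain ⟨e, he⟩ : ∃ e : Fin m ⊕ Fin m ≃ Fin n, e = finSumFinEquiv.trans (finCongr hn.symm) := ⟨_, rfl⟩
  obtain ⟨P, hP, hP0, hP1⟩ := exists_frame hD e (isCompl_of_decomp hDm) (hDs 0) (hDs 1) (hDm.finrank_eq 0) (hDm.finrank_eq 1)
  have hq2 : 2 ≤ q := hD.fix ▸ Finite.one_lt_card
  let tw : GL (Fin m) F →* GL (Fin m) F :=
    { toFun := fun S => ⟨((S⁻¹).1.map σ)ᵀ, (S.1.map σ)ᵀ,
        by rw [← transpose_mul, ← Matrix.map_mul, Units.mul_inv]; simp,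
        by rw [← transpose_mul, ← Matrix.map_mul, Units.inv_mul]; simp⟩
      map_one' := Units.ext (by simp)
      map_mul' := fun S T => Units.ext (by simp [Matrix.map_mul, transpose_mul]) }
  let R := Matrix.reindexAlgEquiv F F e
  let blk : GL (Fin m) F →* GL (Fin n) F :=
    Units.map
      { toFun := fun M : Matrix (Fin m ⊕ Fin m) (Fin m ⊕ Fin m) F => R M
        map_one' := map_one R
        map_mul' := map_mul R } |>.comp
      { toFun := fun S => ⟨fromBlocks S.1 0 0 (tw S).1, fromBlocks (S⁻¹).1 0 0 ((tw S)⁻¹).1,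
          by rw [fromBlocks_multiply]; simp [fromBlocks_one], by rw [fromBlocks_multiply]; simp [fromBlocks_one]⟩
        map_one' := Units.ext (by simp [fromBlocks_one])
        map_mul' := fun S T => Units.ext (by
          show fromBlocks _ _ _ _ = fromBlocks _ _ _ _ * fromBlocks _ _ _ _
          rw [fromBlocks_multiply, map_mul]; simp) }
  have hblk : ∀ S, (blk S).1 = R (fromBlocks S.1 0 0 (tw S).1) := fun S => rfl
  let emb : GL (Fin m) F →* GL (Fin n) F := (MulAut.conj P).toMonoidHom.comp blk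
  have hU : ∀ S, emb S ∈ Cfsg.GU n F q := fun S => by
    obtain ⟨C, hC, hg⟩ := exists_block hD e hP hP S (tw S) (by
      show S.1ᵀ * (((S⁻¹).1.map σ)ᵀ).map σ = 1
      rw [show (((S⁻¹).1.map σ)ᵀ).map σ = (S⁻¹).1ᵀ by ext a b; exact hD.inv _, ← transpose_mul,
        Units.inv_mul, transpose_one])
    rw [show C = blk S from Units.ext (hC.trans (hblk S).symm)] at hg
    exact hg
  have hN : ∀ S, emb S ∈ Cfsg.Geo.decompositionStabilizer D := fun S => by
    refine ⟨1, fun i => ?_⟩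
    show (D i).map (Matrix.toLin' (P.1 * (blk S).1 * (P⁻¹).1)) = D i
    rw [Matrix.toLin'_mul, Matrix.toLin'_mul, Submodule.map_comp, Submodule.map_comp]
    have hinv : ∀ W : Submodule F (Fin n → F), (W.map (Matrix.toLin' P.1)).map (Matrix.toLin' (P⁻¹).1) = W := fun W => by
      rw [← Submodule.map_comp, ← Matrix.toLin'_mul, Units.inv_mul, Matrix.toLin'_one, Submodule.map_id]
    fin_cases i
    · show Submodule.map _ (Submodule.map _ (Submodule.map _ (D 0))) = D 0
      rw [← hP0, hinv, (map_blocks e (hblk S)).1]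
    · show Submodule.map _ (Submodule.map _ (Submodule.map _ (D 1))) = D 1
      rw [← hP1, hinv, (map_blocks e (hblk S)).2]
  let dt : GL (Fin m) F →* Fˣ := GeneralLinearGroup.det.comp emb
  let f : dt.ker →* ↥((Cfsg.Geo.decompositionStabilizer D).subgroupOf SU') :=
    { toFun := fun S => ⟨⟨emb S.1, hU S.1, S.2⟩, hN S.1⟩
      map_one' := Subtype.ext (Subtype.ext (map_one emb))
      map_mul' := fun a b => Subtype.ext (Subtype.ext (map_mul emb a.1 b.1)) }
  have hf : Function.Injective f := fun a b hab => by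
    refine Subtype.ext (Units.ext ?_)
    have h1 : emb a.1 = emb b.1 := congrArg (fun x => x.1.1) hab
    have h2 : blk a.1 = blk b.1 := (MulAut.conj P).injective h1
    have h3 := R.injective ((hblk _).symm.trans ((congrArg Units.val h2).trans (hblk _)))
    have h4 := congrArg toBlocks₁₁ h3
    simpa using h4
  have hrange : Nat.card dt.range ∣ q + 1 := by
    have hsub : dt.range ≤ HermSU.normOne σ := by
      rintro _ ⟨S, rfl⟩
      exact HermSU.det_mem_normOne hD.apply (hU S)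
    exact (Subgroup.card_dvd_of_le hsub).trans (dvd_of_eq (HermSU.card_normOne hD.ne hD.inv hD.fix))
  have hker := Subgroup.card_mul_index dt.ker
  rw [Subgroup.index_ker] at hker
  obtain ⟨N, hN'⟩ : ∃ N, N = (Cfsg.Geo.decompositionStabilizer D).relIndex SU' := ⟨_, rfl⟩
  have hS : Nat.card ↥SU' * (q + 1) = Nat.card (Cfsg.GU n F q) := by
    rw [← HermSU.card_SU_mul hD.ne hD.inv hD.apply (by omega) hD.fix, mul_comm]
    congr 1
    exact Nat.card_congr
      { toFun := fun g => ⟨⟨g.1.1, congrArg Units.val g.2.2⟩, fun a b => g.2.1 a b⟩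
        invFun := fun A => ⟨Matrix.SpecialLinearGroup.toGL A.1, HermSU.toGL_mem_GU A, Units.ext A.1.2⟩
        left_inv := fun g => Subtype.ext (Units.ext rfl)
        right_inv := fun A => Subtype.ext (Subtype.ext rfl) }
  have hdvd : Nat.card (GL (Fin m) F) * N ∣ Nat.card (Cfsg.GU n F q) := by
    rw [← hker, ← hS, ← Subgroup.card_mul_index ((Cfsg.Geo.decompositionStabilizer D).subgroupOf SU'), mul_right_comm _ (Nat.card dt.range)]
    exact Nat.mul_dvd_mul (Nat.mul_dvd_mul (Subgroup.card_dvd_of_injective f hf) (dvd_of_eq hN')) hrange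
  rw [ClassicalSL.card_gl_fin (by rw [Nat.card_eq_fintype_card, hD.card]) m, HermStd.card_GU hD.ne hD.inv hD.apply n hD.fix] at hdvd
  obtain ⟨A, hA⟩ : ∃ A, A = ∏ t ∈ Finset.range m, (q ^ (2 * (t + 1)) - 1) := ⟨_, rfl⟩
  have hA0 : 0 < A := hA ▸ Finset.prod_pos fun i _ => Nat.sub_pos_of_lt (Nat.one_lt_pow (by omega) (by omega))
  have e1 : ∏ i : Fin m, ((q ^ 2) ^ m - (q ^ 2) ^ (i : ℕ)) = (∏ t ∈ Finset.range m, (q ^ 2) ^ t) * A := by
    rw [Fin.prod_univ_eq_prod_range (fun i => (q ^ 2) ^ m - (q ^ 2) ^ i) m, hA,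
      ← Finset.prod_range_reflect (fun t => q ^ (2 * (t + 1)) - 1), ← Finset.prod_mul_distrib]
    refine Finset.prod_congr rfl fun i hi => ?_
    rw [Finset.mem_range] at hi
    rw [Nat.mul_sub, mul_one, pow_mul, ← pow_add, show i + (m - 1 - i + 1) = m by omega]
  have e2 : ∀ k, ∏ i ∈ Finset.range (k + k), (if Even i then q ^ (i + 1) + 1 else q ^ (i + 1) - 1)
      = (∏ t ∈ Finset.range k, (q ^ (2 * t + 1) + 1)) * ∏ t ∈ Finset.range k, (q ^ (2 * (t + 1)) - 1) := by
    intro k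
    induction k with
    | zero => simp
    | succ k ih =>
      rw [show k + 1 + (k + 1) = k + k + 1 + 1 by omega, Finset.prod_range_succ, Finset.prod_range_succ, ih,
        Finset.prod_range_succ, Finset.prod_range_succ, if_pos ⟨k, rfl⟩, if_neg (by simp [parity_simps]),
        show k + k + 1 = 2 * k + 1 by omega, show 2 * k + 1 + 1 = 2 * (k + 1) by omega]
      ring
  rw [e1, hn, e2, ← hA, ← hn] at hdvd
  have h3 : N ∣ q ^ (n * (n - 1) / 2) * ∏ t ∈ Finset.range m, (q ^ (2 * t + 1) + 1) := by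
    refine Nat.dvd_of_mul_dvd_mul_left hA0 ((Dvd.intro_left (∏ t ∈ Finset.range m, (q ^ 2) ^ t) ?_).trans (hdvd.trans (dvd_of_eq ?_)))
    · ring
    · ring
  rcases hr.dvd_mul.1 ((hN' ▸ hΩ).trans h3) with h | h
  · left
    obtain ⟨k, hp, hk⟩ := FiniteField.card F p
    have h1 : r ∣ Fintype.card F := by rw [hD.card, pow_two]; exact (hr.dvd_of_dvd_pow h).mul_right q
    exact (Nat.prime_dvd_prime_iff_eq hr hp).1 (hr.dvd_of_dvd_pow (hk ▸ h1))
  · obtain ⟨t, ht, htd⟩ := (Prime.dvd_finset_prod_iff hr.prime _).1 h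
    rw [Finset.mem_range] at ht
    exact Or.inr ⟨2 * t + 1, ⟨t, rfl⟩, by omega, htd⟩

/-- Every involution of the quotient fixes a pair. -/
theorem fixes (hD : Frob F q σ) (p : ℕ) [Fact p.Prime] [CharP F p] (hp : p ≠ 2) (hn : n = m + m) (hm : 1 ≤ m)
    {D : Fin 2 → Submodule F (Fin n → F)} (hDm : Cfsg.Geo.IsMDecomposition m D)
    (hDs : ∀ i, Cfsg.Geo.IsTotallySingularFor HF (D i)) (hle : padicValNat 2 (q + 1) ≤ padicValNat 2 n)
    {x : GL (Fin n) F} (hx : x ∈ SU') (hxz : ∃ z : F, (x ^ 2).1 = z • (1 : Matrix (Fin n) (Fin n) F)) :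
    ∃ g ∈ SU', g⁻¹ * x * g ∈ Cfsg.Geo.decompositionStabilizer D := by
  classical
  have hh := HermStd.isHerm_std hD.ne hD.inv hD.apply n
  have h2 : (2 : F) ≠ 0 := Ring.two_ne_zero (by rw [ringChar.eq F p]; exact hp)
  suffices hex : ∃ D' : Fin 2 → Submodule F (Fin n → F), IsCompl (D' 0) (D' 1) ∧
      (∀ i, Cfsg.Geo.IsTotallySingularFor HF (D' i)) ∧ (∀ i, finrank F (D' i) = m) ∧
      ∀ i, (D' i).map (Matrix.toLin' x.1) = D' i by
    obtain ⟨D', h1, h2', h3, h4⟩ := hex
    obtain ⟨g, hg, hgD⟩ := exists_map hD hn hm hDm hDs h1 h2' h3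
    refine ⟨g, hg, 1, fun i => ?_⟩
    rw [Units.val_mul, Units.val_mul, Matrix.toLin'_mul, Matrix.toLin'_mul, Submodule.map_comp, Submodule.map_comp, hgD, h4,
      ← hgD i, ← Submodule.map_comp, ← Matrix.toLin'_mul, Units.inv_mul, Matrix.toLin'_one, Submodule.map_id]
    rfl
  obtain ⟨z, hz⟩ := hxz
  rw [Units.val_pow_eq_pow_val, pow_two] at hz
  have hdet : z ^ n = 1 := by
    have h := congrArg Matrix.det hz
    rw [det_mul, show x.1.det = 1 from congrArg Units.val hx.2, det_smul, det_one, mul_one, Fintype.card_fin, mul_one] at h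
    exact h.symm
  have hz0 : z ≠ 0 := fun h => by rw [h, zero_pow (by omega)] at hdet; exact zero_ne_one hdet
  have hxH : ∀ u w : Fin n → F, HF (x.1 *ᵥ u) (x.1 *ᵥ w) = HF u w := hx.1
  have hzn : z ^ (q + 1) = 1 := by
    have h : HF (z • Pi.single ⟨0, by omega⟩ 1) (z • Pi.single ⟨0, by omega⟩ 1) = HF (Pi.single (⟨0, by omega⟩ : Fin n) 1) (Pi.single ⟨0, by omega⟩ 1) := by
      have e : ∀ u : Fin n → F, z • u = x.1 *ᵥ (x.1 *ᵥ u) := fun u => by rw [mulVec_mulVec, hz, smul_mulVec, one_mulVec]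
      rw [e, hxH, hxH]
    rw [hh.smul_left, hh.smul_right, HermStd.hermForm_single hD.apply, if_pos rfl, mul_one, hD.apply, ← pow_succ'] at h
    exact h
  obtain ⟨a, ha⟩ : ∃ a : F, a * a = z := by
    obtain ⟨g, hg⟩ := IsCyclic.exists_generator (α := Fˣ)
    obtain ⟨k, hk⟩ := Subgroup.mem_zpowers_iff.1 (hg (Units.mk0 z hz0))
    have ho : orderOf g = q ^ 2 - 1 := by
      rw [orderOf_eq_card_of_forall_mem_zpowers hg, Nat.card_units, Nat.card_eq_fintype_card, hD.card]
    have hodd : Odd q := by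
      rcases Nat.even_or_odd q with h | h
      · exfalso
        exact hp ((ringChar.eq F p).symm.trans (FiniteField.even_card_iff_char_two.2 (Nat.even_iff.1 (hD.card ▸ (Nat.even_pow.2 ⟨h, two_ne_zero⟩)))))
      · exact h
    have hq2 : 2 ≤ q := hD.fix ▸ Finite.one_lt_card
    have h1 : g ^ (k * (q + 1)) = 1 := by
      rw [_root_.zpow_mul, hk]
      refine Units.ext ?_
      rw [show ((q : ℤ) + 1) = ((q + 1 : ℕ) : ℤ) by push_cast; ring, zpow_natCast, Units.val_pow_eq_pow_val]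
      exact hzn
    have h2' := orderOf_dvd_iff_zpow_eq_one.2 h1
    rw [ho, Nat.cast_sub (Nat.one_le_pow _ _ (by omega)), Nat.cast_pow, Nat.cast_one,
      show ((q : ℤ) ^ 2 - 1) = ((q : ℤ) - 1) * (q + 1) by ring] at h2'
    obtain ⟨l, hl⟩ := Int.dvd_of_mul_dvd_mul_right (by omega) h2'
    obtain ⟨s, hs⟩ := hodd
    refine ⟨((g ^ ((s : ℤ) * l) : Fˣ) : F), ?_⟩
    rw [← Units.val_mul, ← _root_.zpow_add, show (s : ℤ) * l + s * l = k by rw [hl, hs]; push_cast; ring, hk]
    rfl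
  have ha0 : a ≠ 0 := fun h => hz0 (by rw [← ha, h, zero_mul])
  have hane : -a ≠ a := fun h => mul_ne_zero h2 ha0 (by linear_combination -h)
  rcases mul_self_eq_one_iff.1 (show a ^ (q + 1) * a ^ (q + 1) = 1 by rw [← mul_pow, ha, hzn]) with hau | hau
  swap
  · -- isotropic eigenspaces
    have hker : ∀ b : F, b * b = z → b ^ (q + 1) = -1 → ∀ u w : Fin n → F, x.1 *ᵥ u = b • u → x.1 *ᵥ w = b • w → HF u w = 0 := by
      intro b _ hb u w hu hw
      have h := hxH u w
      rw [hu, hw, hh.smul_left, hh.smul_right, ← mul_assoc, hD.apply, ← pow_succ', hb] at h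
      exact (mul_eq_zero.1 (show (2 : F) * HF u w = 0 by linear_combination -h)).resolve_left h2
    let E : F → Submodule F (Fin n → F) := fun b => LinearMap.ker (Matrix.toLin' (x.1 - b • 1))
    have hE : ∀ b v, v ∈ E b ↔ x.1 *ᵥ v = b • v := fun b v => by
      simp [E, sub_mulVec, smul_mulVec, sub_eq_zero]
    have hc : IsCompl (E a) (E (-a)) := by
      refine ⟨Submodule.disjoint_def.2 fun v h1 h2' => ?_, codisjoint_iff.2 (eq_top_iff.2 fun v _ => ?_)⟩
      · rw [hE] at h1 h2'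
        have := h1.symm.trans h2'
        rw [← sub_eq_zero, ← sub_smul, smul_eq_zero] at this
        exact this.resolve_left (sub_ne_zero.2 (Ne.symm hane))
      · rw [show v = (2 * a)⁻¹ • (x.1 *ᵥ v + a • v) + (2 * a)⁻¹ • (a • v - x.1 *ᵥ v) by
          rw [← smul_add, show x.1 *ᵥ v + a • v + (a • v - x.1 *ᵥ v) = a • v + a • v by abel, ← two_smul F, smul_smul, smul_smul]
          rw [show (2 * a)⁻¹ * 2 * a = 1 by field_simp, one_smul]]
        refine Submodule.add_mem_sup ((E a).smul_mem _ ((hE _ _).2 ?_)) ((E (-a)).smul_mem _ ((hE _ _).2 ?_)) <;>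
          simp only [mulVec_add, mulVec_sub, mulVec_smul, mulVec_mulVec, hz, smul_mulVec, one_mulVec, ← ha, smul_add, smul_sub,
            smul_smul, neg_smul, neg_mul] <;> abel
    have hs0 : Cfsg.Geo.IsTotallySingularFor HF (E a) := fun u hu w hw => hker a ha hau u w ((hE _ _).1 hu) ((hE _ _).1 hw)
    have hs1 : Cfsg.Geo.IsTotallySingularFor HF (E (-a)) := fun u hu w hw => hker (-a) (by rw [neg_mul_neg, ha]) (by
      rw [Even.neg_pow, hau]
      rcases Nat.even_or_odd q with h | h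
      · exact absurd ((ringChar.eq F p).symm.trans (FiniteField.even_card_iff_char_two.2 (Nat.even_iff.1 (hD.card ▸ (Nat.even_pow.2 ⟨h, two_ne_zero⟩))))) hp
      · exact h.add_one) u w ((hE _ _).1 hu) ((hE _ _).1 hw)
    have hdim := Submodule.finrank_sup_add_finrank_inf_eq (E a) (E (-a))
    rw [hc.sup_eq_top, hc.inf_eq_bot, finrank_top, finrank_bot, Module.finrank_fin_fun] at hdim
    have l1 := finrank_le hD hc.sup_eq_top hs1
    have l2 := finrank_le hD (sup_comm (E a) (E (-a)) ▸ hc.sup_eq_top) hs0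
    have hmap : ∀ b, (E b).map (Matrix.toLin' x.1) = E b := fun b => by
      refine Submodule.eq_of_le_of_finrank_eq ?_ (LinearEquiv.finrank_eq (Submodule.equivMapOfInjective _ ?_ _)).symm
      · rintro _ ⟨v, hv, rfl⟩
        rw [Matrix.toLin'_apply, (hE b v).1 hv]
        exact (E b).smul_mem _ hv
      · intro u w h
        rw [Matrix.toLin'_apply, Matrix.toLin'_apply] at h
        have := congrArg (fun v => (x⁻¹).1 *ᵥ v) h
        simpa [mulVec_mulVec] using this
    refine ⟨![E a, E (-a)], hc, fun i => ?_, fun i => ?_, fun i => ?_⟩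
    · fin_cases i
      · exact hs0
      · exact hs1
    · fin_cases i
      · show finrank F (E a) = m; omega
      · show finrank F (E (-a)) = m; omega
    · fin_cases i
      · exact hmap a
      · exact hmap (-a)
  -- orthogonal eigenspaces
  obtain ⟨k, hkn, hch⟩ := LBInvCl.charpoly_square (x := x.1) (a := a) (by rw [hz, ha])
  have hsgn : (-1 : F) ^ k * a ^ n = 1 := by
    have h : x.1.charpoly.coeff 0 = _ := congrArg (fun f : F[X] => f.coeff 0) hch
    have hd : x.1.det = 1 := congrArg Units.val hx.2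
    rw [Matrix.det_eq_sign_charpoly_coeff, Fintype.card_fin, h, mul_coeff_zero, coeff_zero_eq_eval_zero,
      coeff_zero_eq_eval_zero, eval_pow, eval_pow, eval_sub, eval_sub, eval_X, eval_C, eval_C, zero_sub, zero_sub, neg_neg,
      Even.neg_one_pow ⟨m, hn⟩, one_mul, neg_pow a, mul_assoc, ← pow_add, show k + (n - k) = n by omega] at hd
    exact hd
  have han : a ^ n = 1 := by
    have h2n : a ^ n * a ^ n = 1 := by rw [← mul_pow, ha, hdet]
    refine (mul_self_eq_one_iff.1 h2n).resolve_right fun hneg => ?_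
    have hu : IsUnit a := ha0.isUnit
    obtain ⟨v, w, hw, hnw⟩ : ∃ v w : ℕ, ¬ 2 ∣ w ∧ q + 1 = 2 ^ v * w :=
      Nat.exists_eq_pow_mul_and_not_dvd (by omega) 2 (by norm_num)
    have hv : padicValNat 2 (q + 1) = v := by
      haveI : Fact (Nat.Prime 2) := ⟨Nat.prime_two⟩
      rw [hnw, padicValNat.mul (pow_ne_zero _ two_ne_zero) (fun h => hw (by rw [h]; exact dvd_zero 2)), padicValNat.prime_pow,
        padicValNat.eq_zero_of_not_dvd hw, add_zero]
    have hdv : 2 ^ v ∣ n := (pow_dvd_pow 2 (hv ▸ hle)).trans pow_padicValNat_dvd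
    obtain ⟨c, hc⟩ := hdv
    have h1 : (a ^ n) ^ w = 1 := by
      rw [← pow_mul, hc, show 2 ^ v * c * w = (q + 1) * c by rw [hnw]; ring, pow_mul, hau, one_pow]
    rw [hneg, Odd.neg_one_pow (Nat.odd_iff.2 (Nat.two_dvd_ne_zero.1 hw))] at h1
    exact h2 (by linear_combination -h1)
  have hke : Even k := by
    rw [han, mul_one] at hsgn
    rcases Nat.even_or_odd k with h | h
    · exact h
    · rw [h.neg_one_pow] at hsgn
      exact absurd (by linear_combination -hsgn) h2
  obtain ⟨k', hk'⟩ := hke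
  let t : Fin n → F := fun i => if i.val < k then a else -a
  obtain ⟨y, hyU, hyd⟩ := diag_mem hD t fun i => by
    simp only [t]; split
    · exact hau
    · rw [Even.neg_pow, hau]
      rcases Nat.even_or_odd q with h | h
      · exact absurd ((ringChar.eq F p).symm.trans (FiniteField.even_card_iff_char_two.2 (Nat.even_iff.1 (hD.card ▸ (Nat.even_pow.2 ⟨h, two_ne_zero⟩))))) hp
      · exact h.add_one
  have hych : y.1.charpoly = x.1.charpoly := by
    rw [hyd, charpoly_diagonal, hch, Fin.prod_univ_eq_prod_range (fun i => (Polynomial.X - Polynomial.C (if i < k then a else -a) : F[X])) n]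
    obtain ⟨s, hs⟩ : ∃ s, n = k + s := ⟨n - k, by omega⟩
    rw [hs, Finset.prod_range_add, Nat.add_sub_cancel_left]
    congr 1
    · rw [Finset.prod_congr rfl fun i hi => by rw [if_pos (Finset.mem_range.1 hi)], Finset.prod_const, Finset.card_range]
    · rw [Finset.prod_congr rfl fun i _ => by rw [if_neg (show ¬ k + i < k by omega)], Finset.prod_const, Finset.card_range]
  have hord : ∀ w : GL (Fin n) F, w.1 * w.1 = z • 1 → (orderOf w).Coprime p := by
    intro w hw
    have hpd : w ^ (2 * (q + 1)) = 1 := Units.ext (by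
      rw [Units.val_pow_eq_pow_val, pow_mul, pow_two, hw, _root_.smul_pow, one_pow, hzn, one_smul]; rfl)
    refine Nat.Coprime.of_dvd_left (orderOf_dvd_of_pow_eq_one hpd) (Nat.Coprime.mul_left ((Nat.coprime_primes Nat.prime_two Fact.out).2 (Ne.symm hp)) ?_)
    refine ((Fact.out : p.Prime).coprime_iff_not_dvd.2 fun h => ?_).symm
    have hpq : p ∣ q := by
      obtain ⟨k, hp', hk⟩ := FiniteField.card F p
      exact hp'.dvd_of_dvd_pow (show p ∣ q ^ 2 by rw [← hD.card, hk]; exact dvd_pow_self p k.ne_zero)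
    exact (Fact.out : p.Prime).one_lt.ne' (Nat.dvd_one.1 ((Nat.dvd_add_right hpq).1 h))
  have hyz : y.1 * y.1 = z • 1 := by
    rw [hyd, diagonal_mul_diagonal, smul_one_eq_diagonal]
    congr 1; funext i; simp only [t]; split <;> simp [ha]
  obtain ⟨Q, hQ⟩ := isConj_iff.1 (LBRootGU.isConj_gu p hD.card ⟨x, hx.1⟩ ⟨y, hyU⟩
    (by rw [Subgroup.orderOf_mk]; exact hord x hz) (by rw [Subgroup.orderOf_mk]; exact hord y hyz) hych.symm)
  have hQe : Q.1 * x = y * Q.1 := mul_inv_eq_iff_eq_mul.1 (congrArg Subtype.val hQ)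
  obtain ⟨c₁, hc₁⟩ := exists_norm hD.ne hD.inv (show σ (-1 : F) = -1 by simp)
  have hc10 : c₁ ≠ 0 := fun h => by rw [h, zero_mul] at hc₁; exact one_ne_zero (neg_eq_zero.1 hc₁.symm)
  obtain ⟨c₂, hc₂, hc12⟩ : ∃ c, c * σ c = -1 ∧ c₁ ≠ c :=
    ⟨-c₁, by rw [map_neg, neg_mul_neg, hc₁], fun h => mul_ne_zero h2 hc10 (by linear_combination h)⟩
  have hQH : ∀ u w : Fin n → F, HF ((Q.1⁻¹).1 *ᵥ u) ((Q.1⁻¹).1 *ᵥ w) = HF u w := (inv_mem Q.2 : Q.1⁻¹ ∈ Cfsg.GU n F q)
  let el : Fin n ≃ Fin m × Fin 2 := (finCongr (by omega : n = m * 2)).trans finProdFinEquiv.symm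
  let ext' : F → ((Fin m → F) →ₗ[F] (Fin n → F)) := fun c =>
    { toFun := fun v l => (if (el l).2 = 0 then 1 else c) * v (el l).1
      map_add' := fun v w => by funext l; simp [mul_add]
      map_smul' := fun s v => by funext l; simp; ring }
  let L : F → ((Fin m → F) →ₗ[F] (Fin n → F)) := fun c => (Matrix.toLin' (Q.1⁻¹).1).comp (ext' c)
  have hLapp : ∀ c v, L c v = (Q.1⁻¹).1 *ᵥ (fun l => (if (el l).2 = 0 then 1 else c) * v (el l).1) := fun c v => rfl
  have hext : ∀ c v i, (ext' c v) (el.symm (i, 0)) = v i ∧ (ext' c v) (el.symm (i, 1)) = c * v i := fun c v i => by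
    simp [ext']
  have hQinj : Function.Injective fun u : Fin n → F => (Q.1⁻¹).1 *ᵥ u := fun u w h => by
    have := congrArg (fun v => Q.1.1 *ᵥ v) h
    simpa [mulVec_mulVec] using this
  have hinj : ∀ c, Function.Injective (L c) := fun c v w h => funext fun i => by
    have h' := congrFun (hQinj (show (Q.1⁻¹).1 *ᵥ ext' c v = (Q.1⁻¹).1 *ᵥ ext' c w from h)) (el.symm (i, 0))
    rwa [(hext c v i).1, (hext c w i).1] at h'
  have hsing : ∀ c, c * σ c = -1 → Cfsg.Geo.IsTotallySingularFor HF (LinearMap.range (L c)) := by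
    rintro c hc _ ⟨v, rfl⟩ _ ⟨w, rfl⟩
    show HF ((Q.1⁻¹).1 *ᵥ ext' c v) ((Q.1⁻¹).1 *ᵥ ext' c w) = 0
    rw [hQH, LBUnitary.herm_dot hD.apply, dotProduct, ← Equiv.sum_comp el.symm, Fintype.sum_prod_type]
    refine Finset.sum_eq_zero fun i _ => ?_
    rw [Fin.sum_univ_two, Function.comp_apply, Function.comp_apply, (hext c v i).1, (hext c v i).2, (hext c w i).1,
      (hext c w i).2, map_mul]
    linear_combination (v i * σ (w i)) * hc
  have hmapL : ∀ c, (LinearMap.range (L c)).map (Matrix.toLin' x.1) = LinearMap.range (L c) := by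
    intro c
    refine Submodule.eq_of_le_of_finrank_eq ?_ (LinearEquiv.finrank_eq (Submodule.equivMapOfInjective _ ?_ _)).symm
    · rintro _ ⟨_, ⟨v, rfl⟩, rfl⟩
      refine ⟨fun i => (if 2 * i.val < k then a else -a) * v i, ?_⟩
      show L c _ = x.1 *ᵥ ((Q.1⁻¹).1 *ᵥ ext' c v)
      have e1 : x * Q.1⁻¹ = Q.1⁻¹ * y := by rw [mul_inv_eq_iff_eq_mul, mul_assoc, ← hQe, inv_mul_cancel_left]
      rw [hLapp, mulVec_mulVec, ← Units.val_mul, e1, Units.val_mul, ← mulVec_mulVec, hyd]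
      congr 1
      funext l
      rw [mulVec_diagonal]
      show _ = t l * ((if (el l).2 = 0 then 1 else c) * v (el l).1)
      have hl : l.val = (el l).2.val + 2 * (el l).1.val := by
        have := congrArg Fin.val (el.symm_apply_apply l)
        simpa [el] using this.symm
      have hiff : (2 * (el l).1.val < k) ↔ l.val < k := by
        have := (el l).2.isLt
        omega
      simp only [t, hiff]
      split <;> ring
    · intro u w h
      rw [Matrix.toLin'_apply, Matrix.toLin'_apply] at h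
      have := congrArg (fun v => (x⁻¹).1 *ᵥ v) h
      simpa [mulVec_mulVec] using this
  have hdisj : Disjoint (LinearMap.range (L c₁)) (LinearMap.range (L c₂)) := by
    rw [Submodule.disjoint_def]
    rintro _ ⟨v, rfl⟩ ⟨w, hw⟩
    have h' := hQinj (show (Q.1⁻¹).1 *ᵥ ext' c₂ w = (Q.1⁻¹).1 *ᵥ ext' c₁ v from hw)
    have hv : v = 0 := funext fun i => by
      have e0 := congrFun h' (el.symm (i, 0))
      have e1 := congrFun h' (el.symm (i, 1))
      rw [(hext _ _ i).1, (hext _ _ i).1] at e0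
      rw [(hext _ _ i).2, (hext _ _ i).2, e0] at e1
      exact (mul_eq_zero.1 (show (c₁ - c₂) * v i = 0 by linear_combination -e1)).resolve_left (sub_ne_zero.2 hc12)
    rw [hv, map_zero]
  have hfr : ∀ c, finrank F (LinearMap.range (L c)) = m := fun c => by
    rw [LinearMap.finrank_range_of_inj (hinj c), Module.finrank_fin_fun]
  refine ⟨![LinearMap.range (L c₁), LinearMap.range (L c₂)], ?_, fun i => ?_, fun i => ?_, fun i => ?_⟩
  · refine ⟨hdisj, codisjoint_iff.2 (Submodule.eq_top_of_finrank_eq ?_)⟩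
    have h := Submodule.finrank_sup_add_finrank_inf_eq (LinearMap.range (L c₁)) (LinearMap.range (L c₂))
    rw [hdisj.eq_bot, finrank_bot, hfr, hfr] at h
    rw [Module.finrank_fin_fun]
    show finrank F ↥(LinearMap.range (L c₁) ⊔ LinearMap.range (L c₂)) = n
    omega
  · fin_cases i
    · exact hsing _ hc₁
    · exact hsing _ hc₂
  · fin_cases i
    · exact hfr _
    · exact hfr _
  · fin_cases i
    · exact hmapL _
    · exact hmapL _

/-- The derangements. -/
theorem exists_derangement (hD : Frob F q σ) (p : ℕ) [Fact p.Prime] [CharP F p] (hn : n = m + m) (hm : 2 ≤ m)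
    {D : Fin 2 → Submodule F (Fin n → F)} (hDm : Cfsg.Geo.IsMDecomposition m D)
    (hDs : ∀ i, Cfsg.Geo.IsTotallySingularFor HF (D i)) [Fact r.Prime]
    (hΩ : r ∣ (Cfsg.Geo.decompositionStabilizer D).relIndex SU')
    (hnot : ¬ (r = 2 ∧ p ≠ 2 ∧ padicValNat 2 (q + 1) ≤ padicValNat 2 n)) :
    ∃ x ∈ SU', (∃ z : F, (x ^ r).1 = z • (1 : Matrix (Fin n) (Fin n) F)) ∧
      (∀ z : F, x.1 ≠ z • (1 : Matrix (Fin n) (Fin n) F)) ∧
      ∀ g ∈ SU', g⁻¹ * x * g ∉ Cfsg.Geo.decompositionStabilizer D := by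
  classical
  have hr : r.Prime := Fact.out
  haveI : Nonempty (Fin n) := ⟨⟨0, by omega⟩⟩
  have hnsc : ∀ (y : GL (Fin n) F) (a : F), a ≠ 0 → Odd (y.1 - 1).rank → ∀ z : F, a • y.1 ≠ z • (1 : Matrix (Fin n) (Fin n) F) := by
    intro y a ha hodd z hz
    have e : y.1 - 1 = (a⁻¹ * z - 1) • (1 : Matrix (Fin n) (Fin n) F) := by
      rw [sub_smul, one_smul, ← smul_smul, ← hz, smul_smul, inv_mul_cancel₀ ha, one_smul]
    rw [e] at hodd
    rcases eq_or_ne (a⁻¹ * z - 1) 0 with h | h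
    · rw [h, zero_smul, Matrix.rank_zero] at hodd; exact Nat.not_odd_zero hodd
    · rw [Matrix.rank_of_isUnit _ (by
        rw [Matrix.isUnit_iff_isUnit_det, det_smul, det_one, mul_one]; exact (pow_ne_zero _ h).isUnit), Fintype.card_fin] at hodd
      exact Nat.not_even_iff_odd.2 hodd ⟨m, hn⟩
  have finish : ∀ y ∈ SU', y ^ r = 1 → Odd (y.1 - 1).rank → ((y.1 - 1).rank < m ∨ ∃ r' : ℕ, Odd r' ∧ y ^ r' = 1) →
      ∃ x ∈ SU', (∃ z : F, (x ^ r).1 = z • (1 : Matrix (Fin n) (Fin n) F)) ∧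
      (∀ z : F, x.1 ≠ z • (1 : Matrix (Fin n) (Fin n) F)) ∧
      ∀ g ∈ SU', g⁻¹ * x * g ∉ Cfsg.Geo.decompositionStabilizer D := fun y hy hyr hodd hsw =>
    ⟨y, hy, ⟨1, by rw [hyr, Units.val_one, one_smul]⟩, fun z hz => hnsc y 1 one_ne_zero hodd z (by rw [one_smul]; exact hz),
      derange hD hDm hDs hy.1 (one_smul F y.1).symm hodd hsw⟩
  by_cases hrp : r = p
  · subst hrp
    obtain ⟨y, hy, hyp, hyr⟩ := exists_transvection (n := n) hD r (by omega)
    exact finish y hy hyp (hyr ▸ odd_one) (Or.inl (by omega))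
  rcases eq_or_ne r 2 with rfl | hr2
  · have hlt : padicValNat 2 n < padicValNat 2 (q + 1) := not_le.1 fun h => hnot ⟨rfl, Ne.symm hrp, h⟩
    obtain ⟨g, hg⟩ := IsCyclic.exists_generator (α := Fˣ)
    have ho : orderOf g = q ^ 2 - 1 := by
      rw [orderOf_eq_card_of_forall_mem_zpowers hg, Nat.card_units, Nat.card_eq_fintype_card, hD.card]
    have hq2 : 2 ≤ q := hD.fix ▸ Finite.one_lt_card
    obtain ⟨v, hv⟩ : ∃ v, v = padicValNat 2 n := ⟨_, rfl⟩
    have hdv : 2 ^ (v + 1) ∣ q + 1 := (pow_dvd_pow 2 (hv ▸ hlt)).trans pow_padicValNat_dvd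
    have hd' : 2 ^ (v + 1) ∣ q ^ 2 - 1 := hdv.trans ⟨q - 1, by rw [← Nat.sq_sub_sq, one_pow]⟩
    have hpos : 0 < q ^ 2 - 1 := by
      have : 2 ^ 2 ≤ q ^ 2 := Nat.pow_le_pow_left hq2 2
      omega
    obtain ⟨a, ha⟩ : ∃ a : F, IsPrimitiveRoot a (2 ^ (v + 1)) :=
      ⟨_, ((ho ▸ IsPrimitiveRoot.orderOf g).pow hpos (Nat.div_mul_cancel hd').symm).map_of_injective
        (f := Units.coeHom F) Units.val_injective⟩
    have hau : a ^ (q + 1) = 1 := by
      obtain ⟨c, hc⟩ := hdv; rw [hc, pow_mul, ha.pow_eq_one, one_pow]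
    have han : a ^ n = -1 := by
      have hh' : a ^ (2 ^ v) = -1 := by
        have h1 : (a ^ (2 ^ v)) ^ 2 = 1 := by rw [← pow_mul, ← pow_succ, ha.pow_eq_one]
        exact (sq_eq_one_iff.1 h1).resolve_left (ha.pow_ne_one_of_pos_of_lt (by positivity)
          (Nat.pow_lt_pow_right (by norm_num) (Nat.lt_succ_self v)))
      obtain ⟨v', w, hw, hnw⟩ : ∃ v w : ℕ, ¬ 2 ∣ w ∧ n = 2 ^ v * w :=
        Nat.exists_eq_pow_mul_and_not_dvd (by omega) 2 (by norm_num)
      have hv' : v = v' := by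
        haveI : Fact (Nat.Prime 2) := ⟨Nat.prime_two⟩
        rw [hv, hnw, padicValNat.mul (pow_ne_zero _ two_ne_zero) (fun h => hw (by rw [h]; exact dvd_zero 2)), padicValNat.prime_pow,
          padicValNat.eq_zero_of_not_dvd hw, add_zero]
      rw [hnw, ← hv', pow_mul, hh', Odd.neg_one_pow (Nat.odd_iff.2 (Nat.two_dvd_ne_zero.1 hw))]
    let i0 : Fin n := ⟨0, by omega⟩
    obtain ⟨y, hyU, hyd⟩ := diag_mem hD (fun i : Fin n => if i = i0 then (-1 : F) else 1) fun i => by
      split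
      · rcases Nat.even_or_odd q with h | h
        · exact absurd ((ringChar.eq F p).symm.trans (FiniteField.even_card_iff_char_two.2 (Nat.even_iff.1 (hD.card ▸ (Nat.even_pow.2 ⟨h, two_ne_zero⟩))))) (Ne.symm hrp)
        · rw [Even.neg_one_pow h.add_one]
      · exact one_pow _
    obtain ⟨A, hAU, hAd⟩ := diag_mem hD (fun _ : Fin n => a) fun _ => hau
    have hxy : (A * y).1 = a • y.1 := by
      rw [Units.val_mul, hAd, ← smul_one_eq_diagonal, smul_mul_assoc, one_mul]
    have h2 : (-1 : F) ≠ 1 := fun h => by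
      have : (2 : F) = 0 := by linear_combination -h
      exact Ring.two_ne_zero (by rw [ringChar.eq F p]; exact Ne.symm hrp) this
    have hrk : (y.1 - 1).rank = 1 := by
      rw [hyd, rank_diag_sub (s := {i0}) (fun i => by by_cases h : i = i0 <;> simp [h, h2])]; simp
    refine ⟨A * y, ⟨mul_mem hAU hyU, Units.ext ?_⟩, ⟨a * a, ?_⟩, fun z hz => ?_, derange hD hDm hDs hyU hxy (hrk ▸ odd_one) (Or.inl (by omega))⟩
    · show (A * y).1.det = 1
      rw [hxy, det_smul, hyd, det_diagonal, Fintype.card_fin, han, Finset.prod_ite_eq' Finset.univ, if_pos (Finset.mem_univ _)]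
      simp
    · rw [Units.val_pow_eq_pow_val, hxy, pow_two, smul_mul_smul_comm, hyd, diagonal_mul_diagonal, ← diagonal_one]
      congr 2; funext i; split <;> simp
    · exact hnsc y a (ha.ne_zero (by positivity)) (hrk ▸ odd_one) z (hxy ▸ hz)
  obtain ⟨l, hl, hln, hrl⟩ := (index_prime hD p hn (by omega) hDm hDs hΩ).resolve_left hrp
  have hql : (q : ZMod r) ^ l = -1 := by
    have := (ZMod.natCast_eq_zero_iff _ _).2 hrl
    rw [Nat.cast_add, Nat.cast_pow, Nat.cast_one, add_eq_zero_iff_eq_neg] at this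
    exact this
  haveI : Fact (2 < r) := ⟨lt_of_le_of_ne hr.two_le (Ne.symm hr2)⟩
  have hdvd : orderOf (q : ZMod r) ∣ 2 * l := orderOf_dvd_of_pow_eq_one (by rw [mul_comm, pow_mul, hql, neg_one_sq])
  obtain ⟨j, hj, hji⟩ : ∃ j, orderOf (q : ZMod r) = 2 * j ∧ j ∣ l := by
    rcases Nat.even_or_odd (orderOf (q : ZMod r)) with ⟨j, hj⟩ | ho
    · exact ⟨j, by omega, Nat.dvd_of_mul_dvd_mul_left two_pos (by rwa [show 2 * j = orderOf (q : ZMod r) by omega])⟩
    · exfalso
      have h1 := orderOf_dvd_iff_pow_eq_one.1 (ho.coprime_two_right.dvd_of_dvd_mul_left hdvd)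
      rw [hql] at h1
      exact ZMod.neg_one_ne_one h1
  have hjodd : Odd j := hl.of_dvd_nat hji
  have hjn : j ≤ n := le_of_lt (lt_of_le_of_lt (Nat.le_of_dvd hl.pos hji) hln)
  obtain ⟨y, hy, hyr, hyo⟩ := exists_odd (n := n) hD p hr2 hrp (by omega) hjodd hj hjn
  exact finish y hy hyr hyo (Or.inr ⟨r, hr.odd_of_ne_two hr2, hyr⟩)

end Cfsg.Agent.LBSUPair
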