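/-
Matrices preserving a symmetric or Hermitian matrix up to a scalar: transfer along congruence, and the basic
obstructions.
-/
import Cfsg.Agent.Lib.LinearBlock.InvolutionClasses
import Cfsg.Agent.Lib.LinearBlock.TwistRootPolys

set_option autoImplicit false
set_option linter.all false

namespace Cfsg.Agent.LBSim

open Matrix Polynomial

variable {F : Type*} [Field F] (σ : F →+* F)

/-- `y` preserves `G` up to a scalar, semilinearly in the second slot. -/
def SimMat {ι : Type*} [Fintype ι] [DecidableEq ι] (G y : Matrix ι ι F) : Prop :=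
  ∃ c : F, c ≠ 0 ∧ yᵀ * G * y.map σ = c • G

variable {n : ℕ}

/-- Some conjugate by a matrix of determinant one preserves `G` up to a scalar. -/
def Fix (G X : Matrix (Fin n) (Fin n) F) : Prop :=
  ∃ P : Matrix.SpecialLinearGroup (Fin n) F, SimMat σ G ((P⁻¹).1 * X * P.1)

/-- Every element of order `r` modulo scalars has a fixed point. -/
def AllFix (G : Matrix (Fin n) (Fin n) F) (r : ℕ) : Prop :=
  ∀ X : Matrix (Fin n) (Fin n) F, X.det = 1 → (∃ z : F, X ^ r = z • 1) → (∀ z : F, X ≠ z • 1) → Fix σ G X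

theorem allFix_iff {G : Matrix (Fin n) (Fin n) F} {r : ℕ} {S : Subgroup (GL (Fin n) F)}
    (hS : ∀ g : GL (Fin n) F, g ∈ S ↔ SimMat σ G g.1) :
    (∀ x ∈ Cfsg.Geo.specialLinear (Fin n) F, (∃ z : F, ((x ^ r : GL (Fin n) F) : Matrix (Fin n) (Fin n) F) = z • (1 : Matrix (Fin n) (Fin n) F)) →
      (∀ z : F, (x : Matrix (Fin n) (Fin n) F) ≠ z • (1 : Matrix (Fin n) (Fin n) F)) →
      ∃ g ∈ Cfsg.Geo.specialLinear (Fin n) F, g⁻¹ * x * g ∈ S) ↔ AllFix σ G r := by
  constructor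
  · intro h X hX hr hns
    obtain ⟨T, hT⟩ : ∃ T : SpecialLinearGroup (Fin n) F, T.1 = X := ⟨⟨X, hX⟩, rfl⟩
    obtain ⟨g, hg, hgS⟩ := h (SpecialLinearGroup.toGL T)
      (MonoidHom.mem_ker.2 (Units.ext (by simp [T.2])))
      (by obtain ⟨z, hz⟩ := hr; exact ⟨z, by rw [Units.val_pow_eq_pow_val]; simpa [hT] using hz⟩)
      (by simpa [hT] using hns)
    have hd : g.1.det = 1 := congrArg Units.val (MonoidHom.mem_ker.1 hg)
    obtain ⟨P, hP⟩ : ∃ P : SpecialLinearGroup (Fin n) F, SpecialLinearGroup.toGL P = g := ⟨⟨g.1, hd⟩, Units.ext rfl⟩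
    refine ⟨P, ?_⟩
    have h1 := (hS _).1 hgS
    rw [← hP, ← map_inv, ← map_mul, ← map_mul] at h1
    rw [← hT]
    exact h1
  · intro h x hx hr hns
    have hd : x.1.det = 1 := congrArg Units.val (MonoidHom.mem_ker.1 hx)
    obtain ⟨P, hP⟩ := h x.1 hd (by simpa using hr) hns
    refine ⟨SpecialLinearGroup.toGL P, MonoidHom.mem_ker.2 (Units.ext (by simp [P.2])), (hS _).2 ?_⟩
    rw [← map_inv, Units.val_mul, Units.val_mul]
    exact hP

section general

variable {σ} {ι : Type*} [Fintype ι] [DecidableEq ι] {G : Matrix ι ι F}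

theorem sim_pow {y : Matrix ι ι F} {c : F} (h : yᵀ * G * y.map σ = c • G) (k : ℕ) :
    (y ^ k)ᵀ * G * (y ^ k).map σ = c ^ k • G := by
  induction k with
  | zero => simp
  | succ k ih =>
    rw [pow_succ, pow_succ c, Matrix.transpose_mul, Matrix.map_mul]
    calc yᵀ * (y ^ k)ᵀ * G * ((y ^ k).map σ * y.map σ) = yᵀ * ((y ^ k)ᵀ * G * (y ^ k).map σ) * y.map σ := by
          simp only [Matrix.mul_assoc]
      _ = c ^ k • (c • G) := by rw [ih, Matrix.mul_smul, Matrix.smul_mul, h]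
      _ = _ := smul_smul _ _ _

theorem smul_left_cancel' (hG : G.det ≠ 0) [Nonempty ι] {a b : F} (h : a • G = b • G) : a = b := by
  have := congrArg (fun M : Matrix ι ι F => M * G⁻¹) h
  simp only [Matrix.smul_mul, Matrix.mul_nonsing_inv _ hG.isUnit] at this
  obtain ⟨i⟩ := ‹Nonempty ι›
  simpa using congrFun (congrFun this i) i

theorem scale_pow (hG : G.det ≠ 0) [Nonempty ι] {y : Matrix ι ι F} {c z : F} (h : yᵀ * G * y.map σ = c • G) {k : ℕ}
    (hk : y ^ k = z • 1) : c ^ k = z * σ z := by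
  refine smul_left_cancel' hG ?_
  rw [← sim_pow h k, hk, Matrix.transpose_smul, Matrix.transpose_one, Matrix.map_smul' _ _ _ (map_mul σ),
    Matrix.map_one _ (map_zero σ) (map_one σ), Matrix.smul_mul, Matrix.mul_smul, Matrix.one_mul, Matrix.mul_one, smul_smul,
    mul_comm]

theorem sim_smul {s : F} {y : Matrix ι ι F} (h : SimMat σ G y) : SimMat σ (s • G) y := by
  obtain ⟨c, hc, h⟩ := h
  exact ⟨c, hc, by rw [Matrix.mul_smul, Matrix.smul_mul, h, smul_comm]⟩

/-- An eigenvalue `ζ` of a similitude pairs with the eigenvalue `c / ζ` of the twisted matrix. -/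
theorem root_pair {K : Type*} [Field K] (φ : F →+* K) (hG : G.det ≠ 0) {y : Matrix ι ι F} {c : F}
    (h : yᵀ * G * y.map σ = c • G) (hy : y.det ≠ 0) {ζ : K} (hζ0 : ζ ≠ 0) (hζ : y.charpoly.eval₂ φ ζ = 0) :
    (y.charpoly.map σ).eval₂ φ (φ c / ζ) = 0 := by
  obtain ⟨k, hk⟩ : ∃ k : K, k = φ c / ζ := ⟨_, rfl⟩
  rw [← hk, ← eval_map, ← Matrix.charpoly_map, ← Matrix.charpoly_map, Matrix.eval_charpoly]
  rw [← eval_map, ← Matrix.charpoly_map, Matrix.eval_charpoly] at hζ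
  have he := congrArg (fun M : Matrix ι ι F => M.map φ) h
  simp only [Matrix.map_mul, Matrix.map_smul' _ _ _ (map_mul φ), Matrix.transpose_map] at he
  have hkey : (y.map φ)ᵀ * G.map φ * (Matrix.scalar ι k - (y.map σ).map φ) =
      (-k) • ((Matrix.scalar ι ζ - (y.map φ)ᵀ) * G.map φ) := by
    rw [mul_sub, sub_mul, Matrix.scalar_apply, Matrix.scalar_apply, ← Matrix.smul_one_eq_diagonal,
      ← Matrix.smul_one_eq_diagonal, Matrix.mul_smul, Matrix.mul_one, Matrix.smul_mul, Matrix.one_mul,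
      smul_sub, smul_smul, neg_mul, hk, div_mul_cancel₀ _ hζ0, he, neg_smul, neg_smul]
    abel
  have := congrArg Matrix.det hkey
  rw [Matrix.det_mul, Matrix.det_mul, Matrix.det_smul, Matrix.det_mul] at this
  have hz : (Matrix.scalar ι ζ - (y.map φ)ᵀ).det = 0 := by
    rw [← Matrix.det_transpose, Matrix.transpose_sub, Matrix.transpose_transpose, Matrix.scalar_apply,
      Matrix.diagonal_transpose]
    exact hζ
  rw [hz, zero_mul, mul_zero, mul_eq_zero, mul_eq_zero] at this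
  refine this.resolve_left fun e => ?_
  rcases e with e | e
  · rw [Matrix.det_transpose, ← RingHom.mapMatrix_apply, ← RingHom.map_det] at e
    exact hy ((map_eq_zero φ).1 e)
  · rw [← RingHom.mapMatrix_apply, ← RingHom.map_det] at e
    exact hG ((map_eq_zero φ).1 e)

end general

variable {σ} {G : Matrix (Fin n) (Fin n) F}

/-- A similitude similar to a diagonal matrix pairs the diagonal entries. -/
theorem diag_pair (hG : G.det ≠ 0) {d : Fin n → F} (h : Fix σ G (Matrix.diagonal d)) :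
    ∃ c : F, ∃ π : Equiv.Perm (Fin n), ∀ i, d (π i) * σ (d i) = c := by
  obtain ⟨P, c, -, h⟩ := h
  obtain ⟨M, hM⟩ : ∃ M, M = (P⁻¹).1ᵀ * G * (P⁻¹).1.map σ := ⟨_, rfl⟩
  have hMd : M.det ≠ 0 := by
    rw [hM, det_mul, det_mul, det_transpose, ← RingHom.mapMatrix_apply, ← RingHom.map_det, (P⁻¹).2, map_one, one_mul, mul_one]
    exact hG
  have hPP : P.1 * (P⁻¹).1 = 1 := congrArg Subtype.val (mul_inv_cancel P)
  have hPm : P.1.map σ * (P⁻¹).1.map σ = 1 := by
    rw [← Matrix.map_mul, hPP, Matrix.map_one _ (map_zero σ) (map_one σ)]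
  have hPt : (P⁻¹).1ᵀ * P.1ᵀ = 1 := by rw [← Matrix.transpose_mul, hPP, Matrix.transpose_one]
  have hDM : Matrix.diagonal d * M * Matrix.diagonal (fun i => σ (d i)) = c • M := by
    have h2 := congrArg (fun N : Matrix (Fin n) (Fin n) F => (P⁻¹).1ᵀ * N * (P⁻¹).1.map σ) h
    rw [Matrix.mul_smul, Matrix.smul_mul, ← hM, Matrix.transpose_mul, Matrix.transpose_mul, Matrix.map_mul, Matrix.map_mul,
      Matrix.diagonal_transpose, Matrix.diagonal_map (map_zero σ)] at h2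
    rw [← h2, hM]
    calc _ = ((P⁻¹).1ᵀ * P.1ᵀ) * (Matrix.diagonal d * ((P⁻¹).1ᵀ * G * (P⁻¹).1.map σ) * Matrix.diagonal (fun i => σ (d i))) *
          (P.1.map σ * (P⁻¹).1.map σ) := by rw [hPt, hPm, one_mul, mul_one]
      _ = _ := by simp only [Matrix.mul_assoc]
  obtain ⟨π, hπ⟩ : ∃ π : Equiv.Perm (Fin n), ∀ i, M (π i) i ≠ 0 := by
    by_contra hc
    push Not at hc
    refine hMd ?_
    rw [Matrix.det_apply]
    refine Finset.sum_eq_zero fun π _ => ?_
    obtain ⟨i, hi⟩ := hc π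
    rw [show ∏ j, M (π j) j = 0 from Finset.prod_eq_zero (Finset.mem_univ i) hi, smul_zero]
  refine ⟨c, π, fun i => ?_⟩
  have := congrFun (congrFun hDM (π i)) i
  rw [Matrix.mul_diagonal, Matrix.diagonal_mul, Matrix.smul_apply, smul_eq_mul] at this
  exact mul_left_cancel₀ (hπ i) (by linear_combination this)

/-- A power that is a non-zero scalar, prime to the characteristic, gives semisimplicity. -/
theorem semisimple_of_root [Fintype F] (p : ℕ) [Fact p.Prime] [CharP F p] {r : ℕ} (hr : r.Prime) (hrp : r ≠ p)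
    {x : Matrix (Fin n) (Fin n) F} {z : F} (hz : z ≠ 0) (hx : x ^ r = z • 1) :
    Module.End.IsSemisimple (Matrix.toLin' x) := by
  refine SemisimpleCl.isSemisimple_of_pow p (m := r * (Fintype.card F - 1)) ?_ ?_
  · rw [pow_mul, hx, _root_.smul_pow, one_pow, FiniteField.pow_card_sub_one_eq_one z hz, one_smul]
  · have hpp : p.Prime := Fact.out
    refine Nat.Coprime.mul_left ((Nat.coprime_primes hr hpp).2 hrp) ?_
    obtain ⟨e, -, he⟩ := FiniteField.card F p
    refine (hpp.coprime_iff_not_dvd.2 fun h => ?_).symm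
    have h2 : p ∣ Fintype.card F := he ▸ dvd_pow_self p e.ne_zero
    have h1 := Fintype.one_lt_card (α := F)
    have := Nat.dvd_sub h2 h
    rw [show Fintype.card F - (Fintype.card F - 1) = 1 by omega] at this
    exact hpp.ne_one (Nat.dvd_one.1 this)

theorem ne_zero_of_pow {X : Matrix (Fin n) (Fin n) F} {z : F} {r : ℕ} (hn : 0 < n) (hd : X.det = 1) (hx : X ^ r = z • 1) :
    z ≠ 0 := by
  intro e
  haveI : Nonempty (Fin n) := ⟨⟨0, hn⟩⟩
  have h1 := congrArg Matrix.det hx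
  rw [Matrix.det_pow, hd, one_pow, e, zero_smul, Matrix.det_zero] at h1
  exact one_ne_zero h1

/-- Transfer of a similitude along a congruence. -/
theorem sim_congr {G' h0 C : Matrix (Fin n) (Fin n) F} {s : F} (hCd : C.det ≠ 0) (hs : s ≠ 0)
    (hC : Cᵀ * G * C.map σ = s • G') (h : SimMat σ G' h0) : SimMat σ G (C * h0 * C⁻¹) := by
  obtain ⟨c, hc, h⟩ := sim_smul (s := s) h
  refine ⟨c, hc, ?_⟩
  rw [← hC] at h
  have hu : IsUnit C.det := hCd.isUnit
  have e1 : (C⁻¹)ᵀ * Cᵀ = 1 := by rw [← Matrix.transpose_mul, Matrix.mul_nonsing_inv _ hu, Matrix.transpose_one]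
  have e2 : C.map σ * (C⁻¹).map σ = 1 := by
    rw [← Matrix.map_mul, Matrix.mul_nonsing_inv _ hu, Matrix.map_one _ (map_zero σ) (map_one σ)]
  rw [Matrix.transpose_mul, Matrix.transpose_mul, Matrix.map_mul, Matrix.map_mul]
  calc _ = (C⁻¹)ᵀ * (h0ᵀ * (Cᵀ * G * C.map σ) * h0.map σ) * (C⁻¹).map σ := by simp only [Matrix.mul_assoc]
    _ = c • (((C⁻¹)ᵀ * Cᵀ) * G * (C.map σ * (C⁻¹).map σ)) := by
        rw [h, Matrix.mul_smul, Matrix.smul_mul]; simp only [Matrix.mul_assoc]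
    _ = c • G := by rw [e1, e2, Matrix.one_mul, Matrix.mul_one]

/-- A semisimple element with the spectrum of a model similitude has a fixed point. -/
theorem fix_of_model [Fintype F] (p : ℕ) [Fact p.Prime] [CharP F p] {r : ℕ} (hr : r.Prime) (hrp : r ≠ p) (hn : 0 < n)
    {X h0 G' C : Matrix (Fin n) (Fin n) F} {z z' s : F} (hz : z ≠ 0) (hz' : z' ≠ 0) (hX : X ^ r = z • 1)
    (h0r : h0 ^ r = z' • 1) (hc : X.charpoly = h0.charpoly) (hCd : C.det ≠ 0) (hs : s ≠ 0)
    (hC : Cᵀ * G * C.map σ = s • G') (hsim : SimMat σ G' h0) : Fix σ G X := by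
  obtain ⟨U, hU⟩ : ∃ U : GL (Fin n) F, U.1 = C := ⟨GeneralLinearGroup.mkOfDetNeZero C hCd, rfl⟩
  have hconj : C * h0 * C⁻¹ = U.1 * h0 * (U⁻¹).1 := by rw [← hU, Matrix.coe_units_inv]
  have hhr : (C * h0 * C⁻¹) ^ r = z' • 1 := by
    rw [hconj, Units.conj_pow, h0r, Matrix.mul_smul, Matrix.mul_one, Matrix.smul_mul, Units.mul_inv]
  have hcc : X.charpoly = (C * h0 * C⁻¹).charpoly := by
    rw [hconj, hc, Matrix.coe_units_inv, Matrix.charpoly_units_conj]
  obtain ⟨P, hP⟩ := LBInvCl.sl_conj_semisimple hn (semisimple_of_root p hr hrp hz hX)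
    (semisimple_of_root p hr hrp hz' hhr) hcc
  exact ⟨P, hP ▸ sim_congr hCd hs hC hsim⟩

/-- A rank one unipotent element is not an isometry in odd characteristic. -/
theorem rankone (h2 : (2 : F) ≠ 0) {ι : Type*} [Fintype ι] [DecidableEq ι] {G : Matrix ι ι F} (hG : G.det ≠ 0)
    (hGs : Gᵀ = G) {u w : ι → F} (hu : u ≠ 0) (hw : w ≠ 0) (huw : w ⬝ᵥ u = 0) :
    (1 + vecMulVec u w)ᵀ * G * (1 + vecMulVec u w) ≠ G := by
  intro h
  obtain ⟨a, ha⟩ : ∃ a, a = G *ᵥ u := ⟨_, rfl⟩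
  have hsym : ∀ x y : ι → F, x ⬝ᵥ (G *ᵥ y) = y ⬝ᵥ (G *ᵥ x) := fun x y => by
    rw [dotProduct_mulVec, ← mulVec_transpose, hGs, dotProduct_comm]
  have hk : ∀ x y : ι → F, (w ⬝ᵥ x) * (a ⬝ᵥ y) + (w ⬝ᵥ y) * (a ⬝ᵥ x) + (w ⬝ᵥ x) * (w ⬝ᵥ y) * (a ⬝ᵥ u) = 0 := by
    intro x y
    have hv : ∀ v : ι → F, (1 + vecMulVec u w) *ᵥ v = v + (w ⬝ᵥ v) • u := fun v => by
      rw [add_mulVec, one_mulVec, vecMulVec_mulVec]
      simp
    have h1 : ((1 + vecMulVec u w) *ᵥ x) ⬝ᵥ (G *ᵥ ((1 + vecMulVec u w) *ᵥ y)) = x ⬝ᵥ (G *ᵥ y) := by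
      conv_rhs => rw [← h, ← mulVec_mulVec, ← mulVec_mulVec, dotProduct_mulVec, vecMul_transpose]
    rw [hv, hv, mulVec_add, mulVec_smul, add_dotProduct, dotProduct_add, dotProduct_add, smul_dotProduct, smul_dotProduct,
      dotProduct_smul, dotProduct_smul, ← ha, hsym u y, ← ha, dotProduct_comm y a, dotProduct_comm x a, dotProduct_comm u a] at h1
    simp only [smul_eq_mul] at h1
    linear_combination h1
  obtain ⟨i, hi⟩ := Function.ne_iff.1 hw
  obtain ⟨y, hy⟩ : ∃ y : ι → F, w ⬝ᵥ y = 1 := ⟨Pi.single i (w i)⁻¹, by rw [dotProduct_single]; exact mul_inv_cancel₀ hi⟩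
  have hax : ∀ x, a ⬝ᵥ x = (a ⬝ᵥ y) * (w ⬝ᵥ x) := fun x => by
    have h1 := hk (x - (w ⬝ᵥ x) • y) y
    rw [dotProduct_sub, dotProduct_sub, dotProduct_smul, dotProduct_smul, hy, smul_eq_mul, smul_eq_mul] at h1
    linear_combination h1
  have hau : a ⬝ᵥ u = 0 := by rw [hax, huw, mul_zero]
  have h1 := hk y y
  rw [hy, hau] at h1
  have ht : a ⬝ᵥ y = 0 := (mul_eq_zero.1 (show (2 : F) * (a ⬝ᵥ y) = 0 by linear_combination h1)).resolve_left h2
  have ha0 : a = 0 := funext fun j => by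
    have := hax (Pi.single j 1)
    rwa [ht, zero_mul, dotProduct_single, mul_one] at this
  exact hu (Matrix.eq_zero_of_mulVec_eq_zero hG (ha ▸ ha0))

end Cfsg.Agent.LBSim
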