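/-
Elements of prime order modulo scalars inside or outside groups of similitudes: models and derangements.
-/
import Cfsg.Agent.Lib.LinearBlock.SimBase

set_option autoImplicit false
set_option linter.all false

namespace Cfsg.Agent.LBSim

open Matrix Polynomial

variable {F : Type*} [Field F] {σ : F →+* F} {n : ℕ} {G : Matrix (Fin n) (Fin n) F}

/-- A matrix of the same kind as `G`. -/
def Sym (σ : F →+* F) (M : Matrix (Fin n) (Fin n) F) : Prop := Mᵀ = M.map σ ∧ M.det ≠ 0

/-- Every form of the same kind is congruent to a multiple of `G`. -/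
def Cong (σ : F →+* F) (G : Matrix (Fin n) (Fin n) F) : Prop :=
  ∀ G' : Matrix (Fin n) (Fin n) F, Sym σ G' → ∃ C : Matrix (Fin n) (Fin n) F, ∃ s : F,
    C.det ≠ 0 ∧ s ≠ 0 ∧ Cᵀ * G * C.map σ = s • G'

/-- The matrix of an involutive permutation. -/
def permMat (π : Equiv.Perm (Fin n)) : Matrix (Fin n) (Fin n) F := Matrix.of fun i j => if π i = j then 1 else 0

theorem permMat_sym (π : Equiv.Perm (Fin n)) (hπ : ∀ i, π (π i) = i) : Sym σ (permMat (F := F) π) := by
  have hiff : ∀ i j, π i = j ↔ π j = i := fun i j => ⟨fun h => h ▸ hπ i, fun h => h ▸ hπ j⟩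
  refine ⟨?_, fun h => ?_⟩
  · ext i j
    simp only [Matrix.transpose_apply, Matrix.map_apply, permMat, Matrix.of_apply, apply_ite σ, map_one, map_zero]
    exact if_congr (hiff j i) rfl rfl
  · have h1 : permMat (F := F) π * permMat π = 1 := by
      ext i j
      simp only [Matrix.mul_apply, permMat, Matrix.of_apply, ite_mul, one_mul, zero_mul, Finset.sum_ite_eq, Finset.mem_univ,
        if_true, hπ, Matrix.one_apply]
    have := congrArg Matrix.det h1
    rw [Matrix.det_mul, h, zero_mul, Matrix.det_one] at this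
    exact zero_ne_one this

theorem sim_perm {π : Equiv.Perm (Fin n)} {d : Fin n → F} {c : F} (hc : c ≠ 0) (h : ∀ i, d i * σ (d (π i)) = c) :
    SimMat σ (permMat π) (Matrix.diagonal d) := by
  refine ⟨c, hc, ?_⟩
  ext i j
  rw [Matrix.diagonal_transpose, Matrix.diagonal_map (map_zero σ), Matrix.mul_diagonal, Matrix.diagonal_mul,
    Matrix.smul_apply, smul_eq_mul, permMat, Matrix.of_apply]
  split_ifs with hij
  · rw [mul_one, mul_one]; subst hij; exact h i
  · simp

theorem sim_diagonal {e d : Fin n → F} {c : F} (hc : c ≠ 0) (h : ∀ i, d i * σ (d i) = c) :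
    SimMat σ (Matrix.diagonal e) (Matrix.diagonal d) := by
  refine ⟨c, hc, ?_⟩
  rw [Matrix.diagonal_transpose, Matrix.diagonal_map (map_zero σ), Matrix.diagonal_mul_diagonal,
    Matrix.diagonal_mul_diagonal, ← Matrix.diagonal_smul]
  congr 1
  funext i
  simp only [Pi.smul_apply, smul_eq_mul, ← h i, Function.comp_apply]
  ring

section evalue

variable {m : ℕ}

/-- A power with exponent modulo `m`. -/
def ev (θ : F) (a : ZMod m) : F := θ ^ a.val

variable [NeZero m] {θ : F}

theorem ev_add (hθ : orderOf θ = m) (a b : ZMod m) : ev θ (a + b) = ev θ a * ev θ b := by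
  rw [ev, ev, ev, ← pow_add, ZMod.val_add]
  conv_rhs => rw [← pow_mod_orderOf, hθ]

theorem ev_inj (hθ : orderOf θ = m) {a b : ZMod m} (h : ev θ a = ev θ b) : a = b := by
  refine ZMod.val_injective m (pow_injOn_Iio_orderOf ?_ ?_ h) <;> rw [Set.mem_Iio, hθ] <;> exact ZMod.val_lt _

theorem ev_zero : ev θ (0 : ZMod m) = 1 := by rw [ev, ZMod.val_zero, pow_zero]

theorem ev_ne_zero (hθ : orderOf θ = m) (a : ZMod m) : ev θ a ≠ 0 := fun h => by
  have h1 := ev_add hθ a (-a)
  rw [add_neg_cancel, ev_zero, h, zero_mul] at h1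
  exact one_ne_zero h1

theorem ev_sum (hθ : orderOf θ = m) {ι : Type*} (s : Finset ι) (e : ι → ZMod m) :
    ev θ (∑ i ∈ s, e i) = ∏ i ∈ s, ev θ (e i) := by
  classical
  induction s using Finset.induction with
  | empty => rw [Finset.sum_empty, Finset.prod_empty, ev_zero]
  | insert a s ha ih => rw [Finset.sum_insert ha, Finset.prod_insert ha, ev_add hθ, ih]

theorem ev_pow (hθ : orderOf θ = m) (a : ZMod m) (k : ℕ) : ev θ a ^ k = ev θ ((k : ZMod m) * a) := by
  induction k with
  | zero => rw [pow_zero, Nat.cast_zero, zero_mul, ev_zero]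
  | succ k ih => rw [pow_succ, ih, ← ev_add hθ, Nat.cast_succ, add_mul, one_mul]

theorem ev_fix (hσ : σ θ = θ) (a : ZMod m) : σ (ev θ a) = ev θ a := by rw [ev, map_pow, hσ]

/-- Diagonal derangements. -/
theorem not_allFix_diag (hθ : orderOf θ = m) (hσ : σ θ = θ) (hG : G.det ≠ 0) {r : ℕ} (e : Fin n → ZMod m)
    (hsum : ∑ i, e i = 0) (hr : ∀ i j, (r : ZMod m) * e i = (r : ZMod m) * e j) {i₀ j₀ : Fin n} (hne : e i₀ ≠ e j₀)
    (hno : ∀ (b : ZMod m) (π : Equiv.Perm (Fin n)), ¬ ∀ i, e (π i) + e i = b) : ¬ AllFix σ G r := by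
  intro h
  have hfix := h (Matrix.diagonal fun i => ev θ (e i))
    (by rw [Matrix.det_diagonal, ← ev_sum hθ, hsum, ev_zero])
    ⟨ev θ ((r : ZMod m) * e i₀), by
      rw [Matrix.diagonal_pow, Matrix.smul_one_eq_diagonal]
      congr 1
      funext i
      rw [Pi.pow_apply, ev_pow hθ, hr i i₀]⟩
    (fun z hz => by
      rw [Matrix.smul_one_eq_diagonal] at hz
      exact hne (ev_inj hθ ((congrFun (Matrix.diagonal_injective hz) i₀).trans
        (congrFun (Matrix.diagonal_injective hz) j₀).symm)))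
  obtain ⟨c, π, hπ⟩ := diag_pair hG hfix
  refine hno (e (π i₀) + e i₀) π fun i => ev_inj hθ ?_
  have h1 := hπ i
  have h2 := hπ i₀
  rw [ev_fix hσ, ← ev_add hθ] at h1 h2
  rw [h1, h2]

end evalue

theorem exists_order [Fintype F] {m : ℕ} (h : m ∣ Fintype.card F - 1) : ∃ θ : F, orderOf θ = m := by
  obtain ⟨g, hg⟩ := IsCyclic.exists_ofOrder_eq_natCard (α := Fˣ)
  rw [Nat.card_units, Nat.card_eq_fintype_card] at hg
  have hq : 0 < Fintype.card F - 1 := Nat.sub_pos_of_lt Fintype.one_lt_card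
  obtain ⟨k, hk⟩ := h
  refine ⟨(g : F) ^ k, ?_⟩
  have hk0 : k ≠ 0 := fun e => by rw [e, mul_zero] at hk; omega
  rw [orderOf_pow_of_dvd hk0 (by rw [orderOf_units, hg, hk]; exact dvd_mul_left k m), orderOf_units, hg, hk,
    Nat.mul_div_cancel m (Nat.pos_of_ne_zero hk0)]

/-! ### Combinatorics of the derangements -/

theorem two_val {n : ℕ} (hn : 3 ≤ n) : ∃ a b c : Fin n, a.val = 0 ∧ b.val = 1 ∧ c.val = 2 :=
  ⟨⟨0, by omega⟩, ⟨1, by omega⟩, ⟨2, by omega⟩, rfl, rfl, rfl⟩

/-- The exponents `1, 1, -2, 0, …`. -/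
theorem no_pairing_five {r : ℕ} [Fact r.Prime] (h5 : 5 ≤ r) (hn : 3 ≤ n) (hex : ¬ (r = 5 ∧ n = 5)) (b : ZMod r)
    (π : Equiv.Perm (Fin n)) :
    ¬ ∀ i, (if (π i).val < 2 then 1 else if (π i).val = 2 then -2 else 0) +
      (if i.val < 2 then 1 else if i.val = 2 then -2 else 0) = b := by
  intro h
  have hr : r.Prime := Fact.out
  have hnz : ∀ k : ℕ, 0 < k → k < r → (k : ZMod r) ≠ 0 := fun k hk hk' e =>
    absurd (Nat.le_of_dvd hk ((ZMod.natCast_eq_zero_iff k r).1 e)) (by omega)
  have e3 : (3 : ZMod r) ≠ 0 := by simpa using hnz 3 (by omega) (by omega)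
  have e1 : (1 : ZMod r) ≠ 0 := one_ne_zero
  have e2 : (2 : ZMod r) ≠ 0 := by simpa using hnz 2 (by omega) (by omega)
  have e4 : (4 : ZMod r) ≠ 0 := by simpa using hnz 4 (by omega) (by omega)
  have e6 : (6 : ZMod r) ≠ 0 := fun e => by
    rcases mul_eq_zero.1 (show (2 : ZMod r) * 3 = 0 by linear_combination e) with e | e
    · exact e2 e
    · exact e3 e
  have hval : ∀ j : Fin n, ((if j.val < 2 then 1 else if j.val = 2 then -2 else 0 : ZMod r) = 1 ∧ j.val < 2) ∨
      ((if j.val < 2 then 1 else if j.val = 2 then -2 else 0 : ZMod r) = -2 ∧ j.val = 2) ∨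
      ((if j.val < 2 then 1 else if j.val = 2 then -2 else 0 : ZMod r) = 0 ∧ 3 ≤ j.val) := fun j => by
    by_cases h1 : j.val < 2
    · exact Or.inl ⟨if_pos h1, h1⟩
    · by_cases h2 : j.val = 2
      · exact Or.inr (Or.inl ⟨by rw [if_neg h1, if_pos h2], h2⟩)
      · exact Or.inr (Or.inr ⟨by rw [if_neg h1, if_neg h2], by omega⟩)
  obtain ⟨a, a', c, ha, ha', hc⟩ := two_val hn
  have hab : (π a).val ≠ (π a').val := fun e => by
    have := congrArg Fin.val (π.injective (Fin.ext e))
    omega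
  have hA := h a
  have hA' := h a'
  have hC := h c
  rw [if_pos (show a.val < 2 by omega)] at hA
  rw [if_pos (show a'.val < 2 by omega)] at hA'
  rw [if_neg (show ¬ c.val < 2 by omega), if_pos hc] at hC
  -- `b = 1`
  have hb : b = 1 := by
    rcases hval (π a) with ⟨e, k⟩ | ⟨e, k⟩ | ⟨e, k⟩ <;> rw [e] at hA
    · exfalso
      rcases hval (π c) with ⟨f, -⟩ | ⟨f, -⟩ | ⟨f, -⟩ <;> rw [f] at hC
      · exact e3 (by linear_combination hA - hC)
      · exact e6 (by linear_combination hA - hC)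
      · exact e4 (by linear_combination hA - hC)
    · exfalso
      rcases hval (π a') with ⟨f, -⟩ | ⟨-, k'⟩ | ⟨f, -⟩
      · rw [f] at hA'; exact e3 (by linear_combination hA' - hA)
      · omega
      · rw [f] at hA'; exact e2 (by linear_combination hA' - hA)
    · linear_combination -hA
  subst hb
  have hk : 3 ≤ (π a).val ∧ 3 ≤ (π a').val := by
    constructor
    · rcases hval (π a) with ⟨e, -⟩ | ⟨e, -⟩ | ⟨-, k⟩
      · rw [e] at hA; exact absurd (by linear_combination hA) e1
      · rw [e] at hA; exact absurd (show (2 : ZMod r) = 0 by linear_combination -hA) e2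
      · exact k
    · rcases hval (π a') with ⟨e, -⟩ | ⟨e, -⟩ | ⟨-, k⟩
      · rw [e] at hA'; exact absurd (by linear_combination hA') e1
      · rw [e] at hA'; exact absurd (show (2 : ZMod r) = 0 by linear_combination -hA') e2
      · exact k
  have hr5 : r = 5 := by
    rcases hval (π c) with ⟨f, -⟩ | ⟨f, -⟩ | ⟨f, -⟩ <;> rw [f] at hC
    · exact absurd (show (2 : ZMod r) = 0 by linear_combination -hC) e2
    · have : ((5 : ℕ) : ZMod r) = 0 := by push_cast; linear_combination -hC
      exact (Nat.prime_dvd_prime_iff_eq hr (by norm_num)).1 ((ZMod.natCast_eq_zero_iff _ _).1 this)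
    · exact absurd (show (3 : ZMod r) = 0 by linear_combination -hC) e3
  have hn5 : n ≠ 5 := fun e => hex ⟨hr5, e⟩
  have := (π a).isLt
  have := (π a').isLt
  have hsmall : ∀ i : Fin n, 3 ≤ i.val → (π i).val < 2 := fun i hi => by
    have hI := h i
    rw [if_neg (show ¬ i.val < 2 by omega), if_neg (show i.val ≠ 2 by omega), add_zero] at hI
    rcases hval (π i) with ⟨-, k⟩ | ⟨e, -⟩ | ⟨e, -⟩
    · exact k
    · rw [e] at hI; exact absurd (show (3 : ZMod r) = 0 by linear_combination -hI) e3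
    · rw [e] at hI; exact absurd hI.symm e1
  have h6 : 6 ≤ n := by omega
  have f3 := hsmall ⟨3, by omega⟩ le_rfl
  have f4 := hsmall ⟨4, by omega⟩ (by norm_num)
  have f5 := hsmall ⟨5, by omega⟩ (by norm_num)
  have g34 : (π ⟨3, by omega⟩).val ≠ (π ⟨4, by omega⟩).val := fun e => by
    have := congrArg Fin.val (π.injective (Fin.ext e)); simp at this
  have g35 : (π ⟨3, by omega⟩).val ≠ (π ⟨5, by omega⟩).val := fun e => by
    have := congrArg Fin.val (π.injective (Fin.ext e)); simp at this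
  have g45 : (π ⟨4, by omega⟩).val ≠ (π ⟨5, by omega⟩).val := fun e => by
    have := congrArg Fin.val (π.injective (Fin.ext e)); simp at this
  omega

/-- The exponents `1, 1, 1, 0, …` modulo three. -/
theorem no_pairing_three (hn : 4 ≤ n) (hn6 : n ≠ 6) (b : ZMod 3) (π : Equiv.Perm (Fin n)) :
    ¬ ∀ i, (if (π i).val < 3 then 1 else 0) + (if i.val < 3 then 1 else 0) = b := by
  intro h
  have hb : b = 1 := by
    have h0 := h ⟨0, by omega⟩
    rw [if_pos (show (⟨0, by omega⟩ : Fin n).val < 3 by simp)] at h0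
    split_ifs at h0 with k
    · exfalso
      have h3 := h ⟨3, by omega⟩
      rw [if_neg (lt_irrefl 3), add_zero, ← h0] at h3
      split_ifs at h3 <;> exact absurd h3 (by decide)
    · linear_combination -h0
  subst hb
  have hswap : ∀ i : Fin n, (π i).val < 3 ↔ ¬ i.val < 3 := fun i => by
    have hI := h i
    split_ifs at hI with k k' k'
    · exact absurd hI (by decide)
    · simp only [k, k', not_false_iff]
    · simp only [k, k', not_true_eq_false]
    · exact absurd hI (by decide)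
  have inj : ∀ i j : Fin n, i.val ≠ j.val → (π i).val ≠ (π j).val := fun i j hij e =>
    hij (congrArg Fin.val (π.injective (Fin.ext e)))
  rcases lt_or_ge n 6 with hlt | hge
  · have a0 := hswap ⟨0, by omega⟩
    have a1 := hswap ⟨1, by omega⟩
    have a2 := hswap ⟨2, by omega⟩
    simp only at a0 a1 a2
    have := inj ⟨0, by omega⟩ ⟨1, by omega⟩ (by norm_num)
    have := inj ⟨0, by omega⟩ ⟨2, by omega⟩ (by norm_num)
    have := inj ⟨1, by omega⟩ ⟨2, by omega⟩ (by norm_num)
    have := (π ⟨0, by omega⟩).isLt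
    have := (π ⟨1, by omega⟩).isLt
    have := (π ⟨2, by omega⟩).isLt
    omega
  · have a3 := hswap ⟨3, by omega⟩
    have a4 := hswap ⟨4, by omega⟩
    have a5 := hswap ⟨5, by omega⟩
    have a6 := hswap ⟨6, by omega⟩
    simp only at a3 a4 a5 a6
    have := inj ⟨3, by omega⟩ ⟨4, by omega⟩ (by norm_num)
    have := inj ⟨3, by omega⟩ ⟨5, by omega⟩ (by norm_num)
    have := inj ⟨3, by omega⟩ ⟨6, by omega⟩ (by norm_num)
    have := inj ⟨4, by omega⟩ ⟨5, by omega⟩ (by norm_num)
    have := inj ⟨4, by omega⟩ ⟨6, by omega⟩ (by norm_num)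
    have := inj ⟨5, by omega⟩ ⟨6, by omega⟩ (by norm_num)
    omega

/-- The exponents `1, …, 1, 1 - n` modulo `n²`. -/
theorem no_pairing_square (hn : 3 ≤ n) (hodd : Odd n) (b : ZMod (n * n)) (π : Equiv.Perm (Fin n)) :
    ¬ ∀ i, (if (π i).val + 1 < n then 1 else 1 - (n : ZMod (n * n))) +
      (if i.val + 1 < n then 1 else 1 - (n : ZMod (n * n))) = b := by
  intro h
  have hnn : (n : ZMod (n * n)) ≠ 0 := fun e => by
    have := Nat.le_of_dvd (by omega) ((ZMod.natCast_eq_zero_iff n (n * n)).1 e)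
    nlinarith
  have h2n : ((2 * n : ℕ) : ZMod (n * n)) ≠ 0 := fun e => by
    have := Nat.le_of_dvd (by omega) ((ZMod.natCast_eq_zero_iff (2 * n) (n * n)).1 e)
    nlinarith
  push_cast at h2n
  have h0 := h ⟨0, by omega⟩
  have h1 := h ⟨1, by omega⟩
  have hl := h ⟨n - 1, by omega⟩
  rw [if_pos (show (⟨0, by omega⟩ : Fin n).val + 1 < n by simp; omega)] at h0
  rw [if_pos (show (⟨1, by omega⟩ : Fin n).val + 1 < n by simp; omega)] at h1
  rw [if_neg (show ¬ (⟨n - 1, by omega⟩ : Fin n).val + 1 < n by simp; omega)] at hl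
  have hb : b = 2 := by
    split_ifs at h0 h1 with k k'
    · linear_combination -h0
    · linear_combination -h0
    · linear_combination -h1
    · exfalso
      have e1 := (π ⟨0, by omega⟩).isLt
      have e2 := (π ⟨1, by omega⟩).isLt
      have := congrArg Fin.val (π.injective (a₁ := ⟨0, by omega⟩) (a₂ := ⟨1, by omega⟩) (Fin.ext (by omega)))
      simp at this
  subst hb
  split_ifs at hl with k
  · exact hnn (by linear_combination -hl)
  · exact h2n (by linear_combination -hl)

end Cfsg.Agent.LBSim
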