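/-
Elements with fixed points: the exceptional odd primes and the elements squaring to a square.
-/
import Cfsg.Agent.Lib.LinearBlock.SimElem

set_option autoImplicit false
set_option linter.all false

namespace Cfsg.Agent.LBSim

open Matrix Polynomial UniqueFactorizationMonoid

variable {F : Type*} [Field F] {σ : F →+* F} {n : ℕ} {G : Matrix (Fin n) (Fin n) F}

/-- An involution matching the value classes `v` and `b - v`. -/
theorem exists_involution {R : Type*} [AddCommGroup R] [Fintype R] [DecidableEq R] (e : Fin n → R) {b : R}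
    (h : ∀ v, Fintype.card {i // e i = b - v} = Fintype.card {i // e i = v}) :
    ∃ π : Equiv.Perm (Fin n), (∀ i, π (π i) = i) ∧ ∀ i, e i + e (π i) = b := by
  let E : Fin n ≃ Σ v : R, Fin (Fintype.card {i // e i = v}) :=
    (Equiv.sigmaFiberEquiv e).symm.trans (Equiv.sigmaCongrRight fun v => Fintype.equivFin _)
  let τ : (Σ v : R, Fin (Fintype.card {i // e i = v})) → Σ v : R, Fin (Fintype.card {i // e i = v}) :=
    fun x => ⟨b - x.1, Fin.cast (h x.1).symm x.2⟩
  have hext : ∀ (x y : Σ v : R, Fin (Fintype.card {i // e i = v})), x.1 = y.1 → x.2.val = y.2.val → x = y := by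
    rintro ⟨v, i⟩ ⟨w, j⟩ (rfl : v = w) hij
    exact congrArg (Sigma.mk v) (Fin.ext hij)
  have hτ : ∀ x, τ (τ x) = x := fun x => hext _ _ (sub_sub_cancel b x.1) rfl
  let T : Equiv.Perm (Σ v : R, Fin (Fintype.card {i // e i = v})) := ⟨τ, τ, hτ, hτ⟩
  refine ⟨(E.trans T).trans E.symm, fun i => ?_, fun i => ?_⟩
  · show E.symm (τ (E (E.symm (τ (E i))))) = i
    rw [Equiv.apply_symm_apply, hτ, Equiv.symm_apply_apply]
  · have hE : ∀ j, (E j).1 = e j := fun j => rfl
    show e i + e (E.symm (τ (E i))) = b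
    rw [← hE (E.symm _), Equiv.apply_symm_apply]
    show e i + (b - (E i).1) = b
    rw [hE, add_sub_cancel]

theorem count_three : ∀ a b : ZMod 3, ∃ t : ZMod 3, ∀ v : ZMod 3,
    [a, b, -a - b].count (t - v) = [a, b, -a - b].count v := by decide +kernel

theorem count_five : ∀ a b c d : ZMod 5, ∃ t : ZMod 5, ∀ v : ZMod 5,
    [a, b, c, d, -a - b - c - d].count (t - v) = [a, b, c, d, -a - b - c - d].count v := by decide +kernel

theorem card_fibre {R : Type*} [DecidableEq R] (e : Fin n → R) (v : R) :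
    Fintype.card {i // e i = v} = (List.ofFn e).count v := by
  rw [← Multiset.coe_count, ← Fin.univ_val_map, Multiset.count_map, Fintype.card_subtype]
  simp only [eq_comm]; rfl

theorem exists_pairing {r : ℕ} [NeZero r] (hr : r = 3 ∨ r = 5) (hn : n = r) (e : Fin n → ZMod r) (hsum : ∑ i, e i = 0) :
    ∃ b, ∃ π : Equiv.Perm (Fin n), (∀ i, π (π i) = i) ∧ ∀ i, e i + e (π i) = b := by
  subst hn
  rcases hr with rfl | rfl
  · obtain ⟨t, ht⟩ := count_three (e 0) (e 1)
    refine ⟨t, exists_involution e fun v => ?_⟩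
    rw [Fin.sum_univ_three] at hsum
    have he : List.ofFn e = [e 0, e 1, -e 0 - e 1] := by
      rw [show -e 0 - e 1 = e 2 by linear_combination -hsum]; rfl
    rw [card_fibre, card_fibre, he, ht]
  · obtain ⟨t, ht⟩ := count_five (e 0) (e 1) (e 2) (e 3)
    refine ⟨t, exists_involution e fun v => ?_⟩
    rw [Fin.sum_univ_five] at hsum
    have he : List.ofFn e = [e 0, e 1, e 2, e 3, -e 0 - e 1 - e 2 - e 3] := by
      rw [show -e 0 - e 1 - e 2 - e 3 = e 4 by linear_combination -hsum]; rfl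
    rw [card_fibre, card_fibre, he, ht]

theorem charpoly_split [Fintype F] {r : ℕ} (hr : r.Prime) {ω : F} (hω : IsPrimitiveRoot ω r) [NeZero r]
    {X : Matrix (Fin n) (Fin n) F} (hX : X ^ r = 1) :
    ∃ e : Fin n → ZMod r, X.charpoly = ∏ i, (Polynomial.X - C (ev ω (e i))) := by
  classical
  have hmem : ∀ u ∈ normalizedFactors X.charpoly, ∃ a : ZMod r, u = Polynomial.X - C (ev ω a) := fun u hu => by
    have hui := irreducible_of_normalized_factor u hu
    have hum := LBRootPoly.monic_of_mem hu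
    have hud : u ∣ Polynomial.X ^ r - 1 :=
      (Spectra.dvd_minpoly_of_dvd_charpoly X hui (dvd_of_mem_normalizedFactors hu)).trans (minpoly.dvd F X (by simp [hX]))
    rw [X_pow_sub_one_eq_prod hr.pos hω] at hud
    obtain ⟨ζ, hζ, hdvd⟩ := hui.prime.exists_mem_finset_dvd hud
    rw [mem_nthRootsFinset hr.pos] at hζ
    obtain ⟨k, hk, hkω⟩ := hω.eq_pow_of_pow_eq_one hζ
    refine ⟨(k : ZMod r), ?_⟩
    rw [ev, ZMod.val_natCast_of_lt hk, hkω]
    exact eq_of_monic_of_associated hum (monic_X_sub_C ζ) (hui.associated_of_dvd (irreducible_X_sub_C ζ) hdvd)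
  choose! a ha using hmem
  obtain ⟨L, hL⟩ : ∃ L : List F[X], L = (normalizedFactors X.charpoly).toList := ⟨_, rfl⟩
  have hLm : ∀ u ∈ L, u = Polynomial.X - C (ev ω (a u)) := fun u hu => ha u (Multiset.mem_toList.1 (hL ▸ hu))
  have hp : X.charpoly = L.prod := by
    rw [hL, Multiset.prod_toList, LBRootPoly.prod_of_monic (Matrix.charpoly_monic X)]
  have hlen : L.length = n := by
    have h1 := congrArg natDegree hp
    rw [Matrix.charpoly_natDegree_eq_dim, Fintype.card_fin, ← List.map_id' L,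
      List.map_congr_left hLm, ← Multiset.prod_coe, natDegree_multiset_prod_of_monic] at h1
    · rw [Multiset.map_coe, Multiset.sum_coe, List.map_map] at h1
      simpa [Function.comp_def] using h1.symm
    · intro f hf
      obtain ⟨u, -, rfl⟩ := List.mem_map.1 hf
      exact monic_X_sub_C _
  refine ⟨fun i => a L[i.val], hp.trans ?_⟩
  rw [← Fin.prod_univ_getElem, Fintype.prod_equiv (finCongr hlen) _ fun i => L[i.val]'(hlen.symm ▸ i.isLt)]
  · exact Finset.prod_congr rfl fun i _ => hLm _ (List.getElem_mem _)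
  · intro i; rfl

/-- The exceptional primes: every element has a fixed point. -/
theorem allFix_exceptional [Fintype F] (p : ℕ) [Fact p.Prime] [CharP F p] {r : ℕ} [Fact r.Prime] (hrp : r ≠ p)
    (hr35 : r = 3 ∨ r = 5) (hn : n = r) (hv : padicValNat r (Fintype.card F - 1) = 1)
    (hσ : ∀ x : F, x ^ r = 1 → σ x = x) (hC : Cong σ G) : AllFix σ G r := by
  have hr : r.Prime := Fact.out
  haveI : NeZero r := ⟨hr.ne_zero⟩
  have hrodd : Odd r := by rcases hr35 with rfl | rfl <;> decide
  obtain ⟨ω, hω⟩ := exists_order (F := F) (m := r) (dvd_of_one_le_padicValNat hv.ge)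
  rintro X hd ⟨z, hz⟩ -
  have hn0 : 0 < n := hn ▸ hr.pos
  have hz0 := ne_zero_of_pow hn0 hd hz
  have hzr : z ^ r = 1 := by
    have h1 := congrArg Matrix.det hz
    rw [Matrix.det_pow, hd, one_pow, Matrix.det_smul, Matrix.det_one, mul_one, Fintype.card_fin, hn] at h1
    exact h1.symm
  have hz1 : z = 1 := by
    by_contra hne
    have hnp : ∀ t : F, t ^ r ≠ z := fun t ht => by
      have ht2 : t ^ r ^ 2 = 1 := by rw [pow_two, pow_mul, ht, hzr]
      have ht0 : t ≠ 0 := fun e => by rw [e, zero_pow hr.ne_zero] at ht; exact hz0 ht.symm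
      have hq : orderOf t ∣ Fintype.card F - 1 := orderOf_dvd_of_pow_eq_one (FiniteField.pow_card_sub_one_eq_one t ht0)
      obtain ⟨k, hk, hko⟩ := (Nat.dvd_prime_pow hr).1 (orderOf_dvd_of_pow_eq_one ht2)
      have hk1 : k ≤ 1 := by
        by_contra hk1
        rw [hko, show k = 2 by omega] at hq
        have := (padicValNat_dvd_iff_le (Nat.sub_pos_of_lt Fintype.one_lt_card).ne').1 hq
        omega
      exact hne (ht.symm.trans (orderOf_dvd_iff_pow_eq_one.1 (hko ▸ (pow_dvd_pow r hk1).trans (by rw [pow_one]))))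
    have hirr : Irreducible (Polynomial.X ^ r - C z : F[X]) := (X_pow_sub_C_irreducible_iff_of_prime hr).2 hnp
    obtain ⟨k, hk⟩ := LBInvCl.eq_pow_of_factors (Matrix.charpoly_monic X) (monic_X_pow_sub_C z hr.ne_zero) fun u hum hui hud =>
      eq_of_monic_of_associated hum (monic_X_pow_sub_C z hr.ne_zero) (hui.associated_of_dvd hirr
        ((Spectra.dvd_minpoly_of_dvd_charpoly X hui hud).trans (minpoly.dvd F X (by
          simp [hz, Algebra.algebraMap_eq_smul_one]))))
    have h1 := congrArg natDegree hk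
    rw [natDegree_pow, natDegree_X_pow_sub_C, Matrix.charpoly_natDegree_eq_dim, Fintype.card_fin, hn] at h1
    obtain rfl : k = 1 := Nat.eq_of_mul_eq_mul_right hr.pos (by rw [one_mul, ← h1])
    have h2 := Matrix.det_eq_sign_charpoly_coeff X
    rw [hd, hk, pow_one, Fintype.card_fin, hn, coeff_sub, coeff_X_pow, if_neg (Ne.symm hr.ne_zero), coeff_C_zero,
      zero_sub, hrodd.neg_one_pow, neg_one_mul, neg_neg] at h2
    exact hne h2.symm
  subst hz1
  rw [one_smul] at hz
  obtain ⟨e, he⟩ := charpoly_split hr (hω ▸ IsPrimitiveRoot.orderOf ω) hz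
  have hc0 : X.charpoly = (Matrix.diagonal fun i => ev ω (e i)).charpoly := by rw [he, Matrix.charpoly_diagonal]
  have hsum : ∑ i, e i = 0 := by
    refine ev_inj hω ?_
    rw [ev_sum hω, ev_zero, ← Matrix.det_diagonal, ← LBInvCl.det_eq_of_charpoly hc0, hd]
  obtain ⟨b, π, hπ, hb⟩ := exists_pairing hr35 hn e hsum
  obtain ⟨C, s, hCd, hs, hCC⟩ := hC _ (permMat_sym π hπ)
  refine fix_of_model p hr hrp hn0 (h0 := Matrix.diagonal fun i => ev ω (e i)) (G' := permMat π) (z := 1) (z' := 1)
    one_ne_zero one_ne_zero (by rw [hz, one_smul]) ?_ hc0 hCd hs hCC (sim_perm (c := ev ω b) (ev_ne_zero hω b) fun i => ?_)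
  · rw [Matrix.diagonal_pow, one_smul, ← Matrix.diagonal_one]
    congr 1
    funext i
    rw [Pi.pow_apply, ev_pow hω, ZMod.natCast_self, zero_mul, ev_zero]
  · rw [ev_fix (hσ ω (hω ▸ pow_orderOf_eq_one ω)), ← ev_add hω, hb]

/-- A square: the element is diagonalisable with eigenvalues `±a`. -/
theorem fix_square [Fintype F] (p : ℕ) [Fact p.Prime] [CharP F p] (hp : p ≠ 2) (hn : 0 < n)
    {X : Matrix (Fin n) (Fin n) F} {a : F} (ha : a ≠ 0) (hX : X ^ 2 = (a * a) • 1) {d : Fin n → F}
    {C : Matrix (Fin n) (Fin n) F} {s : F} (hCd : C.det ≠ 0) (hs : s ≠ 0) (hC : Cᵀ * G * C.map σ = s • Matrix.diagonal d) :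
    Fix σ G X := by
  obtain ⟨k, hk, hc⟩ := LBInvCl.charpoly_square (show X * X = (a * a) • 1 by rw [← pow_two, hX])
  obtain ⟨v, hv⟩ : ∃ v : Fin n → F, v = fun i => if i.val < k then a else -a := ⟨_, rfl⟩
  refine fix_of_model p Nat.prime_two hp.symm hn (h0 := Matrix.diagonal v) (G' := Matrix.diagonal d) (z' := a * a)
    (mul_ne_zero ha ha) (mul_ne_zero ha ha) hX ?_ ?_ hCd hs hC
    (sim_diagonal (c := a * σ a) (mul_ne_zero ha ((map_ne_zero σ).2 ha)) fun i => ?_)
  · rw [Matrix.diagonal_pow, Matrix.smul_one_eq_diagonal]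
    congr 1
    funext i
    rw [Pi.pow_apply, hv]
    show (if i.val < k then a else -a) ^ 2 = _
    split_ifs <;> ring
  · rw [hc, Matrix.charpoly_diagonal, hv]
    simp only [apply_ite (fun t : F => Polynomial.X - Polynomial.C t)]
    obtain ⟨l, rfl⟩ : ∃ l, n = k + l := ⟨n - k, by omega⟩
    rw [Fin.prod_univ_add, Finset.prod_congr rfl (g := fun _ => Polynomial.X - Polynomial.C a) (fun i _ => if_pos (by simp)),
      Finset.prod_const, Finset.card_univ, Fintype.card_fin,
      Finset.prod_congr rfl (g := fun _ => Polynomial.X - Polynomial.C (-a)) (fun i _ => if_neg (by simp)),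
      Finset.prod_const, Finset.card_univ, Fintype.card_fin, Nat.add_sub_cancel_left]
  · rw [hv]
    show (if i.val < k then a else -a) * σ (if i.val < k then a else -a) = _
    split_ifs <;> simp

end Cfsg.Agent.LBSim
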