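/-
Derangements built from an irreducible factor of `X ^ r - 1` of degree at least two, and indices in GL.
-/
import Cfsg.Agent.Lib.LinearBlock.SimModels
import Cfsg.Agent.Lib.Classical.SL

set_option autoImplicit false
set_option linter.all false

namespace Cfsg.Agent.LBSim

open Matrix Polynomial

variable {F : Type*} [Field F] [Fintype F] [DecidableEq F] {σ : F →+* F} {n : ℕ} {G : Matrix (Fin n) (Fin n) F} {r : ℕ}

theorem cast_card_ne_one_iff [Fact r.Prime] : (Fintype.card F : ZMod r) ≠ 1 ↔ ¬ r ∣ Fintype.card F - 1 := by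
  rw [not_iff_not, ← ZMod.natCast_eq_zero_iff, Nat.cast_sub (Fintype.card_pos (α := F)), Nat.cast_one, sub_eq_zero]

theorem root_one [Fact r.Prime] (hq : (Fintype.card F : ZMod r) ≠ 1) {c : F} (hc : c ^ r = 1) : c = 1 := by
  have hr : r.Prime := Fact.out
  have hc0 : c ≠ 0 := fun e => by rw [e, zero_pow hr.ne_zero] at hc; exact zero_ne_one hc
  refine orderOf_eq_one_iff.1 (((Nat.dvd_prime hr).1 (orderOf_dvd_of_pow_eq_one hc)).resolve_right fun e => ?_)
  exact cast_card_ne_one_iff.1 hq (e ▸ orderOf_dvd_of_pow_eq_one (FiniteField.pow_card_sub_one_eq_one c hc0))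

/-- A similitude of order `r` is an isometry. -/
theorem scale_one [Fact r.Prime] (hq : (Fintype.card F : ZMod r) ≠ 1) (hn : 0 < n) (hG : G.det ≠ 0)
    {h : Matrix (Fin n) (Fin n) F} {c : F} (hs : hᵀ * G * h.map σ = c • G) (hh : h ^ r = 1) : c = 1 := by
  haveI : Nonempty (Fin n) := ⟨⟨0, hn⟩⟩
  refine root_one hq ?_
  rw [scale_pow hG hs (z := 1) (by rw [hh, one_smul]), map_one, one_mul]

/-- An element with prescribed spectrum among the `r`-th roots of unity. -/
theorem exists_elem (p : ℕ) [Fact p.Prime] [CharP F p] [Fact r.Prime] (hq : (Fintype.card F : ZMod r) ≠ 1) {f g : F[X]}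
    (hg : g ∈ LBRootPoly.factors F r) (hf : LBRootPoly.Good r f) (hd : f.natDegree = n) (hgf : g ∣ f) :
    ∃ X : Matrix (Fin n) (Fin n) F, X.det = 1 ∧ X ^ r = 1 ∧ X.charpoly = f ∧ ∀ z : F, X ≠ z • 1 := by
  have hr : r.Prime := Fact.out
  obtain ⟨A, hA, hAc⟩ := SemisimpleCl.exists_gl_rep p hf.1 hd (LBRootPoly.coeff_zero_ne hr.ne_zero hf)
  have hAN : A.1 ^ orderOf A = 1 := by rw [← Units.val_pow_eq_pow_val, pow_orderOf_eq_one, Units.val_one]
  have hAr : A.1 ^ r = 1 := LBRootPoly.pow_eq_one p hAN hA (hAc.symm ▸ hf) hr.ne_zero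
  refine ⟨A.1, root_one hq (by rw [← Matrix.det_pow, hAr, Matrix.det_one]), hAr, hAc, fun z hz => ?_⟩
  obtain ⟨hne, hgm, hgi, -⟩ := (LBRootPoly.mem_factors hr.ne_zero).1 hg
  rw [← hAc, hz] at hgf
  rcases Nat.eq_zero_or_pos n with h0 | h0
  · have h1 := Polynomial.natDegree_le_of_dvd hgf (Matrix.charpoly_monic _).ne_zero
    rw [Matrix.charpoly_natDegree_eq_dim, Fintype.card_fin, h0] at h1
    have := hgi.natDegree_pos
    omega
  · have hz1 : z = 1 := root_one hq (by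
      have := congrArg (fun M : Matrix (Fin n) (Fin n) F => M ⟨0, h0⟩ ⟨0, h0⟩) hAr
      rw [hz, _root_.smul_pow, one_pow] at this
      simpa using this)
    rw [hz1, one_smul, Matrix.charpoly_one] at hgf
    exact hne (eq_of_monic_of_associated hgm (monic_X_sub_C 1)
      (hgi.associated_of_dvd (irreducible_X_sub_C 1) (hgi.prime.dvd_of_dvd_pow (by rwa [C_1]))))

/-- An element whose only non-trivial factor is `g` has no fixed point, unless `g` is stable under the twist. -/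
theorem not_fix_factor (p a : ℕ) [Fact p.Prime] [CharP F p] [Fact r.Prime] (hs : ∀ x, σ (σ x) = x)
    (hQ : ∀ x, σ x = x ^ p ^ a) (hq : (Fintype.card F : ZMod r) ≠ 1)
    (hno : ∀ k : ℕ, (Fintype.card F : ZMod r) ^ k ≠ -((p ^ a : ℕ) : ZMod r)) (hn : 0 < n) (hG : G.det ≠ 0) {g : F[X]}
    (hg : g ∈ LBRootPoly.factors F r) {X : Matrix (Fin n) (Fin n) F} {e : ℕ} (hX : X ^ r = 1)
    (hc : X.charpoly = g * (Polynomial.X - Polynomial.C 1) ^ e) : ¬ Fix σ G X := by
  rintro ⟨P, c, -, hs'⟩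
  have hr : r.Prime := Fact.out
  obtain ⟨U, hU⟩ : ∃ U : GL (Fin n) F, U = SpecialLinearGroup.toGL P := ⟨_, rfl⟩
  obtain ⟨h, hh⟩ : ∃ h, h = (P⁻¹).1 * X * P.1 := ⟨_, rfl⟩
  have hh' : h = (U⁻¹).1 * X * U.1 := by rw [hh, hU, ← map_inv]; rfl
  rw [← hh] at hs'
  have hhr : h ^ r = 1 := by rw [hh', Units.conj_pow', hX, Matrix.mul_one, Units.inv_mul]
  obtain rfl := scale_one hq hn hG hs' hhr
  have hhc : h.charpoly = g * (Polynomial.X - Polynomial.C 1) ^ e := by
    rw [hh', ← hc, Matrix.coe_units_inv, Matrix.charpoly_units_conj']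
  have hhd : h.det ≠ 0 := fun e0 => by
    have := congrArg Matrix.det hhr
    rw [Matrix.det_pow, e0, zero_pow hr.ne_zero, Matrix.det_one] at this
    exact zero_ne_one this
  obtain ⟨hne, hm, hi, hd⟩ := (LBRootPoly.mem_factors hr.ne_zero).1 hg
  haveI : Fact (Irreducible g) := ⟨hi⟩
  haveI : Module.Finite F (AdjoinRoot g) := hm.finite_adjoinRoot
  haveI : Finite (AdjoinRoot g) := Module.finite_of_finite F
  haveI : CharP (AdjoinRoot g) p := charP_of_injective_algebraMap (algebraMap F (AdjoinRoot g)).injective p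
  obtain ⟨θ, hθ⟩ : ∃ θ, θ = AdjoinRoot.root g := ⟨_, rfl⟩
  have hθr : θ ^ r = 1 := by
    have h := AdjoinRoot.mk_eq_zero.2 hd
    rwa [map_sub, map_pow, map_one, AdjoinRoot.mk_X, sub_eq_zero, ← hθ] at h
  have hθ1 : θ ≠ 1 := by
    intro h
    apply hne
    have h' : g ∣ Polynomial.X - Polynomial.C 1 := AdjoinRoot.mk_eq_zero.1
      (by rw [map_sub, AdjoinRoot.mk_X, map_one, map_one, ← hθ, h, sub_self])
    exact eq_of_monic_of_associated hm (monic_X_sub_C 1) (hi.associated_of_dvd (irreducible_X_sub_C 1) h')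
  have hord : orderOf θ = r := orderOf_eq_prime hθr hθ1
  have hθ0 : θ ≠ 0 := fun h => by rw [h, zero_pow hr.ne_zero] at hθr; exact zero_ne_one hθr
  obtain ⟨φ, hφ⟩ : ∃ φ, φ = algebraMap F (AdjoinRoot g) := ⟨_, rfl⟩
  have hgθ : g.eval₂ φ θ = 0 := by rw [hφ, hθ]; exact AdjoinRoot.eval₂_root g
  have hroot := root_pair φ hG hs' hhd hθ0 (by rw [hhc, eval₂_mul, hgθ, zero_mul])
  rw [map_one, one_div, hhc, Polynomial.map_mul, Polynomial.map_pow, Polynomial.map_sub, map_X, map_C, map_one,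
    eval₂_mul, eval₂_pow, eval₂_sub, eval₂_X, eval₂_C, map_one, mul_eq_zero] at hroot
  have hη : (g.map σ).eval₂ φ θ⁻¹ = 0 := hroot.resolve_right fun e0 =>
    hθ1 (inv_eq_one.1 (sub_eq_zero.1 (eq_zero_of_pow_eq_zero e0)))
  obtain ⟨η, hηdef⟩ : ∃ η, η = (θ⁻¹) ^ p ^ a := ⟨_, rfl⟩
  have hηroot : aeval η g = 0 := by
    have h1 := congrArg (iterateFrobenius (AdjoinRoot g) p a) hη
    rw [map_zero, hom_eval₂, eval₂_map, iterateFrobenius_def, ← hηdef] at h1
    have hcomp : ((iterateFrobenius (AdjoinRoot g) p a).comp φ).comp σ = φ :=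
      RingHom.ext fun x => by
        simp only [RingHom.comp_apply, iterateFrobenius_def, ← map_pow, ← hQ, hs]
    rw [hcomp, hφ] at h1
    rw [aeval_def, h1]
  obtain ⟨τ, hτ⟩ : ∃ τ : AdjoinRoot g →ₐ[F] AdjoinRoot g, τ θ = η :=
    ⟨AdjoinRoot.liftAlgHom g (Algebra.ofId F (AdjoinRoot g)) η hηroot, by rw [hθ]; exact AdjoinRoot.lift_root hηroot⟩
  obtain ⟨⟨d, _⟩, rfl⟩ := (FiniteField.bijective_frobeniusAlgHom_pow F (AdjoinRoot g)).2 τ
  simp only [AlgHom.coe_pow, FiniteField.coe_frobeniusAlgHom, pow_iterate] at hτ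
  refine hno d ?_
  rw [hηdef, inv_pow, ← mul_eq_one_iff_eq_inv₀ (pow_ne_zero _ hθ0), ← pow_add, ← orderOf_dvd_iff_pow_eq_one, hord,
    ← ZMod.natCast_eq_zero_iff, Nat.cast_add, Nat.cast_pow, add_eq_zero_iff_eq_neg] at hτ
  exact hτ

theorem factor_exists (p : ℕ) [Fact p.Prime] [CharP F p] (hr : r.Prime) (hrp : r ≠ p) :
    ∃ g, g ∈ LBRootPoly.factors F r ∧ g.natDegree = orderOf (Fintype.card F : ZMod r) := by
  have hcard := LBRootPoly.card_factors (F := F) p hr hrp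
  obtain ⟨g, hg⟩ : (LBRootPoly.factors F r).Nonempty := by
    rw [← Finset.card_pos]
    refine Nat.pos_of_ne_zero fun e => ?_
    rw [e, zero_mul] at hcard
    have := hr.two_le
    omega
  obtain ⟨h1, hm, hi, hd⟩ := (LBRootPoly.mem_factors hr.ne_zero).1 hg
  exact ⟨g, hg, LBRootPoly.natDegree_factor hr hm hi hd h1⟩

/-- When `g` is not stable under the twist and fits in dimension `n`, there is a derangement. -/
theorem not_allFix_factor (p a : ℕ) [Fact p.Prime] [CharP F p] [Fact r.Prime] (hrp : r ≠ p) (hs : ∀ x, σ (σ x) = x)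
    (hQ : ∀ x, σ x = x ^ p ^ a) (hq : (Fintype.card F : ZMod r) ≠ 1)
    (hno : ∀ k : ℕ, (Fintype.card F : ZMod r) ^ k ≠ -((p ^ a : ℕ) : ZMod r)) (hn : 0 < n) (hG : G.det ≠ 0)
    (hin : orderOf (Fintype.card F : ZMod r) ≤ n) : ¬ AllFix σ G r := by
  intro h
  have hr : r.Prime := Fact.out
  obtain ⟨g, hg, hgd⟩ := factor_exists (F := F) p hr hrp
  obtain ⟨-, hm, hi, hd⟩ := (LBRootPoly.mem_factors hr.ne_zero).1 hg
  have hf : LBRootPoly.Good r (g * (Polynomial.X - Polynomial.C 1) ^ (n - g.natDegree)) := by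
    refine ⟨hm.mul ((monic_X_sub_C 1).pow _), fun u hum hui hud => ?_⟩
    rcases hui.prime.dvd_or_dvd hud with e | e
    · exact e.trans hd
    · exact (hui.prime.dvd_of_dvd_pow e).trans (dvd_iff_isRoot.2 (by simp [IsRoot]))
  obtain ⟨X, hXd, hXr, hXc, hXs⟩ := exists_elem p hq hg hf (n := n) (by
    rw [hm.natDegree_mul ((monic_X_sub_C 1).pow _), natDegree_pow, natDegree_X_sub_C, hgd]
    omega) (dvd_mul_right _ _)
  exact not_fix_factor p a hs hQ hq hno hn hG hg hXr hXc (h X hXd ⟨1, by rw [hXr, one_smul]⟩ hXs)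

omit [DecidableEq F] in
/-- A prime dividing an index in SL divides the index in GL. -/
theorem index_gl {K : Subgroup (GL (Fin n) F)} {d : ℕ} (hn : 0 < n) (hd : ∀ g ∈ K, GeneralLinearGroup.det g ^ d = 1)
    (h : r ∣ K.relIndex (Cfsg.Geo.specialLinear (Fin n) F)) : r * (Fintype.card F - 1) ∣ K.index * d := by
  haveI : Nonempty (Fin n) := ⟨⟨0, hn⟩⟩
  obtain ⟨S, hS⟩ : ∃ S, S = Cfsg.Geo.specialLinear (Fin n) F := ⟨_, rfl⟩
  have hSi : S.index = Fintype.card F - 1 := by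
    rw [hS, Cfsg.Geo.specialLinear, Subgroup.index_ker, MonoidHom.range_eq_top.2 GeneralLinearGroup.det_surjective,
      Subgroup.card_top, Nat.card_units, Nat.card_eq_fintype_card]
  have he : Nat.card (K.map (GeneralLinearGroup.det : GL (Fin n) F →* Fˣ)) ∣ d := by
    rw [← IsCyclic.exponent_eq_card]
    refine Monoid.exponent_dvd_of_forall_pow_eq_one fun x => ?_
    obtain ⟨g, hg, hgx⟩ := Subgroup.mem_map.1 x.2
    exact Subtype.ext (by rw [SubmonoidClass.coe_pow, ← hgx, hd g hg, Subgroup.coe_one])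
  have h1 := Subgroup.relIndex_mul_index (inf_le_right : K ⊓ S ≤ S)
  have h2 := Subgroup.relIndex_mul_index (inf_le_left : K ⊓ S ≤ K)
  rw [Subgroup.inf_relIndex_right] at h1
  rw [Subgroup.inf_relIndex_left, ← h1, hSi] at h2
  have h3 : S.relIndex K = Nat.card (K.map (GeneralLinearGroup.det : GL (Fin n) F →* Fˣ)) := by
    rw [hS, Cfsg.Geo.specialLinear, Subgroup.relIndex_ker]
  rw [← hS] at h
  refine (mul_dvd_mul_right h _).trans ?_
  rw [← h2, h3, mul_comm]
  exact mul_dvd_mul_left _ he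

omit [DecidableEq F] in
/-- The order of GL as a product over the degrees. -/
theorem card_gl_int {q : ℕ} (hq : Fintype.card F = q) (n : ℕ) :
    ∃ a : ℕ, (Nat.card (GL (Fin n) F) : ℤ) = (q : ℤ) ^ a * ∏ i ∈ Finset.range n, ((q : ℤ) ^ (i + 1) - 1) := by
  have hq1 : 1 ≤ q := hq ▸ Fintype.card_pos
  refine ⟨∑ i ∈ Finset.range n, i, ?_⟩
  rw [ClassicalSL.card_gl_fin (Nat.card_eq_fintype_card.trans hq), Fin.prod_univ_eq_prod_range (fun i => q ^ n - q ^ i) n,
    Nat.cast_prod, ← Finset.prod_range_reflect (fun i => (q : ℤ) ^ (i + 1) - 1) n, ← Finset.prod_pow_eq_pow_sum,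
    ← Finset.prod_mul_distrib]
  refine Finset.prod_congr rfl fun i hi => ?_
  have hi' := Finset.mem_range.1 hi
  rw [Nat.cast_sub (Nat.pow_le_pow_right hq1 hi'.le), Nat.cast_pow, Nat.cast_pow, mul_sub, mul_one, ← pow_add,
    show i + (n - 1 - i + 1) = n by omega]

/-- Vanishing of a product of factors modulo `r`. -/
theorem exists_zero {ι : Type*} {s : Finset ι} [Fact r.Prime] {f : ι → ℤ} (h : ((∏ i ∈ s, f i : ℤ) : ZMod r) = 0) :
    ∃ i ∈ s, (f i : ZMod r) = 0 := by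
  rw [Int.cast_prod] at h
  exact Finset.prod_eq_zero_iff.1 h

end Cfsg.Agent.LBSim
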