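/-
Elements of prime order of `PSL_n(q)` and the similarity groups of quadratic forms.
-/
import Cfsg.Agent.Lib.LinearBlock.SimFactor
import Cfsg.Agent.Lib.LinearBlock.OrthTypeElem
import Cfsg.Agent.Lib.LinearBlock.EvenRootClasses

set_option autoImplicit false
set_option linter.all false

namespace Cfsg.Agent.LBSim

open Matrix Polynomial QuadraticMap Module

variable {F : Type*} [Field F] {n : ℕ}

local notation "ID" => RingHom.id F

theorem map_id' (M : Matrix (Fin n) (Fin n) F) : M.map (RingHom.id F) = M := by ext i j; rfl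

/-- A symmetric non-singular matrix is a polar Gram matrix. -/
theorem exists_form (h2 : (2 : F) ≠ 0) {M : Matrix (Fin n) (Fin n) F} (hM : Mᵀ = M) (hd : M.det ≠ 0) :
    ∃ Q : QuadraticForm F (Fin n → F), (polarBilin Q).Nondegenerate ∧ LinearMap.toMatrix₂' F (polarBilin Q) = M := by
  obtain ⟨Q, hQ⟩ : ∃ Q : QuadraticForm F (Fin n → F),
      Q = LinearMap.BilinMap.toQuadraticMap (Matrix.toLinearMap₂' F ((2 : F)⁻¹ • M)) := ⟨_, rfl⟩
  have hQM : LinearMap.toMatrix₂' F (polarBilin Q) = M := by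
    ext i j
    rw [LinearMap.toMatrix₂'_apply, polarBilin_apply_apply, hQ, LinearMap.BilinMap.polar_toQuadraticMap,
      Matrix.toLinearMap₂'_apply', Matrix.toLinearMap₂'_apply']
    simp only [single_one_dotProduct, Matrix.mulVec_single_one, Matrix.col_apply, Matrix.smul_apply, smul_eq_mul]
    rw [show M j i = M i j from congrFun (congrFun hM i) j, ← two_mul, ← mul_assoc, mul_inv_cancel₀ h2, one_mul]
  refine ⟨Q, LinearMap.nondegenerate_toMatrix₂'_iff.1 ?_, hQM⟩
  rw [hQM]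
  exact Matrix.nondegenerate_iff_det_ne_zero.2 hd

theorem congr_quad [Finite F] (h2 : (2 : F) ≠ 0) (hn : 0 < n) {G G' : Matrix (Fin n) (Fin n) F} (hGs : Gᵀ = G)
    (hG : G.det ≠ 0) (hGs' : G'ᵀ = G') (hG' : G'.det ≠ 0) (hsq : IsSquare (G.det * G'.det)) :
    ∃ C : Matrix (Fin n) (Fin n) F, ∃ s : F, C.det ≠ 0 ∧ s ≠ 0 ∧ Cᵀ * G * C.map ID = s • G' := by
  haveI : Nonempty (Fin n) := ⟨⟨0, hn⟩⟩
  obtain ⟨Q₂, hQ₂, hm₂⟩ := exists_form h2 hGs hG
  obtain ⟨Q₁, hQ₁, hm₁⟩ := exists_form h2 hGs' hG'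
  obtain ⟨g, hg⟩ := LBType.exists_isometry h2 hQ₁ hQ₂ (by rw [hm₁, hm₂, mul_comm]; exact hsq)
  refine ⟨LinearMap.toMatrix' g.toLinearMap, 1, ?_, one_ne_zero, ?_⟩
  · rw [LinearMap.det_toMatrix']
    exact g.isUnit_det'.ne_zero
  · have hcomp : (polarBilin Q₂).compl₁₂ g.toLinearMap g.toLinearMap = polarBilin Q₁ :=
      LinearMap.ext₂ fun u v => by
        simp only [LinearMap.compl₁₂_apply, polarBilin_apply_apply, LinearEquiv.coe_coe, polar, ← map_add, hg]
    have := LinearMap.toMatrix₂'_compl₁₂ (polarBilin Q₂) g.toLinearMap g.toLinearMap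
    rw [hcomp, hm₁, hm₂] at this
    rw [map_id', one_smul, ← this]

theorem cong_odd [Finite F] (h2 : (2 : F) ≠ 0) (hn : Odd n) {G : Matrix (Fin n) (Fin n) F} (hGs : Gᵀ = G)
    (hG : G.det ≠ 0) : Cong ID G := by
  rintro G' ⟨hs', hd'⟩
  rw [map_id'] at hs'
  obtain ⟨s, hs⟩ : ∃ s, s = G.det * G'.det := ⟨_, rfl⟩
  have hs0 : s ≠ 0 := hs ▸ mul_ne_zero hG hd'
  obtain ⟨C, t, hC, ht, h⟩ := congr_quad h2 hn.pos hGs hG (G' := s • G') (by rw [Matrix.transpose_smul, hs'])
    (by rw [Matrix.det_smul]; exact mul_ne_zero (pow_ne_zero _ hs0) hd') (by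
      obtain ⟨k, hk⟩ := hn
      rw [Matrix.det_smul, Fintype.card_fin, show s ^ n = s ^ (2 * k + 1) from congrArg (s ^ ·) hk, hs]
      exact ⟨(G.det * G'.det) ^ (k + 1), by ring⟩)
  exact ⟨C, t * s, hC, mul_ne_zero ht hs0, by rw [h, smul_smul]⟩

/-- Elements squaring to scalars have fixed points. -/
theorem allFix_two_quad [Fintype F] (p : ℕ) [Fact p.Prime] [CharP F p] (hp : p ≠ 2) (h2 : (2 : F) ≠ 0) (hn : 0 < n)
    {G : Matrix (Fin n) (Fin n) F} (hGs : Gᵀ = G) (hG : G.det ≠ 0) : AllFix ID G 2 := by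
  classical
  rintro X hd ⟨z, hz⟩ -
  have hz0 := ne_zero_of_pow hn hd hz
  by_cases hsq : IsSquare z
  · obtain ⟨a, rfl⟩ := hsq
    obtain ⟨d, hdd⟩ : ∃ d : Fin n → F, d = Function.update (fun _ : Fin n => (1 : F)) ⟨0, hn⟩ G.det := ⟨_, rfl⟩
    have hprod : (Matrix.diagonal d).det = G.det := by
      rw [Matrix.det_diagonal, hdd, Finset.prod_update_of_mem (Finset.mem_univ _)]
      simp
    obtain ⟨C, s, hC, hs, h⟩ := congr_quad h2 hn hGs hG (Matrix.diagonal_transpose d) (hprod.symm ▸ hG)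
      (by rw [hprod]; exact IsSquare.mul_self _)
    exact fix_square p hp hn (fun e => hz0 (by rw [e, mul_zero])) hz hC hs h
  · obtain ⟨k, hnk, hc⟩ := LBInvCl.charpoly_nonsquare (show X * X = z • 1 by rw [← pow_two, hz]) hsq
    subst hnk
    obtain ⟨t, ht⟩ : ∃ t, t = G.det / z ^ (k - 1) := ⟨_, rfl⟩
    obtain ⟨α, β, hαβ⟩ : ∃ α β : F, z * α * α - β * β = t := by
      have hd1 : (Polynomial.C z * Polynomial.X ^ 2 - Polynomial.C t : F[X]).degree = 2 := by
        rw [Polynomial.degree_sub_eq_left_of_degree_lt] <;> rw [Polynomial.degree_C_mul_X_pow 2 hz0]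
        · rfl
        · exact lt_of_le_of_lt Polynomial.degree_C_le (by norm_num)
      have hd2 : (-(Polynomial.X ^ 2) : F[X]).degree = 2 := by rw [Polynomial.degree_neg, Polynomial.degree_X_pow]; rfl
      obtain ⟨α, β, hab⟩ := FiniteField.exists_root_sum_quadratic hd1 hd2 (by
        rw [← Nat.odd_iff]
        exact Nat.not_even_iff_odd.1 fun he => by
          rw [Nat.even_iff, FiniteField.even_card_iff_char_two.symm] at he
          haveI := ringChar.of_eq he
          exact h2 CharTwo.two_eq_zero)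
      refine ⟨α, β, ?_⟩
      simp only [eval_sub, eval_mul, eval_C, eval_pow, eval_X, eval_neg] at hab
      linear_combination hab
    have hk : 0 < k := by omega
    obtain ⟨W, hW⟩ : ∃ W : Fin k → Matrix (Fin 2) (Fin 2) F, W = fun _ => !![0, z; 1, 0] := ⟨_, rfl⟩
    obtain ⟨D, hD⟩ : ∃ D : Fin k → Matrix (Fin 2) (Fin 2) F,
        D = fun j => if j = ⟨0, hk⟩ then !![α, β; β, z * α] else !![1, 0; 0, z] := ⟨_, rfl⟩
    let e : Fin 2 × Fin k ≃ Fin (2 * k) := finProdFinEquiv
    have hDd : (Matrix.reindex e e (Matrix.blockDiagonal D)).det = G.det := by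
      rw [Matrix.det_reindex_self, Matrix.det_blockDiagonal, Finset.prod_eq_mul_prod_sdiff_singleton_of_mem (Finset.mem_univ (⟨0, hk⟩ : Fin k)),
        Finset.prod_congr rfl (g := fun _ => z) (fun j hj => by
          rw [hD]; simp only [Finset.mem_sdiff, Finset.mem_singleton] at hj
          simp only [if_neg hj.2, Matrix.det_fin_two_of]; ring)]
      rw [Finset.prod_const, hD]
      simp only [if_pos, Matrix.det_fin_two_of]
      rw [Finset.card_sdiff, Finset.inter_univ, Finset.card_singleton, Finset.card_univ, Fintype.card_fin,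
        show α * (z * α) - β * β = t by linear_combination hαβ, ht, div_mul_cancel₀ _ (pow_ne_zero _ hz0)]
    have hDt : ∀ j, (D j)ᵀ = D j := fun j => by
      rw [hD]; ext a b
      simp only [Matrix.transpose_apply]
      split_ifs <;> fin_cases a <;> fin_cases b <;> rfl
    obtain ⟨C, s, hC, hs, h⟩ := congr_quad h2 hn hGs hG (G' := Matrix.reindex e e (Matrix.blockDiagonal D))
      (by rw [Matrix.transpose_reindex, Matrix.blockDiagonal_transpose, funext hDt])
      (hDd.symm ▸ hG) (by rw [hDd]; exact IsSquare.mul_self _)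
    have hWW : Matrix.reindex e e (Matrix.blockDiagonal W) * Matrix.reindex e e (Matrix.blockDiagonal W) = z • 1 := by
      rw [Matrix.reindex_apply, Matrix.submatrix_mul_equiv, ← Matrix.blockDiagonal_mul,
        show (fun j => W j * W j) = z • (1 : Fin k → Matrix (Fin 2) (Fin 2) F) from funext fun j => by
          rw [hW]; ext a b; fin_cases a <;> fin_cases b <;> simp [Matrix.mul_apply, Fin.sum_univ_two],
        Matrix.blockDiagonal_smul, Matrix.blockDiagonal_one, Matrix.submatrix_smul]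
      simp
    refine fix_of_model p Nat.prime_two hp.symm hn (h0 := Matrix.reindex e e (Matrix.blockDiagonal W)) (z' := z) hz0 hz0 hz
      (by rw [pow_two, hWW]) ?_ hC hs h ⟨z, hz0, ?_⟩
    · obtain ⟨k', hk', hc'⟩ := LBInvCl.charpoly_nonsquare hWW hsq
      rw [hc, hc', show k = k' by omega]
    · rw [map_id']
      simp only [Matrix.reindex_apply, Matrix.transpose_submatrix, Matrix.submatrix_mul_equiv,
        Matrix.blockDiagonal_transpose, ← Matrix.blockDiagonal_mul]
      refine Eq.trans ?_ (show (Matrix.blockDiagonal (z • D)).submatrix e.symm e.symm =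
        z • (Matrix.blockDiagonal D).submatrix e.symm e.symm by rw [Matrix.blockDiagonal_smul]; rfl)
      congr 2
      funext j
      rw [hW, hD, Pi.smul_apply]
      by_cases hj : j = ⟨0, hk⟩
      · simp only [if_pos hj]
        ext a b
        fin_cases a <;> fin_cases b <;> simp [Matrix.mul_apply, Fin.sum_univ_two] <;> ring
      · simp only [if_neg hj]
        ext a b
        fin_cases a <;> fin_cases b <;> simp [Matrix.mul_apply, Fin.sum_univ_two]

/-- A transvection has no fixed point. -/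
theorem not_allFix_p (p : ℕ) [Fact p.Prime] [CharP F p] (h2 : (2 : F) ≠ 0) (hn : 2 ≤ n)
    {G : Matrix (Fin n) (Fin n) F} (hGs : Gᵀ = G) (hG : G.det ≠ 0) : ¬ AllFix ID G p := by
  intro h
  haveI : Nonempty (Fin n) := ⟨⟨0, by omega⟩⟩
  obtain ⟨i, j, hij⟩ : ∃ i j : Fin n, i ≠ j := ⟨⟨0, by omega⟩, ⟨1, by omega⟩, by simp⟩
  obtain ⟨X, hX⟩ : ∃ X, X = Matrix.transvection i j (1 : F) := ⟨_, rfl⟩
  have hpow : ∀ k : ℕ, X ^ k = Matrix.transvection i j (k : F) := fun k => by
    induction k with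
    | zero => rw [pow_zero, Nat.cast_zero, Matrix.transvection_zero]
    | succ k ih => rw [pow_succ, ih, hX, Matrix.transvection_mul_transvection_same (h := hij), Nat.cast_succ]
  have hXp : X ^ p = 1 := by rw [hpow, CharP.cast_eq_zero, Matrix.transvection_zero]
  obtain ⟨P, c, -, hs⟩ := h X (hX ▸ Matrix.det_transvection_of_ne _ _ hij 1) ⟨1, by rw [hXp, one_smul]⟩ (fun z hz => by
    have := congrFun (congrFun hz i) j
    rw [hX] at this
    simp [Matrix.transvection, Matrix.one_apply_ne hij] at this)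
  have hPP : (P⁻¹).1 * P.1 = 1 := congrArg Subtype.val (inv_mul_cancel P)
  have hpP : P.1 * (P⁻¹).1 = 1 := congrArg Subtype.val (mul_inv_cancel P)
  have hh : (P⁻¹).1 * X * P.1 = 1 + vecMulVec ((P⁻¹).1 *ᵥ Pi.single i 1) (Pi.single j 1 ᵥ* P.1) := by
    rw [hX, Matrix.transvection, Matrix.mul_add, Matrix.add_mul, Matrix.mul_one, hPP]
    congr 1
    rw [← Matrix.mul_vecMulVec, ← Matrix.vecMulVec_mul, ← Matrix.single_eq_single_vecMulVec_single, Matrix.mul_assoc]
  have hhp : ((P⁻¹).1 * X * P.1) ^ p = 1 := by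
    have hk : ∀ k : ℕ, ((P⁻¹).1 * X * P.1) ^ k = (P⁻¹).1 * X ^ k * P.1 := fun k => by
      induction k with
      | zero => rw [pow_zero, pow_zero, Matrix.mul_one, hPP]
      | succ k ih =>
        rw [pow_succ, ih, pow_succ]
        calc _ = (P⁻¹).1 * X ^ k * (P.1 * (P⁻¹).1) * X * P.1 := by simp only [Matrix.mul_assoc]
          _ = _ := by rw [hpP, Matrix.mul_one]; simp only [Matrix.mul_assoc]
    rw [hk, hXp, Matrix.mul_one, hPP]
  have hc : c = 1 := by
    have h1 := scale_pow hG hs (k := p) (z := 1) (by rw [hhp, one_smul])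
    rw [map_one, one_mul] at h1
    exact frobenius_inj F p (by rw [frobenius_def, frobenius_def, h1, one_pow])
  rw [hc, one_smul, hh, map_id'] at hs
  refine rankone h2 hG hGs ?_ ?_ ?_ hs
  · intro e
    have := congrArg (fun v => P.1 *ᵥ v) e
    rw [Matrix.mulVec_mulVec, hpP, Matrix.one_mulVec, Matrix.mulVec_zero] at this
    simpa using congrFun this i
  · intro e
    have := congrArg (fun v => v ᵥ* (P⁻¹).1) e
    rw [Matrix.vecMul_vecMul, hpP, Matrix.vecMul_one, Matrix.zero_vecMul] at this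
    simpa using congrFun this j
  · rw [Matrix.dotProduct_mulVec, Matrix.vecMul_vecMul, hpP, Matrix.vecMul_one, dotProduct_single,
      Pi.single_eq_of_ne hij, zero_mul]

/-- The odd-degree or type condition forced by a prime dividing the index. -/
theorem index_orth [Fintype F] {r : ℕ} [Fact r.Prime] (hr2 : r ≠ 2) {q : ℕ} (hq : Fintype.card F = q)
    (hqr : (q : ZMod r) ≠ 0) (h2 : (2 : F) ≠ 0) (hn : 0 < n) {Q : QuadraticForm F (Fin n → F)}
    (hQ : (polarBilin Q).Nondegenerate)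
    (h : r ∣ (Cfsg.Geo.quadSimilarityGroup (⇑Q)).relIndex (Cfsg.Geo.specialLinear (Fin n) F)) :
    (∃ j, Odd j ∧ j ≤ n ∧ (q : ZMod r) ^ j = 1) ∨
      (∃ m, n = 2 * m ∧ (LBEven.IsPlus m Q → (q : ZMod r) ^ m = -1) ∧ (¬ LBEven.IsPlus m Q → (q : ZMod r) ^ m = 1)) := by
  classical
  obtain ⟨K, hK⟩ : ∃ K : Subgroup (GL (Fin n) F), K = Cfsg.isometryGroup F (⇑Q) := ⟨_, rfl⟩
  have hr : r.Prime := Fact.out
  have hle : K ≤ Cfsg.Geo.quadSimilarityGroup (⇑Q) := fun g hg =>
    ⟨1, fun v => by rw [Units.val_one, one_mul]; exact Orth.mem_isometryGroup.1 (hK ▸ hg) v⟩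
  have hdet : ∀ g ∈ K, GeneralLinearGroup.det g ^ 2 = 1 := fun g hg => by
    have hg' := Orth.mem_isometryGroup.1 (hK ▸ hg)
    have hcomp : (polarBilin Q).compl₁₂ (Matrix.toLin' g.1) (Matrix.toLin' g.1) = polarBilin Q :=
      LinearMap.ext₂ fun u v => by
        simp only [LinearMap.compl₁₂_apply, polarBilin_apply_apply, Matrix.toLin'_apply, polar, ← Matrix.mulVec_add, hg']
    have h1 := LinearMap.toMatrix₂'_compl₁₂ (polarBilin Q) (Matrix.toLin' g.1) (Matrix.toLin' g.1)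
    rw [hcomp, LinearMap.toMatrix'_toLin'] at h1
    have h2 := congrArg Matrix.det h1
    rw [Matrix.det_mul, Matrix.det_mul, Matrix.det_transpose] at h2
    refine Units.ext ?_
    rw [Units.val_pow_eq_pow_val, Units.val_one, GeneralLinearGroup.val_det_apply]
    exact mul_left_cancel₀ (Orth.toMatrix_det_ne_zero Q hQ) (by linear_combination -h2)
  have hi := index_gl hn hdet (h.trans (Subgroup.relIndex_dvd_of_le_left _ hle))
  have hidx : ((K.index : ℤ) : ZMod r) = 0 := by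
    rw [Int.cast_natCast, ZMod.natCast_eq_zero_iff]
    exact (Nat.Coprime.dvd_mul_right ((Nat.coprime_primes hr Nat.prime_two).2 hr2)).1 ((dvd_mul_right r _).trans hi)
  have hcard : (K.index : ℤ) * Nat.card (Orth.oGroup Q) = Nat.card (GL (Fin n) F) := by
    rw [← Nat.card_congr (Orth.isoEquiv Q).toEquiv, ← hK, ← Nat.cast_mul, mul_comm, Subgroup.card_mul_index]
  obtain ⟨a, ha⟩ := card_gl_int hq n
  rw [ha] at hcard
  have hq2 : 2 ≤ q := hq ▸ Fintype.one_lt_card
  have hqN : Nat.card F = q := Nat.card_eq_fintype_card.trans hq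
  have hsplit : ∀ (m : ℕ) (f : ℕ → ℤ), ∏ i ∈ Finset.range (2 * m), f i =
      (∏ i ∈ Finset.range m, f (2 * i)) * ∏ i ∈ Finset.range m, f (2 * i + 1) := fun m f => by
    induction m with
    | zero => simp
    | succ m ih => rw [show 2 * (m + 1) = 2 * m + 1 + 1 by ring, Finset.prod_range_succ, Finset.prod_range_succ, ih,
        Finset.prod_range_succ, Finset.prod_range_succ]; ring
  have hev : ∀ m : ℕ, ((∏ i ∈ Finset.range m, (q ^ (2 * (i + 1)) - 1) : ℕ) : ℤ) =
      ∏ i ∈ Finset.range m, ((q : ℤ) ^ (2 * i + 1 + 1) - 1) := fun m => by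
    rw [Nat.cast_prod]
    exact Finset.prod_congr rfl fun i _ => by
      rw [Nat.cast_sub (Nat.one_le_pow _ _ (by omega)), Nat.cast_pow, Nat.cast_one, mul_add, mul_one]
  have hev0 : ∀ m : ℕ, (∏ i ∈ Finset.range m, ((q : ℤ) ^ (2 * i + 1 + 1) - 1)) ≠ 0 := fun m =>
    Finset.prod_ne_zero_iff.2 fun i _ => sub_ne_zero.2 (one_lt_pow₀ (by exact_mod_cast hq2) (by omega)).ne'
  have hodd : ∀ m, 2 * m ≤ n + 1 → ((∏ i ∈ Finset.range m, ((q : ℤ) ^ (2 * i + 1) - 1) : ℤ) : ZMod r) = 0 →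
      ∃ j, Odd j ∧ j ≤ n ∧ (q : ZMod r) ^ j = 1 := fun m hm e => by
    obtain ⟨i, hi, hi0⟩ := exists_zero e
    have := Finset.mem_range.1 hi
    refine ⟨2 * i + 1, ⟨i, rfl⟩, by omega, ?_⟩
    push_cast at hi0
    exact sub_eq_zero.1 hi0
  have hV : finrank F (Fin n → F) = n := Module.finrank_fin_fun F
  rcases Nat.even_or_odd n with ⟨m, hm⟩ | ⟨m, hm⟩
  · obtain ⟨k, rfl⟩ : ∃ k, m = k + 1 := ⟨m - 1, by omega⟩
    have hn2 : n = 2 * (k + 1) := by omega
    have hV' : finrank F (Fin n → F) = 2 * (k + 1) := by rw [hV, hn2]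
    have key : ∀ ε : ℤ, ε * ε = 1 → (Nat.card (Orth.oGroup Q) : ℤ) = 2 * (q : ℤ) ^ ((k + 1) * k) * ((q : ℤ) ^ (k + 1) - ε) *
        ∏ i ∈ Finset.range k, ((q : ℤ) ^ (2 * i + 1 + 1) - 1) →
        (∃ j, Odd j ∧ j ≤ n ∧ (q : ZMod r) ^ j = 1) ∨ (q : ZMod r) ^ (k + 1) = -(ε : ZMod r) := by
      intro ε hε hO
      have e1 : (q : ℤ) ^ a * ((∏ i ∈ Finset.range (k + 1), ((q : ℤ) ^ (2 * i + 1) - 1)) * ((q : ℤ) ^ (k + 1) + ε)) =
          (K.index : ℤ) * (2 * (q : ℤ) ^ ((k + 1) * k)) := by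
        rw [hO, show (∏ i ∈ Finset.range n, ((q : ℤ) ^ (i + 1) - 1)) =
            (∏ i ∈ Finset.range (k + 1), ((q : ℤ) ^ (2 * i + 1) - 1)) *
              ((∏ i ∈ Finset.range k, ((q : ℤ) ^ (2 * i + 1 + 1) - 1)) * ((q : ℤ) ^ (2 * k + 1 + 1) - 1)) by
          rw [hn2, hsplit, Finset.prod_range_succ (fun i => (q : ℤ) ^ (2 * i + 1 + 1) - 1)]] at hcard
        refine mul_right_cancel₀ (mul_ne_zero (hev0 k) (show (q : ℤ) ^ (k + 1) - ε ≠ 0 from ?_)) ?_
        · intro e
          have h1 : (q : ℤ) ^ (2 * (k + 1)) = 1 := by rw [pow_mul', sub_eq_zero.1 e, pow_two, hε]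
          exact (one_lt_pow₀ (show (1 : ℤ) < q by exact_mod_cast hq2) (by omega)).ne' h1
        · linear_combination -hcard - ((q : ℤ) ^ a * (∏ i ∈ Finset.range (k + 1), ((q : ℤ) ^ (2 * i + 1) - 1)) *
            ∏ i ∈ Finset.range k, ((q : ℤ) ^ (2 * i + 1 + 1) - 1)) * hε
      have e2 := congrArg (fun x : ℤ => (x : ZMod r)) e1
      simp only [Int.cast_mul, hidx, zero_mul, mul_eq_zero, Int.cast_pow, Int.cast_natCast, pow_eq_zero_iff',
        hqr, false_and, false_or] at e2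
      rcases e2 with e | e
      · exact Or.inl (hodd (k + 1) (by omega) e)
      · push_cast at e
        exact Or.inr (eq_neg_of_add_eq_zero_left e)
    by_cases hP : LBEven.IsPlus (k + 1) Q
    · obtain ⟨g, hg⟩ := id hP
      rcases key 1 (one_mul 1) (by
        rw [Nat.card_congr (Orth.oCongr g fun v => (hg v).symm).toEquiv, Orth.card_oGroup_qPlus, hqN, ← hev, Nat.cast_mul,
          Nat.cast_mul, Nat.cast_mul, Nat.cast_sub (Nat.one_le_pow _ _ (by omega))]
        push_cast; rfl) with e | e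
      · exact Or.inl e
      · exact Or.inr ⟨k + 1, hn2, fun _ => by rw [e, Int.cast_one], fun h' => absurd hP h'⟩
    · obtain ⟨ζ, hζ, g, hg⟩ := (LBQuad.classify_even hQ hV').resolve_left hP
      rcases key (-1) (by norm_num) (by
        rw [Nat.card_congr (Orth.oCongr g fun v => (hg v).symm).toEquiv, Orth.card_oGroup_qMinus (LBQuad.bin_aniso hζ),
          Nat.add_sub_cancel, hqN, ← hev, Nat.cast_mul, Nat.cast_mul, Nat.cast_mul, sub_neg_eq_add]
        push_cast; rfl) with e | e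
      · exact Or.inl e
      · exact Or.inr ⟨k + 1, hn2, fun h' => absurd h' hP, fun _ => by rw [e, Int.cast_neg, Int.cast_one, neg_neg]⟩
  · obtain ⟨c, hc, g, hg⟩ := LBQuad.classify_odd hQ (show finrank F (Fin n → F) = 2 * m + 1 by rw [hV, hm])
    obtain ⟨d, hd⟩ : ∃ d : Unit ⊕ (Fin m ⊕ Fin m) → Fˣ,
        d = Sum.elim (fun _ => 1) (Sum.elim (fun _ => (Units.mk0 c hc)⁻¹) fun _ => 1) := ⟨_, rfl⟩
    have hsame : Orth.oGroup Q = Orth.oGroup (c⁻¹ • Q) := by
      ext f
      exact forall_congr' fun x => ((smul_right_injective F (inv_ne_zero hc)).eq_iff).symm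
    have hO : Nat.card (Orth.oGroup Q) = Nat.card (Orth.oGroup (Orth.qOdd F m)) := by
      rw [hsame]
      refine Nat.card_congr (Orth.oCongr (g.trans (LinearEquiv.piCongrRight fun i =>
        LinearEquiv.smulOfUnit (d i))) fun v => ?_).toEquiv
      simp only [Orth.qOdd, _root_.QuadraticMap.add_apply, _root_.QuadraticMap.sum_apply, _root_.QuadraticMap.linMulLin_apply,
        LinearMap.proj_apply, LinearEquiv.trans_apply, LinearEquiv.piCongrRight_apply, _root_.QuadraticMap.smul_apply, smul_eq_mul,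
        hg, mul_add, Finset.mul_sum]
      refine congrArg₂ (· + ·) ?_ (Finset.sum_congr rfl fun i _ => ?_)
      · rw [hd]
        show ((1 : Fˣ) : F) * g v (.inl ()) * (((1 : Fˣ) : F) * g v (.inl ())) = _
        rw [Units.val_one]
        field_simp
      · rw [hd]
        show (((Units.mk0 c hc)⁻¹ : Fˣ) : F) * g v (.inr (.inl i)) * (((1 : Fˣ) : F) * g v (.inr (.inr i))) = _
        rw [Units.val_inv_eq_inv_val, Units.val_mk0, Units.val_one, one_mul, mul_assoc]
    have hprod : (∏ i ∈ Finset.range n, ((q : ℤ) ^ (i + 1) - 1)) =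
        (∏ i ∈ Finset.range (m + 1), ((q : ℤ) ^ (2 * i + 1) - 1)) * ∏ i ∈ Finset.range m, ((q : ℤ) ^ (2 * i + 1 + 1) - 1) := by
      rw [hm, Finset.prod_range_succ, hsplit, Finset.prod_range_succ]; ring
    rw [hO, Orth.card_oGroup_qOdd h2, hqN, hprod, Nat.cast_mul, Nat.cast_mul, hev] at hcard
    have e1 : (q : ℤ) ^ a * ∏ i ∈ Finset.range (m + 1), ((q : ℤ) ^ (2 * i + 1) - 1) =
        (K.index : ℤ) * (2 * (q : ℤ) ^ (m ^ 2)) := by
      refine mul_right_cancel₀ (hev0 m) ?_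
      push_cast at hcard
      linear_combination -hcard
    have e2 := congrArg (fun x : ℤ => (x : ZMod r)) e1
    simp only [Int.cast_mul, hidx, zero_mul, mul_eq_zero, Int.cast_pow, Int.cast_natCast, pow_eq_zero_iff', hqr, false_and,
      false_or] at e2
    exact Or.inl (hodd (m + 1) (by omega) e2)

/-- Derangements when `r` is prime to `q (q - 1)`. -/
theorem not_allFix_orth [Fintype F] (p : ℕ) [Fact p.Prime] [CharP F p] {r : ℕ} [Fact r.Prime] (hr2 : r ≠ 2) (hrp : r ≠ p)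
    (h2 : (2 : F) ≠ 0) (hn : 0 < n) (hq : (Fintype.card F : ZMod r) ≠ 1) {Q : QuadraticForm F (Fin n → F)}
    (hQ : (polarBilin Q).Nondegenerate)
    (h : r ∣ (Cfsg.Geo.quadSimilarityGroup (⇑Q)).relIndex (Cfsg.Geo.specialLinear (Fin n) F)) :
    ¬ AllFix ID (LinearMap.toMatrix₂' F (polarBilin Q)) r := by
  classical
  have hr : r.Prime := Fact.out
  have hqr : (Fintype.card F : ZMod r) ≠ 0 := by
    obtain ⟨e, -, he⟩ := FiniteField.card F p
    rw [Ne, ZMod.natCast_eq_zero_iff, he]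
    exact fun h => hrp ((Nat.prime_dvd_prime_iff_eq hr Fact.out).1 (hr.dvd_of_dvd_pow h))
  have hG : (LinearMap.toMatrix₂' F (polarBilin Q)).det ≠ 0 := Orth.toMatrix_det_ne_zero Q hQ
  obtain ⟨i, hi⟩ : ∃ i, i = orderOf (Fintype.card F : ZMod r) := ⟨_, rfl⟩
  have hodd_case : Odd i → i ≤ n → ¬ AllFix ID (LinearMap.toMatrix₂' F (polarBilin Q)) r := fun ho hin => by
    refine not_allFix_factor p 0 hrp (fun _ => rfl) (fun x => by simp) hq (fun k hk => ?_) hn hG (hi ▸ hin)
    rw [pow_zero, Nat.cast_one] at hk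
    have h1 := congrArg (fun x : ZMod r => x ^ i) hk
    simp only [← pow_mul, mul_comm k i] at h1
    rw [pow_mul, hi, pow_orderOf_eq_one, one_pow, ← hi, ho.neg_one_pow] at h1
    haveI : Fact (2 < r) := ⟨by have := hr.two_le; omega⟩
    exact ZMod.neg_one_ne_one h1.symm
  rcases index_orth hr2 rfl hqr h2 hn hQ h with ⟨j, hj, hjn, hjq⟩ | ⟨m, hm, hplus, hminus⟩
  · have hd : i ∣ j := hi ▸ orderOf_dvd_of_pow_eq_one hjq
    exact hodd_case (hj.of_dvd_nat hd) ((Nat.le_of_dvd hj.pos hd).trans hjn)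
  have h1 : (Fintype.card F : ZMod r) ^ n = 1 := by
    rw [hm, mul_comm 2, pow_mul]
    by_cases hP : LBEven.IsPlus m Q
    · rw [hplus hP]; ring
    · rw [hminus hP, one_pow]
  have hdn : i ∣ n := hi ▸ orderOf_dvd_of_pow_eq_one h1
  rcases Nat.even_or_odd i with hev | hod
  swap
  · exact hodd_case hod (Nat.le_of_dvd hn hdn)
  intro hall
  obtain ⟨j, hj⟩ := hev
  have hi0 : 0 < i := Nat.pos_of_ne_zero fun e => by rw [e] at hdn; exact hn.ne' (Nat.eq_zero_of_zero_dvd hdn)
  haveI : Fact (2 < r) := ⟨by have := hr.two_le; omega⟩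
  have hhalf : (Fintype.card F : ZMod r) ^ j = -1 := by
    refine (sq_eq_one_iff.1 (by rw [← pow_mul, mul_two, ← hj, hi, pow_orderOf_eq_one])).resolve_left fun e => ?_
    have := Nat.le_of_dvd (by omega) (hi ▸ orderOf_dvd_of_pow_eq_one e)
    omega
  obtain ⟨t, ht⟩ := hdn
  have hm' : m = j * t := by
    have : 2 * m = 2 * (j * t) := by rw [← hm, ht, hj]; ring
    omega
  have htyp : LBEvenRoot.Typ i m ↔ Even t := by
    rw [LBEvenRoot.Typ, show 2 * m / i = t by rw [← hm, ht, Nat.mul_div_cancel_left t hi0]]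
    exact ⟨fun f => f ⟨j, hj⟩, fun f _ => f⟩
  have hnot : ¬ (LBEven.IsPlus m Q ↔ LBEvenRoot.Typ i m) := by
    rw [htyp]
    intro hiff
    by_cases hP : LBEven.IsPlus m Q
    · have := hplus hP
      rw [hm', pow_mul, hhalf, (hiff.1 hP).neg_one_pow] at this
      exact ZMod.neg_one_ne_one this.symm
    · have := hminus hP
      rw [hm', pow_mul, hhalf, (Nat.not_even_iff_odd.1 fun h => hP (hiff.2 h)).neg_one_pow] at this
      exact ZMod.neg_one_ne_one this
  obtain ⟨g, hg, hgd⟩ := factor_exists (F := F) p hr hrp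
  obtain ⟨hne, hgm, hgi, hgdvd⟩ := (LBRootPoly.mem_factors hr.ne_zero).1 hg
  have ht0 : 0 < t := Nat.pos_of_ne_zero fun e => by rw [e, mul_zero] at ht; omega
  obtain ⟨X, hXd, hXr, hXc, hXs⟩ := exists_elem p hq hg (f := g ^ t) (n := n)
    ⟨hgm.pow t, fun u _ hui hud => (hui.prime.dvd_of_dvd_pow hud).trans hgdvd⟩
    (by rw [natDegree_pow, hgd, ← hi, ht, mul_comm]) (dvd_pow_self g ht0.ne')
  obtain ⟨P, c, -, hs⟩ := hall X hXd ⟨1, by rw [hXr, one_smul]⟩ hXs
  obtain ⟨U, hU⟩ : ∃ U : GL (Fin n) F, U = SpecialLinearGroup.toGL P := ⟨_, rfl⟩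
  have hh' : (P⁻¹).1 * X * P.1 = (U⁻¹).1 * X * U.1 := by rw [hU, ← map_inv]; rfl
  rw [hh'] at hs
  have hhr : ((U⁻¹).1 * X * U.1) ^ r = 1 := by rw [Units.conj_pow', hXr, Matrix.mul_one, Units.inv_mul]
  obtain rfl := scale_one hq hn hG hs hhr
  rw [one_smul, map_id'] at hs
  have hiso : ∀ v, Q (((U⁻¹).1 * X * U.1) *ᵥ v) = Q v := fun v => by
    have e : polar Q (((U⁻¹).1 * X * U.1) *ᵥ v) (((U⁻¹).1 * X * U.1) *ᵥ v) = polar Q v v := by
      have hp : ∀ a b : Fin n → F, polar Q a b = a ⬝ᵥ (LinearMap.toMatrix₂' F (polarBilin Q) *ᵥ b) := fun a b => by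
        rw [← polarBilin_apply_apply]
        conv_lhs => rw [← Matrix.toLinearMap₂'_toMatrix' (R := F) (S₁ := F) (S₂ := F) (N₂ := F) (polarBilin Q)]
        rw [Matrix.toLinearMap₂'_apply']
      rw [hp, hp]
      conv_rhs => rw [← hs, ← Matrix.mulVec_mulVec, ← Matrix.mulVec_mulVec, Matrix.dotProduct_mulVec, Matrix.vecMul_transpose]
    rw [polar_self, polar_self] at e
    exact smul_right_injective F h2 (by simpa [two_smul, two_mul] using e)
  refine hnot (LBEvenRoot.type_iff p hr hr2 hrp hi (by omega) (by rw [Fintype.card_fin, hm]) hQ hiso hhr ?_)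
  rw [Matrix.coe_units_inv, Matrix.charpoly_units_conj', hXc]
  exact fun hX => hne (eq_of_monic_of_associated hgm (monic_X_sub_C 1)
    ((irreducible_X_sub_C (1 : F)).associated_of_dvd hgi ((irreducible_X_sub_C (1 : F)).prime.dvd_of_dvd_pow hX)).symm)

end Cfsg.Agent.LBSim

namespace Cfsg.Agent.LBSim

open Matrix Polynomial QuadraticMap Module

variable {F : Type*} [Field F] [Fintype F] {n : ℕ}

theorem exponent_one (hm : 3 ≤ n) {R : Type*} [CommRing R] (a : R) (f : ℕ → R)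
    (h : ∀ i, 3 ≤ i → f i = 0) : ∑ i : Fin n, f i.val = f 0 + f 1 + f 2 := by
  rw [Fin.sum_univ_eq_sum_range f n, Finset.sum_subset (Finset.range_mono hm) (fun i _ hi => h i (by simpa using hi)) |>.symm]
  simp [Finset.sum_range_succ]

/-- Derangements when `r` divides `q - 1`, outside the exceptions. -/
theorem not_allFix_divides {σ : F →+* F} {G : Matrix (Fin n) (Fin n) F} (hG : G.det ≠ 0) {r : ℕ} [Fact r.Prime]
    (hr2 : r ≠ 2) (hn : 3 ≤ n) (hgap : ¬ (n = 6 ∧ r = 3)) {k : ℕ} (hkd : k ∣ Fintype.card F - 1) (hk0 : k ≠ 0)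
    (hrk : 1 ≤ padicValNat r k) (hσ : ∀ x : F, x ^ k = 1 → σ x = x)
    (hex : ¬ ((r = 3 ∨ r = 5) ∧ n = r ∧ padicValNat r k = 1)) : ¬ AllFix σ G r := by
  have hr : r.Prime := Fact.out
  haveI : NeZero r := ⟨hr.ne_zero⟩
  have hrdvd : r ∣ k := dvd_of_one_le_padicValNat hrk
  have hsig : ∀ θ : F, orderOf θ ∣ k → σ θ = θ := fun θ h => hσ θ (orderOf_dvd_iff_pow_eq_one.1 h)
  by_cases hsq : (r = 3 ∨ r = 5) ∧ n = r
  · obtain ⟨hr35, rfl⟩ := hsq
    have hv : 2 ≤ padicValNat n k := by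
      rcases Nat.lt_or_ge (padicValNat n k) 2 with h | h
      · exact absurd ⟨hr35, rfl, by omega⟩ hex
      · exact h
    have hnn : n * n ∣ k := by
      rw [← pow_two]
      exact (padicValNat_dvd_iff_le hk0).2 hv
    haveI : NeZero (n * n) := ⟨mul_ne_zero hr.ne_zero hr.ne_zero⟩
    obtain ⟨θ, hθ⟩ := exists_order (F := F) (hnn.trans hkd)
    have hone : ((n * n : ℕ) : ZMod (n * n)) = 0 := ZMod.natCast_self _
    push_cast at hone
    refine not_allFix_diag (σ := σ) hθ (hsig θ (hθ.symm ▸ hnn)) hG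
      (fun i => if i.val + 1 < n then 1 else 1 - (n : ZMod (n * n))) ?_ (fun i j => ?_)
      (i₀ := ⟨0, by omega⟩) (j₀ := ⟨n - 1, by omega⟩) ?_ (no_pairing_square hn (hr.odd_of_ne_two hr2))
    · rw [Fin.sum_univ_eq_sum_range (fun i => if i + 1 < n then (1 : ZMod (n * n)) else 1 - (n : ZMod (n * n))) n]
      obtain ⟨l, hl⟩ : ∃ l, n = l + 1 := ⟨n - 1, by omega⟩
      rw [show Finset.range n = Finset.range (l + 1) by rw [hl], Finset.sum_range_succ,
        Finset.sum_congr rfl (g := fun _ => (1 : ZMod (n * n))) (fun i hi => if_pos (by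
          have := Finset.mem_range.1 hi; omega)), if_neg (by omega), Finset.sum_const, Finset.card_range, nsmul_one]
      have : (n : ZMod (n * n)) = (l : ZMod (n * n)) + 1 := by
        rw [← Nat.cast_one, ← Nat.cast_add]; exact congrArg _ hl
      linear_combination -this
    · split_ifs
      · rfl
      · linear_combination hone
      · linear_combination -hone
      · rfl
    · dsimp only
      rw [if_pos (by simp; omega), if_neg (by simp; omega)]
      intro e
      have e2 : (n : ZMod (n * n)) = 0 := by linear_combination e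
      have := Nat.le_of_dvd (by omega) ((ZMod.natCast_eq_zero_iff n (n * n)).1 e2)
      nlinarith
  · obtain ⟨θ, hθ⟩ := exists_order (F := F) (hrdvd.trans hkd)
    have hc : ∀ i j : ZMod r, (r : ZMod r) * i = (r : ZMod r) * j := fun i j => by simp
    have hθσ := hsig θ (hθ.symm ▸ hrdvd)
    by_cases h3 : r = 3
    · subst h3
      have hn4 : 4 ≤ n := by
        by_contra hcon
        exact hsq ⟨Or.inl rfl, by omega⟩
      refine not_allFix_diag (σ := σ) hθ hθσ hG (fun i => if i.val < 3 then 1 else 0) ?_ (fun i j => hc _ _)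
        (i₀ := ⟨0, by omega⟩) (j₀ := ⟨3, by omega⟩) ?_ (no_pairing_three hn4 fun e => hgap ⟨e, rfl⟩)
      · rw [exponent_one hn (1 : ZMod 3) (fun i => if i < 3 then 1 else 0) (fun i hi => if_neg (by omega))]
        simp only [show (0 : ℕ) < 3 by omega, show (1 : ℕ) < 3 by omega, show (2 : ℕ) < 3 by omega, if_true]
        have h30 : ((3 : ℕ) : ZMod 3) = 0 := ZMod.natCast_self 3
        push_cast at h30
        linear_combination h30
      · simp
    · have h5 : 5 ≤ r := by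
        have := hr.two_le
        have : r ≠ 4 := fun e => by rw [e] at hr; norm_num at hr
        omega
      refine not_allFix_diag (σ := σ) hθ hθσ hG (fun i => if i.val < 2 then 1 else if i.val = 2 then -2 else 0) ?_
        (fun i j => hc _ _) (i₀ := ⟨0, by omega⟩) (j₀ := ⟨2, by omega⟩) ?_
        (no_pairing_five h5 hn fun e => hsq ⟨Or.inr e.1, e.2.trans e.1.symm⟩)
      · rw [exponent_one hn (1 : ZMod r) (fun i => if i < 2 then 1 else if i = 2 then -2 else 0)
          (fun i hi => by rw [if_neg (by omega), if_neg (by omega)])]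
        norm_num
      · simp only [show ¬ (2 : ℕ) < 2 by omega, if_false, if_true, show (0 : ℕ) < 2 by omega]
        intro e
        have : ((3 : ℕ) : ZMod r) = 0 := by push_cast; linear_combination e
        have := Nat.le_of_dvd (by omega) ((ZMod.natCast_eq_zero_iff _ _).1 this)
        omega

/-- Elements of prime order and the similarity group of a quadratic form. -/
theorem quad_main (p : ℕ) [Fact p.Prime] [CharP F p] {q : ℕ} (hq : Fintype.card F = q) (hodd : Odd q) (hn : 3 ≤ n)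
    {Qf : (Fin n → F) → F} (hQf : Cfsg.Geo.IsNondegenerateQuadraticForm Qf) (r : ℕ) [Fact r.Prime]
    (hgap : ¬ (n = 6 ∧ r = 3))
    (hΩ : r ∣ (Cfsg.Geo.quadSimilarityGroup Qf).relIndex (Cfsg.Geo.specialLinear (Fin n) F)) :
    (∀ x ∈ Cfsg.Geo.specialLinear (Fin n) F, (∃ z : F, ((x ^ r : GL (Fin n) F) : Matrix (Fin n) (Fin n) F) = z • (1 : Matrix (Fin n) (Fin n) F)) →
      (∀ z : F, (x : Matrix (Fin n) (Fin n) F) ≠ z • (1 : Matrix (Fin n) (Fin n) F)) →
      ∃ g ∈ Cfsg.Geo.specialLinear (Fin n) F, g⁻¹ * x * g ∈ Cfsg.Geo.quadSimilarityGroup Qf) ↔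
    (r = 2 ∨ ((r = 3 ∨ r = 5) ∧ n = r ∧ padicValNat r (q - 1) = 1)) := by
  classical
  have hr : r.Prime := Fact.out
  have hp2 : p ≠ 2 := fun e => by
    subst e
    obtain ⟨a, -, ha⟩ := FiniteField.card F 2
    rw [← hq, ha] at hodd
    exact Nat.not_odd_iff_even.2 (Nat.even_pow.2 ⟨even_two, a.ne_zero⟩) hodd
  have h2 : (2 : F) ≠ 0 := Orth.two_ne_zero_of_odd (hq.symm ▸ hodd)
  obtain ⟨Q, hQe⟩ : ∃ Q : QuadraticForm F (Fin n → F), ⇑Q = Qf := ⟨QuadraticMap.ofPolar Qf
    (fun a x => by rw [hQf.smul, smul_eq_mul, pow_two]) hQf.polar_bilinear.add_left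
    (fun a x y => by rw [hQf.polar_bilinear.smul_left, smul_eq_mul]), rfl⟩
  subst hQe
  have hQ : (polarBilin Q).Nondegenerate := Orth.nondeg_of fun x hx => by
    by_contra hx0
    obtain ⟨-, y, hy⟩ := hQf.nondegenerate x hx0
    exact hy (hx y)
  obtain ⟨G, hGdef⟩ : ∃ G, G = LinearMap.toMatrix₂' F (polarBilin Q) := ⟨_, rfl⟩
  have hG : G.det ≠ 0 := hGdef ▸ Orth.toMatrix_det_ne_zero Q hQ
  have hGs : Gᵀ = G := by
    ext i j
    rw [Matrix.transpose_apply, hGdef, LinearMap.toMatrix₂'_apply, LinearMap.toMatrix₂'_apply, polarBilin_apply_apply,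
      polarBilin_apply_apply, polar_comm]
  have hS : ∀ g : GL (Fin n) F, g ∈ Cfsg.Geo.quadSimilarityGroup (⇑Q) ↔ SimMat (RingHom.id F) G g.1 := by
    intro g
    have hpol : ∀ a b : Fin n → F, polar Q a b = a ⬝ᵥ (G *ᵥ b) := fun a b => by
      rw [← polarBilin_apply_apply, hGdef]
      conv_lhs => rw [← Matrix.toLinearMap₂'_toMatrix' (R := F) (S₁ := F) (S₂ := F) (N₂ := F) (polarBilin Q)]
      rw [Matrix.toLinearMap₂'_apply']
    constructor
    · rintro ⟨c, hc⟩
      refine ⟨c, c.ne_zero, ?_⟩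
      rw [map_id']
      refine (Matrix.toLinearMap₂' F (S₁ := F) (S₂ := F) (N₂ := F)).injective ?_
      refine LinearMap.ext₂ fun u v => ?_
      rw [Matrix.toLinearMap₂'_apply', Matrix.toLinearMap₂'_apply', Matrix.smul_mulVec, dotProduct_smul, ← hpol,
        ← Matrix.mulVec_mulVec, ← Matrix.mulVec_mulVec, Matrix.dotProduct_mulVec, Matrix.vecMul_transpose, ← hpol]
      simp only [polar, ← Matrix.mulVec_add, hc, smul_eq_mul]
      ring
    · rintro ⟨c, hc0, hc⟩
      refine ⟨Units.mk0 c hc0, fun v => ?_⟩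
      rw [map_id'] at hc
      have e : polar Q (g.1 *ᵥ v) (g.1 *ᵥ v) = c * polar Q v v := by
        rw [hpol, hpol, ← smul_eq_mul, ← dotProduct_smul, ← Matrix.smul_mulVec, ← hc, ← Matrix.mulVec_mulVec,
          ← Matrix.mulVec_mulVec, Matrix.dotProduct_mulVec v, Matrix.vecMul_transpose]
      rw [polar_self, polar_self, two_smul, two_smul] at e
      exact mul_left_cancel₀ h2 (by rw [Units.val_mk0]; linear_combination e)
  rw [allFix_iff (RingHom.id F) hS]
  by_cases hr2 : r = 2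
  · subst hr2
    exact iff_of_true (allFix_two_quad p hp2 h2 (by omega) hGs hG) (Or.inl rfl)
  rw [or_iff_right hr2]
  by_cases hrp : r = p
  · subst hrp
    refine iff_of_false (not_allFix_p r h2 (by omega) hGs hG) fun ⟨_, _, h⟩ => ?_
    obtain ⟨a, -, ha⟩ := FiniteField.card F r
    have hd : r ∣ q - 1 := dvd_of_one_le_padicValNat h.ge
    have := Nat.dvd_sub (hq ▸ ha ▸ dvd_pow_self r a.ne_zero : r ∣ q) hd
    have h1 : 1 ≤ q := hq ▸ Fintype.card_pos
    rw [show q - (q - 1) = 1 by omega] at this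
    exact hr.ne_one (Nat.dvd_one.1 this)
  have hq0 : q - 1 ≠ 0 := by have := hq ▸ Fintype.one_lt_card (α := F); omega
  by_cases hq1 : r ∣ q - 1
  · refine ⟨fun hall => ?_, fun ⟨h35, hnr, hv⟩ => allFix_exceptional p hrp h35 hnr (by rw [hq]; exact hv) (fun _ _ => rfl)
      (cong_odd h2 (hnr ▸ hr.odd_of_ne_two hr2) hGs hG)⟩
    by_contra hex
    exact not_allFix_divides hG hr2 hn hgap (k := q - 1) (by rw [hq]) hq0
      (one_le_padicValNat_of_dvd hq0 hq1) (fun _ _ => rfl) hex hall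
  · refine iff_of_false ?_ fun h => hq1 (dvd_of_one_le_padicValNat h.2.2.ge)
    rw [hGdef]
    exact not_allFix_orth p hr2 hrp h2 (by omega) (cast_card_ne_one_iff.2 (by rw [hq]; exact hq1)) hQ hΩ

end Cfsg.Agent.LBSim
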