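/-
Elements of prime order of `PSL_n(q₀²)` and the similarity groups of unitary forms.
-/
import Cfsg.Agent.Lib.LinearBlock.SimQuad
import Cfsg.Agent.Lib.LinearBlock.UnitarySimilar
import Cfsg.Agent.Lib.Classical.SquareZero

set_option autoImplicit false
set_option linter.all false

namespace Cfsg.Agent.LBSim

open Matrix Polynomial Module

variable {F : Type*} [Field F] {σ : F →+* F} {n : ℕ} {G : Matrix (Fin n) (Fin n) F}

theorem cong_herm [Finite F] (hne : σ ≠ RingHom.id F) (hinv : ∀ a, σ (σ a) = a) (hG : Sym σ G) : Cong σ G := by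
  have key : ∀ H : Matrix (Fin n) (Fin n) F, Sym σ H → ∃ A : GL (Fin n) F, A.1ᵀ * A.1.map σ = H := fun H hH => by
    obtain ⟨C, hC⟩ := LBUnitary.exists_sqrt hne hinv hH.2 (show LBUnitary.star' σ H = H by
      rw [LBUnitary.star', ← hH.1, Matrix.transpose_transpose])
    refine ⟨GeneralLinearGroup.mkOfDetNeZero (C.1.map σ) ?_, ?_⟩
    · rw [← RingHom.mapMatrix_apply, ← RingHom.map_det]
      exact (map_ne_zero σ).2 (GeneralLinearGroup.det C).ne_zero
    · show (C.1.map σ)ᵀ * (C.1.map σ).map σ = H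
      rw [Matrix.map_map, show (⇑σ ∘ ⇑σ) = id from funext hinv, Matrix.map_id]
      exact hC
  intro G' hG'
  obtain ⟨A, hA⟩ := key G hG
  obtain ⟨B, hB⟩ := key G' hG'
  refine ⟨(A⁻¹ * B : GL (Fin n) F).1, 1, (GeneralLinearGroup.det (A⁻¹ * B)).ne_zero, one_ne_zero, ?_⟩
  have e1 : A.1 * (A⁻¹).1 = 1 := Units.mul_inv A
  rw [one_smul, Units.val_mul, Matrix.transpose_mul, Matrix.map_mul, ← hA]
  calc _ = B.1ᵀ * ((A.1 * (A⁻¹).1)ᵀ * ((A.1 * (A⁻¹).1).map σ)) * B.1.map σ := by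
        rw [Matrix.transpose_mul, Matrix.map_mul]; simp only [Matrix.mul_assoc]
    _ = G' := by rw [e1, Matrix.transpose_one, Matrix.map_one _ (map_zero σ) (map_one σ), Matrix.one_mul, Matrix.mul_one, hB]

/-- The multiplier of a similitude of a Hermitian matrix is fixed. -/
theorem scale_fixed (hinv : ∀ a, σ (σ a) = a) (hn : 0 < n) (hG : Sym σ G) {y : Matrix (Fin n) (Fin n) F} {c : F}
    (h : yᵀ * G * y.map σ = c • G) : σ c = c := by
  haveI : Nonempty (Fin n) := ⟨⟨0, hn⟩⟩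
  refine smul_left_cancel' hG.2 ?_
  have hGσ : G.map σ = Gᵀ := hG.1.symm
  have hGσt : Gᵀ.map σ = G := by rw [← hGσ, Matrix.map_map, show (⇑σ ∘ ⇑σ) = id from funext hinv, Matrix.map_id]
  have h1 := congrArg (fun M : Matrix (Fin n) (Fin n) F => (M.map σ)ᵀ) h
  simp only [Matrix.map_mul, Matrix.map_smul' _ _ _ (map_mul σ), Matrix.transpose_mul, Matrix.transpose_smul,
    Matrix.transpose_map, Matrix.transpose_transpose, hGσ] at h1
  rw [Matrix.map_map, show (⇑σ ∘ ⇑σ) = id from funext hinv, Matrix.map_id, ← Matrix.mul_assoc, h] at h1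
  exact h1.symm

/-- Elements squaring to scalars in characteristic two have fixed points. -/
theorem allFix_two_char [Fintype F] [CharP F 2] (hne : σ ≠ RingHom.id F) (hinv : ∀ a, σ (σ a) = a) (hn : 0 < n)
    (hG : Sym σ G) : AllFix σ G 2 := by
  classical
  rintro X hd ⟨z, hz⟩ hns
  have hz0 := ne_zero_of_pow hn hd hz
  obtain ⟨a, rfl⟩ := FiniteField.isSquare_of_char_two (ringChar.eq F 2) z
  have ha : a ≠ 0 := fun e => hz0 (by rw [e, mul_zero])
  obtain ⟨N, hN⟩ : ∃ N, N = a⁻¹ • X - 1 := ⟨_, rfl⟩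
  have hX : X = a • (1 + N) := by rw [hN, add_sub_cancel, smul_smul, mul_inv_cancel₀ ha, one_smul]
  have hN0 : N ≠ 0 := fun e => hns a (by rw [hX, e, add_zero])
  have htwo : ∀ M : Matrix (Fin n) (Fin n) F, M + M = 0 := fun M => by
    ext i j; rw [Matrix.add_apply, Matrix.zero_apply, CharTwo.add_self_eq_zero]
  have hNN : N * N = 0 := by
    have h1 : (a⁻¹ • X) * (a⁻¹ • X) = 1 := by
      rw [Matrix.smul_mul, Matrix.mul_smul, smul_smul, ← pow_two X, hz, smul_smul,
        show a⁻¹ * a⁻¹ * (a * a) = 1 by field_simp, one_smul]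
    rw [hN, sub_mul, mul_sub, h1, mul_one, one_mul,
      show (1 : Matrix (Fin n) (Fin n) F) - a⁻¹ • X - (a⁻¹ • X - 1) = (1 + 1) - (a⁻¹ • X + a⁻¹ • X) by abel,
      htwo, htwo, sub_zero]
  obtain ⟨k, hk⟩ : ∃ k, k = finrank F (LinearMap.range (Matrix.toLin' N)) := ⟨_, rfl⟩
  have hA : ∀ v, Matrix.toLin' N (Matrix.toLin' N v) = 0 := fun v => by
    rw [← LinearMap.comp_apply, ← Matrix.toLin'_mul, hNN, map_zero, LinearMap.zero_apply]
  obtain ⟨d, -, hkd, -⟩ := SqZero.exists_model _ hA k hk.symm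
  rw [Module.finrank_fin_fun] at hkd
  obtain ⟨N0, hN0def⟩ : ∃ N0 : Matrix (Fin n) (Fin n) F,
      N0 = Matrix.of fun i j => if i.val < k ∧ j.val = i.val + k then 1 else 0 := ⟨_, rfl⟩
  let f : Fin n → Fin n := fun i => if h : i.val < k then ⟨i.val + k, by omega⟩
    else if i.val < 2 * k then ⟨i.val - k, by omega⟩ else i
  have hfv : ∀ i, (f i).val = if i.val < k then i.val + k else if i.val < 2 * k then i.val - k else i.val := fun i => by
    simp only [f]
    split_ifs <;> rfl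
  have hf : ∀ i, f (f i) = i := fun i => Fin.ext (by
    rw [hfv, hfv]
    split_ifs <;> omega)
  let π : Equiv.Perm (Fin n) := ⟨f, f, hf, hf⟩
  obtain ⟨D, hDdef⟩ : ∃ D : Matrix (Fin n) (Fin n) F,
      D = Matrix.diagonal fun i => if k ≤ i.val ∧ i.val < 2 * k then 1 else 0 := ⟨_, rfl⟩
  have hPN : permMat π * N0 = D := by
    ext i j
    simp only [Matrix.mul_apply, permMat, Matrix.of_apply, ite_mul, one_mul, zero_mul, Finset.sum_ite_eq, Finset.mem_univ,
      if_true, hN0def, hDdef, Matrix.diagonal_apply]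
    show (if (f i).val < k ∧ j.val = (f i).val + k then (1 : F) else 0) = _
    rw [hfv]
    simp only [Fin.ext_iff]
    split_ifs <;> first | rfl | (exfalso; omega)
  have hND : N0ᵀ * D = 0 := by
    ext i j
    simp only [hDdef, Matrix.mul_diagonal, Matrix.transpose_apply, hN0def, Matrix.of_apply, Matrix.zero_apply]
    split_ifs <;> first | (exfalso; omega) | simp
  have hiso : (1 + N0)ᵀ * permMat π * (1 + N0) = permMat (F := F) π := by
    have hNP : N0ᵀ * permMat π = D := by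
      have := congrArg Matrix.transpose hPN
      rw [Matrix.transpose_mul, hDdef, Matrix.diagonal_transpose, ← hDdef] at this
      rw [← this]
      congr 1
      exact (permMat_sym (σ := RingHom.id F) π hf).1.trans (map_id' _) |>.symm
    rw [Matrix.transpose_add, Matrix.transpose_one, Matrix.add_mul, Matrix.one_mul, Matrix.mul_add, Matrix.mul_one,
      Matrix.add_mul, hPN, Matrix.mul_assoc, hPN, hND, add_zero, hNP, add_assoc, htwo, add_zero]
  have hN0σ : (1 + N0).map σ = 1 + N0 := by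
    rw [Matrix.map_add _ (map_add σ), Matrix.map_one _ (map_zero σ) (map_one σ), hN0def]
    congr 1
    ext i j
    simp [apply_ite σ]
  have hsim0 : SimMat σ (permMat π) (a • (1 + N0)) := by
    refine ⟨a * σ a, mul_ne_zero ha ((map_ne_zero σ).2 ha), ?_⟩
    rw [Matrix.transpose_smul, Matrix.map_smul' _ _ _ (map_mul σ), hN0σ, Matrix.smul_mul, Matrix.smul_mul,
      Matrix.mul_smul, smul_smul, hiso]
  obtain ⟨C, s, hCd, hs, hC⟩ := cong_herm hne hinv hG _ (permMat_sym π hf)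
  obtain ⟨B, hB⟩ : ∃ B, B = C * N0 * C⁻¹ := ⟨_, rfl⟩
  have hu : IsUnit C.det := hCd.isUnit
  have hN0N0 : N0 * N0 = 0 := by
    ext i j
    simp only [Matrix.mul_apply, hN0def, Matrix.of_apply, Matrix.zero_apply]
    refine Finset.sum_eq_zero fun l _ => ?_
    split_ifs <;> first | (exfalso; omega) | simp
  have hBB : B * B = 0 := by
    rw [hB]
    calc C * N0 * C⁻¹ * (C * N0 * C⁻¹) = C * N0 * (C⁻¹ * C) * N0 * C⁻¹ := by simp only [Matrix.mul_assoc]
      _ = 0 := by rw [Matrix.nonsing_inv_mul _ hu, Matrix.mul_one, Matrix.mul_assoc C, hN0N0, Matrix.mul_zero, Matrix.zero_mul]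
  have hrank : finrank F (LinearMap.range (Matrix.toLin' B)) = k := by
    rw [show finrank F (LinearMap.range (Matrix.toLin' B)) = B.rank from rfl, hB,
      Matrix.rank_mul_eq_left_of_isUnit_det _ _ (Matrix.isUnit_nonsing_inv_det _ hu),
      Matrix.rank_mul_eq_right_of_isUnit_det _ _ hu]
    show finrank F (LinearMap.range (Matrix.toLin' N0)) = k
    let e : Fin k → Fin n := fun j => ⟨j.val + k, by omega⟩
    let ι : (Fin k → F) →ₗ[F] (Fin n → F) :=
      { toFun := fun w i => if h : i.val < k then w ⟨i.val, h⟩ else 0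
        map_add' := fun u v => by ext i; simp only [Pi.add_apply]; split_ifs <;> simp
        map_smul' := fun c v => by ext i; simp only [Pi.smul_apply, RingHom.id_apply]; split_ifs <;> simp }
    have hcomp : Matrix.toLin' N0 = ι.comp (LinearMap.funLeft F F e) := LinearMap.ext fun v => funext fun i => by
      rw [Matrix.toLin'_apply]
      show _ = dite _ _ _
      simp only [Matrix.mulVec, dotProduct, hN0def, Matrix.of_apply]
      split_ifs with h
      · rw [Finset.sum_eq_single (⟨i.val + k, by omega⟩ : Fin n)]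
        · simp [h, e]
        · intro b _ hb
          rw [if_neg fun hh => hb (Fin.ext hh.2), zero_mul]
        · simp
      · exact Finset.sum_eq_zero fun b _ => by rw [if_neg fun hh => h hh.1, zero_mul]
    rw [hcomp, LinearMap.range_comp_of_range_eq_top _ (LinearMap.range_eq_top.2
      (LinearMap.funLeft_surjective_of_injective F F e fun x y hxy => Fin.ext (by simpa [e] using hxy))),
      LinearMap.finrank_range_of_inj, Module.finrank_fin_fun]
    intro u v huv
    funext j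
    have := congrFun huv ⟨j.val, by omega⟩
    simpa [ι] using this
  have hA0 : Matrix.toLin' N ≠ 0 := fun e => hN0 (Matrix.toLin'.injective (by rw [e, map_zero]))
  obtain ⟨g, hgd, hg⟩ := SqZero.exists_conj (Matrix.toLin' N) (Matrix.toLin' B) hA
    (fun v => by rw [← LinearMap.comp_apply, ← Matrix.toLin'_mul, hBB, map_zero, LinearMap.zero_apply]) hA0
    (by rw [hrank, hk])
  obtain ⟨P, hP⟩ : ∃ P : SpecialLinearGroup (Fin n) F, P.1 = LinearMap.toMatrix' g.toLinearMap :=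
    ⟨⟨_, by rw [LinearMap.det_toMatrix']; exact hgd⟩, rfl⟩
  have hPN' : P.1 * N = B * P.1 := by
    apply Matrix.toLin'.injective
    rw [hP, Matrix.toLin'_mul, Matrix.toLin'_mul, Matrix.toLin'_toMatrix']
    exact LinearMap.ext hg
  refine ⟨P⁻¹, ?_⟩
  have hpP : P.1 * (P⁻¹).1 = 1 := congrArg Subtype.val (mul_inv_cancel P)
  have e : ((P⁻¹)⁻¹).1 * X * (P⁻¹).1 = C * (a • (1 + N0)) * C⁻¹ := by
    rw [inv_inv, hX, Matrix.mul_smul, Matrix.smul_mul, Matrix.mul_add, Matrix.add_mul, Matrix.mul_one, hpP, hPN',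
      Matrix.mul_assoc B, hpP, Matrix.mul_one, Matrix.mul_smul, Matrix.smul_mul, Matrix.mul_add, Matrix.add_mul, Matrix.mul_one,
      Matrix.mul_nonsing_inv _ hu, hB]
  rw [e]
  exact sim_congr hCd hs hC hsim0

/-- Existence of a non-square with prescribed order. -/
theorem nonsquare_pow [Fintype F] (h2 : (2 : F) ≠ 0) {k : ℕ} (hk : k ≠ 0) :
    (∃ w : F, ¬ IsSquare w ∧ w ^ k = 1) ↔ padicValNat 2 (Fintype.card F - 1) ≤ padicValNat 2 k := by
  haveI : Fact (Nat.Prime 2) := ⟨Nat.prime_two⟩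
  have hchar : ringChar F ≠ 2 := fun h => h2 (by haveI := ringChar.of_eq h; exact CharTwo.two_eq_zero)
  have hq1 : Fintype.card F - 1 ≠ 0 := (Nat.sub_pos_of_lt Fintype.one_lt_card).ne'
  have hqodd : Fintype.card F % 2 = 1 := FiniteField.odd_card_of_char_ne_two hchar
  obtain ⟨g, hg⟩ := IsCyclic.exists_ofOrder_eq_natCard (α := Fˣ)
  rw [Nat.card_units, Nat.card_eq_fintype_card] at hg
  constructor
  · rintro ⟨w, hw, hwk⟩
    by_contra hlt
    push Not at hlt
    have hw0 : w ≠ 0 := fun e => hw (e ▸ IsSquare.zero)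
    refine hw ((FiniteField.isSquare_iff hchar hw0).2 (orderOf_dvd_iff_pow_eq_one.1 ?_))
    have h1 : orderOf w ∣ k := orderOf_dvd_of_pow_eq_one hwk
    have h3 : orderOf w ∣ Fintype.card F - 1 := orderOf_dvd_of_pow_eq_one (FiniteField.pow_card_sub_one_eq_one w hw0)
    obtain ⟨u, hu⟩ := h3
    rcases Nat.even_or_odd u with ⟨t, ht⟩ | ho
    · exact ⟨t, by rw [show Fintype.card F / 2 = (Fintype.card F - 1) / 2 by omega, hu, ht, ← two_mul,
        mul_left_comm, Nat.mul_div_cancel_left _ two_pos]⟩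
    · exfalso
      have hu0 : u ≠ 0 := fun e => by rw [e] at ho; exact absurd ho (by decide)
      have ho0 : orderOf w ≠ 0 := fun e => by rw [e, zero_mul] at hu; exact hq1 hu
      rw [hu, padicValNat.mul ho0 hu0, padicValNat.eq_zero_of_not_dvd (show ¬ 2 ∣ u by
        rw [← even_iff_two_dvd]; exact Nat.not_even_iff_odd.2 ho), add_zero] at hlt
      obtain ⟨v, hv⟩ := h1
      rw [hv, padicValNat.mul ho0 (fun e => hk (by rw [hv, e, mul_zero]))] at hlt
      omega
  · intro hle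
    obtain ⟨u, hu⟩ : 2 ^ padicValNat 2 (Fintype.card F - 1) ∣ Fintype.card F - 1 := pow_padicValNat_dvd
    obtain ⟨v, hv⟩ : 2 ^ padicValNat 2 (Fintype.card F - 1) ∣ k := (pow_dvd_pow 2 hle).trans pow_padicValNat_dvd
    refine ⟨(g : F) ^ u, fun hsq => ?_, ?_⟩
    · have h1 := (FiniteField.isSquare_iff hchar (pow_ne_zero u g.ne_zero)).1 hsq
      rw [← pow_mul, ← Units.val_pow_eq_pow_val, Units.val_eq_one, ← orderOf_dvd_iff_pow_eq_one, hg] at h1
      obtain ⟨c, hc⟩ := h1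
      have hpos : Fintype.card F / 2 ≠ 0 := by have := Fintype.one_lt_card (α := F); omega
      have hu2 : u = 2 * c := by
        apply Nat.eq_of_mul_eq_mul_right (Nat.pos_of_ne_zero hpos)
        rw [hc, show Fintype.card F - 1 = 2 * (Fintype.card F / 2) by omega]
        ring
      have : 2 ^ (padicValNat 2 (Fintype.card F - 1) + 1) ∣ Fintype.card F - 1 := ⟨c, hu.trans (by rw [hu2, pow_succ]; ring)⟩
      exact pow_succ_padicValNat_not_dvd hq1 this
    · rw [← pow_mul, hv, ← mul_assoc, mul_comm u, ← hu, pow_mul, FiniteField.pow_card_sub_one_eq_one _ g.ne_zero, one_pow]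

/-- Derangements squaring to a non-square. -/
theorem allFix_two_odd [Fintype F] (p : ℕ) [Fact p.Prime] [CharP F p] (hp : p ≠ 2) (h2 : (2 : F) ≠ 0) {q₀ : ℕ}
    (hF : Fintype.card F = q₀ ^ 2) (hσ : ∀ x, σ x = x ^ q₀) (hne : σ ≠ RingHom.id F) (hinv : ∀ a, σ (σ a) = a)
    (hn : 0 < n) (hG : Sym σ G) : AllFix σ G 2 ↔ padicValNat 2 n ≤ padicValNat 2 (Fintype.card F - 1) := by
  classical
  have hchar : ringChar F ≠ 2 := fun h => h2 (by haveI := ringChar.of_eq h; exact CharTwo.two_eq_zero)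
  have hqodd : Fintype.card F % 2 = 1 := FiniteField.odd_card_of_char_ne_two hchar
  obtain ⟨l, hl⟩ : ∃ l, q₀ = 2 * l + 1 := by
    have : Odd q₀ := (Nat.odd_pow_iff two_ne_zero).1 (hF ▸ Nat.odd_iff.2 hqodd)
    exact this
  have hneg : IsSquare (-1 : F) := by
    rw [FiniteField.isSquare_neg_one_iff, hF, hl, show (2 * l + 1) ^ 2 = 4 * (l * l + l) + 1 by ring]
    omega
  have hnegw : ∀ z : F, IsSquare z → IsSquare (-z) := fun z hz => by
    rw [show -z = (-1) * z by ring]; exact hneg.mul hz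
  have hsucc : ∀ k : ℕ, k ≠ 0 → padicValNat 2 (2 * k) = padicValNat 2 k + 1 := fun k hk => by
    haveI : Fact (Nat.Prime 2) := ⟨Nat.prime_two⟩
    rw [padicValNat.mul two_ne_zero hk, padicValNat.self one_lt_two, add_comm]
  constructor
  · intro hall
    by_contra hlt
    push Not at hlt
    obtain ⟨k, hk⟩ : 2 ∣ n := dvd_of_one_le_padicValNat (by omega)
    subst hk
    have hk0 : k ≠ 0 := by omega
    rw [hsucc k hk0] at hlt
    obtain ⟨w, hw, hwk⟩ := (nonsquare_pow h2 hk0).2 (by omega)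
    obtain ⟨z, hz⟩ : ∃ z, z = -w := ⟨_, rfl⟩
    have hzns : ¬ IsSquare z := fun h => hw (by have := hnegw z h; rwa [hz, neg_neg] at this)
    obtain ⟨W, hW⟩ : ∃ W : Fin k → Matrix (Fin 2) (Fin 2) F, W = fun _ => !![0, z; 1, 0] := ⟨_, rfl⟩
    let e : Fin 2 × Fin k ≃ Fin (2 * k) := finProdFinEquiv
    obtain ⟨X, hX⟩ : ∃ X, X = Matrix.reindex e e (Matrix.blockDiagonal W) := ⟨_, rfl⟩
    have hXX : X ^ 2 = z • 1 := by
      rw [hX, pow_two, Matrix.reindex_apply, Matrix.submatrix_mul_equiv, ← Matrix.blockDiagonal_mul,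
        show (fun j => W j * W j) = z • (1 : Fin k → Matrix (Fin 2) (Fin 2) F) from funext fun j => by
          rw [hW]; ext a b; fin_cases a <;> fin_cases b <;> simp [Matrix.mul_apply, Fin.sum_univ_two],
        Matrix.blockDiagonal_smul, Matrix.blockDiagonal_one, Matrix.submatrix_smul]
      simp
    have hdet : X.det = 1 := by
      rw [hX, Matrix.det_reindex_self, Matrix.det_blockDiagonal, hW]
      simp only [Matrix.det_fin_two_of, zero_mul, mul_one, zero_sub, Finset.prod_const, Finset.card_univ, Fintype.card_fin]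
      rw [hz, neg_neg, hwk]
    obtain ⟨P, c, -, hs⟩ := hall X hdet ⟨z, hXX⟩ (fun t ht => by
      have h1 := hXX
      rw [ht, pow_two, Matrix.smul_mul, Matrix.one_mul, smul_smul] at h1
      haveI : Nonempty (Fin (2 * k)) := ⟨⟨0, hn⟩⟩
      exact hzns ⟨t, (smul_left_cancel' (G := (1 : Matrix (Fin (2 * k)) (Fin (2 * k)) F)) (by simp) h1).symm⟩)
    have hhh : ((P⁻¹).1 * X * P.1) ^ 2 = z • 1 := by
      have hpP : P.1 * (P⁻¹).1 = 1 := congrArg Subtype.val (mul_inv_cancel P)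
      have hPP : (P⁻¹).1 * P.1 = 1 := congrArg Subtype.val (inv_mul_cancel P)
      rw [pow_two]
      calc _ = (P⁻¹).1 * X * (P.1 * (P⁻¹).1) * X * P.1 := by simp only [Matrix.mul_assoc]
        _ = (P⁻¹).1 * (X ^ 2) * P.1 := by rw [hpP, Matrix.mul_one, pow_two]; simp only [Matrix.mul_assoc]
        _ = z • 1 := by rw [hXX, Matrix.mul_smul, Matrix.mul_one, Matrix.smul_mul, hPP]
    haveI : Nonempty (Fin (2 * k)) := ⟨⟨0, hn⟩⟩
    have hc2 : c ^ 2 = z * σ z := scale_pow hG.2 hs hhh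
    have hcfix : σ c = c := scale_fixed hinv hn hG hs
    have hz0 : z ≠ 0 := fun e0 => hzns (e0 ▸ IsSquare.zero)
    have hc0 : c ≠ 0 := fun e0 => by
      rw [e0, zero_pow two_ne_zero, eq_comm, mul_eq_zero, map_eq_zero, or_self] at hc2; exact hz0 hc2
    refine hzns ((FiniteField.isSquare_iff hchar hz0).2 ?_)
    have hc1 : c ^ (2 * l) = 1 := by
      have h1 := hσ c
      rw [hcfix, hl, pow_succ] at h1
      exact (mul_eq_right₀ hc0).1 h1.symm
    rw [hσ, ← pow_succ', hl] at hc2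
    rw [hF, hl, show (2 * l + 1) ^ 2 / 2 = (2 * l + 1 + 1) * l by
      rw [show (2 * l + 1) ^ 2 = 2 * ((2 * l + 1 + 1) * l) + 1 by ring]; omega, pow_mul, ← hc2, ← pow_mul]
    exact hc1
  · intro hle X hd hzex hns
    obtain ⟨z, hz⟩ := hzex
    have hz0 := ne_zero_of_pow hn hd hz
    by_cases hsq : IsSquare z
    · obtain ⟨a, rfl⟩ := hsq
      obtain ⟨C, s, hC, hs, h⟩ := cong_herm hne hinv hG (Matrix.diagonal fun _ => 1)
        ⟨by rw [Matrix.diagonal_transpose, Matrix.diagonal_one, Matrix.map_one _ (map_zero σ) (map_one σ)],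
          by simp⟩
      exact fix_square p hp hn (fun e => hz0 (by rw [e, mul_zero])) hz hC hs h
    · exfalso
      obtain ⟨k, hk, hc⟩ := LBInvCl.charpoly_nonsquare (show X * X = z • 1 by rw [← pow_two, hz]) hsq
      have h1 := Matrix.det_eq_sign_charpoly_coeff X
      rw [hd, hc, Fintype.card_fin, hk, pow_mul, neg_one_sq, one_pow, one_mul, Polynomial.coeff_zero_eq_eval_zero,
        eval_pow, eval_sub, eval_pow, eval_X, eval_C, zero_pow two_ne_zero, zero_sub] at h1
      have hk0 : k ≠ 0 := by omega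
      have := (nonsquare_pow h2 hk0).1 ⟨-z, fun h => hsq (by simpa using hnegw _ h), h1.symm⟩
      rw [hk, hsucc k hk0] at hle
      omega

/-- A prime dividing the index makes some power of `-q₀` equal to `-1`. -/
theorem index_herm [Fintype F] {r : ℕ} [Fact r.Prime] {q₀ : ℕ} (hF : Fintype.card F = q₀ ^ 2) (hσ : ∀ x, σ x = x ^ q₀)
    (hne : σ ≠ RingHom.id F) (hinv : ∀ a, σ (σ a) = a) (hfix : Nat.card (Hermitian.fixed σ) = q₀)
    (hqr : (q₀ : ZMod r) ≠ 0) (hn : 0 < n) (hG : Sym σ G) {S : Subgroup (GL (Fin n) F)}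
    (hS : ∀ g : GL (Fin n) F, SimMat σ G g.1 → g ∈ S)
    (h : r ∣ S.relIndex (Cfsg.Geo.specialLinear (Fin n) F)) :
    ∃ j, 1 ≤ j ∧ j ≤ n ∧ (-(q₀ : ZMod r)) ^ j = -1 := by
  classical
  obtain ⟨C, s, hCd, hs, hC⟩ := cong_herm hne hinv hG 1
    ⟨by rw [Matrix.transpose_one, Matrix.map_one _ (map_zero σ) (map_one σ)], by simp⟩
  obtain ⟨U, hU⟩ : ∃ U : GL (Fin n) F, U.1 = C := ⟨GeneralLinearGroup.mkOfDetNeZero C hCd, rfl⟩
  obtain ⟨K, hK⟩ : ∃ K : Subgroup (GL (Fin n) F), K = (Cfsg.GU n F q₀).map (MulAut.conj U).toMonoidHom := ⟨_, rfl⟩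
  have hgu : ∀ b ∈ Cfsg.GU n F q₀, b.1ᵀ * b.1.map σ = 1 := fun b hb => by
    have h1 := congrArg Matrix.transpose ((LBUnitary.mem_GU hσ hinv b).1 hb)
    rwa [Matrix.transpose_mul, LBUnitary.star', Matrix.transpose_transpose, Matrix.transpose_one] at h1
  have hle : K ≤ S := by
    rw [hK]
    rintro g ⟨b, hb, rfl⟩
    refine hS _ ?_
    show SimMat σ G (U.1 * b.1 * (U⁻¹).1)
    rw [Matrix.coe_units_inv, hU]
    exact sim_congr hCd hs hC ⟨1, one_ne_zero, by rw [Matrix.mul_one, one_smul, hgu b hb]⟩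
  have hdet : ∀ g ∈ K, GeneralLinearGroup.det g ^ (q₀ + 1) = 1 := by
    rw [hK]
    rintro g ⟨b, hb, rfl⟩
    have h1 := congrArg Matrix.det (hgu b hb)
    rw [Matrix.det_mul, Matrix.det_transpose, ← RingHom.mapMatrix_apply, ← RingHom.map_det, hσ, ← pow_succ',
      Matrix.det_one] at h1
    refine Units.ext ?_
    rw [MulEquiv.toMonoidHom_eq_coe, MonoidHom.coe_coe, MulAut.conj_apply, map_mul, map_mul, map_inv, mul_comm,
      inv_mul_cancel_left, Units.val_pow_eq_pow_val, Units.val_one, GeneralLinearGroup.val_det_apply]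
    exact h1
  have hq₀2 : 2 ≤ q₀ := hfix ▸ Finite.one_lt_card
  have hi := index_gl hn hdet (h.trans (Subgroup.relIndex_dvd_of_le_left _ hle))
  have hidx : ((K.index : ℤ) : ZMod r) = 0 := by
    rw [Int.cast_natCast, ZMod.natCast_eq_zero_iff]
    rw [hF, show q₀ ^ 2 - 1 = (q₀ - 1) * (q₀ + 1) by rw [Orth.sub_one_mul_add_one, pow_two],
      ← mul_assoc] at hi
    exact (dvd_mul_right r _).trans (Nat.dvd_of_mul_dvd_mul_right (by omega) hi)
  have hcard : (K.index : ℤ) * Nat.card (Cfsg.GU n F q₀) = Nat.card (GL (Fin n) F) := by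
    rw [← Subgroup.card_map_of_injective (f := (MulAut.conj U).toMonoidHom) (MulAut.conj U).injective, ← hK,
      ← Nat.cast_mul, mul_comm, Subgroup.card_mul_index]
  obtain ⟨a, ha⟩ := card_gl_int hF n
  rw [ha, HermStd.card_GU hne hinv hσ n hfix] at hcard
  have hnat : ((∏ i ∈ Finset.range n, (if Even i then q₀ ^ (i + 1) + 1 else q₀ ^ (i + 1) - 1) : ℕ) : ℤ) =
      ∏ i ∈ Finset.range n, ((q₀ : ℤ) ^ (i + 1) - (-1) ^ (i + 1)) := by
    rw [Nat.cast_prod]
    refine Finset.prod_congr rfl fun i _ => ?_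
    have h1 := Nat.one_le_pow (i + 1) q₀ (by omega)
    split_ifs with he
    · rw [pow_succ (-1 : ℤ), he.neg_one_pow]; push_cast; ring
    · rw [pow_succ (-1 : ℤ), (Nat.not_even_iff_odd.1 he).neg_one_pow, Nat.cast_sub h1]; push_cast; ring
  have hne0 : (∏ i ∈ Finset.range n, ((q₀ : ℤ) ^ (i + 1) - (-1) ^ (i + 1))) ≠ 0 :=
    Finset.prod_ne_zero_iff.2 fun i _ => sub_ne_zero.2 (by
      have h1 : (1 : ℤ) < (q₀ : ℤ) ^ (i + 1) := one_lt_pow₀ (by exact_mod_cast hq₀2) (by omega)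
      rcases neg_one_pow_eq_or ℤ (i + 1) with e | e <;> rw [e] <;> omega)
  have hsplit : (∏ i ∈ Finset.range n, (((q₀ ^ 2 : ℕ) : ℤ) ^ (i + 1) - 1)) =
      (∏ i ∈ Finset.range n, ((q₀ : ℤ) ^ (i + 1) + (-1) ^ (i + 1))) *
        ∏ i ∈ Finset.range n, ((q₀ : ℤ) ^ (i + 1) - (-1) ^ (i + 1)) := by
    rw [← Finset.prod_mul_distrib]
    refine Finset.prod_congr rfl fun i _ => ?_
    have h1 : ((-1 : ℤ) ^ (i + 1)) * (-1) ^ (i + 1) = 1 := by rw [← mul_pow]; simp
    push_cast
    rw [← pow_mul, mul_comm 2, pow_mul]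
    linear_combination h1
  rw [Nat.cast_mul, hnat, hsplit] at hcard
  have e1 : ((q₀ ^ 2 : ℕ) : ℤ) ^ a * ∏ i ∈ Finset.range n, ((q₀ : ℤ) ^ (i + 1) + (-1) ^ (i + 1)) =
      (K.index : ℤ) * ((q₀ ^ (n * (n - 1) / 2) : ℕ) : ℤ) := mul_right_cancel₀ hne0 (by linear_combination -hcard)
  have e2 := congrArg (fun x : ℤ => (x : ZMod r)) e1
  simp only [Int.cast_mul, hidx, zero_mul, mul_eq_zero, Int.cast_pow, Int.cast_natCast, pow_eq_zero_iff', Nat.cast_pow,
    hqr, false_and, false_or] at e2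
  obtain ⟨i, hi, hi0⟩ := exists_zero e2
  have := Finset.mem_range.1 hi
  refine ⟨i + 1, by omega, by omega, ?_⟩
  push_cast at hi0
  have h1 : ((-1 : ZMod r) ^ (i + 1)) * (-1) ^ (i + 1) = 1 := by rw [← mul_pow]; simp
  rw [neg_pow, eq_neg_of_add_eq_zero_left hi0, mul_neg, h1]

/-- Elements of prime order and the similarity group of a unitary form. -/
theorem herm_main [Fintype F] (p : ℕ) [Fact p.Prime] [CharP F p] {q : ℕ} (hq : Fintype.card F = q) (q₀ : ℕ)
    (hq₀ : q = q₀ ^ 2) (hn : 3 ≤ n) (f : (Fin n → F) → (Fin n → F) → F) (hf : Cfsg.Geo.IsUnitaryFormPow q₀ f) (r : ℕ)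
    [Fact r.Prime] (hr' : r = 2 ∨ r ≠ p) (hgap : ¬ (n = 6 ∧ r = 3))
    (hΩ : r ∣ (Cfsg.Geo.similarityGroup f).relIndex (Cfsg.Geo.specialLinear (Fin n) F)) :
    (∀ x ∈ Cfsg.Geo.specialLinear (Fin n) F, (∃ z : F, ((x ^ r : GL (Fin n) F) : Matrix (Fin n) (Fin n) F) = z • (1 : Matrix (Fin n) (Fin n) F)) →
      (∀ z : F, (x : Matrix (Fin n) (Fin n) F) ≠ z • (1 : Matrix (Fin n) (Fin n) F)) →
      ∃ g ∈ Cfsg.Geo.specialLinear (Fin n) F, g⁻¹ * x * g ∈ Cfsg.Geo.similarityGroup f) ↔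
    ((r = 2 ∧ (p = 2 ∨ padicValNat 2 n ≤ padicValNat 2 (q - 1))) ∨ ((r = 3 ∨ r = 5) ∧ n = r ∧ padicValNat r (q₀ - 1) = 1)) := by
  classical
  have hr : r.Prime := Fact.out
  have hF : Fintype.card F = q₀ ^ 2 := hq.trans hq₀
  obtain ⟨σ, hσ, hne, hinv, hfix, hq₀2⟩ := HermStd.exists_sigma hF
  obtain ⟨G, hGdef⟩ : ∃ G : Matrix (Fin n) (Fin n) F, G = Matrix.of fun i j => f (Pi.single i 1) (Pi.single j 1) := ⟨_, rfl⟩
  have hherm : ∀ v w, f v w = σ (f w v) := fun v w => (hf.herm v w).trans (hσ _).symm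
  have hlin : ∀ u v, f u v = ∑ i, u i * f (Pi.single i 1) v := fun u v => by
    let L : (Fin n → F) →ₗ[F] F :=
      { toFun := fun x => f x v, map_add' := fun x y => hf.add_left x y v, map_smul' := fun c x => hf.smul_left c x v }
    show L u = _
    conv_lhs => rw [pi_eq_sum_univ' u, map_sum]
    exact Finset.sum_congr rfl fun i _ => by rw [map_smul, smul_eq_mul]; rfl
  have hform : ∀ u v, f u v = u ⬝ᵥ (G *ᵥ (σ ∘ v)) := fun u v => by
    rw [hlin, dotProduct]
    refine Finset.sum_congr rfl fun i _ => congrArg _ ?_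
    rw [hherm, hlin, map_sum]
    refine Finset.sum_congr rfl fun j _ => ?_
    rw [map_mul, ← hherm, hGdef]
    simp [mul_comm]
  have hG : Sym σ G := by
    refine ⟨?_, fun h0 => ?_⟩
    · ext i j
      rw [Matrix.transpose_apply, Matrix.map_apply, hGdef, Matrix.of_apply, Matrix.of_apply, ← hherm]
    · obtain ⟨v, hv, hGv⟩ := Matrix.exists_mulVec_eq_zero_iff.2 h0
      have hw : σ ∘ (σ ∘ v) = v := funext fun i => hinv _
      have hw0 : σ ∘ v ≠ 0 := fun e => hv (by rw [← hw, e]; funext i; exact map_zero σ)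
      obtain ⟨⟨u, hu⟩, -⟩ := hf.nondegenerate _ hw0
      exact hu (by rw [hform, hw, hGv, dotProduct_zero])
  have hS : ∀ g : GL (Fin n) F, g ∈ Cfsg.Geo.similarityGroup f ↔ SimMat σ G g.1 := by
    intro g
    have key : ∀ u v, f (g.1 *ᵥ u) (g.1 *ᵥ v) = u ⬝ᵥ ((g.1ᵀ * G * g.1.map σ) *ᵥ (σ ∘ v)) := fun u v => by
      rw [hform, show σ ∘ (g.1 *ᵥ v) = g.1.map σ *ᵥ (σ ∘ v) from funext fun i => RingHom.map_mulVec σ g.1 v i,
        ← Matrix.mulVec_mulVec, ← Matrix.mulVec_mulVec, Matrix.dotProduct_mulVec u g.1ᵀ, Matrix.vecMul_transpose]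
    constructor
    · rintro ⟨c, hc⟩
      refine ⟨c, c.ne_zero, ?_⟩
      ext i j
      have h1 := hc (Pi.single i 1) (Pi.single j 1)
      rw [key, hform, show σ ∘ (Pi.single j (1 : F) : Fin n → F) = Pi.single j 1 from
        funext fun k => by simp [Pi.single_apply, apply_ite σ], Matrix.mulVec_single_one, Matrix.mulVec_single_one,
        single_dotProduct, single_dotProduct, one_mul, one_mul] at h1
      simpa using h1
    · rintro ⟨c, hc0, hc⟩
      refine ⟨Units.mk0 c hc0, fun u v => ?_⟩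
      rw [key, hc, hform, Matrix.smul_mulVec, dotProduct_smul, smul_eq_mul, Units.val_mk0]
  rw [allFix_iff σ hS]
  have hq1 : q - 1 ≠ 0 := by have := hq ▸ Fintype.one_lt_card (α := F); omega
  by_cases hr2 : r = 2
  · subst hr2
    have hcl : (2 = 2 ∧ (p = 2 ∨ padicValNat 2 n ≤ padicValNat 2 (q - 1))) ∨
        ((2 = 3 ∨ 2 = 5) ∧ n = 2 ∧ padicValNat 2 (q₀ - 1) = 1) ↔ (p = 2 ∨ padicValNat 2 n ≤ padicValNat 2 (q - 1)) :=
      ⟨fun h => h.elim (fun h => h.2) (fun h => absurd h.1 (by omega)), fun h => Or.inl ⟨rfl, h⟩⟩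
    rw [hcl]
    by_cases hp : p = 2
    · subst hp
      exact iff_of_true (allFix_two_char hne hinv (by omega) hG) (Or.inl rfl)
    · have h2 : (2 : F) ≠ 0 := Ring.two_ne_zero (by rw [ringChar.eq F p]; exact hp)
      rw [allFix_two_odd p hp h2 hF hσ hne hinv (by omega) hG, hq, or_iff_right hp]
  rw [or_iff_right (show ¬ (r = 2 ∧ _) from fun h => hr2 h.1)]
  have hrp : r ≠ p := hr'.resolve_left hr2
  obtain ⟨a, ha⟩ : ∃ a, q₀ = p ^ a := by
    obtain ⟨e, -, he⟩ := FiniteField.card F p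
    obtain ⟨a, -, ha⟩ := (Nat.dvd_prime_pow (Fact.out : p.Prime)).1 (he ▸ hF ▸ dvd_pow_self q₀ two_ne_zero : q₀ ∣ p ^ (e : ℕ))
    exact ⟨a, ha⟩
  have hqr : (q₀ : ZMod r) ≠ 0 := by
    rw [Ne, ZMod.natCast_eq_zero_iff, ha]
    exact fun h => hrp ((Nat.prime_dvd_prime_iff_eq hr Fact.out).1 (hr.dvd_of_dvd_pow h))
  obtain ⟨j, hj1, hjn, hj⟩ := index_herm hF hσ hne hinv hfix hqr (by omega) hG (fun g => (hS g).2) hΩ
  haveI : Fact (2 < r) := ⟨by have := hr.two_le; omega⟩
  have hk0 : q₀ - 1 ≠ 0 := by omega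
  have hkd : q₀ - 1 ∣ Fintype.card F - 1 := by
    rw [hF, pow_two, ← Orth.sub_one_mul_add_one]; exact dvd_mul_right _ _
  have hσfix : ∀ x : F, x ^ (q₀ - 1) = 1 → σ x = x := fun x hx => by
    rw [hσ, show q₀ = q₀ - 1 + 1 by omega, pow_succ, hx, one_mul]
  by_cases hone : (Fintype.card F : ZMod r) = 1
  · have hq₀1 : (q₀ : ZMod r) = 1 := by
      rw [hF, Nat.cast_pow] at hone
      refine (sq_eq_one_iff.1 hone).resolve_right fun e => ?_
      rw [e, neg_neg, one_pow] at hj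
      exact ZMod.neg_one_ne_one hj.symm
    have hdvd : r ∣ q₀ - 1 := by
      rw [← ZMod.natCast_eq_zero_iff, Nat.cast_sub (by omega), hq₀1, Nat.cast_one, sub_self]
    have hv : padicValNat r (Fintype.card F - 1) = padicValNat r (q₀ - 1) := by
      rw [hF, pow_two, ← Orth.sub_one_mul_add_one, padicValNat.mul hk0 (by omega),
        padicValNat.eq_zero_of_not_dvd (n := q₀ + 1) (fun h => ?_), add_zero]
      have := Nat.le_of_dvd two_pos (show r ∣ 2 by
        have := Nat.dvd_sub h hdvd; rwa [show q₀ + 1 - (q₀ - 1) = 2 by omega] at this)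
      have := hr.two_le
      omega
    refine ⟨fun hall => ?_, fun ⟨h35, hnr, hv'⟩ => allFix_exceptional p hrp h35 hnr (hv.trans hv')
      (fun x hx => hσfix x (orderOf_dvd_iff_pow_eq_one.1 ((orderOf_dvd_of_pow_eq_one hx).trans hdvd))) (cong_herm hne hinv hG)⟩
    by_contra hex
    exact not_allFix_divides hG.2 hr2 hn hgap hkd hk0 (one_le_padicValNat_of_dvd hk0 hdvd) hσfix hex hall
  · refine iff_of_false ?_ fun h => ?_
    · have hcard : (Fintype.card F : ZMod r) = (-(q₀ : ZMod r)) ^ 2 := by rw [hF, Nat.cast_pow, neg_sq]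
      refine not_allFix_factor p a hrp hinv (fun x => by rw [hσ, ha]) hone (fun k hk => ?_) (by omega) hG.2 ?_
      · rw [← ha, hcard] at hk
        have h1 := congrArg (fun x : ZMod r => x ^ j) hk
        simp only [← pow_mul, show 2 * k * j = j * (2 * k) by ring] at h1
        rw [pow_mul, hj, pow_mul, neg_one_sq, one_pow] at h1
        exact ZMod.neg_one_ne_one h1.symm
      · refine (Nat.le_of_dvd hj1 (orderOf_dvd_of_pow_eq_one ?_)).trans hjn
        rw [hcard, ← pow_mul, mul_comm, pow_mul, hj, neg_one_sq]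
    · obtain ⟨u, hu⟩ := dvd_of_one_le_padicValNat h.2.2.ge
      refine cast_card_ne_one_iff.1 hone ?_
      exact (Dvd.intro u hu.symm).trans hkd

end Cfsg.Agent.LBSim
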