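/-
Elements of order n in the normaliser of a field of degree n inside the n × n matrices, n prime.
-/
import Cfsg.Agent.Lib.LinearBlock.LinExtInvolution
import Cfsg.Agent.Lib.Classical.SL

set_option autoImplicit false
set_option linter.all false

namespace Cfsg.Agent.LBSinger

open Matrix Polynomial

universe u

variable {F : Type u} [Field F] {n : ℕ} {K : Subalgebra F (Matrix (Fin n) (Fin n) F)}

theorem exists_field (hn : 0 < n) (hK : Cfsg.Geo.IsFieldSubalgebra n K) : IsField K := by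
  haveI : Nonempty (Fin n) := ⟨⟨0, hn⟩⟩
  refine ⟨⟨0, 1, fun e => zero_ne_one (congrArg Subtype.val e)⟩, fun a b => Subtype.ext (hK.comm _ a.2 _ b.2), fun {a} ha => ?_⟩
  obtain ⟨y, hy, hay⟩ := hK.inv a.1 a.2 fun e => ha (Subtype.ext e)
  exact ⟨⟨y, hy⟩, Subtype.ext hay⟩

theorem eval_inj (hK : Cfsg.Geo.IsFieldSubalgebra n K) {v : Fin n → F} (hv : v ≠ 0) {a : Matrix (Fin n) (Fin n) F}
    (ha : a ∈ K) (h : a *ᵥ v = 0) : a = 0 := by
  by_contra h0
  obtain ⟨y, hy, hay⟩ := hK.inv a ha h0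
  refine hv ?_
  have := congrArg (fun w => y *ᵥ w) h
  simpa [Matrix.mulVec_mulVec, ← hK.comm a ha y hy, hay] using this

/-- The vector space is a line over the field. -/
theorem exists_psi (hK : Cfsg.Geo.IsFieldSubalgebra n K) {v : Fin n → F} (hv : v ≠ 0) :
    ∃ ψ : K ≃ₗ[F] (Fin n → F), ∀ a : K, ψ a = a.1 *ᵥ v := by
  let f : K →ₗ[F] (Fin n → F) :=
    { toFun := fun a => a.1 *ᵥ v
      map_add' := fun a b => add_mulVec _ _ _
      map_smul' := fun c a => smul_mulVec _ _ _ }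
  have hf : Function.Injective f := (injective_iff_map_eq_zero f).2 fun a h => Subtype.ext (eval_inj hK hv a.2 h)
  exact ⟨LinearEquiv.ofInjectiveOfFinrankEq f hf (by rw [Module.finrank_fin_fun]; exact hK.finrank_eq), fun a => rfl⟩

/-- The field is its own centraliser. -/
theorem mem_of_commute (hn : 0 < n) (hK : Cfsg.Geo.IsFieldSubalgebra n K) {y : Matrix (Fin n) (Fin n) F}
    (h : ∀ a ∈ K, y * a = a * y) : y ∈ K := by
  let v : Fin n → F := Pi.single ⟨0, hn⟩ 1
  have hv : v ≠ 0 := fun e => one_ne_zero (α := F) (by simpa [v] using congrFun e ⟨0, hn⟩)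
  obtain ⟨ψ, hψ⟩ := exists_psi hK hv
  obtain ⟨a, ha⟩ := ψ.surjective (y *ᵥ v)
  rw [hψ] at ha
  suffices y = a.1 by rw [this]; exact a.2
  refine Matrix.ext_iff_mulVec.2 fun w => ?_
  obtain ⟨b, rfl⟩ := ψ.surjective w
  rw [hψ, mulVec_mulVec, mulVec_mulVec, h _ b.2, ← mulVec_mulVec, ← ha, mulVec_mulVec, hK.comm _ a.2 _ b.2]

/-- Outside the field, an element with scalar n-th power has minimal polynomial of degree n. -/
theorem minpoly_degree (hnp : n.Prime) (hK : Cfsg.Geo.IsFieldSubalgebra n K) {y : GL (Fin n) F}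
    (hy : y ∈ Cfsg.Geo.subalgebraNormalizer K) {z : F} (hz : y.1 ^ n = z • 1) (hyK : y.1 ∉ K)
    {g : F[X]} (hg : aeval y.1 g = 0) (hdeg : g.natDegree < n) : g = 0 := by
  classical
  letI : Field K := (exists_field hnp.pos hK).toField
  let τ : Module.End F (Matrix (Fin n) (Fin n) F) := LinearMap.mulLeftRight F (y.1, (y⁻¹).1)
  have hτ : ∀ a, τ a = y.1 * a * (y⁻¹).1 := fun a => rfl
  let σ : K →ₐ[F] K := AlgHom.mk'
    { toFun := fun a => ⟨y.1 * a.1 * (y⁻¹).1, (hy a.1).1 a.2⟩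
      map_one' := Subtype.ext (by show y.1 * 1 * (y⁻¹).1 = 1; rw [mul_one, Units.mul_inv])
      map_mul' := fun a b => Subtype.ext (by
        show y.1 * (a.1 * b.1) * (y⁻¹).1 = y.1 * a.1 * (y⁻¹).1 * (y.1 * b.1 * (y⁻¹).1)
        simp [Matrix.mul_assoc])
      map_zero' := Subtype.ext (by show y.1 * 0 * (y⁻¹).1 = 0; simp)
      map_add' := fun a b => Subtype.ext (by
        show y.1 * (a.1 + b.1) * (y⁻¹).1 = y.1 * a.1 * (y⁻¹).1 + y.1 * b.1 * (y⁻¹).1
        rw [mul_add, add_mul]) }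
    (fun c a => Subtype.ext (by
      show y.1 * (c • a.1) * (y⁻¹).1 = c • (y.1 * a.1 * (y⁻¹).1)
      rw [Matrix.mul_smul, Matrix.smul_mul]))
  have hσ : ∀ (i : ℕ) (a : K), ((σ ^ i) a).1 * y.1 ^ i = y.1 ^ i * a.1 := by
    intro i
    induction i with
    | zero => intro a; simp
    | succ i ih =>
      intro a
      rw [pow_succ' σ, AlgHom.mul_apply, pow_succ' y.1]
      show y.1 * ((σ ^ i) a).1 * (y⁻¹).1 * (y.1 * y.1 ^ i) = y.1 * y.1 ^ i * a.1
      rw [show y.1 * ((σ ^ i) a).1 * (y⁻¹).1 * (y.1 * y.1 ^ i) = y.1 * ((σ ^ i) a).1 * ((y⁻¹).1 * y.1) * y.1 ^ i by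
        simp only [Matrix.mul_assoc], Units.inv_mul, mul_one, Matrix.mul_assoc, ih, Matrix.mul_assoc]
  have hσn : σ ^ n = 1 := by
    refine AlgHom.ext fun a => Subtype.ext ?_
    have h := hσ n a
    rw [hz, Matrix.mul_smul, Matrix.smul_mul, mul_one, one_mul] at h
    have hz0 : z ≠ 0 := fun e => by
      haveI : Nonempty (Fin n) := ⟨⟨0, hnp.pos⟩⟩
      exact (y.isUnit.pow n).ne_zero (by rw [hz, e, zero_smul])
    exact smul_right_injective _ hz0 h
  have hσ1 : σ ≠ 1 := fun e => hyK (mem_of_commute hnp.pos hK fun a ha => by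
    have h := hσ 1 ⟨a, ha⟩
    rw [pow_one, pow_one, e] at h
    exact h.symm)
  haveI : Fact n.Prime := ⟨hnp⟩
  have hord : orderOf σ = n := orderOf_eq_prime hσn hσ1
  have hind : LinearIndependent K fun i : Fin n => ((σ ^ (i : ℕ) : K →ₐ[F] K) : K → K) := by
    refine (linearIndependent_monoidHom K K).comp (fun i : Fin n => ((σ ^ (i : ℕ) : K →ₐ[F] K) : K →* K)) fun i j h => ?_
    refine Fin.ext (pow_injOn_Iio_orderOf (x := σ) (by rw [hord]; exact i.2) (by rw [hord]; exact j.2) ?_)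
    exact AlgHom.ext fun a => DFunLike.congr_fun h a
  let v : Fin n → F := Pi.single ⟨0, hnp.pos⟩ 1
  have hv : v ≠ 0 := fun e => one_ne_zero (α := F) (by simpa [v] using congrFun e ⟨0, hnp.pos⟩)
  obtain ⟨ψ, hψ⟩ := exists_psi hK hv
  have hb : ∀ i : Fin n, ∃ b : K, b.1 *ᵥ v = g.coeff i • (y.1 ^ (i : ℕ) *ᵥ v) := fun i =>
    ⟨ψ.symm (g.coeff i • (y.1 ^ (i : ℕ) *ᵥ v)), by rw [← hψ, LinearEquiv.apply_symm_apply]⟩
  choose b hb using hb
  have hsum : ∀ a : K, ∑ i : Fin n, b i * (σ ^ (i : ℕ)) a = 0 := by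
    intro a
    refine Subtype.ext (eval_inj hK hv (SetLike.coe_mem _) ?_)
    rw [AddSubmonoidClass.coe_finsetSum, Matrix.sum_mulVec]
    have e : ∀ i : Fin n, (b i * (σ ^ (i : ℕ)) a : K).1 *ᵥ v = (g.coeff i • y.1 ^ (i : ℕ)) *ᵥ (a.1 *ᵥ v) := fun i => by
      rw [MulMemClass.coe_mul, hK.comm _ (b i).2 _ ((σ ^ (i : ℕ)) a).2, ← mulVec_mulVec, hb, mulVec_smul, smul_mulVec,
        mulVec_mulVec, hσ, mulVec_mulVec]
    rw [Finset.sum_congr rfl fun i _ => e i, ← Matrix.sum_mulVec,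
      show ∑ i : Fin n, g.coeff i • y.1 ^ (i : ℕ) = 0 from ?_, zero_mulVec]
    rw [Fin.sum_univ_eq_sum_range (fun i => g.coeff i • y.1 ^ i) n, ← Polynomial.aeval_eq_sum_range' hdeg, hg]
  have hzero := Fintype.linearIndependent_iff.1 hind b (funext fun a => by
    rw [Finset.sum_apply]; exact hsum a)
  refine Polynomial.ext fun i => ?_
  rw [coeff_zero]
  rcases Nat.lt_or_ge i n with hi | hi
  · have h := hb ⟨i, hi⟩
    rw [hzero, ZeroMemClass.coe_zero, zero_mulVec] at h
    refine (smul_eq_zero.1 h.symm).resolve_right fun h0 => hv ?_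
    have := congrArg (fun w => ((y⁻¹).1) ^ i *ᵥ w) h0
    simpa [mulVec_mulVec, ← Units.val_pow_eq_pow_val, ← Units.val_mul] using this
  · exact coeff_eq_zero_of_natDegree_lt (by omega)

/-- An element of the normaliser with n-th power scalar, having an eigenvalue and a short relation, is scalar. -/
theorem not_normalizes (hnp : n.Prime) (hK : Cfsg.Geo.IsFieldSubalgebra n K) {y : GL (Fin n) F}
    (hy : y ∈ Cfsg.Geo.subalgebraNormalizer K) {z : F} (hz : y.1 ^ n = z • 1) {e : F} {w : Fin n → F} (hw : w ≠ 0)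
    (hew : y.1 *ᵥ w = e • w) {g : F[X]} (hg0 : g ≠ 0) (hg : aeval y.1 g = 0) (hdeg : g.natDegree < n) : y.1 = e • 1 := by
  by_cases hyK : y.1 ∈ K
  · refine sub_eq_zero.1 (eval_inj hK hw (sub_mem hyK (K.smul_mem K.one_mem e)) ?_)
    rw [sub_mulVec, smul_mulVec, one_mulVec, hew, sub_self]
  · exact absurd (minpoly_degree hnp hK hy hz hyK hg hdeg) hg0

theorem pow_det {M : Matrix (Fin n) (Fin n) F} (ho : Odd n) (h : M.charpoly = X ^ n - 1) : M.det = 1 := by
  rw [det_eq_sign_charpoly_coeff, h, coeff_sub, coeff_X_pow, coeff_one_zero, if_neg (by have := ho.pos; omega),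
    Fintype.card_fin, ho.neg_one_pow]
  ring

/-- The Frobenius automorphism inside the normaliser. -/
theorem exists_sigma [Fintype F] (hnp : n.Prime) (hK : Cfsg.Geo.IsFieldSubalgebra n K) :
    ∃ S : GL (Fin n) F, S ∈ Cfsg.Geo.subalgebraNormalizer K ∧ S.1 ^ n = 1 ∧ S.1.charpoly = X ^ n - 1 := by
  classical
  letI : Field K := (exists_field hnp.pos hK).toField
  haveI : Finite K := Subtype.finite
  letI : Fintype K := Fintype.ofFinite K
  let v : Fin n → F := Pi.single ⟨0, hnp.pos⟩ 1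
  have hv : v ≠ 0 := fun e => one_ne_zero (α := F) (by simpa [v] using congrFun e ⟨0, hnp.pos⟩)
  obtain ⟨ψ, hψ⟩ := exists_psi hK hv
  let φ : K →ₐ[F] K := FiniteField.frobeniusAlgHom F K
  have hφn : φ ^ n = 1 := by
    have h : orderOf φ = n := (FiniteField.orderOf_frobeniusAlgHom F K).trans hK.finrank_eq
    exact (congrArg (φ ^ ·) h).symm.trans (pow_orderOf_eq_one φ)
  let φe : K ≃ₗ[F] K := LinearEquiv.ofLinear φ.toLinearMap (φ ^ (n - 1)).toLinearMap
    (LinearMap.ext fun a => by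
      show φ ((φ ^ (n - 1)) a) = a
      rw [← AlgHom.mul_apply, ← pow_succ', Nat.sub_add_cancel hnp.one_le, hφn]; rfl)
    (LinearMap.ext fun a => by
      show (φ ^ (n - 1)) (φ a) = a
      rw [← AlgHom.mul_apply, ← pow_succ, Nat.sub_add_cancel hnp.one_le, hφn]; rfl)
  let T : (Fin n → F) ≃ₗ[F] (Fin n → F) := ψ.symm.trans (φe.trans ψ)
  let S : GL (Fin n) F := ⟨LinearMap.toMatrix' T.toLinearMap, LinearMap.toMatrix' T.symm.toLinearMap,
    by rw [← LinearMap.toMatrix'_comp]; simp, by rw [← LinearMap.toMatrix'_comp]; simp⟩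
  have hS : ∀ a : K, S.1 *ᵥ ψ a = ψ (φ a) := fun a => by
    show LinearMap.toMatrix' T.toLinearMap *ᵥ ψ a = _
    rw [LinearMap.toMatrix'_mulVec]
    show ψ (φe (ψ.symm (ψ a))) = _
    rw [LinearEquiv.symm_apply_apply]; rfl
  have hSk : ∀ k : K, S.1 * k.1 = (φ k).1 * S.1 := fun k => by
    refine Matrix.ext_iff_mulVec.2 fun w => ?_
    obtain ⟨a, rfl⟩ := ψ.surjective w
    rw [← mulVec_mulVec, ← mulVec_mulVec, hS, show k.1 *ᵥ ψ a = ψ (k * a) by rw [hψ, hψ, mulVec_mulVec]; rfl, hS,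
      map_mul, show ((φ k).1 *ᵥ ψ (φ a)) = ψ (φ k * φ a) by rw [hψ, hψ, mulVec_mulVec]; rfl]
  have hSN : S ∈ Cfsg.Geo.subalgebraNormalizer K := LBLinExtInv.mem_normalizer fun k hk => by
    rw [hSk ⟨k, hk⟩, Matrix.mul_assoc, Units.mul_inv, mul_one]; exact (φ ⟨k, hk⟩).2
  have hSn : S.1 ^ n = 1 := by
    have : ∀ i, ∀ a : K, (S.1 ^ i) *ᵥ ψ a = ψ ((φ ^ i) a) := by
      intro i
      induction i with
      | zero => intro a; simp
      | succ i ih => intro a; rw [pow_succ', ← mulVec_mulVec, ih, hS, ← AlgHom.mul_apply, ← pow_succ']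
    refine Matrix.ext_iff_mulVec.2 fun w => ?_
    obtain ⟨a, rfl⟩ := ψ.surjective w
    rw [this, hφn, one_mulVec]; rfl
  have hSK : S.1 ∉ K := fun hm => by
    have h1 : φ = 1 := AlgHom.ext fun k => Subtype.ext (by
      have e := hSk k
      rw [hK.comm _ hm _ k.2] at e
      have := congrArg (fun M => M * (S⁻¹).1) e
      simp only [Matrix.mul_assoc, Units.mul_inv, mul_one] at this
      exact this.symm)
    have := FiniteField.orderOf_frobeniusAlgHom F K
    rw [show FiniteField.frobeniusAlgHom F K = φ from rfl, h1, orderOf_one, (hK.finrank_eq : Module.finrank F K = n)] at this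
    exact hnp.ne_one this.symm
  refine ⟨S, hSN, hSn, ?_⟩
  by_contra hne
  have h := minpoly_degree hnp hK hSN (z := 1) (by rw [one_smul]; exact hSn) hSK (g := S.1.charpoly - (X ^ n - 1)) ?_ ?_
  · exact hne (sub_eq_zero.1 h)
  · rw [map_sub, Matrix.aeval_self_charpoly, map_sub, map_pow, aeval_X, map_one, hSn, sub_self, sub_zero]
  · have e1 : (X ^ n - 1 : F[X]) = X ^ n - C 1 := by rw [C_1]
    have hm : (X ^ n - C (1 : F)).Monic := monic_X_pow_sub_C 1 hnp.ne_zero
    rw [e1]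
    rw [e1] at hne
    have hd := Polynomial.degree_sub_lt (p := S.1.charpoly) (q := X ^ n - C (1 : F)) (by
      rw [charpoly_degree_eq_dim, Fintype.card_fin, degree_X_pow_sub_C hnp.pos]) (charpoly_monic S.1).ne_zero
      (by rw [(charpoly_monic S.1).leadingCoeff, hm.leadingCoeff])
    rw [charpoly_degree_eq_dim, Fintype.card_fin] at hd
    exact (natDegree_lt_iff_degree_lt (sub_ne_zero.2 hne)).2 hd

/-- A determinant-one element whose characteristic polynomial is that of a regular cycle. -/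
theorem exists_conj [Fintype F] (p : ℕ) [Fact p.Prime] [CharP F p] (hnp : n.Prime) (hne : n ≠ p)
    (hK : Cfsg.Geo.IsFieldSubalgebra n K) {a : F} (ha : a ≠ 0) {y : Matrix (Fin n) (Fin n) F} (hy : y ^ n = 1)
    (hc : y.charpoly = X ^ n - 1) :
    ∃ (h : GL (Fin n) F) (P : Matrix.SpecialLinearGroup (Fin n) F), (P⁻¹).1 * (a • y) * P.1 = h.1 ∧
      h ∈ Cfsg.Geo.subalgebraNormalizer K := by
  obtain ⟨S, hSN, hSn, hSc⟩ := exists_sigma hnp hK
  have hcop : n.Coprime p := (Nat.coprime_primes hnp Fact.out).2 hne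
  obtain ⟨P, hP⟩ := LBInvCl.sl_conj_semisimple hnp.pos (SemisimpleCl.isSemisimple_of_pow p hy hcop)
    (SemisimpleCl.isSemisimple_of_pow p hSn hcop) (hc.trans hSc.symm)
  refine ⟨GeneralLinearGroup.mkOfDetNeZero (a • S.1) (by
    rw [det_smul]; exact mul_ne_zero (pow_ne_zero _ ha) (GeneralLinearGroup.det S).ne_zero), P, ?_, ?_⟩
  · show _ = a • S.1
    rw [Matrix.mul_smul, Matrix.smul_mul, hP]
  · refine LBLinExtInv.mem_normalizer fun k hk => ?_
    have h1 := (hSN k).1 hk
    obtain ⟨G, hG⟩ : ∃ G, G = GeneralLinearGroup.mkOfDetNeZero (a • S.1) (by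
      rw [det_smul]; exact mul_ne_zero (pow_ne_zero _ ha) (GeneralLinearGroup.det S).ne_zero) := ⟨_, rfl⟩
    rw [← hG]
    have hi : (G⁻¹ : GL (Fin n) F).1 = a⁻¹ • (S⁻¹ : GL (Fin n) F).1 := by
      refine left_inv_eq_right_inv (Units.inv_mul G) ?_
      rw [show G.1 = a • S.1 by rw [hG]; rfl, smul_mul_smul_comm, mul_inv_cancel₀ ha, one_smul, Units.mul_inv]
    rw [hi, show G.1 = a • S.1 by rw [hG]; rfl, Matrix.smul_mul, Matrix.smul_mul, Matrix.mul_smul, smul_smul,
      mul_inv_cancel₀ ha, one_smul]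
    exact h1

/-- The charpoly of an element of order n when its irreducible pieces are long. -/
theorem charpoly_long [Fintype F] (p : ℕ) [Fact p.Prime] [CharP F p] (hnp : n.Prime) (h3 : 3 ≤ n) (hne : n ≠ p)
    (hord : orderOf (Fintype.card F : ZMod n) = n - 1) {y : Matrix (Fin n) (Fin n) F} (hy : y ^ n = 1) (hy1 : y ≠ 1) :
    y.charpoly = X ^ n - 1 := by
  haveI : Fact n.Prime := ⟨hnp⟩
  obtain ⟨f, -, hf⟩ := FiniteField.card F p
  have hirr : Irreducible (cyclotomic n F) := by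
    refine irreducible_of_dvd_cyclotomic_of_natDegree hf ((Nat.coprime_primes Fact.out hnp).2 (Ne.symm hne)) dvd_rfl ?_
    rw [natDegree_cyclotomic, Nat.totient_prime hnp, ← hord, ← orderOf_units, ZMod.coe_unitOfCoprime, hf]
  obtain ⟨Φ, hΦ⟩ : ∃ Φ, Φ = cyclotomic n F := ⟨_, rfl⟩
  rw [← hΦ] at hirr
  have hfac : Φ * (X - 1) = X ^ n - 1 := by rw [hΦ]; exact cyclotomic_prime_mul_X_sub_one F n
  have hΦd : Φ.natDegree = n - 1 := by rw [hΦ, natDegree_cyclotomic, Nat.totient_prime hnp]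
  have hmu : minpoly F y ∣ X ^ n - 1 := minpoly.dvd _ _ (by simp [hy])
  have hdvd : Φ ∣ minpoly F y := by
    by_contra hh
    have hcop : IsCoprime (minpoly F y) Φ := ((hirr.coprime_iff_not_dvd).2 hh).symm
    rw [← hfac] at hmu
    obtain ⟨A, hA⟩ := hcop.dvd_of_dvd_mul_left hmu
    have h0 := congrArg (aeval y) hA
    rw [map_mul, minpoly.aeval, zero_mul, map_sub, aeval_X, map_one] at h0
    exact hy1 (sub_eq_zero.1 h0)
  obtain ⟨B, hB⟩ := hdvd.trans (Matrix.minpoly_dvd_charpoly y)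
  have hΦm : Φ.Monic := hΦ ▸ cyclotomic.monic n F
  have hBm : B.Monic := hΦm.of_mul_monic_left (hB ▸ charpoly_monic y)
  have hBd : B.natDegree = 1 := by
    have h := congrArg natDegree hB
    rw [hΦm.natDegree_mul hBm, charpoly_natDegree_eq_dim, Fintype.card_fin, hΦd] at h
    omega
  obtain ⟨c, hc⟩ : ∃ c, B = X + C c := ⟨_, hBm.eq_X_add_C hBd⟩
  have hroot : (y.charpoly).IsRoot (-c) := by rw [hB, hc]; simp
  have hev : Module.End.HasEigenvalue (Matrix.toLin' y) (-c) := by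
    rw [Module.End.hasEigenvalue_iff_isRoot_charpoly, Matrix.charpoly_toLin']; exact hroot
  obtain ⟨w, hw⟩ := hev.exists_hasEigenvector
  have h1 : ∀ i : ℕ, (y ^ i) *ᵥ w = (-c) ^ i • w := by
    intro i
    induction i with
    | zero => simp
    | succ i ih =>
      rw [pow_succ', ← mulVec_mulVec, ih, mulVec_smul, ← Matrix.toLin'_apply, hw.apply_eq_smul, smul_smul, ← pow_succ]
  have hcn : (-c) ^ n = 1 := by
    have h := h1 n
    rw [hy, one_mulVec, eq_comm, ← sub_eq_zero] at h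
    nth_rewrite 2 [← one_smul F w] at h
    rw [← sub_smul] at h
    exact sub_eq_zero.1 ((smul_eq_zero.1 h).resolve_right hw.2)
  have hnr : ¬ Φ.IsRoot (-c) := fun h => by
    have := degree_eq_one_of_irreducible_of_root hirr h
    have : Φ.natDegree = 1 := natDegree_eq_of_degree_eq_some this
    omega
  have : -c = 1 := by
    have h := congrArg (eval (-c)) hfac
    simp [hcn] at h
    rcases h with h | h
    · exact absurd h hnr
    · exact sub_eq_zero.1 h
  rw [hB, hc, ← hfac, show c = -1 by linear_combination -this, map_neg, C_1, ← sub_eq_add_neg]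

/-- The witness with an irreducible piece of small degree. -/
theorem exists_short [Fintype F] (p : ℕ) [Fact p.Prime] [CharP F p] (hnp : n.Prime) (h3 : 3 < n) (hne : n ≠ p)
    (hord : orderOf (Fintype.card F : ZMod n) ≠ n - 1) :
    ∃ x : Matrix (Fin n) (Fin n) F, x.det = 1 ∧ x ^ n = 1 ∧ x ≠ 1 ∧
      (∃ w, w ≠ 0 ∧ x *ᵥ w = w) ∧ ∃ g : F[X], g ≠ 0 ∧ aeval x g = 0 ∧ g.natDegree < n := by
  classical
  haveI : Fact n.Prime := ⟨hnp⟩
  obtain ⟨ee, -, hf⟩ := FiniteField.card F p
  have hcop : p.Coprime n := (Nat.coprime_primes Fact.out hnp).2 (Ne.symm hne)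
  have hΦd : (cyclotomic n F).natDegree = n - 1 := by rw [natDegree_cyclotomic, Nat.totient_prime hnp]
  obtain ⟨P, hP, hPdvd⟩ := WfDvdMonoid.exists_irreducible_factor
    (fun h => by have := natDegree_eq_zero_of_isUnit h; omega) (cyclotomic_ne_zero n F)
  have hdeg : P.natDegree = orderOf (Fintype.card F : ZMod n) := by
    rw [natDegree_of_dvd_cyclotomic_of_irreducible hf hcop hPdvd hP, ← orderOf_units, ZMod.coe_unitOfCoprime, hf]
  have hlt : P.natDegree < n - 1 := by
    have hle := natDegree_le_of_dvd hPdvd (cyclotomic_ne_zero n F)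
    omega
  have hsep : (X ^ n - 1 : F[X]).Separable := by
    rw [← C_1]
    refine separable_X_pow_sub_C 1 ?_ one_ne_zero
    rw [Ne, CharP.cast_eq_zero_iff F p, Nat.prime_dvd_prime_iff_eq Fact.out hnp]
    exact Ne.symm hne
  -- the piece
  obtain ⟨f, hfm, hfd, hfpos, hf1, hfn, hfdet⟩ : ∃ f : F[X], f.Monic ∧ f.natDegree < n - 1 ∧ 0 < f.natDegree ∧ ¬ f.IsRoot 1 ∧
      f ∣ X ^ n - 1 ∧ ∀ C₀ : Matrix (Fin f.natDegree) (Fin f.natDegree) F, C₀.charpoly = f → C₀.det = 1 := by
    by_cases hc1 : P.natDegree = 1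
    · obtain ⟨ω, hω⟩ := Polynomial.exists_root_of_degree_eq_one ((degree_eq_iff_natDegree_eq hP.ne_zero).2 hc1)
      have hroot : IsPrimitiveRoot ω n := by
        haveI : NeZero (n : F) := ⟨by
          rw [Ne, CharP.cast_eq_zero_iff F p, Nat.prime_dvd_prime_iff_eq Fact.out hnp]; exact Ne.symm hne⟩
        exact isRoot_cyclotomic_iff.1 (hω.dvd hPdvd)
      have hω0 : ω ≠ 0 := hroot.ne_zero hnp.ne_zero
      have hω1 : ω ≠ 1 := hroot.ne_one hnp.one_lt
      have hωi : ω ≠ ω⁻¹ := fun e => by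
        have : ω ^ 2 = 1 := by rw [pow_two]; nth_rewrite 2 [e]; exact mul_inv_cancel₀ hω0
        exact absurd (hroot.dvd_of_pow_eq_one 2 this) (fun h => by have := Nat.le_of_dvd two_pos h; omega)
      refine ⟨(X - C ω) * (X - C ω⁻¹), (monic_X_sub_C _).mul (monic_X_sub_C _), ?_, ?_, ?_, ?_, fun C₀ hC => ?_⟩
      · rw [(monic_X_sub_C ω).natDegree_mul (monic_X_sub_C _), natDegree_X_sub_C, natDegree_X_sub_C]; omega
      · rw [(monic_X_sub_C ω).natDegree_mul (monic_X_sub_C _), natDegree_X_sub_C, natDegree_X_sub_C]; omega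
      · simp [IsRoot, sub_eq_zero, hω1.symm, (inv_ne_one.2 hω1).symm]
      · refine (isCoprime_X_sub_C_of_isUnit_sub (sub_ne_zero.2 hωi).isUnit).mul_dvd ?_ ?_ <;>
          rw [dvd_iff_isRoot] <;> simp [hroot.pow_eq_one]
      · have hnd : ((X - C ω) * (X - C ω⁻¹)).natDegree = 2 := by
          rw [(monic_X_sub_C ω).natDegree_mul (monic_X_sub_C _), natDegree_X_sub_C, natDegree_X_sub_C]
        rw [det_eq_sign_charpoly_coeff, hC, Fintype.card_fin]
        conv_lhs => arg 1; arg 2; rw [hnd]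
        simp [mul_coeff_zero, mul_inv_cancel₀ hω0]
    · refine ⟨P * C P.leadingCoeff⁻¹, monic_mul_leadingCoeff_inv hP.ne_zero, ?_, ?_, ?_, ?_, fun C₀ hC => ?_⟩
      · rw [natDegree_mul_leadingCoeff_self_inv]; exact hlt
      · rw [natDegree_mul_leadingCoeff_self_inv]; exact hP.natDegree_pos
      · intro h
        have := degree_eq_one_of_irreducible_of_root (irreducible_mul_leadingCoeff_inv.2 hP) h
        have h' := natDegree_eq_of_degree_eq_some this
        rw [natDegree_mul_leadingCoeff_self_inv] at h'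
        exact hc1 h'
      · exact (IsUnit.mul_right_dvd (isUnit_C.2 (inv_ne_zero (leadingCoeff_ne_zero.2 hP.ne_zero)).isUnit)).2
          (hPdvd.trans (cyclotomic.dvd_X_pow_sub_one n F))
      · have hd : C₀ ^ n = 1 := by
          have h1 : C₀.charpoly ∣ X ^ n - 1 := by
            rw [hC]
            exact (IsUnit.mul_right_dvd (isUnit_C.2 (inv_ne_zero (leadingCoeff_ne_zero.2 hP.ne_zero)).isUnit)).2
              (hPdvd.trans (cyclotomic.dvd_X_pow_sub_one n F))
          obtain ⟨A, hA⟩ := h1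
          have := congrArg (aeval C₀) hA
          rw [map_mul, Matrix.aeval_self_charpoly, zero_mul, map_sub, map_pow, aeval_X, map_one, sub_eq_zero] at this
          exact this
        have hdet : C₀.det ^ n = 1 := by rw [← det_pow, hd, det_one]
        have hdvd := orderOf_dvd_of_pow_eq_one hdet
        rcases hnp.eq_one_or_self_of_dvd _ hdvd with h | h
        · exact orderOf_eq_one_iff.1 h
        · exfalso
          refine hc1 ?_
          rw [hdeg]
          have h2 : n ∣ Fintype.card F - 1 := h ▸ orderOf_dvd_of_pow_eq_one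
            (FiniteField.pow_card_sub_one_eq_one _ (fun e => by rw [e, zero_pow hnp.ne_zero] at hdet; exact zero_ne_one hdet))
          rw [orderOf_eq_one_iff]
          have hq := Fintype.one_lt_card (α := F)
          have := ((Nat.modEq_iff_dvd' (by omega : 1 ≤ Fintype.card F)).2 h2).symm
          simpa using (ZMod.natCast_eq_natCast_iff _ _ _).2 this
  obtain ⟨c, hc⟩ : ∃ c, c = f.natDegree := ⟨_, rfl⟩
  obtain ⟨C₀, hC₀⟩ := SemisimpleCl.exists_charpoly hfm rfl
  have hC₀f : aeval C₀ f = 0 := (congrArg (aeval C₀) hC₀).symm.trans (Matrix.aeval_self_charpoly C₀)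
  have hC₀n : C₀ ^ n = 1 := by
    obtain ⟨A, hA⟩ := hfn
    have := congrArg (aeval C₀) hA
    rw [map_mul, hC₀f, zero_mul, map_sub, map_pow, aeval_X, map_one, sub_eq_zero] at this
    exact this
  obtain ⟨e⟩ : Nonempty (Fin f.natDegree ⊕ Fin (n - f.natDegree) ≃ Fin n) :=
    ⟨finSumFinEquiv.trans (finCongr (by omega))⟩
  let R := Matrix.reindexAlgEquiv F F e
  let B : Matrix (Fin f.natDegree ⊕ Fin (n - f.natDegree)) (Fin f.natDegree ⊕ Fin (n - f.natDegree)) F :=
    fromBlocks C₀ 0 0 1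
  have hBpow : ∀ i : ℕ, B ^ i = fromBlocks (C₀ ^ i) 0 0 1 := by
    intro i
    induction i with
    | zero => simp [fromBlocks_one]
    | succ i ih => rw [pow_succ, ih, fromBlocks_multiply]; simp [pow_succ]
  have hg : ∀ h : F[X], aeval B h = fromBlocks (aeval C₀ h) 0 0 (h.eval 1 • 1) := by
    intro h
    induction h using Polynomial.induction_on' with
    | add a b ha hb => rw [map_add, map_add, ha, hb, fromBlocks_add, eval_add, add_smul]; simp
    | monomial i a => rw [aeval_monomial, aeval_monomial, ← Algebra.smul_def, ← Algebra.smul_def, hBpow, fromBlocks_smul, eval_monomial, one_pow, mul_one]; simp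
  let w : Fin n → F := fun j => if j = e (Sum.inr ⟨0, by omega⟩) then 1 else 0
  refine ⟨R B, ?_, ?_, fun h => ?_, ⟨w, ?_, ?_⟩, f * (X - 1), ?_, ?_, ?_⟩
  · show (Matrix.reindex e e B).det = 1
    rw [det_reindex_self, det_fromBlocks_zero₂₁, det_one, mul_one, hfdet C₀ hC₀]
  · rw [← map_pow, hBpow, hC₀n, fromBlocks_one, map_one]
  · rw [← map_one R, R.injective.eq_iff, ← fromBlocks_one, fromBlocks_inj] at h
    have h' : f = (1 : Matrix (Fin f.natDegree) (Fin f.natDegree) F).charpoly := by rw [← h.1, hC₀]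
    have hd : 0 < f.natDegree := hfpos
    rw [Matrix.charpoly_one, Fintype.card_fin] at h'
    exact hf1 (by rw [h']; simp [IsRoot, zero_pow (by omega : f.natDegree ≠ 0)])
  · intro h
    have := congrFun h (e (Sum.inr ⟨0, by omega⟩))
    simp [w] at this
  · show (Matrix.reindex e e B) *ᵥ w = w
    have hw : w = (fun j => if j = Sum.inr (⟨0, by omega⟩ : Fin (n - f.natDegree)) then (1 : F) else 0) ∘ e.symm := by
      funext j; simp [w, Equiv.symm_apply_eq]
    rw [hw, Matrix.reindex_apply, Matrix.submatrix_mulVec_equiv, Equiv.symm_symm, Function.comp_assoc,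
      Equiv.symm_comp_self, Function.comp_id]
    congr 1
    funext j
    rcases j with j | j <;> simp [B, mulVec, dotProduct, Fintype.sum_sum_type, Matrix.one_apply]
  · exact mul_ne_zero hfm.ne_zero (sub_ne_zero.2 fun h => by simpa using congrArg natDegree h)
  · show aeval (R.toAlgHom B) (f * (X - 1)) = 0
    rw [aeval_algHom_apply, hg, map_mul, hC₀f, zero_mul]
    simp
  · rw [← C_1, hfm.natDegree_mul (monic_X_sub_C 1), natDegree_X_sub_C]; omega

/-- A conjugate of a witness is never in the normaliser. -/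
theorem not_all (hnp : n.Prime) (hK : Cfsg.Geo.IsFieldSubalgebra n K) (x P : Matrix.SpecialLinearGroup (Fin n) F)
    {z : F} (hz : x.1 ^ n = z • 1) {e : F} {w : Fin n → F} (hw : w ≠ 0) (hew : x.1 *ᵥ w = e • w)
    {g : F[X]} (hg0 : g ≠ 0) (hg : aeval x.1 g = 0) (hdeg : g.natDegree < n) (hns : x.1 ≠ e • 1) :
    P⁻¹ * x * P ∉ (Cfsg.Geo.subalgebraNormalizer K).comap
      (Matrix.SpecialLinearGroup.toGL : Matrix.SpecialLinearGroup (Fin n) F →* GL (Fin n) F) := by
  intro hm
  have hPP : P.1 * (P⁻¹).1 = 1 := by rw [← Matrix.SpecialLinearGroup.coe_mul, mul_inv_cancel, Matrix.SpecialLinearGroup.coe_one]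
  have hPP' : (P⁻¹).1 * P.1 = 1 := mul_eq_one_comm.1 hPP
  have hpow : ∀ i : ℕ, ((P⁻¹).1 * x.1 * P.1) ^ i = (P⁻¹).1 * x.1 ^ i * P.1 := by
    intro i
    induction i with
    | zero => rw [pow_zero, pow_zero, mul_one, hPP']
    | succ i ih =>
      rw [pow_succ, ih, pow_succ, show (P⁻¹).1 * x.1 ^ i * P.1 * ((P⁻¹).1 * x.1 * P.1) = (P⁻¹).1 * x.1 ^ i * (P.1 * (P⁻¹).1) * x.1 * P.1 by
        simp only [Matrix.mul_assoc], hPP, mul_one, Matrix.mul_assoc _ _ x.1]
  have hy := not_normalizes hnp hK (y := Matrix.SpecialLinearGroup.toGL (P⁻¹ * x * P)) hm (z := z) (e := e) (w := (P⁻¹).1 *ᵥ w) (g := g)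
    (by show ((P⁻¹).1 * x.1 * P.1) ^ n = _; rw [hpow, hz, Matrix.mul_smul, Matrix.smul_mul, mul_one, hPP'])
    (fun h => hw (by
      have := congrArg (fun v => P.1 *ᵥ v) h
      rw [mulVec_mulVec, hPP, one_mulVec, mulVec_zero] at this
      exact this))
    (by
      show ((P⁻¹).1 * x.1 * P.1) *ᵥ ((P⁻¹).1 *ᵥ w) = _
      rw [mulVec_mulVec, Matrix.mul_assoc, hPP, mul_one, ← mulVec_mulVec, hew, mulVec_smul])
    hg0 (by
      show aeval ((P⁻¹).1 * x.1 * P.1) g = 0
      rw [aeval_eq_sum_range, Finset.sum_congr rfl fun i _ => by rw [hpow, ← Matrix.smul_mul, ← Matrix.mul_smul],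
        ← Matrix.sum_mul, ← Matrix.mul_sum, ← aeval_eq_sum_range, hg, mul_zero, zero_mul])
    hdeg
  refine hns ?_
  have hy' : (P⁻¹).1 * x.1 * P.1 = e • 1 := hy
  calc x.1 = P.1 * ((P⁻¹).1 * x.1 * P.1) * (P⁻¹).1 := by
        rw [show P.1 * ((P⁻¹).1 * x.1 * P.1) * (P⁻¹).1 = (P.1 * (P⁻¹).1) * x.1 * (P.1 * (P⁻¹).1) by simp only [Matrix.mul_assoc],
          hPP, one_mul, mul_one]
    _ = e • 1 := by rw [hy', Matrix.mul_smul, Matrix.smul_mul, mul_one, hPP]

/-- In dimension three a non-scalar element of determinant one and order three is a regular cycle. -/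
theorem charpoly_three (h3 : (3 : F) ≠ 0) {y : Matrix (Fin 3) (Fin 3) F} (hy : y ^ 3 = 1) (hd : y.det = 1)
    (hns : ∀ z : F, y ≠ z • 1) : y.charpoly = X ^ 3 - 1 := by
  obtain ⟨μ, hμ⟩ : ∃ μ, μ = minpoly F y := ⟨_, rfl⟩
  have hμm : μ.Monic := hμ ▸ minpoly.monic (Matrix.isIntegral y)
  have hμy : aeval y μ = 0 := hμ ▸ minpoly.aeval F y
  have hdvd : μ ∣ X ^ 3 - 1 := hμ ▸ minpoly.dvd _ _ (by simp [hy])
  obtain ⟨B, hB⟩ : μ ∣ y.charpoly := hμ ▸ Matrix.minpoly_dvd_charpoly y
  obtain ⟨A, hA⟩ := hdvd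
  have hcm : (X ^ 3 - 1 : F[X]).Monic := by rw [← C_1]; exact monic_X_pow_sub_C 1 three_ne_zero
  have hAm : A.Monic := hμm.of_mul_monic_left (hA ▸ hcm)
  have hBm : B.Monic := hμm.of_mul_monic_left (hB ▸ charpoly_monic y)
  have hdA := congrArg natDegree hA
  have hdB := congrArg natDegree hB
  rw [hμm.natDegree_mul hAm, ← C_1, natDegree_X_pow_sub_C] at hdA
  rw [hμm.natDegree_mul hBm, charpoly_natDegree_eq_dim, Fintype.card_fin] at hdB
  rcases Nat.lt_or_ge μ.natDegree 2 with h | h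
  · exfalso
    obtain ⟨c, hc⟩ : ∃ c, μ = X + C c := ⟨_, hμm.eq_X_add_C (by
      rcases Nat.eq_zero_or_pos μ.natDegree with h0 | h0
      · have := hμm.natDegree_eq_zero.1 h0
        rw [this, map_one] at hμy
        exact absurd hμy one_ne_zero
      · omega)⟩
    rw [hc, map_add, aeval_X, aeval_C, Algebra.algebraMap_eq_smul_one] at hμy
    exact hns (-c) (by rw [neg_smul]; exact eq_neg_of_add_eq_zero_left hμy)
  rcases Nat.lt_or_ge μ.natDegree 3 with h' | h'
  · exfalso
    obtain ⟨a, ha⟩ : ∃ a, A = X + C a := ⟨_, hAm.eq_X_add_C (by omega)⟩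
    obtain ⟨b, hb⟩ : ∃ b, B = X + C b := ⟨_, hBm.eq_X_add_C (by omega)⟩
    have e0 : μ.coeff 0 * a = -1 := by
      have := congrArg (fun f => f.coeff 0) hA
      simpa [ha, mul_coeff_zero] using this.symm
    have e1 : μ.coeff 0 * b = -1 := by
      have := congrArg (fun f => f.coeff 0) hB
      rw [det_eq_sign_charpoly_coeff] at hd
      simp [hb, mul_coeff_zero] at this hd
      linear_combination -this - hd
    have hμ0 : μ.coeff 0 ≠ 0 := fun h0 => by rw [h0, zero_mul] at e0; exact one_ne_zero (neg_eq_zero.1 e0.symm)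
    have hab : a = b := mul_left_cancel₀ hμ0 (e0.trans e1.symm)
    have hroot : (y.charpoly).IsRoot (-b) := by rw [hB, hb]; simp
    have hev : Module.End.HasEigenvalue (Matrix.toLin' y) (-b) := by
      rw [Module.End.hasEigenvalue_iff_isRoot_charpoly, Matrix.charpoly_toLin']; exact hroot
    have hμb : μ.IsRoot (-b) := by
      rw [hμ, ← Matrix.minpoly_toLin']
      exact Module.End.isRoot_of_hasEigenvalue hev
    have hsep : (X ^ 3 - 1 : F[X]).Separable := by
      rw [← C_1]; exact separable_X_pow_sub_C 1 (by simpa using h3) one_ne_zero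
    have hsq := hsep.squarefree (X + C b) (by
      obtain ⟨W, hW⟩ := dvd_iff_isRoot.2 hμb
      refine ⟨W, ?_⟩
      rw [hA, ha, hab, hW, map_neg, sub_neg_eq_add]
      ring)
    exact (irreducible_of_degree_eq_one (degree_X_add_C b)).not_isUnit hsq
  · obtain rfl : A = 1 := hAm.natDegree_eq_zero.1 (by omega)
    obtain rfl : B = 1 := hBm.natDegree_eq_zero.1 (by omega)
    rw [hB, hA]

/-- The scalar is one when there are no elements of order nine. -/
theorem scalar_three [Fintype F] (h9 : ¬ 9 ∣ Fintype.card F - 1) {y : Matrix (Fin 3) (Fin 3) F} {z : F} (hd : y.det = 1)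
    (hz : y ^ 3 = z • 1) : z = 1 := by
  have hz3 : z ^ 3 = 1 := by
    have := congrArg Matrix.det hz
    rw [det_pow, hd, one_pow, det_smul, det_one, mul_one, Fintype.card_fin] at this
    exact this.symm
  by_contra hz1
  have hirr : Irreducible (X ^ 3 - C z : F[X]) := by
    rw [Polynomial.irreducible_iff_roots_eq_zero_of_degree_le_three (by rw [natDegree_X_pow_sub_C]; omega)
      (by rw [natDegree_X_pow_sub_C])]
    refine Multiset.eq_zero_of_forall_notMem fun a ha => h9 ?_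
    rw [mem_roots (monic_X_pow_sub_C z three_ne_zero).ne_zero] at ha
    simp [sub_eq_zero] at ha
    haveI : Fact (Nat.Prime 3) := ⟨Nat.prime_three⟩
    have ho : orderOf a = 3 ^ (1 + 1) := orderOf_eq_prime_pow (by rw [pow_one, ha]; exact hz1)
      (by rw [pow_succ, pow_one, pow_mul, ha, hz3])
    have ha0 : a ≠ 0 := fun e => by rw [e, zero_pow three_ne_zero] at ha; rw [← ha] at hz3; simp at hz3
    have := orderOf_dvd_of_pow_eq_one (FiniteField.pow_card_sub_one_eq_one a ha0)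
    rwa [ho] at this
  have hdvd : X ^ 3 - C z ∣ y.charpoly := by
    have hmin : minpoly F y ∣ X ^ 3 - C z := minpoly.dvd _ _ (by simp [hz, Algebra.algebraMap_eq_smul_one])
    rcases hirr.dvd_iff.1 hmin with h | h
    · exact absurd h (fun hu => minpoly.not_isUnit F y hu)
    · exact h.dvd.trans (Matrix.minpoly_dvd_charpoly y)
  have he : y.charpoly = X ^ 3 - C z := (eq_of_monic_of_associated (charpoly_monic y) (monic_X_pow_sub_C z three_ne_zero)
    (associated_of_dvd_of_natDegree_le hdvd (charpoly_monic y).ne_zero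
      (by rw [charpoly_natDegree_eq_dim, natDegree_X_pow_sub_C, Fintype.card_fin])).symm)
  rw [det_eq_sign_charpoly_coeff, he] at hd
  simp at hd
  exact hz1 (by linear_combination hd)

end Cfsg.Agent.LBSinger
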