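/-
A symplectic space with a self-adjoint field of scalars: standard bases.
-/
import Cfsg.Agent.Lib.Classical.Symplectic

set_option autoImplicit false
set_option linter.all false

namespace Cfsg.Agent.LBSpExt

open Module Matrix

variable {F K : Type*} [Field F] [Field K] [Algebra F K] [FiniteDimensional F K] {V : Type*} [AddCommGroup V] [Module F V]
  [FiniteDimensional F V]

theorem sympForm_sum {e : ℕ} {R : Type*} [CommRing R] (w w' : Fin e ⊕ Fin e → R) :
    Cfsg.sympForm e R w w' = ∑ i, (w (Sum.inr i) * w' (Sum.inl i) - w (Sum.inl i) * w' (Sum.inr i)) := by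
  simp [Cfsg.sympForm, dotProduct, Fintype.sum_sum_type, Matrix.mulVec, Matrix.J, Matrix.one_apply,
    Finset.sum_add_distrib, Finset.sum_sub_distrib]
  ring

/-- The hypotheses. -/
structure Data (B : LinearMap.BilinForm F V) (ρ : K →ₐ[F] Module.End F V) : Prop where
  alt : B.IsAlt
  nd : B.Nondegenerate
  sa : ∀ a u v, B (ρ a u) v = B u (ρ a v)
  self : ∀ a v, B (ρ a v) v = 0

variable {B : LinearMap.BilinForm F V} {ρ : K →ₐ[F] Module.End F V}

theorem eval_inj (ρ : K →ₐ[F] Module.End F V) {u : V} (hu : u ≠ 0) {a : K} (h : ρ a u = 0) : a = 0 := by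
  by_contra ha
  refine hu ?_
  have := congrArg (ρ a⁻¹) h
  rwa [map_zero, ← Module.End.mul_apply, ← map_mul, inv_mul_cancel₀ ha, map_one, Module.End.one_apply] at this

/-- Every functional on the scalars is a pairing. -/
theorem exists_pair (hD : Data B ρ) {u : V} (hu : u ≠ 0) (f : K →ₗ[F] F) : ∃ v, ∀ a, B (ρ a u) v = f a := by
  let j : K →ₗ[F] V :=
    { toFun := fun a => ρ a u
      map_add' := fun a b => by simp
      map_smul' := fun c a => by simp }
  have hj : Function.Injective j := (injective_iff_map_eq_zero j).2 fun a h => eval_inj ρ hu h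
  obtain ⟨g, hg⟩ := LinearMap.dualMap_surjective_of_injective hj f
  have hfi : Function.Injective B.flip := by
    rw [← LinearMap.ker_eq_bot, LinearMap.ker_eq_bot']
    intro y hy
    exact hD.nd.2 y fun v => by simpa using LinearMap.congr_fun hy v
  obtain ⟨v, hv⟩ := (LinearMap.injective_iff_surjective_of_finrank_eq_finrank (Subspace.dual_finrank_eq).symm).1 hfi g
  refine ⟨v, fun a => ?_⟩
  have := LinearMap.congr_fun hv (j a)
  rw [← hg]
  exact this

theorem exists_basis (hD : Data B ρ) (ℓ : K →ₗ[F] F) (hℓ : ℓ ≠ 0) :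
    ∃ (e : ℕ) (Φ : (Fin e ⊕ Fin e → K) ≃ₗ[F] V), (∀ a w, Φ (a • w) = ρ a (Φ w)) ∧
      ∀ w w', B (Φ w) (Φ w') = ℓ (Cfsg.sympForm e K w w') := by
  classical
  obtain ⟨x0, hx0⟩ : ∃ x, ℓ x ≠ 0 := by
    by_contra h; push Not at h; exact hℓ (LinearMap.ext h)
  have hself : ∀ a b v, B (ρ a v) (ρ b v) = 0 := fun a b v => by
    rw [← hD.sa b, ← Module.End.mul_apply, ← map_mul]; exact hD.self _ _
  suffices main : ∀ k : ℕ, (∃ (e : ℕ) (Φ : (Fin e ⊕ Fin e → K) ≃ₗ[F] V), (∀ a w, Φ (a • w) = ρ a (Φ w)) ∧
      ∀ w w', B (Φ w) (Φ w') = ℓ (Cfsg.sympForm e K w w')) ∨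
      ∃ u v : Fin k → V, (∀ i j a, B (ρ a (u i)) (v j) = if i = j then ℓ a else 0) ∧
        (∀ i j a, B (ρ a (u i)) (u j) = 0) ∧ (∀ i j a, B (ρ a (v i)) (v j) = 0) by
    rcases main (finrank F V + 1) with h | ⟨u, v, h1, h2, -⟩
    · exact h
    exfalso
    have hli : LinearIndependent F u := Fintype.linearIndependent_iff.2 fun c hc j => by
      have := congrArg (fun x => B (ρ x0 x) (v j)) hc
      simp only [map_sum, map_smul, LinearMap.sum_apply, LinearMap.smul_apply, map_zero, LinearMap.zero_apply, smul_eq_mul, h1,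
        mul_ite, mul_zero, Finset.sum_ite_eq', Finset.mem_univ, if_true] at this
      exact (mul_eq_zero.1 this).resolve_right hx0
    have := hli.fintype_card_le_finrank
    simp at this
  intro k
  induction k with
  | zero => exact Or.inr ⟨Fin.elim0, Fin.elim0, fun i => i.elim0, fun i => i.elim0, fun i => i.elim0⟩
  | succ k ih =>
    rcases ih with h | ⟨u, v, huv, huu, hvv⟩
    · exact Or.inl h
    let Φ : (Fin k ⊕ Fin k → K) →ₗ[F] V :=
      { toFun := fun w => ∑ i, (ρ (w (Sum.inl i)) (v i) + ρ (w (Sum.inr i)) (u i))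
        map_add' := fun w w' => by simp [Finset.sum_add_distrib]; abel
        map_smul' := fun c w => by simp [Finset.smul_sum] }
    have hΦ : ∀ a w, Φ (a • w) = ρ a (Φ w) := fun a w => by
      simp [Φ, map_sum, Finset.smul_sum, ← Module.End.mul_apply, ← map_mul]
    have hvu : ∀ i j a, B (ρ a (v i)) (u j) = if i = j then -ℓ a else 0 := fun i j a => by
      rw [hD.sa, ← hD.alt.neg_eq, huv]
      rcases eq_or_ne i j with rfl | h
      · simp
      · rw [if_neg h, if_neg (Ne.symm h), neg_zero]
    have hB : ∀ w w', B (Φ w) (Φ w') = ℓ (Cfsg.sympForm k K w w') := fun w w' => by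
      have e : ∀ (a b : K) (x y : V), B (ρ a x) (ρ b y) = B (ρ (b * a) x) y := fun a b x y => by
        rw [← hD.sa b, ← Module.End.mul_apply, ← map_mul]
      simp only [Φ, LinearMap.coe_mk, AddHom.coe_mk, map_sum, map_add, LinearMap.sum_apply, LinearMap.add_apply, e,
        huv, huu, hvv, hvu, sympForm_sum, map_sub]
      simp only [Finset.sum_add_distrib, add_zero, zero_add, Finset.sum_ite_eq, Finset.sum_ite_eq', Finset.mem_univ, if_true,
        Finset.sum_const_zero, Finset.sum_sub_distrib]
      simp [Finset.sum_neg_distrib, mul_comm, sub_eq_add_neg, add_comm]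
    have hinj : Function.Injective Φ := (injective_iff_map_eq_zero Φ).2 fun w hw => funext fun c => by
      by_contra hc
      rcases c with i | i
      · have := hB (fun b => if b = Sum.inr i then x0 / w (Sum.inl i) else 0) w
        rw [hw, map_zero, sympForm_sum] at this
        simp only [Pi.zero_apply] at hc
        simp [div_mul_cancel₀ _ hc] at this
        exact hx0 this.symm
      · have := hB w (fun b => if b = Sum.inl i then x0 / w (Sum.inr i) else 0)
        rw [hw, map_zero, LinearMap.zero_apply, sympForm_sum] at this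
        simp only [Pi.zero_apply] at hc
        simp [mul_div_cancel₀ _ hc] at this
        exact hx0 this.symm
    by_cases hsur : Function.Surjective Φ
    · exact Or.inl ⟨k, LinearEquiv.ofBijective Φ ⟨hinj, hsur⟩, hΦ, hB⟩
    right
    -- every functional on the range is a pairing
    let ψ : (Fin k ⊕ Fin k → K) →ₗ[F] Module.Dual F (Fin k ⊕ Fin k → K) := Φ.dualMap.comp (LinearMap.comp B.flip Φ)
    have hψ : Function.Surjective ψ := by
      refine (LinearMap.injective_iff_surjective_of_finrank_eq_finrank (Subspace.dual_finrank_eq).symm).1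
        ((injective_iff_map_eq_zero ψ).2 fun w' hw' => hinj ?_)
      rw [map_zero]
      by_contra hne
      have hw'0 : w' ≠ 0 := fun h => hne (by rw [h, map_zero])
      obtain ⟨c, hc⟩ := Function.ne_iff.1 hw'0
      simp only [Pi.zero_apply] at hc
      rcases c with i | i
      · have h := LinearMap.congr_fun hw' (fun b => if b = Sum.inr i then x0 / w' (Sum.inl i) else 0)
        change B (Φ _) (Φ w') = 0 at h
        rw [hB, sympForm_sum] at h
        simp [div_mul_cancel₀ _ hc] at h
        exact hx0 h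
      · have h := LinearMap.congr_fun hw' (fun b => if b = Sum.inl i then x0 / w' (Sum.inr i) else 0)
        change B (Φ _) (Φ w') = 0 at h
        rw [hB, sympForm_sum] at h
        simp [div_mul_cancel₀ _ hc] at h
        exact hx0 h
    have hproj : ∀ x : V, ∃ w, ∀ w', B (Φ w') (x - Φ w) = 0 := fun x => by
      obtain ⟨w, hw⟩ := hψ (Φ.dualMap (B.flip x))
      refine ⟨w, fun w' => ?_⟩
      have := LinearMap.congr_fun hw w'
      rw [map_sub, sub_eq_zero]
      exact this.symm
    obtain ⟨u', hu'0, hu'⟩ : ∃ u' : V, u' ≠ 0 ∧ ∀ w, B (Φ w) u' = 0 := by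
      simp only [Function.Surjective, not_forall, not_exists] at hsur
      obtain ⟨y, hy⟩ := hsur
      obtain ⟨w, hw⟩ := hproj y
      exact ⟨y - Φ w, sub_ne_zero.2 (Ne.symm (hy w)), hw⟩
    have hu'' : ∀ w a, B (ρ a u') (Φ w) = 0 := fun w a => by
      rw [hD.sa, ← hΦ, ← hD.alt.neg_eq, hu', neg_zero]
    obtain ⟨v0, hv0⟩ := exists_pair hD hu'0 ℓ
    obtain ⟨w0, hw0⟩ := hproj v0
    obtain ⟨v', hv'⟩ : ∃ v', v' = v0 - Φ w0 := ⟨_, rfl⟩
    rw [← hv'] at hw0
    have hv'' : ∀ w a, B (ρ a v') (Φ w) = 0 := fun w a => by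
      rw [hD.sa, ← hΦ, ← hD.alt.neg_eq, hw0, neg_zero]
    have hpair : ∀ a, B (ρ a u') v' = ℓ a := fun a => by rw [hv', map_sub, hu'', sub_zero, hv0]
    have hu_mem : ∀ i, u i = Φ (fun b => if b = Sum.inr i then 1 else 0) := fun i => by
      simp only [Φ, LinearMap.coe_mk, AddHom.coe_mk]
      rw [Finset.sum_eq_single i (fun j _ hj => by simp [hj]) (by simp)]
      simp
    have hv_mem : ∀ i, v i = Φ (fun b => if b = Sum.inl i then 1 else 0) := fun i => by
      simp only [Φ, LinearMap.coe_mk, AddHom.coe_mk]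
      rw [Finset.sum_eq_single i (fun j _ hj => by simp [hj]) (by simp)]
      simp
    refine ⟨Fin.snoc u u', Fin.snoc v v', fun i j a => ?_, fun i j a => ?_, fun i j a => ?_⟩
    · induction i using Fin.lastCases with
      | last =>
        induction j using Fin.lastCases with
        | last => rw [Fin.snoc_last, Fin.snoc_last, if_pos rfl, hpair]
        | cast j => rw [Fin.snoc_last, Fin.snoc_castSucc, if_neg (Fin.castSucc_ne_last j).symm, hv_mem, hu'']
      | cast i =>
        induction j using Fin.lastCases with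
        | last => rw [Fin.snoc_castSucc, Fin.snoc_last, if_neg (Fin.castSucc_ne_last i), hu_mem, ← hΦ, hw0]
        | cast j => rw [Fin.snoc_castSucc, Fin.snoc_castSucc, huv]; simp only [Fin.castSucc_inj]
    · induction i using Fin.lastCases with
      | last =>
        induction j using Fin.lastCases with
        | last => rw [Fin.snoc_last, hD.self]
        | cast j => rw [Fin.snoc_last, Fin.snoc_castSucc, hu_mem, hu'']
      | cast i =>
        induction j using Fin.lastCases with
        | last => rw [Fin.snoc_castSucc, Fin.snoc_last, hu_mem, ← hΦ, hu']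
        | cast j => rw [Fin.snoc_castSucc, Fin.snoc_castSucc, huu]
    · induction i using Fin.lastCases with
      | last =>
        induction j using Fin.lastCases with
        | last => rw [Fin.snoc_last, hD.self]
        | cast j => rw [Fin.snoc_last, Fin.snoc_castSucc, hv_mem, hv'']
      | cast i =>
        induction j using Fin.lastCases with
        | last => rw [Fin.snoc_castSucc, Fin.snoc_last, hv_mem, ← hΦ, hw0]
        | cast j => rw [Fin.snoc_castSucc, Fin.snoc_castSucc, hvv]

theorem dim_dvd (hD : Data B ρ) : 2 * finrank F K ∣ finrank F V := by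
  obtain ⟨x, hx⟩ : ∃ ℓ : K →ₗ[F] F, ℓ ≠ 0 := by
    by_contra h
    push Not at h
    have h1 : Subsingleton (Module.Dual F K) := ⟨fun a b => (h a).trans (h b).symm⟩
    have := Subspace.dual_finrank_eq (K := F) (V := K)
    rw [Module.finrank_zero_of_subsingleton] at this
    exact (Module.finrank_pos (R := F) (M := K)).ne this
  obtain ⟨e, Φ, -, -⟩ := exists_basis hD x hx
  refine ⟨e, ?_⟩
  rw [← LinearEquiv.finrank_eq Φ, Module.finrank_pi_fintype]
  simp
  ring

/-- A moved space of a semisimple element commuting with the scalars. -/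
theorem moved_dvd (hD : Data B ρ) {T : Module.End F V} (hT : ∀ u v, B (T u) (T v) = B u v) {r : ℕ} (hr : T ^ r = 1)
    (hr0 : (r : F) ≠ 0) (hcomm : ∀ a, ρ a * T = T * ρ a) :
    2 * finrank F K ∣ finrank F (LinearMap.range (T - 1)) := by
  obtain ⟨W, hW⟩ : ∃ W, W = LinearMap.range (T - 1) := ⟨_, rfl⟩
  have hWρ : ∀ a, ∀ x ∈ W, ρ a x ∈ W := by
    intro a x hx
    rw [hW] at hx ⊢
    obtain ⟨v, rfl⟩ := hx
    refine ⟨ρ a v, ?_⟩
    show T (ρ a v) - ρ a v = ρ a (T v - v)
    rw [map_sub, ← Module.End.mul_apply, ← Module.End.mul_apply, hcomm]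
  have hperp : ∀ x ∈ W, ∀ c, T c = c → B x c = 0 := by
    intro x hx c hc
    rw [hW] at hx
    obtain ⟨v, rfl⟩ := hx
    show B (T v - v) c = 0
    have := hT v c
    rw [hc] at this
    rw [map_sub, LinearMap.sub_apply, this, sub_self]
  have hdisj : Disjoint W (LinearMap.ker (T - 1)) := by
    rw [Submodule.disjoint_def]
    intro x hx hfix
    rw [hW] at hx
    obtain ⟨v, rfl⟩ := hx
    rw [LinearMap.mem_ker, LinearMap.sub_apply, Module.End.one_apply, sub_eq_zero] at hfix
    have hpow : ∀ i : ℕ, (T ^ i) ((T - 1) v) = (T - 1) v := by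
      intro i
      induction i with
      | zero => simp
      | succ i ih => rw [pow_succ, Module.End.mul_apply, hfix, ih]
    have h1 := congrArg (fun f => f v) (geom_sum_mul (T : Module.End F V) r)
    simp only [hr, sub_self, Module.End.mul_apply, LinearMap.sum_apply, LinearMap.zero_apply] at h1
    rw [Finset.sum_congr rfl fun i _ => hpow i, Finset.sum_const, Finset.card_range, ← Nat.cast_smul_eq_nsmul F] at h1
    exact (smul_eq_zero.1 h1).resolve_left hr0
  have hdim : finrank F W + finrank F (LinearMap.ker (T - 1)) = finrank F V := by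
    rw [hW]; exact LinearMap.finrank_range_add_finrank_ker _
  have hsup : W ⊔ LinearMap.ker (T - 1) = ⊤ := by
    refine Submodule.eq_top_of_finrank_eq ?_
    have := Submodule.finrank_sup_add_finrank_inf_eq W (LinearMap.ker (T - 1))
    rw [disjoint_iff.1 hdisj, finrank_bot] at this
    omega
  let ρW : K →ₐ[F] Module.End F W :=
    { toFun := fun a => (ρ a).restrict (hWρ a)
      map_one' := LinearMap.ext fun x => Subtype.ext (by simp)
      map_mul' := fun a b => LinearMap.ext fun x => Subtype.ext (by simp)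
      map_zero' := LinearMap.ext fun x => Subtype.ext (by simp)
      map_add' := fun a b => LinearMap.ext fun x => Subtype.ext (by simp)
      commutes' := fun c => LinearMap.ext fun x => Subtype.ext (by simp [Algebra.algebraMap_eq_smul_one]) }
  have hleft : ∀ w : W, (∀ y : W, B (y : V) (w : V) = 0) → w = 0 := fun w hw => Subtype.ext (hD.nd.2 _ fun y => by
    obtain ⟨a, ha, c, hc, rfl⟩ := Submodule.mem_sup.1 (show y ∈ W ⊔ LinearMap.ker (T - 1) by rw [hsup]; trivial)
    rw [LinearMap.mem_ker, LinearMap.sub_apply, Module.End.one_apply, sub_eq_zero] at hc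
    rw [map_add, LinearMap.add_apply, hw ⟨a, ha⟩, zero_add, ← hD.alt.neg_eq, hperp _ w.2 c hc, neg_zero])
  have hDW : Data (B.restrict W) ρW := by
    refine ⟨fun x => hD.alt x, ⟨fun x hx => hleft x fun y => ?_, fun x hx => hleft x fun y => hx y⟩,
      fun a u v => hD.sa a u v, fun a v => hD.self a v⟩
    rw [← hD.alt.neg_eq]
    exact neg_eq_zero.2 (hx y)
  have := dim_dvd hDW
  rwa [hW] at this

/-- A semilinear element fixes at most half. -/
theorem fix_le (hD : Data B ρ) {T : Module.End F V} {a a' : K} (hne : a' ≠ a) (h : T * ρ a = ρ a' * T) :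
    2 * finrank F (LinearMap.ker (T - 1)) ≤ finrank F V := by
  obtain ⟨U, hU⟩ : ∃ U, U = LinearMap.ker (T - 1) := ⟨_, rfl⟩
  have hmem : ∀ x ∈ U, T x = x := fun x hx => by
    rw [hU, LinearMap.mem_ker, LinearMap.sub_apply, Module.End.one_apply, sub_eq_zero] at hx; exact hx
  have key : ∀ x ∈ U, ρ a x ∈ U → x = 0 := fun x hx hax => by
    by_contra hx0
    refine hne (sub_eq_zero.1 (eval_inj ρ hx0 ?_))
    have e := LinearMap.congr_fun h x
    rw [Module.End.mul_apply, Module.End.mul_apply, hmem x hx, hmem _ hax] at e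
    rw [map_sub, LinearMap.sub_apply, e, sub_self]
  rw [← hU]
  by_cases ha : a = 0
  · subst ha
    have : U = ⊥ := eq_bot_iff.2 fun x hx => (Submodule.mem_bot F).2 (key x hx (by simp))
    rw [this, finrank_bot]; omega
  have hinj : Function.Injective (ρ a) := (injective_iff_map_eq_zero _).2 fun x hx => by
    by_contra hx0
    exact ha (eval_inj ρ hx0 hx)
  have h1 := Submodule.finrank_sup_add_finrank_inf_eq U (U.map (ρ a))
  rw [show U ⊓ U.map (ρ a) = ⊥ from eq_bot_iff.2 fun y ⟨hy, x, hx, hxy⟩ => by
    subst hxy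
    rw [key x hx hy, map_zero]; exact zero_mem _, finrank_bot,
    ← LinearEquiv.finrank_eq (Submodule.equivMapOfInjective _ hinj U)] at h1
  have h2 := Submodule.finrank_le (U ⊔ U.map (ρ a))
  omega

/-- No hyperplane-fixing element commutes with a proper field of scalars. -/
theorem rank_ne_one (hK : 2 ≤ finrank F K) {T : Module.End F V} (hcomm : ∀ a, ρ a * T = T * ρ a) :
    finrank F (LinearMap.range (T - 1)) ≠ 1 := by
  intro h1
  obtain ⟨w, hw0, hw⟩ : ∃ w ∈ LinearMap.range (T - 1), w ≠ 0 := by
    refine Submodule.exists_mem_ne_zero_of_ne_bot fun e => ?_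
    rw [e, finrank_bot] at h1; omega
  obtain ⟨v, rfl⟩ := hw0
  let w : V := (T - 1) v
  let j : K →ₗ[F] LinearMap.range (T - 1) :=
    { toFun := fun a => ⟨ρ a w, ρ a v, by
        show T (ρ a v) - ρ a v = ρ a (T v - v)
        rw [map_sub, ← Module.End.mul_apply, ← Module.End.mul_apply, hcomm]⟩
      map_add' := fun a b => Subtype.ext (by simp)
      map_smul' := fun c a => Subtype.ext (by simp) }
  have hj : Function.Injective j := (injective_iff_map_eq_zero j).2 fun a ha => eval_inj ρ hw (congrArg Subtype.val ha)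
  have := LinearMap.finrank_le_finrank_of_injective hj
  omega

end Cfsg.Agent.LBSpExt
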