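/-
Elements of prime order of PSp_2d(q) and the field extension subgroups.
-/
import Cfsg.Agent.Lib.LinearBlock.SpExtForm
import Cfsg.Agent.Lib.LinearBlock.SpExtWitness

set_option autoImplicit false
set_option linter.all false

namespace Cfsg.Agent.LBSpExt

open Matrix Module

variable {F : Type*} [Field F] [Fintype F] {d k r : ℕ}

omit [Fintype F] in
theorem sympForm_hom {e : ℕ} {R : Type*} [CommRing R] (σ : R →+* R) (w w' : Fin e ⊕ Fin e → R) :
    Cfsg.sympForm e R (σ ∘ w) (σ ∘ w') = σ (Cfsg.sympForm e R w w') := by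
  simp [sympForm_sum, map_sum, map_sub, map_mul]

omit [Fintype F] in
theorem mem_sp_iff (x : GL (Fin d ⊕ Fin d) F) :
    x ∈ Cfsg.spGL d F ↔ x.1 ∈ Matrix.symplecticGroup (Fin d) F :=
  (ClassicalSp.mem_iff_preserves x.1).symm

omit [Fintype F] in
/-- Normalising a subalgebra, in one direction for a finite dimensional one. -/
theorem mem_of_commute {K : Subalgebra F (Matrix (Fin d ⊕ Fin d) (Fin d ⊕ Fin d) F)} {y : GL (Fin d ⊕ Fin d) F}
    (h : ∀ a ∈ K, a * y.1 = y.1 * a) : y ∈ Cfsg.Geo.subalgebraNormalizer K := by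
  intro a
  constructor
  · intro ha
    rwa [← h a ha, mul_assoc, Units.mul_inv, mul_one]
  · intro ha
    have e : a = (y⁻¹).1 * (y.1 * a * (y⁻¹).1) * y.1 := by simp [mul_assoc]
    rw [e, mul_assoc, h _ ha, ← mul_assoc, Units.inv_mul, one_mul]
    exact ha

omit [Fintype F] in
theorem rank_end (M : Matrix (Fin d ⊕ Fin d) (Fin d ⊕ Fin d) F) :
    finrank F (LinearMap.range (Matrix.toLinAlgEquiv' M - 1)) = (M - 1).rank := by
  rw [← map_one (Matrix.toLinAlgEquiv' (R := F) (n := Fin d ⊕ Fin d)), ← map_sub]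
  rfl

/-- Matrices with the same charpoly. -/
theorem charpoly_four (p : ℕ) [Fact p.Prime] [CharP F p] (hp : p ≠ 2) {x : GL (Fin 2 ⊕ Fin 2) F} (hx : x ∈ Cfsg.spGL 2 F)
    {z : F} (hz : x.1 * x.1 = z • 1) (hns : ∀ w : F, x.1 ≠ w • (1 : Matrix (Fin 2 ⊕ Fin 2) (Fin 2 ⊕ Fin 2) F)) :
    (z = 1 ∨ z = -1) ∧ x.1.charpoly = (Polynomial.X ^ 2 - Polynomial.C z) ^ 2 := by
  classical
  have h2 : (2 : F) ≠ 0 := Ring.two_ne_zero (by rw [ringChar.eq F p]; exact hp)
  have hxm : x.1 ∈ Matrix.symplecticGroup (Fin 2) F := (mem_sp_iff x).1 hx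
  let xs : Matrix.symplecticGroup (Fin 2) F := ⟨x.1, hxm⟩
  have hz2 : z * z = 1 := by
    have e : x.1 * x.1 ∈ Matrix.symplecticGroup (Fin 2) F := mul_mem hxm hxm
    rw [hz, SymplecticGroup.mem_iff,
      smul_mul_assoc, one_mul, transpose_smul, transpose_one, mul_smul_comm, mul_one, smul_smul] at e
    have := congrFun (congrFun e (Sum.inr 0)) (Sum.inl 0)
    simpa [Matrix.J] using this
  have hz1 : z = 1 ∨ z = -1 := mul_self_eq_one_iff.1 hz2
  refine ⟨hz1, ?_⟩
  obtain ⟨R, hR⟩ : ∃ e, e = Matrix.reindexAlgEquiv F F (finSumFinEquiv : Fin 2 ⊕ Fin 2 ≃ Fin (2 + 2)) := ⟨_, rfl⟩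
  have hch : (R x.1).charpoly = x.1.charpoly := by rw [hR, Matrix.coe_reindexAlgEquiv, Matrix.charpoly_reindex]
  have hRx : R x.1 * R x.1 = z • 1 := by rw [← map_mul, hz, map_smul, map_one]
  by_cases hzs : IsSquare z
  swap
  · obtain ⟨n, hn, hc⟩ := LBInvCl.charpoly_nonsquare hRx hzs
    rw [← hch, hc, show n = 2 by omega]
  obtain ⟨a, ha⟩ := hzs
  subst ha
  obtain ⟨n, hn, hc⟩ := LBInvCl.charpoly_square hRx
  rw [hch] at hc
  obtain ⟨hp0, hpal⟩ := SympClasses.charpoly_palindrome xs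
  have ha0 : a ≠ 0 := fun h => by rw [h] at hz2; simp at hz2
  have hnn : n = 2 := by
    have e0 : (x.1.charpoly).coeff 0 = 1 := hp0
    have e13 : (x.1.charpoly).coeff 3 = (x.1.charpoly).coeff 1 := hpal 1 (by omega)
    have hor : n = 0 ∨ n = 1 ∨ n = 2 ∨ n = 3 ∨ n = 4 := by omega
    have hscal : ∀ b : F, (b = a ∨ b = -a) → x.1.charpoly = (Polynomial.X - Polynomial.C b) ^ 4 → False := by
      intro b hb he
      rw [he] at e13
      simp only [sub_eq_add_neg, ← map_neg, Polynomial.coeff_X_add_C_pow, show Nat.choose 4 3 = 4 from rfl,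
        show Nat.choose 4 1 = 4 from rfl] at e13
      push_cast at e13
      norm_num at e13
      have h4 : (4 : F) ≠ 0 := by
        rw [show (4 : F) = 2 * 2 by norm_num]; exact mul_ne_zero h2 h2
      have hb2 : b * b = a * a := by rcases hb with rfl | rfl <;> ring
      have hb0 : b ≠ 0 := by rcases hb with rfl | rfl <;> simp [ha0]
      have : a * a = 1 := by
        rw [← hb2]
        have : (4 * b) * (b * b - 1) = 0 := by linear_combination e13
        exact sub_eq_zero.1 ((mul_eq_zero.1 this).resolve_left (mul_ne_zero h4 hb0))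
      have hbb : b * b = 1 := hb2.trans this
      -- `x` is conjugate to a scalar
      have hbm : (b • 1 : Matrix (Fin 2 ⊕ Fin 2) (Fin 2 ⊕ Fin 2) F) ∈ Matrix.symplecticGroup (Fin 2) F := by
        rw [SymplecticGroup.mem_iff, smul_mul_assoc, one_mul, transpose_smul, transpose_one, mul_smul_comm, mul_one, smul_smul, hbb, one_smul]
      have hord : ∀ w : Matrix.symplecticGroup (Fin 2) F, w.1 * w.1 = (a * a) • 1 → (orderOf w).Coprime p := by
        intro w hw
        refine Nat.Coprime.of_dvd_left (orderOf_dvd_of_pow_eq_one (n := 2) (Subtype.ext ?_)) ?_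
        · rw [SubmonoidClass.coe_pow, pow_two, hw, ‹a * a = 1›, one_smul]; rfl
        · exact (Nat.coprime_primes Nat.prime_two Fact.out).2 (Ne.symm hp)
      obtain ⟨Q, hQ⟩ := isConj_iff.1 (SympClasses.isConj_of_charpoly p ⟨_, hbm⟩ xs
        (hord _ (by rw [smul_mul_assoc, one_mul, smul_smul, hb2])) (hord _ hz) (by
          show (b • 1 : Matrix (Fin 2 ⊕ Fin 2) (Fin 2 ⊕ Fin 2) F).charpoly = x.1.charpoly
          rw [he, Matrix.smul_one_eq_diagonal, charpoly_diagonal]; simp))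
      refine hns b ?_
      have e := congrArg (fun g : Matrix.symplecticGroup (Fin 2) F => g.1) hQ
      simp only [Submonoid.coe_mul, mul_smul_comm, smul_mul_assoc, mul_one] at e
      rw [← Submonoid.coe_mul, mul_inv_cancel] at e
      exact e.symm
    have hodd : (-1 : F) ^ n = 1 := by
      have e := hc ▸ e0
      simp only [Polynomial.mul_coeff_zero, Polynomial.coeff_zero_eq_eval_zero, Polynomial.eval_pow, Polynomial.eval_mul,
        Polynomial.eval_sub, Polynomial.eval_X, Polynomial.eval_C, zero_sub, neg_neg] at e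
      rw [neg_pow, mul_assoc, ← pow_add, show n + (2 + 2 - n) = 2 * 2 by omega, pow_mul, pow_two, pow_two, hz2, mul_one] at e
      exact e
    rcases hor with rfl | rfl | rfl | rfl | rfl
    · exact (hscal (-a) (Or.inr rfl) (by rw [hc]; simp)).elim
    · exact absurd (by linear_combination -hodd) h2
    · rfl
    · exact absurd (by linear_combination -hodd) h2
    · exact (hscal a (Or.inl rfl) (by rw [hc]; simp)).elim
  rw [hc, hnn, map_mul, map_neg]
  norm_num
  ring

section field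

variable {K : Type*} [Field K] [Algebra F K] [FiniteDimensional F K] {e : ℕ}

omit [Fintype F] [FiniteDimensional F K] in
/-- Matrices over the scalars, as matrices over the ground field. -/
theorem exists_restrict (Φ : (Fin e ⊕ Fin e → K) ≃ₗ[F] (Fin d ⊕ Fin d → F)) :
    ∃ c : Matrix (Fin e ⊕ Fin e) (Fin e ⊕ Fin e) K →* Matrix (Fin d ⊕ Fin d) (Fin d ⊕ Fin d) F,
      (∀ M v, c M *ᵥ v = Φ (M *ᵥ Φ.symm v)) ∧ Function.Injective c := by
  obtain ⟨f, hf⟩ : ∃ f : Matrix (Fin e ⊕ Fin e) (Fin e ⊕ Fin e) K → Matrix (Fin d ⊕ Fin d) (Fin d ⊕ Fin d) F,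
      ∀ M v, f M *ᵥ v = Φ (M *ᵥ Φ.symm v) :=
    ⟨fun M => LinearMap.toMatrix' (Φ.toLinearMap.comp ((M.mulVecLin.restrictScalars F).comp Φ.symm.toLinearMap)),
      fun M v => by rw [← Matrix.toLin'_apply, Matrix.toLin'_toMatrix']; rfl⟩
  have hext : ∀ {A B : Matrix (Fin d ⊕ Fin d) (Fin d ⊕ Fin d) F}, (∀ v, A *ᵥ v = B *ᵥ v) → A = B :=
    fun h => Matrix.ext_of_mulVec_single fun i => h _
  have h1 : f 1 = 1 := hext fun v => by simp [hf]
  have hm : ∀ A B, f (A * B) = f A * f B := fun A B => hext fun v => by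
    rw [← mulVec_mulVec, hf, hf, hf, LinearEquiv.symm_apply_apply, mulVec_mulVec]
  refine ⟨{ toFun := f, map_one' := h1, map_mul' := hm }, hf, fun A B h => ?_⟩
  refine Matrix.ext_of_mulVec_single fun i => Φ.injective ?_
  have e := congrArg (fun M => M *ᵥ Φ (Pi.single i 1)) h
  simpa [hf] using e

end field

variable {K : Subalgebra F (Matrix (Fin d ⊕ Fin d) (Fin d ⊕ Fin d) F)}

omit [Fintype F] in
theorem subalgebra_isField (hd : 1 ≤ d) (hK : Cfsg.Geo.IsFieldSubalgebra k K) : IsField K := by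
  haveI : Nonempty (Fin d ⊕ Fin d) := ⟨Sum.inl ⟨0, hd⟩⟩
  refine ⟨⟨0, 1, ?_⟩, fun a b => Subtype.ext (hK.comm _ a.2 _ b.2), fun {a} ha => ?_⟩
  · exact fun h => zero_ne_one (congrArg Subtype.val h)
  · obtain ⟨b, hb, hab⟩ := hK.inv a.1 a.2 (fun h => ha (Subtype.ext h))
    exact ⟨⟨b, hb⟩, Subtype.ext hab⟩

/-- The prime divisors of the index. -/
theorem index_prime (p : ℕ) [Fact p.Prime] [CharP F p] (hk : k.Prime) {e : ℕ} (hde : d = k * e) (hr : r.Prime)
    {K' : Type*} [Field K'] [Finite K'] (hK' : Nat.card K' = Fintype.card F ^ k) {n : ℕ}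
    (hdvd : n * Nat.card (Matrix.symplecticGroup (Fin e) K') ∣ Nat.card (Matrix.symplecticGroup (Fin d) F)) (hrn : r ∣ n) :
    r = p ∨ ∃ i, 1 ≤ i ∧ i ≤ d ∧ ¬ k ∣ i ∧ r ∣ Fintype.card F ^ (2 * i) - 1 := by
  classical
  obtain ⟨q, hq⟩ : ∃ q, q = Fintype.card F := ⟨_, rfl⟩
  have hq2 : 2 ≤ q := hq ▸ Fintype.one_lt_card
  rw [ClassicalSp.card_sp, ClassicalSp.card_sp, hK', Nat.card_eq_fintype_card (α := F), ← hq] at hdvd
  have hprod : ∏ i ∈ Finset.range e, ((q ^ k) ^ (2 * (i + 1)) - 1)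
      = ∏ i ∈ (Finset.range d).filter (fun i => k ∣ i + 1), (q ^ (2 * (i + 1)) - 1) := by
    have hk0 := hk.pos
    refine Finset.prod_bij (fun i _ => k * (i + 1) - 1) (fun i hi => ?_) (fun a _ b _ h => ?_) (fun b hb => ?_) (fun i hi => ?_)
    · rw [Finset.mem_range] at hi
      have : k * (i + 1) ≤ k * e := Nat.mul_le_mul_left k hi
      have : 0 < k * (i + 1) := Nat.mul_pos hk0 (by omega)
      rw [Finset.mem_filter, Finset.mem_range, show k * (i + 1) - 1 + 1 = k * (i + 1) by omega]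
      exact ⟨by omega, dvd_mul_right _ _⟩
    · have : 0 < k * (a + 1) := Nat.mul_pos hk0 (by omega)
      have : 0 < k * (b + 1) := Nat.mul_pos hk0 (by omega)
      have h' : k * (a + 1) = k * (b + 1) := by omega
      have := Nat.eq_of_mul_eq_mul_left hk0 h'
      omega
    · rw [Finset.mem_filter, Finset.mem_range] at hb
      obtain ⟨hb1, c, hc⟩ := hb
      have hc0 : c ≠ 0 := fun h => by rw [h, mul_zero] at hc; omega
      refine ⟨c - 1, Finset.mem_range.2 ?_, ?_⟩
      · have : k * c ≤ k * e := by omega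
        have := Nat.le_of_mul_le_mul_left this hk0
        omega
      · show k * (c - 1 + 1) - 1 = b
        rw [show c - 1 + 1 = c by omega]; omega
    · have : 0 < k * (i + 1) := Nat.mul_pos hk0 (by omega)
      rw [← pow_mul, show k * (i + 1) - 1 + 1 = k * (i + 1) by omega]
      congr 2; ring
  rw [hprod, ← Finset.prod_filter_mul_prod_filter_not (Finset.range d) (fun i => k ∣ i + 1)
    (fun i => q ^ (2 * (i + 1)) - 1)] at hdvd
  obtain ⟨P, hP⟩ : ∃ P, P = ∏ i ∈ (Finset.range d).filter (fun i => k ∣ i + 1), (q ^ (2 * (i + 1)) - 1) := ⟨_, rfl⟩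
  rw [← hP] at hdvd
  have hP0 : 0 < P := hP ▸ Finset.prod_pos fun i _ => Nat.sub_pos_of_lt (Nat.one_lt_pow (by omega) (by omega))
  have h1 : n ∣ q ^ d ^ 2 * ∏ i ∈ (Finset.range d).filter (fun i => ¬ k ∣ i + 1), (q ^ (2 * (i + 1)) - 1) := by
    refine Nat.dvd_of_mul_dvd_mul_right hP0 ((Dvd.intro ((q ^ k) ^ e ^ 2) ?_).trans (hdvd.trans (dvd_of_eq ?_)))
    · ring
    · ring
  rcases hr.dvd_mul.1 (hrn.trans h1) with h | h
  · left
    obtain ⟨a, hp, ha⟩ := FiniteField.card F p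
    rw [hq, ha, ← pow_mul] at h
    exact (Nat.prime_dvd_prime_iff_eq hr hp).1 (hr.dvd_of_dvd_pow h)
  · obtain ⟨i, hi, hdi⟩ := (Prime.dvd_finset_prod_iff hr.prime _).1 h
    rw [Finset.mem_filter, Finset.mem_range] at hi
    exact Or.inr ⟨i + 1, by omega, hi.1, hi.2, hq ▸ hdi⟩

/-- Every derangement in the remaining cases. -/
theorem exists_derangement (p : ℕ) [Fact p.Prime] [CharP F p] (hd : 2 ≤ d) (hk : k.Prime)
    (hK : Cfsg.Geo.IsFieldSubalgebra k K)
    (hKf : Cfsg.Geo.IsSelfAdjointFor (Cfsg.sympForm d F) K) (hKalt : ∀ a ∈ K, ∀ v : Fin d ⊕ Fin d → F, Cfsg.sympForm d F (a *ᵥ v) v = 0)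
    [Fact r.Prime] (hΩ : r ∣ (Cfsg.Geo.subalgebraNormalizer K).relIndex (Cfsg.spGL d F))
    (hnot : ¬ (r = 2 ∧ d = 2 ∧ k = 2 ∧ r ≠ p)) :
    ∃ x ∈ Cfsg.spGL d F, x ^ r = 1 ∧
      (∀ z : F, x.1 ≠ z • (1 : Matrix (Fin d ⊕ Fin d) (Fin d ⊕ Fin d) F)) ∧
      ∀ g ∈ Cfsg.spGL d F, g⁻¹ * x * g ∉ Cfsg.Geo.subalgebraNormalizer K := by
  classical
  have hr : r.Prime := Fact.out
  have hp : p.Prime := Fact.out
  haveI : Nonempty (Fin d ⊕ Fin d) := ⟨Sum.inl ⟨0, by omega⟩⟩
  letI : Field K := (subalgebra_isField (by omega) hK).toField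
  haveI : Finite K := Finite.of_injective Subtype.val Subtype.val_injective
  haveI : FiniteDimensional F K := Module.Finite.of_finite
  let ρ : K →ₐ[F] Module.End F (Fin d ⊕ Fin d → F) := (Matrix.toLinAlgEquiv' (R := F) (n := Fin d ⊕ Fin d)).toAlgHom.comp K.val
  have hρ : ∀ (a : K) v, ρ a v = a.1 *ᵥ v := fun a v => rfl
  have hD : Data (ClassicalSp.spBilin d F) ρ := ⟨ClassicalSp.spBilin_isAlt, ClassicalSp.spBilin_nondeg,
    fun a u v => by rw [ClassicalSp.spBilin_apply, ClassicalSp.spBilin_apply, hρ, hρ]; exact hKf _ a.2 u v,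
    fun a v => by rw [ClassicalSp.spBilin_apply, hρ]; exact hKalt _ a.2 v⟩
  have hkK : finrank F K = k := hK.finrank_eq
  obtain ⟨ℓ, hℓ⟩ : ∃ ℓ : K →ₗ[F] F, ℓ ≠ 0 := ⟨Algebra.trace F K, Algebra.trace_ne_zero F K⟩
  obtain ⟨e, Φ, hΦ, hB⟩ := exists_basis hD ℓ hℓ
  have hde : d = k * e := by
    have := LinearEquiv.finrank_eq Φ
    rw [Module.finrank_pi_fintype, ClassicalSp.finrank_space] at this
    simp only [hkK, Finset.sum_const, Finset.card_univ, Fintype.card_sum, Fintype.card_fin, smul_eq_mul] at this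
    nlinarith
  -- the symplectic group over the field
  obtain ⟨c, hc, hcinj⟩ := exists_restrict Φ
  let G : Matrix.symplecticGroup (Fin e) K →* GL (Fin d ⊕ Fin d) F :=
    (Units.map c).comp ((Units.map (Submonoid.subtype _)).comp toUnits.toMonoidHom)
  have hG : ∀ M, (G M).1 = c M.1 := fun M => rfl
  have hGsp : ∀ M, G M ∈ Cfsg.spGL d F := fun M u v => by
    show Cfsg.sympForm d F ((G M).1 *ᵥ u) ((G M).1 *ᵥ v) = _
    rw [hG, hc, hc, ← ClassicalSp.spBilin_apply, hB, (ClassicalSp.mem_iff_preserves _).1 M.2, ← hB,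
      LinearEquiv.apply_symm_apply, LinearEquiv.apply_symm_apply, ClassicalSp.spBilin_apply]
  have hGN : ∀ M, G M ∈ Cfsg.Geo.subalgebraNormalizer K := fun M => mem_of_commute fun a ha => by
    refine Matrix.ext_of_mulVec_single fun i => ?_
    rw [← mulVec_mulVec, ← mulVec_mulVec, hG, hc, hc, ← hρ ⟨a, ha⟩, ← hρ ⟨a, ha⟩, ← hΦ, ← mulVec_smul]
    congr 2
    apply Φ.injective
    rw [hΦ, LinearEquiv.apply_symm_apply, LinearEquiv.apply_symm_apply]
  let G' : Matrix.symplecticGroup (Fin e) K →* ↥((Cfsg.Geo.subalgebraNormalizer K).subgroupOf (Cfsg.spGL d F)) :=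
    { toFun := fun M => ⟨⟨G M, hGsp M⟩, hGN M⟩
      map_one' := Subtype.ext (Subtype.ext (map_one G))
      map_mul' := fun A B => Subtype.ext (Subtype.ext (map_mul G A B)) }
  have hG' : Function.Injective G' := fun A B h => Subtype.ext (hcinj (congrArg (fun x => x.1.1.1) h))
  have hcard : Nat.card (Cfsg.spGL d F) = Nat.card (Matrix.symplecticGroup (Fin d) F) := Nat.card_congr
    { toFun := fun g => ⟨g.1.1, (mem_sp_iff g.1).1 g.2⟩
      invFun := fun A => ⟨GeneralLinearGroup.mkOfDetNeZero A.1 (SymplecticGroup.symplectic_det A.2).ne_zero,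
        (mem_sp_iff _).2 A.2⟩
      left_inv := fun g => Subtype.ext (Units.ext rfl)
      right_inv := fun A => Subtype.ext rfl }
  have hcases := index_prime p hk hde hr (by rw [Module.natCard_eq_pow_finrank (K := F), hkK, Nat.card_eq_fintype_card])
    (n := (Cfsg.Geo.subalgebraNormalizer K).relIndex (Cfsg.spGL d F)) (K' := K) (by
      rw [← hcard, ← Subgroup.card_mul_index ((Cfsg.Geo.subalgebraNormalizer K).subgroupOf (Cfsg.spGL d F)), mul_comm]
      exact mul_dvd_mul_right (Subgroup.card_dvd_of_injective G' hG') _) hΩ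
  -- elements with moved space of given dimension
  have key : ∀ (X : Matrix (Fin d ⊕ Fin d) (Fin d ⊕ Fin d) F) (m : ℕ), X ∈ Matrix.symplecticGroup (Fin d) F → X ^ r = 1 →
      (X - 1).rank = m → 0 < m → m < 2 * d → (m = 1 ∨ (r ≠ p ∧ ¬ 2 * k ∣ m)) → (r = k → m < d) →
      ∃ x ∈ Cfsg.spGL d F, x ^ r = 1 ∧
      (∀ z : F, x.1 ≠ z • (1 : Matrix (Fin d ⊕ Fin d) (Fin d ⊕ Fin d) F)) ∧
      ∀ g ∈ Cfsg.spGL d F, g⁻¹ * x * g ∉ Cfsg.Geo.subalgebraNormalizer K := by
    intro X m hX hXr hm hm0 hm2 hc1 hc2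
    obtain ⟨x, hx⟩ : ∃ x : GL (Fin d ⊕ Fin d) F, x.1 = X :=
      ⟨GeneralLinearGroup.mkOfDetNeZero X (SymplecticGroup.symplectic_det hX).ne_zero, rfl⟩
    have hxs : x ∈ Cfsg.spGL d F := (mem_sp_iff x).2 (hx ▸ hX)
    have hxr : x ^ r = 1 := Units.ext (by rw [Units.val_pow_eq_pow_val, hx, hXr]; rfl)
    refine ⟨x, hxs, hxr, fun z hz => ?_, fun g hg hgN => ?_⟩
    · rw [hx] at hz
      rw [hz] at hm
      rcases eq_or_ne z 1 with rfl | hz1
      · rw [one_smul, sub_self, Matrix.rank_zero] at hm; omega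
      · rw [show z • (1 : Matrix (Fin d ⊕ Fin d) (Fin d ⊕ Fin d) F) - 1 = (z - 1) • 1 by rw [sub_smul, one_smul],
          Matrix.rank_of_isUnit _ (by
            rw [Matrix.isUnit_iff_isUnit_det, Matrix.det_smul, Matrix.det_one, mul_one]
            exact (pow_ne_zero _ (sub_ne_zero.2 hz1)).isUnit)] at hm
        simp at hm; omega
    obtain ⟨y, hy⟩ : ∃ y, y = g⁻¹ * x * g := ⟨_, rfl⟩
    rw [← hy] at hgN
    have hys : y ∈ Cfsg.spGL d F := hy ▸ mul_mem (mul_mem (inv_mem hg) hxs) hg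
    have hyr : y ^ r = 1 := by
      have : ∀ n : ℕ, y ^ n = g⁻¹ * x ^ n * g := by
        intro n
        induction n with
        | zero => simp
        | succ n ih => rw [pow_succ, pow_succ, ih, hy]; group
      rw [this, hxr, mul_one, inv_mul_cancel]
    have hym : (y.1 - 1).rank = m := by
      rw [← hm, ← hx, show y.1 - 1 = (g⁻¹).1 * (x.1 - 1) * g.1 by
        rw [mul_sub, sub_mul, mul_one, Units.inv_mul, hy]; rfl]
      rw [Matrix.rank_mul_eq_left_of_isUnit_det _ _ ((Matrix.isUnit_iff_isUnit_det _).1 g.isUnit),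
        Matrix.rank_mul_eq_right_of_isUnit_det _ _ ((Matrix.isUnit_iff_isUnit_det _).1 g⁻¹.isUnit)]
    obtain ⟨T, hT⟩ : ∃ T, T = Matrix.toLinAlgEquiv' y.1 := ⟨_, rfl⟩
    have hTrank : finrank F (LinearMap.range (T - 1)) = m := by rw [hT, rank_end, hym]
    by_cases hcom : ∀ a : K, a.1 * y.1 = y.1 * a.1
    · have hTcom : ∀ a, ρ a * T = T * ρ a := fun a => by
        rw [hT]
        show Matrix.toLinAlgEquiv' a.1 * _ = _ * Matrix.toLinAlgEquiv' a.1
        rw [← map_mul, ← map_mul, hcom]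
      rcases hc1 with h | ⟨hrp, h⟩
      · exact rank_ne_one (hkK.symm ▸ hk.two_le) hTcom (h ▸ hTrank)
      refine h ?_
      have hTB : ∀ u v, ClassicalSp.spBilin d F (T u) (T v) = ClassicalSp.spBilin d F u v := fun u v => by
        rw [ClassicalSp.spBilin_apply, ClassicalSp.spBilin_apply, hT]
        exact hys u v
      have := moved_dvd hD hTB (by rw [hT, ← map_pow, ← Units.val_pow_eq_pow_val, hyr, Units.val_one, map_one])
        (LBRootPoly.cast_ne_zero' p hr hrp) hTcom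
      rwa [hkK, hTrank] at this
    push Not at hcom
    obtain ⟨a, ha⟩ := hcom
    let σ : K ≃ₐ[F] K :=
      { toFun := fun b => ⟨y.1 * b.1 * (y⁻¹).1, (hgN b.1).1 b.2⟩
        invFun := fun b => ⟨(y⁻¹).1 * b.1 * y.1, by
          have := ((inv_mem hgN : y⁻¹ ∈ Cfsg.Geo.subalgebraNormalizer K) b.1).1 b.2
          rwa [inv_inv] at this⟩
        left_inv := fun b => Subtype.ext (by simp [mul_assoc])
        right_inv := fun b => Subtype.ext (by simp [mul_assoc])
        map_mul' := fun b b' => Subtype.ext (by simp [mul_assoc])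
        map_add' := fun b b' => Subtype.ext (by simp [mul_add, add_mul])
        commutes' := fun t => Subtype.ext (by simp [Algebra.algebraMap_eq_smul_one]) }
    have hσ : ∀ b, (σ b).1 = y.1 * b.1 * (y⁻¹).1 := fun b => rfl
    have hne : σ a ≠ a := fun h => ha (by
      have e := congrArg (fun b : K => b.1 * y.1) h
      simp only [hσ, mul_assoc, Units.inv_mul, mul_one] at e
      exact e.symm)
    have hfix : 2 * finrank F (LinearMap.ker (T - 1)) ≤ finrank F (Fin d ⊕ Fin d → F) := fix_le hD hne (by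
      rw [hT]
      show _ * Matrix.toLinAlgEquiv' a.1 = Matrix.toLinAlgEquiv' (σ a).1 * _
      rw [← map_mul, ← map_mul, hσ, mul_assoc (y.1 * a.1), Units.inv_mul, mul_one])
    have hrk : r = k := by
      have hpow : ∀ (n : ℕ) (b : K), ((σ ^ n) b).1 = (y ^ n).1 * b.1 * ((y ^ n)⁻¹).1 := by
        intro n
        induction n with
        | zero => simp
        | succ n ih =>
          intro b
          rw [pow_succ', AlgEquiv.mul_apply, hσ, ih, pow_succ' y, _root_.mul_inv_rev, Units.val_mul, Units.val_mul]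
          simp only [mul_assoc]
      have hσr : σ ^ r = 1 := AlgEquiv.ext fun b => Subtype.ext (by rw [hpow, hyr]; simp)
      have hor : orderOf σ = r := orderOf_eq_prime hσr fun h => hne (by rw [h]; rfl)
      haveI : IsGalois F K := inferInstance
      have hd' := orderOf_dvd_natCard σ
      rw [hor, IsGalois.card_aut_eq_finrank, hkK] at hd'
      exact (Nat.prime_dvd_prime_iff_eq hr hk).1 hd'
    have := hc2 hrk
    have h1 := LinearMap.finrank_range_add_finrank_ker (T - 1)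
    rw [hTrank, ClassicalSp.finrank_space] at h1
    rw [ClassicalSp.finrank_space] at hfix
    omega
  -- choice of the element
  by_cases hrp : r = p
  · subst hrp
    obtain ⟨X, hX, hXr, hXm⟩ := exists_transvection (F := F) (d := d) (by omega) r
    exact key X 1 hX hXr hXm one_pos (by omega) (Or.inl rfl) (fun _ => by omega)
  obtain ⟨i, hi1, hi2, hki, hri⟩ := hcases.resolve_left hrp
  have hkd : k ∣ d := ⟨e, hde⟩
  rcases eq_or_ne r 2 with hr2 | hr2
  · subst hr2
    obtain ⟨c', hc'⟩ : ∃ c', d = 1 + c' := ⟨d - 1, by omega⟩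
    subst hc'
    obtain ⟨X, hX, hXr, hXm⟩ := exists_embed (r := 2) (c := c') (-1 : Matrix (Fin 1 ⊕ Fin 1) (Fin 1 ⊕ Fin 1) F)
      (SymplecticGroup.neg_mem (one_mem _)) (by rw [neg_one_sq]) (by
        rw [show (-1 - 1 : Matrix (Fin 1 ⊕ Fin 1) (Fin 1 ⊕ Fin 1) F) = (-(2 : F)) • 1 by
          rw [neg_smul, two_smul]; abel, Matrix.det_smul, Matrix.det_one, mul_one]
        refine pow_ne_zero _ (neg_ne_zero.2 (Ring.two_ne_zero ?_))
        rw [ringChar.eq F p]
        exact Ne.symm hrp)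
    have hk2 : ¬ 2 * k ∣ 2 * 1 := fun h => by
      have := Nat.le_of_dvd (by norm_num) h
      have := hk.two_le
      omega
    refine key X 2 hX hXr (by omega) two_pos (by omega) (Or.inr ⟨hrp, by simpa using hk2⟩) (fun h2k => ?_)
    have : ¬ (1 + c' = 2) := fun hd2 => hnot ⟨rfl, hd2, h2k.symm, hrp⟩
    omega
  obtain ⟨i0, hi0⟩ : ∃ i0, i0 = orderOf (Fintype.card F : ZMod r) := ⟨_, rfl⟩
  have hpow : (Fintype.card F : ZMod r) ^ (2 * i) = 1 := by
    have h1 : 1 ≤ Fintype.card F ^ (2 * i) := Nat.one_le_pow _ _ Fintype.card_pos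
    have := (ZMod.natCast_eq_zero_iff _ _).2 hri
    rw [Nat.cast_sub h1, Nat.cast_pow, Nat.cast_one, sub_eq_zero] at this
    exact this
  have hdvd : i0 ∣ 2 * i := hi0 ▸ orderOf_dvd_of_pow_eq_one hpow
  have hi0pos : 0 < i0 := Nat.pos_of_ne_zero fun h => by rw [h, zero_dvd_iff] at hdvd; omega
  obtain ⟨j, hij, hji⟩ : ∃ j, ((Odd i0 ∧ j = i0) ∨ i0 = 2 * j) ∧ j ∣ i := by
    rcases Nat.even_or_odd i0 with ⟨t, ht⟩ | ho
    · exact ⟨t, Or.inr (by omega), Nat.dvd_of_mul_dvd_mul_left two_pos (by rwa [show 2 * t = i0 by omega])⟩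
    · exact ⟨i0, Or.inl ⟨ho, rfl⟩, ho.coprime_two_right.dvd_of_dvd_mul_left hdvd⟩
  have hjd : j ≤ d := (Nat.le_of_dvd (by omega) hji).trans hi2
  have hj0 : 0 < j := by rcases hij with ⟨-, h⟩ | h <;> omega
  have hjk : ¬ k ∣ j := fun h => hki (h.trans hji)
  have hjd' : j ≠ d := fun h => hjk (h ▸ hkd)
  obtain ⟨A, hA, hAr, hAd⟩ := exists_fpf (F := F) (r := r) p hr2 hrp hi0 hij
  obtain ⟨c', hc'⟩ : ∃ c', d = j + c' := ⟨d - j, by omega⟩
  subst hc'
  obtain ⟨X, hX, hXr, hXm⟩ := exists_embed (c := c') A hA hAr hAd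
  have hle : r = k → 2 * j < j + c' := fun hrk => by
    have hz : (Fintype.card F : ZMod r) ≠ 0 := fun h => by
      rw [h, zero_pow (by omega)] at hpow; exact zero_ne_one hpow
    have h1 := Nat.le_of_dvd (by have := hr.two_le; omega) (hi0 ▸ ZMod.orderOf_dvd_card_sub_one hz : i0 ∣ r - 1)
    have h2 : i0 ∣ r - 1 := hi0 ▸ ZMod.orderOf_dvd_card_sub_one hz
    have hkle : k ≤ j + c' := Nat.le_of_dvd (by omega) hkd
    rcases hij with ⟨ho, rfl⟩ | h
    · obtain ⟨t, ht⟩ : Even (r - 1) := (hr.odd_of_ne_two hr2).tsub_odd odd_one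
      have : j ∣ t := ho.coprime_two_right.dvd_of_dvd_mul_left (show j ∣ 2 * t by rwa [two_mul, ← ht])
      have := Nat.le_of_dvd (by have := hr.two_le; omega) this
      omega
    · omega
  refine key X (2 * j) hX hXr hXm (by omega) (by omega)
    (Or.inr ⟨hrp, fun h => hjk (Nat.dvd_of_mul_dvd_mul_left two_pos h)⟩) hle

/-- The involutions of `PSp_4`. -/
theorem exists_conj_normalizes (p : ℕ) [Fact p.Prime] [CharP F p] (hp : p ≠ 2)
    {K : Subalgebra F (Matrix (Fin 2 ⊕ Fin 2) (Fin 2 ⊕ Fin 2) F)} (hK : Cfsg.Geo.IsFieldSubalgebra 2 K)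
    (hKf : Cfsg.Geo.IsSelfAdjointFor (Cfsg.sympForm 2 F) K) (hKalt : ∀ a ∈ K, ∀ v : Fin 2 ⊕ Fin 2 → F, Cfsg.sympForm 2 F (a *ᵥ v) v = 0)
    (x : GL (Fin 2 ⊕ Fin 2) F) (hx : x ∈ Cfsg.spGL 2 F) {z : F} (hz : x.1 * x.1 = z • 1)
    (hns : ∀ w : F, x.1 ≠ w • (1 : Matrix (Fin 2 ⊕ Fin 2) (Fin 2 ⊕ Fin 2) F)) :
    ∃ g ∈ Cfsg.spGL 2 F, g⁻¹ * x * g ∈ Cfsg.Geo.subalgebraNormalizer K := by
  classical
  have h2 : (2 : F) ≠ 0 := Ring.two_ne_zero (by rw [ringChar.eq F p]; exact hp)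
  letI : Field K := (subalgebra_isField (d := 2) (by omega) hK).toField
  haveI : Finite K := Finite.of_injective Subtype.val Subtype.val_injective
  haveI : FiniteDimensional F K := Module.Finite.of_finite
  let ρ : K →ₐ[F] Module.End F (Fin 2 ⊕ Fin 2 → F) := (Matrix.toLinAlgEquiv' (R := F) (n := Fin 2 ⊕ Fin 2)).toAlgHom.comp K.val
  have hρ : ∀ (a : K) v, ρ a v = a.1 *ᵥ v := fun a v => rfl
  have hD : Data (ClassicalSp.spBilin 2 F) ρ := ⟨ClassicalSp.spBilin_isAlt, ClassicalSp.spBilin_nondeg,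
    fun a u v => by rw [ClassicalSp.spBilin_apply, ClassicalSp.spBilin_apply, hρ, hρ]; exact hKf _ a.2 u v,
    fun a v => by rw [ClassicalSp.spBilin_apply, hρ]; exact hKalt _ a.2 v⟩
  have hkK : finrank F K = 2 := hK.finrank_eq
  obtain ⟨ℓ, hℓ⟩ : ∃ ℓ : K →ₗ[F] F, ℓ = Algebra.trace F K := ⟨_, rfl⟩
  obtain ⟨e, Φ, hΦ, hB⟩ := exists_basis hD ℓ (hℓ ▸ Algebra.trace_ne_zero F K)
  -- a normalising element of the same charpoly
  obtain ⟨hz1, hch⟩ := charpoly_four p hp hx hz hns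
  obtain ⟨y, hys, hyN, hyz, hyns⟩ : ∃ y : GL (Fin 2 ⊕ Fin 2) F, y ∈ Cfsg.spGL 2 F ∧ y ∈ Cfsg.Geo.subalgebraNormalizer K ∧
      y.1 * y.1 = z • 1 ∧ ∀ w : F, y.1 ≠ w • (1 : Matrix (Fin 2 ⊕ Fin 2) (Fin 2 ⊕ Fin 2) F) := by
    rcases hz1 with rfl | rfl
    · haveI : IsGalois F K := inferInstance
      obtain ⟨σ, hσ⟩ : ∃ σ : K ≃ₐ[F] K, σ ≠ 1 := by
        have h := IsGalois.card_aut_eq_finrank F K
        rw [hkK] at h
        haveI : Finite (K ≃ₐ[F] K) := Nat.finite_of_card_ne_zero (by omega)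
        haveI : Nontrivial (K ≃ₐ[F] K) := Finite.one_lt_card_iff_nontrivial.1 (by omega)
        exact exists_ne 1
      have hσσ : ∀ b, σ (σ b) = b := fun b => by
        have h := pow_card_eq_one' (x := σ)
        rw [IsGalois.card_aut_eq_finrank, hkK, pow_two] at h
        exact AlgEquiv.congr_fun h b
      obtain ⟨a, ha⟩ : ∃ a, σ a ≠ a := by
        by_contra h; push Not at h; exact hσ (AlgEquiv.ext h)
      let L : (Fin 2 ⊕ Fin 2 → F) →ₗ[F] (Fin 2 ⊕ Fin 2 → F) :=
        Φ.toLinearMap.comp ((σ.toLinearMap.compLeft (Fin e ⊕ Fin e)).comp Φ.symm.toLinearMap)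
      obtain ⟨Y, hY⟩ : ∃ Y, Y = LinearMap.toMatrix' L := ⟨_, rfl⟩
      have hYv : ∀ v, Y *ᵥ v = Φ (σ ∘ Φ.symm v) := fun v => by
        rw [hY, ← Matrix.toLin'_apply, Matrix.toLin'_toMatrix']; rfl
      have hext : ∀ {A B : Matrix (Fin 2 ⊕ Fin 2) (Fin 2 ⊕ Fin 2) F}, (∀ v, A *ᵥ v = B *ᵥ v) → A = B :=
        fun h => Matrix.ext_of_mulVec_single fun i => h _
      have hYY : Y * Y = 1 := hext fun v => by
        rw [← mulVec_mulVec, hYv, hYv, one_mulVec, LinearEquiv.symm_apply_apply]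
        conv_rhs => rw [← Φ.apply_symm_apply v]
        congr 1; funext i; exact hσσ _
      have hYa : ∀ b : K, Y * b.1 = (σ b).1 * Y := fun b => hext fun v => by
        rw [← mulVec_mulVec, ← mulVec_mulVec, hYv, hYv, ← hρ, ← hρ, ← hΦ]
        congr 1
        rw [show Φ.symm (ρ b v) = b • Φ.symm v by apply Φ.injective; rw [hΦ, Φ.apply_symm_apply, Φ.apply_symm_apply]]
        funext i; simp
      refine ⟨⟨Y, Y, hYY, hYY⟩, ?_, ?_, ?_, ?_⟩
      · intro u v
        show Cfsg.sympForm 2 F (Y *ᵥ u) (Y *ᵥ v) = _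
        rw [hYv, hYv, ← ClassicalSp.spBilin_apply, hB, hℓ, show (σ : K → K) = ((σ : K ≃ₐ[F] K).toRingEquiv.toRingHom : K → K) from rfl,
          sympForm_hom, show ((σ : K ≃ₐ[F] K).toRingEquiv.toRingHom : K → K) = σ from rfl, Algebra.trace_eq_of_algEquiv,
          ← hℓ, ← hB, LinearEquiv.apply_symm_apply, LinearEquiv.apply_symm_apply, ClassicalSp.spBilin_apply]
      · intro b
        constructor
        · intro hb
          show Y * b * Y ∈ K
          rw [hYa ⟨b, hb⟩, mul_assoc, hYY, mul_one]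
          exact (σ ⟨b, hb⟩).2
        · intro hb
          change Y * b * Y ∈ K at hb
          have := (σ ⟨_, hb⟩).2
          have e1 := hYa ⟨_, hb⟩
          simp only [← mul_assoc, hYY, one_mul] at e1
          have e2 : b = (σ ⟨_, hb⟩).1 := by
            calc b = b * (Y * Y) := by rw [hYY, mul_one]
              _ = (σ ⟨_, hb⟩).1 * (Y * Y) := by rw [← mul_assoc, e1, mul_assoc]
              _ = _ := by rw [hYY, mul_one]
          rw [e2]; exact this
      · show Y * Y = _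
        rw [hYY, one_smul]
      · intro w hw
        change Y = _ at hw
        refine ha (Subtype.ext ?_)
        have e1 := hYa a
        rw [hw, smul_mul_assoc, one_mul, mul_smul_comm, mul_one] at e1
        have hw0 : w ≠ 0 := fun h => by rw [hw, h, zero_smul, zero_mul] at hYY; exact zero_ne_one hYY
        exact (smul_right_injective _ hw0 e1).symm
    · obtain ⟨c, hc, hcinj⟩ := exists_restrict Φ
      have hJJ : c (Matrix.J (Fin e) K) * c (Matrix.J (Fin e) K) = -1 := by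
        rw [← map_mul, J_squared]
        exact Matrix.ext_of_mulVec_single fun i => by rw [hc, neg_mulVec, one_mulVec, map_neg, Φ.apply_symm_apply, neg_mulVec, one_mulVec]
      have hext : ∀ {A B : Matrix (Fin 2 ⊕ Fin 2) (Fin 2 ⊕ Fin 2) F}, (∀ v, A *ᵥ v = B *ᵥ v) → A = B :=
        fun h => Matrix.ext_of_mulVec_single fun i => h _
      refine ⟨⟨c (Matrix.J (Fin e) K), -c (Matrix.J (Fin e) K), by rw [mul_neg, hJJ, neg_neg],
        by rw [neg_mul, hJJ, neg_neg]⟩, ?_, mem_of_commute fun a ha => hext fun v => ?_, ?_, ?_⟩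
      · intro u v
        show Cfsg.sympForm 2 F (c _ *ᵥ u) (c _ *ᵥ v) = _
        rw [hc, hc, ← ClassicalSp.spBilin_apply, hB, (ClassicalSp.mem_iff_preserves _).1 (SymplecticGroup.J_mem _ _), ← hB,
          LinearEquiv.apply_symm_apply, LinearEquiv.apply_symm_apply, ClassicalSp.spBilin_apply]
      · show (a * c _) *ᵥ v = (c _ * a) *ᵥ v
        rw [← mulVec_mulVec, ← mulVec_mulVec, hc, hc, ← hρ ⟨a, ha⟩, ← hρ ⟨a, ha⟩, ← hΦ, ← mulVec_smul]
        congr 2
        apply Φ.injective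
        rw [hΦ, LinearEquiv.apply_symm_apply, LinearEquiv.apply_symm_apply]
      · show c _ * c _ = _
        rw [hJJ, neg_one_smul]
      · intro w hw
        change c (Matrix.J (Fin e) K) = _ at hw
        have hJw : Matrix.J (Fin e) K = algebraMap F K w • 1 := Matrix.ext_of_mulVec_single fun i => Φ.injective (by
          have e1 := congrArg (fun M => M *ᵥ Φ (Pi.single i 1)) hw
          simp only [hc, LinearEquiv.symm_apply_apply, smul_mulVec, one_mulVec] at e1
          rw [e1, smul_mulVec, one_mulVec, ← map_smul, algebraMap_smul])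
        rcases Nat.eq_zero_or_pos e with he | he
        · have := LinearEquiv.finrank_eq Φ
          subst he
          rw [Module.finrank_zero_of_subsingleton, ClassicalSp.finrank_space] at this
          omega
        · have := congrFun (congrFun hJw (Sum.inr ⟨0, he⟩)) (Sum.inl ⟨0, he⟩)
          simp [Matrix.J] at this
  obtain ⟨-, hchy⟩ := charpoly_four p hp hys hyz hyns
  have hord : ∀ w : Matrix.symplecticGroup (Fin 2) F, w.1 * w.1 = z • 1 → (orderOf w).Coprime p := by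
    intro w hw
    have h4 : w ^ 4 = 1 := Subtype.ext (by
      rw [SubmonoidClass.coe_pow, show (4 : ℕ) = 2 * 2 from rfl, pow_mul, pow_two, pow_two, hw, smul_mul_assoc, one_mul, smul_smul]
      rcases hz1 with rfl | rfl <;> simp <;> rfl)
    refine Nat.Coprime.of_dvd_left (orderOf_dvd_of_pow_eq_one h4) ?_
    rw [show (4 : ℕ) = 2 ^ 2 from rfl]
    exact Nat.Coprime.pow_left 2 ((Nat.coprime_primes Nat.prime_two Fact.out).2 (Ne.symm hp))
  obtain ⟨Q, hQ⟩ := isConj_iff.1 (SympClasses.isConj_of_charpoly p ⟨y.1, (mem_sp_iff y).1 hys⟩ ⟨x.1, (mem_sp_iff x).1 hx⟩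
    (hord _ hyz) (hord _ hz) (hchy.trans hch.symm))
  let toG : Matrix.symplecticGroup (Fin 2) F →* GL (Fin 2 ⊕ Fin 2) F :=
    (Units.map (Submonoid.subtype _)).comp toUnits.toMonoidHom
  have hQ' := congrArg toG hQ
  rw [map_mul, map_mul, map_inv, show toG ⟨y.1, _⟩ = y from Units.ext rfl, show toG ⟨x.1, _⟩ = x from Units.ext rfl] at hQ'
  refine ⟨toG Q, (mem_sp_iff _).2 Q.2, ?_⟩
  rw [← hQ']
  simpa [mul_assoc] using hyN

end Cfsg.Agent.LBSpExt
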