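/-
The number of involution classes of Sp_2m in characteristic two.
-/
import Cfsg.Agent.Lib.LinearBlock.SpInvolutionClasses

set_option autoImplicit false
set_option linter.all false

namespace Cfsg.Agent.SpInvCount

open Matrix

variable {F : Type*} [Field F] [Fintype F] [CharP F 2] {m : ℕ}

local notation "VV" => Fin m ⊕ Fin m → F

/-- The alternating type. -/
def Alt (a : symplecticGroup (Fin m) F) : Prop :=
  ∀ v : VV, Cfsg.sympForm m F v ((a : Matrix (Fin m ⊕ Fin m) (Fin m ⊕ Fin m) F) *ᵥ v) = 0

theorem alt_iff (a : symplecticGroup (Fin m) F) :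
    Alt a ↔ ∀ v : VV, ClassicalSp.spBilin m F v (SpInv.nilPart a v) = 0 := by
  refine forall_congr' fun v => ?_
  rw [SpInv.nilPart_apply, map_sub, ClassicalSp.spBilin_isAlt.self_eq_zero, sub_zero, ClassicalSp.spBilin_apply]

theorem card_zero_of_not_alt (a : symplecticGroup (Fin m) F) (ha : a ^ 2 = 1) (h : ¬ Alt a) :
    Nat.card {v : VV // Cfsg.sympForm m F v ((a : Matrix (Fin m ⊕ Fin m) (Fin m ⊕ Fin m) F) *ᵥ v) = 0} * Nat.card F =
      Nat.card VV := by
  have hN := SpInv.nilPart_isNil a ha
  let φ : VV →+ F := AddMonoidHom.mk' (fun v => ClassicalSp.spBilin m F v (SpInv.nilPart a v)) fun v w => by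
    simp only [map_add, LinearMap.add_apply]
    linear_combination SpInv.beta_symm (ClassicalSp.spBilin_isAlt) hN w v +
      CharTwo.add_self_eq_zero (ClassicalSp.spBilin m F v (SpInv.nilPart a w))
  obtain ⟨v, hv⟩ := not_forall.1 (fun h' => h ((alt_iff a).2 h'))
  have hsurj : Function.Surjective φ := fun c => by
    obtain ⟨t, ht⟩ := SpInv.exists_sqrt (c / φ v)
    refine ⟨t • v, ?_⟩
    show ClassicalSp.spBilin m F (t • v) (SpInv.nilPart a (t • v)) = c
    rw [map_smul, map_smul, LinearMap.smul_apply, map_smul, smul_eq_mul, smul_eq_mul, ← mul_assoc, ht]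
    exact div_mul_cancel₀ c hv
  have h1 := AddSubgroup.card_mul_index φ.ker
  rw [AddSubgroup.index_ker, AddMonoidHom.range_eq_top.2 hsurj, AddSubgroup.card_top] at h1
  rw [← h1]
  congr 1
  refine Nat.card_congr (Equiv.subtypeEquivRight fun w => ?_)
  rw [AddMonoidHom.mem_ker]
  show _ ↔ ClassicalSp.spBilin m F w (SpInv.nilPart a w) = 0
  rw [SpInv.nilPart_apply, map_sub, ClassicalSp.spBilin_isAlt.self_eq_zero, sub_zero, ClassicalSp.spBilin_apply]

theorem isConj_of (a b : symplecticGroup (Fin m) F) (ha : a ^ 2 = 1) (hb : b ^ 2 = 1)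
    (hr : ((a : Matrix (Fin m ⊕ Fin m) (Fin m ⊕ Fin m) F) - 1).rank = ((b : Matrix (Fin m ⊕ Fin m) (Fin m ⊕ Fin m) F) - 1).rank)
    (halt : Even ((a : Matrix (Fin m ⊕ Fin m) (Fin m ⊕ Fin m) F) - 1).rank → (Alt a ↔ Alt b)) : IsConj a b := by
  refine (SpInv.isConj_iff_invariants a b ha hb).2 ⟨hr, fun he => ?_⟩
  by_cases h : Alt a
  · exact (Nat.card_congr (Equiv.subtypeUnivEquiv h)).trans
      (Nat.card_congr (Equiv.subtypeUnivEquiv ((halt he).1 h))).symm
  · exact Nat.eq_of_mul_eq_mul_right (Nat.card_pos (α := F))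
      ((card_zero_of_not_alt a ha h).trans (card_zero_of_not_alt b hb fun hb' => h ((halt he).2 hb')).symm)

/-- The element `[[1, D], [0, 1]]`. -/
theorem exists_block (D : Matrix (Fin m) (Fin m) F) (hD : Dᵀ = D) :
    ∃ a : symplecticGroup (Fin m) F, a ^ 2 = 1 ∧ ((a : Matrix (Fin m ⊕ Fin m) (Fin m ⊕ Fin m) F) - 1).rank = D.rank ∧
      (Alt a ↔ ∀ i, D i i = 0) := by
  classical
  have hmem : fromBlocks 1 D 0 1 ∈ symplecticGroup (Fin m) F := by
    rw [SymplecticGroup.mem_iff]
    simp [J, fromBlocks_multiply, fromBlocks_transpose, hD]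
    try abel
  have h2 : (⟨_, hmem⟩ : symplecticGroup (Fin m) F) ^ 2 = 1 := by
    refine Subtype.ext ?_
    rw [SubmonoidClass.coe_pow, pow_two]
    show fromBlocks 1 D 0 1 * fromBlocks 1 D 0 1 = 1
    rw [fromBlocks_multiply, ← fromBlocks_one]
    simp only [Matrix.mul_one, Matrix.one_mul, Matrix.mul_zero, Matrix.zero_mul, add_zero, zero_add]
    rw [show D + D = 0 by ext i j; exact CharTwo.add_self_eq_zero _]
  refine ⟨⟨_, hmem⟩, h2, ?_, ?_⟩
  · show (fromBlocks 1 D 0 1 - 1).rank = _
    rw [← fromBlocks_one, sub_eq_add_neg, fromBlocks_neg, fromBlocks_add]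
    simp only [add_neg_cancel, neg_zero, add_zero]
    simp only [Matrix.rank]
    let ι : (Fin m → F) →ₗ[F] VV :=
      { toFun := fun x => Sum.elim x 0
        map_add' := fun x y => by funext i; rcases i with i | i <;> simp
        map_smul' := fun c x => by funext i; rcases i with i | i <;> simp }
    have hι : Function.Injective ι := fun x y h => funext fun i => congrFun h (Sum.inl i)
    have hrange : LinearMap.range (fromBlocks 0 D 0 0 : Matrix (Fin m ⊕ Fin m) (Fin m ⊕ Fin m) F).mulVecLin = (LinearMap.range D.mulVecLin).map ι := by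
      ext w
      simp only [LinearMap.mem_range, Submodule.mem_map, Matrix.mulVecLin_apply]
      constructor
      · rintro ⟨v, rfl⟩
        exact ⟨_, ⟨v ∘ Sum.inr, rfl⟩, by simp [ι, fromBlocks_mulVec]⟩
      · rintro ⟨_, ⟨u, rfl⟩, rfl⟩
        exact ⟨Sum.elim 0 u, by simp [ι, fromBlocks_mulVec]⟩
    rw [hrange]
    exact (Submodule.equivMapOfInjective ι hι _).symm.finrank_eq
  · have key : ∀ v : VV, Cfsg.sympForm m F v (fromBlocks 1 D 0 1 *ᵥ v) = (v ∘ Sum.inr) ⬝ᵥ (D *ᵥ (v ∘ Sum.inr)) := by
      intro v
      simp only [ClassicalSp.sympForm_eq, J, fromBlocks_mulVec, dotProduct, Fintype.sum_sum_type, Sum.elim_inl, Sum.elim_inr,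
        zero_mulVec, neg_mulVec, one_mulVec, zero_add, Pi.add_apply, Pi.neg_apply, Function.comp_apply, mul_add, mul_neg,
        add_zero, Sum.elim_comp_inl, Sum.elim_comp_inr]
      rw [Finset.sum_add_distrib, Finset.sum_neg_distrib, CharTwo.neg_eq, ← add_assoc,
        show ∀ (f g : Fin m → F), (∀ i, f i = g i) → ∑ i, f i + ∑ i, g i = 0 from fun f g h => by
          rw [Finset.sum_congr rfl fun i _ => h i, CharTwo.add_self_eq_zero], zero_add]
      exact fun i => mul_comm _ _
    constructor
    · intro h i
      have := h (Sum.elim 0 (Pi.single i 1))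
      rw [show (⟨_, hmem⟩ : symplecticGroup (Fin m) F).1 = fromBlocks 1 D 0 1 from rfl, key, Sum.elim_comp_inr] at this
      simpa [single_one_dotProduct, mulVec_single_one] using this
    · intro h v
      show Cfsg.sympForm m F v (fromBlocks 1 D 0 1 *ᵥ v) = 0
      rw [key]
      simp only [dotProduct, mulVec, Finset.mul_sum]
      rw [← Finset.sum_product']
      refine Finset.sum_ninvolution (fun x => (x.2, x.1)) (fun x => ?_) (fun x hx => ?_) (fun x => Finset.mem_univ _)
        (fun x => rfl)
      · have e := congrFun (congrFun hD x.1) x.2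
        rw [transpose_apply] at e
        dsimp only
        rw [e, show (v ∘ Sum.inr) x.2 * (D x.1 x.2 * (v ∘ Sum.inr) x.1) = (v ∘ Sum.inr) x.1 * (D x.1 x.2 * (v ∘ Sum.inr) x.2) by ring,
          CharTwo.add_self_eq_zero]
      · intro e
        obtain ⟨i, j⟩ := x
        simp only [Prod.mk.injEq] at e
        obtain ⟨rfl, -⟩ := e
        exact hx (by simp [h])

theorem card_classes (hm : 1 ≤ m) :
    Nat.card {C : ConjClasses ↥(symplecticGroup (Fin m) F) //
      ∃ g : symplecticGroup (Fin m) F, ConjClasses.mk g = C ∧ orderOf g = 2} = m + m / 2 := by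
  classical
  haveI : Fact (Nat.Prime 2) := ⟨Nat.prime_two⟩
  have hex : ∀ x : Fin m ⊕ Fin (m / 2), ∃ a : symplecticGroup (Fin m) F, a ^ 2 = 1 ∧
      ((a : Matrix (Fin m ⊕ Fin m) (Fin m ⊕ Fin m) F) - 1).rank = Sum.elim (fun i => i.1 + 1) (fun j => 2 * (j.1 + 1)) x ∧
      (Alt a ↔ x.isRight = true) := by
    rintro (i | j)
    · obtain ⟨a, ha, hr, halt⟩ := exists_block (F := F) (diagonal fun l : Fin m => if l.1 < i.1 + 1 then (1 : F) else 0)
        (diagonal_transpose _)
      refine ⟨a, ha, ?_, ?_⟩
      · rw [hr, rank_diagonal]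
        refine (Fintype.card_congr ?_).trans (Fintype.card_fin (i.1 + 1))
        exact
          { toFun := fun l => ⟨l.1.1, by by_contra hlt; exact l.2 (if_neg hlt)⟩
            invFun := fun l => ⟨⟨l.1, by omega⟩, by simp [show l.1 < i.1 + 1 from l.2]⟩
            left_inv := fun l => rfl
            right_inv := fun l => rfl }
      · rw [halt]
        simp only [Sum.isRight_inl, Bool.false_eq_true, iff_false]
        intro h
        have := h ⟨0, by omega⟩
        rw [diagonal_apply_eq, if_pos (Nat.succ_pos _)] at this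
        exact one_ne_zero this
    · let π : Fin m → Fin m := fun l =>
        if h : l.1 < 2 * (j.1 + 1) then (if h2 : l.1 % 2 = 0 then ⟨l.1 + 1, by omega⟩ else ⟨l.1 - 1, by omega⟩) else l
      have hval : ∀ l : Fin m, (π l).1 =
          if l.1 < 2 * (j.1 + 1) then (if l.1 % 2 = 0 then l.1 + 1 else l.1 - 1) else l.1 := fun l => by
        simp only [π]; split_ifs <;> rfl
      have hπ : Function.Involutive π := fun l => by
        apply Fin.ext
        rw [hval, hval]
        by_cases h1 : l.1 < 2 * (j.1 + 1)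
        · by_cases h2 : l.1 % 2 = 0
          · simp only [if_pos h1, if_pos h2]; rw [if_pos (by omega), if_neg (by omega)]; omega
          · simp only [if_pos h1, if_neg h2]; rw [if_pos (by omega), if_pos (by omega)]; omega
        · simp only [if_neg h1]
      have hlt : ∀ l : Fin m, l.1 < 2 * (j.1 + 1) → (π l).1 < 2 * (j.1 + 1) ∧ π l ≠ l := fun l h => by
        simp only [π, dif_pos h]
        split_ifs with h2 <;> refine ⟨by simp only; omega, fun e => ?_⟩ <;>
          have := congrArg Fin.val e <;> simp only at this <;> omega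
      let d : Fin m → F := fun l => if l.1 < 2 * (j.1 + 1) then 1 else 0
      obtain ⟨a, ha, hr, halt⟩ := exists_block (F := F) ((diagonal d).submatrix (Equiv.refl _) hπ.toPerm) (by
        ext k l
        simp only [transpose_apply, submatrix_apply, Equiv.refl_apply, diagonal_apply, Function.Involutive.coe_toPerm]
        by_cases h : k = π l
        · subst h
          rw [hπ, if_pos rfl, if_pos rfl]
          simp only [d]
          by_cases h' : l.1 < 2 * (j.1 + 1)
          · rw [if_pos h', if_pos (hlt l h').1]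
          · have : π l = l := by simp only [π]; rw [dif_neg h']
            rw [this]
        · rw [if_neg h, if_neg fun e => h (by rw [e, hπ])])
      refine ⟨a, ha, ?_, ?_⟩
      · rw [hr, rank_submatrix, rank_diagonal]
        refine (Fintype.card_congr ?_).trans (Fintype.card_fin (2 * (j.1 + 1)))
        exact
          { toFun := fun l => ⟨l.1.1, by by_contra hlt; exact l.2 (if_neg hlt)⟩
            invFun := fun l => ⟨⟨l.1, by omega⟩, by simp [d, show l.1 < 2 * (j.1 + 1) from l.2]⟩
            left_inv := fun l => rfl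
            right_inv := fun l => rfl }
      · rw [halt]
        simp only [Sum.isRight_inr, iff_true]
        intro l
        simp only [submatrix_apply, Equiv.refl_apply, diagonal_apply, Function.Involutive.coe_toPerm]
        split_ifs with h
        · simp only [d]
          by_cases h' : l.1 < 2 * (j.1 + 1)
          · exact absurd h.symm (hlt l h').2
          · rw [if_neg h']
        · rfl
  choose rep hrep2 hrepr hrepa using hex
  have hord : ∀ x, orderOf (rep x) = 2 := fun x => by
    refine orderOf_eq_prime (hrep2 x) fun e => ?_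
    have h := hrepr x
    rw [e, Submonoid.coe_one, sub_self, rank_zero] at h
    rcases x with i | j <;> simp only [Sum.elim_inl, Sum.elim_inr] at h <;> omega
  have hb : Function.Bijective (fun x =>
      (⟨ConjClasses.mk (rep x), rep x, rfl, hord x⟩ : {C : ConjClasses ↥(symplecticGroup (Fin m) F) //
        ∃ g : symplecticGroup (Fin m) F, ConjClasses.mk g = C ∧ orderOf g = 2})) := by
    constructor
    · intro x y h
      have hc := ConjClasses.mk_eq_mk_iff_isConj.1 (congrArg Subtype.val h)
      obtain ⟨hr, hcard⟩ := (SpInv.isConj_iff_invariants _ _ (hrep2 x) (hrep2 y)).1 hc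
      rw [hrepr, hrepr] at hr
      have hiff : Even ((rep x : Matrix (Fin m ⊕ Fin m) (Fin m ⊕ Fin m) F) - 1).rank → (Alt (rep x) ↔ Alt (rep y)) := fun he => by
        have hF : 1 < Nat.card F := Finite.one_lt_card
        constructor <;> intro hx <;> by_contra hy
        · have := (Nat.card_congr (Equiv.subtypeUnivEquiv hx)).symm.trans (hcard he)
          have h2 := card_zero_of_not_alt _ (hrep2 y) hy
          rw [← this] at h2
          have hV : 0 < Nat.card VV := Nat.card_pos
          nlinarith
        · have := (Nat.card_congr (Equiv.subtypeUnivEquiv hx)).symm.trans (hcard he).symm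
          have h2 := card_zero_of_not_alt _ (hrep2 x) hy
          rw [← this] at h2
          have hV : 0 < Nat.card VV := Nat.card_pos
          nlinarith
      rw [hrepr, hrepa, hrepa] at hiff
      rcases x with i | i <;> rcases y with j | j <;> simp only [Sum.elim_inl, Sum.elim_inr] at hr hiff
      · exact congrArg Sum.inl (Fin.ext (by omega))
      · exact absurd ((hiff ⟨j.1 + 1, by omega⟩).2 rfl) (by simp)
      · exact absurd ((hiff ⟨i.1 + 1, by omega⟩).1 rfl) (by simp)
      · exact congrArg Sum.inr (Fin.ext (by omega))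
    · rintro ⟨C, g, rfl, hg⟩
      have hg2 : g ^ 2 = 1 := hg ▸ pow_orderOf_eq_one g
      obtain ⟨s, hs⟩ : ∃ s, s = ((g : Matrix (Fin m ⊕ Fin m) (Fin m ⊕ Fin m) F) - 1).rank := ⟨_, rfl⟩
      have hsm : s ≤ m := by
        have hle : LinearMap.range (SpInv.nilPart g) ≤ LinearMap.ker (SpInv.nilPart g) := by
          rintro _ ⟨v, rfl⟩
          exact LinearMap.mem_ker.2 ((SpInv.nilPart_isNil g hg2).sq v)
        have h1 := Submodule.finrank_mono hle
        have h2 := LinearMap.finrank_range_add_finrank_ker (SpInv.nilPart g)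
        rw [ClassicalSp.finrank_space] at h2
        have : s = Module.finrank F (LinearMap.range (SpInv.nilPart g)) := hs
        omega
      have hs1 : 1 ≤ s := by
        refine Nat.pos_of_ne_zero fun e => ?_
        have h0 : LinearMap.range (SpInv.nilPart g) = ⊥ := Submodule.finrank_eq_zero.1 (hs.symm.trans e)
        have : g = 1 := Subtype.ext (Matrix.toLin'.injective (LinearMap.ext fun v => by
          have := LinearMap.congr_fun (LinearMap.range_eq_bot.1 h0) v
          rw [SpInv.nilPart_apply, LinearMap.zero_apply, sub_eq_zero] at this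
          simpa using this))
        rw [this, orderOf_one] at hg
        omega
      by_cases h : Even s ∧ Alt g
      · obtain ⟨⟨k, hk⟩, halt⟩ := h
        refine ⟨Sum.inr ⟨k - 1, by omega⟩, Subtype.ext (ConjClasses.mk_eq_mk_iff_isConj.2 (isConj_of _ _ (hrep2 _) hg2 ?_ fun _ => ?_))⟩
        · rw [hrepr, ← hs]; simp only [Sum.elim_inr]; omega
        · rw [hrepa]; simp [halt]
      · refine ⟨Sum.inl ⟨s - 1, by omega⟩, Subtype.ext (ConjClasses.mk_eq_mk_iff_isConj.2 (isConj_of _ _ (hrep2 _) hg2 ?_ fun he => ?_))⟩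
        · rw [hrepr, ← hs]; simp only [Sum.elim_inl]; omega
        · rw [hrepr] at he
          simp only [Sum.elim_inl, show s - 1 + 1 = s by omega] at he
          rw [hrepa]
          simp only [Sum.isRight_inl, Bool.false_eq_true, false_iff]
          exact fun ha => h ⟨he, ha⟩
  rw [← Nat.card_eq_of_bijective _ hb, Nat.card_sum, Nat.card_fin, Nat.card_fin]

end Cfsg.Agent.SpInvCount
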