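/-
The centralizer of a fixed-point-free element of order three in a symplectic group over a field without
primitive cube roots of unity is a unitary group.
-/
import Cfsg.Agent.Lib.Classical.HermStd
import Mathlib

set_option autoImplicit false
set_option linter.all false

namespace Cfsg.Agent.LBSpThree

open Matrix Module

theorem card_centralizer {F : Type*} [Field F] [Fintype F] {q : ℕ} (hF : Fintype.card F = q) (hq : q % 3 = 2) {m : ℕ}
    (x : Matrix.symplecticGroup (Fin m) F) (hx3 : x ^ 3 = 1)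
    (hfpf : IsUnit ((x : Matrix (Fin m ⊕ Fin m) (Fin m ⊕ Fin m) F) - 1)) :
    Nat.card ↥(Subgroup.centralizer ({x} : Set ↥(Matrix.symplecticGroup (Fin m) F))) =
      q ^ (m * (m - 1) / 2) * ∏ i ∈ Finset.range m, (if Even i then q ^ (i + 1) + 1 else q ^ (i + 1) - 1) := by
  classical
  have hq1 : 1 < q := by omega
  haveI hfact : Fact (∀ r : F, r ^ 2 ≠ (-1 : F) + (-1) * r) := ⟨fun t ht => by
    have h3 : t ^ 3 = 1 := by linear_combination (t - 1) * ht
    have ht0 : t ≠ 0 := fun e => by rw [e] at h3; simp at h3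
    have hp := FiniteField.pow_card_sub_one_eq_one t ht0
    rw [hF] at hp
    have h1 : t = 1 := by
      have e := pow_gcd_eq_one.2 ⟨h3, hp⟩
      have : Nat.gcd 3 (q - 1) = 1 := by
        refine (Nat.Prime.coprime_iff_not_dvd Nat.prime_three).2 ?_
        omega
      rwa [this, pow_one] at e
    subst h1
    have h30 : ((3 : ℕ) : F) = 0 := by push_cast; linear_combination ht
    obtain ⟨p, hp'⟩ := CharP.exists F
    haveI := hp'
    obtain ⟨n, hpp, hn⟩ := FiniteField.card F p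
    rw [CharP.cast_eq_zero_iff F p] at h30
    have hp3 : p = 3 := (Nat.prime_dvd_prime_iff_eq hpp Nat.prime_three).1 h30
    subst hp3
    rw [hF] at hn
    have : 3 ∣ q := hn ▸ dvd_pow_self 3 n.pos.ne'
    omega⟩
  let K := QuadraticAlgebra F (-1 : F) (-1)
  haveI : Finite K := Module.finite_of_finite F
  obtain ⟨M, hMdef⟩ : ∃ M, M = (x : Matrix (Fin m ⊕ Fin m) (Fin m ⊕ Fin m) F) := ⟨_, rfl⟩
  have hM3 : M ^ 3 = 1 := by rw [hMdef, ← SubmonoidClass.coe_pow, hx3]; rfl
  have hM2 : M * M + M + 1 = 0 := by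
    have e : (M - 1) * (M * M + M + 1) = 0 := by
      have : (M - 1) * (M * M + M + 1) = M ^ 3 - 1 := by noncomm_ring
      rw [this, hM3, sub_self]
    rw [hMdef] at e ⊢
    exact hfpf.mul_right_eq_zero.1 e
  let T : Module.End F (Fin m ⊕ Fin m → F) := Matrix.toLin' M
  have hT : T * T = (-1 : F) • 1 + (-1 : F) • T := by
    show Matrix.toLin' M ∘ₗ Matrix.toLin' M = _
    rw [← Matrix.toLin'_mul, show M * M = (-1 : F) • (1 : Matrix (Fin m ⊕ Fin m) (Fin m ⊕ Fin m) F) + (-1 : F) • M by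
      rw [neg_one_smul, neg_one_smul, ← neg_add, eq_neg_iff_add_eq_zero, ← hM2]; abel,
      map_add, map_smul, map_smul, Matrix.toLin'_one]
    rfl
  let ρ : K →ₐ[F] Module.End F (Fin m ⊕ Fin m → F) := QuadraticAlgebra.lift ⟨T, hT⟩
  letI iM : Module K (Fin m ⊕ Fin m → F) := Module.compHom _ ρ.toRingHom
  have hsmul : ∀ (c : K) v, c • v = c.re • v + c.im • (M *ᵥ v) := fun c v => rfl
  haveI : IsScalarTower F K (Fin m ⊕ Fin m → F) := ⟨fun a c v => by
    rw [hsmul, hsmul, QuadraticAlgebra.re_smul, QuadraticAlgebra.im_smul, smul_add, smul_smul, smul_smul, smul_eq_mul,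
      smul_eq_mul]⟩
  haveI : Module.Finite K (Fin m ⊕ Fin m → F) := Module.Finite.of_restrictScalars_finite F K _
  have hdim : finrank K (Fin m ⊕ Fin m → F) = m := by
    have := Module.finrank_mul_finrank F K (Fin m ⊕ Fin m → F)
    rw [QuadraticAlgebra.finrank_eq_two, finrank_fintype_fun_eq_card] at this
    simp at this
    omega
  let σ : K →+* K := starRingEnd K
  have hne : σ ≠ RingHom.id K := fun e => by
    have := congrArg QuadraticAlgebra.im (RingHom.congr_fun e (QuadraticAlgebra.omega : K))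
    change -(1 : F) = 1 at this
    have := congrArg QuadraticAlgebra.re (RingHom.congr_fun e (QuadraticAlgebra.omega : K))
    change (0 : F) + -1 * 1 = 0 at this
    exact one_ne_zero (by linear_combination -this)
  have hinv : ∀ a, σ (σ a) = a := fun a => star_star a
  have hcK : Fintype.card F ^ 2 = Nat.card K := by
    rw [Module.natCard_eq_pow_finrank (K := F) (V := K), QuadraticAlgebra.finrank_eq_two, Nat.card_eq_fintype_card]
  have hfix : Nat.card (Hermitian.fixed σ) = q := by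
    have := Hermitian.card_eq_sq hne hinv
    rw [← hcK, hF] at this
    exact (Nat.pow_left_injective two_ne_zero this).symm
  have hσq : ∀ a, σ a = a ^ q := fun a => by rw [Hermitian.apply_eq_pow hne hinv a, hfix]
  -- the alternating form
  let B : (Fin m ⊕ Fin m → F) → (Fin m ⊕ Fin m → F) → F := fun u v => u ⬝ᵥ (Matrix.J (Fin m) F *ᵥ v)
  have hB : ∀ (A : Matrix.symplecticGroup (Fin m) F) u v, B ((A : Matrix (Fin m ⊕ Fin m) (Fin m ⊕ Fin m) F) *ᵥ u) ((A : Matrix (Fin m ⊕ Fin m) (Fin m ⊕ Fin m) F) *ᵥ v) = B u v := by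
    intro A u v
    show _ ⬝ᵥ _ = _ ⬝ᵥ _
    have e : ∀ w, ((A : Matrix (Fin m ⊕ Fin m) (Fin m ⊕ Fin m) F) *ᵥ u) ⬝ᵥ w = u ⬝ᵥ ((A : Matrix (Fin m ⊕ Fin m) (Fin m ⊕ Fin m) F)ᵀ *ᵥ w) := fun w => by
      rw [mulVec_transpose, dotProduct_comm u, ← dotProduct_mulVec, dotProduct_comm]
    rw [e, mulVec_mulVec, mulVec_mulVec, SymplecticGroup.mem_iff'.1 A.2]
  have hBadd : ∀ u v w, B (u + v) w = B u w + B v w := fun u v w => add_dotProduct u v _
  have hBsmul : ∀ (a : F) u w, B (a • u) w = a * B u w := fun a u w => smul_dotProduct a u _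
  have hBskew : ∀ u v, B v u = -B u v := fun u v => by
    show v ⬝ᵥ (_ *ᵥ u) = -(u ⬝ᵥ (_ *ᵥ v))
    rw [Matrix.dotProduct_mulVec, dotProduct_comm, ← mulVec_transpose, Matrix.J_transpose, neg_mulVec, dotProduct_neg]
  have hMM : ∀ v, M *ᵥ (M *ᵥ v) = -v - M *ᵥ v := fun v => by
    rw [mulVec_mulVec, show M * M = -1 - M by linear_combination (norm := abel) hM2, sub_mulVec, neg_mulVec, one_mulVec]
  have hBM : ∀ u v, B u (M *ᵥ v) = -B u v - B (M *ᵥ u) v := by
    intro u v
    have h1 := hB x (M *ᵥ (M *ᵥ u)) v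
    rw [← hMdef, show M *ᵥ (M *ᵥ (M *ᵥ u)) = u by rw [mulVec_mulVec, mulVec_mulVec, show M * M * M = M ^ 3 by rw [pow_succ, pow_two], hM3, one_mulVec]] at h1
    rw [h1, hMM, sub_eq_add_neg, hBadd, ← neg_one_smul F u, ← neg_one_smul F (M *ᵥ u), hBsmul, hBsmul]
    ring
  let h : (Fin m ⊕ Fin m → F) → (Fin m ⊕ Fin m → F) → K := fun u v => ⟨B (M *ᵥ u) v + B u v, B u v⟩
  have k1 : ∀ a b : K, (a + b).re = a.re + b.re := fun a b => QuadraticAlgebra.re_add a b
  have k2 : ∀ a b : K, (a + b).im = a.im + b.im := fun a b => QuadraticAlgebra.im_add a b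
  have k3 : ∀ a b : K, (a * b).re = a.re * b.re + (-1 : F) * a.im * b.im := fun a b => QuadraticAlgebra.re_mul a b
  have k4 : ∀ a b : K, (a * b).im = a.re * b.im + a.im * b.re + (-1 : F) * a.im * b.im := fun a b => QuadraticAlgebra.im_mul a b
  have hh : Hermitian.IsHerm σ h := by
    refine ⟨hne, hinv, fun u v w => ?_, fun c u w => ?_, fun v w => ?_, fun v hv => ?_⟩
    · ext <;> simp only [h, mulVec_add, hBadd, k1, k2] <;> ring
    · rw [hsmul]
      ext <;> simp only [h, mulVec_add, mulVec_smul, hMM, hBadd, hBsmul, sub_eq_add_neg, k3, k4,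
        ← neg_one_smul F u, ← neg_one_smul F (M *ᵥ u)] <;> ring
    · show (⟨B (M *ᵥ w) v + B w v, B w v⟩ : K) = star (⟨B (M *ᵥ v) w + B v w, B v w⟩ : K)
      ext
      · rw [QuadraticAlgebra.re_star, hBskew v (M *ᵥ w), hBM, hBskew v w]
        ring
      · rw [QuadraticAlgebra.im_star]
        exact hBskew v w
    · funext j
      have e : ∀ w, B v w = 0 := fun w => congrArg QuadraticAlgebra.im (hv w)
      have e2 : Matrix.J (Fin m) F *ᵥ v = 0 := funext fun a => by
        have := e (Pi.single a 1)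
        rw [hBskew] at this
        simpa [B, single_dotProduct] using neg_eq_zero.1 this
      have hu : IsUnit (Matrix.J (Fin m) F) := (isUnit_iff_isUnit_det _).2 (Matrix.isUnit_det_J (Fin m) F)
      exact congrFun (mulVec_injective_iff_isUnit.2 hu (e2.trans (mulVec_zero _).symm)) j
  obtain ⟨b, hb⟩ := Hermitian.exists_orthonormal hh hdim
  have hli : LinearIndependent K b := hh.linearIndependent_of_gram (hh.orthonormal_gram hb)
  let ψ : (Fin m → K) ≃ₗ[K] (Fin m ⊕ Fin m → F) :=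
    (basisOfLinearIndependentOfCardEqFinrank' b hli (by rw [hdim, Fintype.card_fin])).equivFun.symm
  have hψ : ∀ u v, h (ψ u) (ψ v) = Cfsg.hermForm m K q u v := by
    intro u v
    simp only [ψ, Basis.equivFun_symm_apply, coe_basisOfLinearIndependentOfCardEqFinrank']
    rw [hh.sum_left]
    refine Finset.sum_congr rfl fun i _ => ?_
    rw [hh.smul_left, hh.symm, hh.sum_left, map_sum, Finset.sum_eq_single i]
    · rw [hh.smul_left, map_mul, ← hh.symm, hb, if_pos rfl, mul_one, hσq]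
    · intro j _ hj
      rw [hh.smul_left, map_mul, ← hh.symm, hb, if_neg (Ne.symm hj), mul_zero]
    · exact fun e => absurd (Finset.mem_univ i) e
  -- from the centralizer to the unitary group
  have hlin : ∀ g : ↥(Subgroup.centralizer ({x} : Set ↥(Matrix.symplecticGroup (Fin m) F))), ∀ (c : K) v,
      ((g.1 : Matrix.symplecticGroup (Fin m) F) : Matrix (Fin m ⊕ Fin m) (Fin m ⊕ Fin m) F) *ᵥ (c • v) =
        c • (((g.1 : Matrix.symplecticGroup (Fin m) F) : Matrix (Fin m ⊕ Fin m) (Fin m ⊕ Fin m) F) *ᵥ v) := by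
    intro g c v
    have e : ((g.1 : Matrix.symplecticGroup (Fin m) F) : Matrix (Fin m ⊕ Fin m) (Fin m ⊕ Fin m) F) * M = M * ((g.1 : Matrix.symplecticGroup (Fin m) F) : Matrix (Fin m ⊕ Fin m) (Fin m ⊕ Fin m) F) := by
      rw [hMdef, ← Submonoid.coe_mul, ← Submonoid.coe_mul]
      exact congrArg Subtype.val (Subgroup.mem_centralizer_iff.1 g.2 x rfl).symm
    rw [hsmul, hsmul, mulVec_add, mulVec_smul, mulVec_smul, mulVec_mulVec, e, ← mulVec_mulVec]
  let L : ↥(Subgroup.centralizer ({x} : Set ↥(Matrix.symplecticGroup (Fin m) F))) → ((Fin m → K) →ₗ[K] (Fin m → K)) :=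
    fun g => ψ.symm.toLinearMap ∘ₗ
      { toFun := fun v => ((g.1 : Matrix.symplecticGroup (Fin m) F) : Matrix (Fin m ⊕ Fin m) (Fin m ⊕ Fin m) F) *ᵥ v
        map_add' := fun u v => mulVec_add _ u v
        map_smul' := hlin g } ∘ₗ ψ.toLinearMap
  have hLapp : ∀ g u, ψ (L g u) = ((g.1 : Matrix.symplecticGroup (Fin m) F) : Matrix (Fin m ⊕ Fin m) (Fin m ⊕ Fin m) F) *ᵥ ψ u := fun g u =>
    ψ.apply_symm_apply _
  have hLp : ∀ g u v, Cfsg.hermForm m K q (L g u) (L g v) = Cfsg.hermForm m K q u v := by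
    intro g u v
    rw [← hψ, ← hψ, hLapp, hLapp]
    have e : ∀ a, M *ᵥ (((g.1 : Matrix.symplecticGroup (Fin m) F) : Matrix (Fin m ⊕ Fin m) (Fin m ⊕ Fin m) F) *ᵥ a) =
        ((g.1 : Matrix.symplecticGroup (Fin m) F) : Matrix (Fin m ⊕ Fin m) (Fin m ⊕ Fin m) F) *ᵥ (M *ᵥ a) := by
      intro a
      have := hlin g QuadraticAlgebra.omega a
      rw [hsmul, hsmul, QuadraticAlgebra.omega_re, QuadraticAlgebra.omega_im, zero_smul, zero_smul, zero_add, zero_add, one_smul,
        one_smul] at this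
      exact this.symm
    simp only [h, e, hB]
  have hLd : ∀ g, (LinearMap.toMatrix' (L g)).det ≠ 0 := by
    intro g
    rw [LinearMap.det_toMatrix']
    refine fun h0 => LinearMap.det_eq_zero_iff_ker_ne_bot.1 h0 (LinearMap.ker_eq_bot.2 fun u v e => ψ.injective ?_)
    have hinj : Function.Injective (fun a => ((g.1 : Matrix.symplecticGroup (Fin m) F) : Matrix (Fin m ⊕ Fin m) (Fin m ⊕ Fin m) F) *ᵥ a) :=
      mulVec_injective_iff_isUnit.2 ((isUnit_iff_isUnit_det _).2 (SymplecticGroup.symplectic_det g.1.2))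
    exact hinj (show _ *ᵥ ψ u = _ *ᵥ ψ v by rw [← hLapp, ← hLapp, e])
  letI : Fintype K := Fintype.ofFinite K
  rw [← HermStd.card_GU (F := K) hne hinv hσq m hfix]
  refine Nat.card_eq_of_bijective (fun g => ⟨GeneralLinearGroup.mkOfDetNeZero _ (hLd g), fun u v => ?_⟩) ⟨?_, ?_⟩
  · show Cfsg.hermForm m K q (LinearMap.toMatrix' (L g) *ᵥ u) (LinearMap.toMatrix' (L g) *ᵥ v) = _
    rw [LinearMap.toMatrix'_mulVec, LinearMap.toMatrix'_mulVec, hLp]
  · intro g g' e
    have e' : L g = L g' := LinearMap.toMatrix'.injective (congrArg (fun y => y.1.1) e)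
    refine Subtype.ext (Subtype.ext (Matrix.toLin'.injective (LinearMap.ext fun v => ?_)))
    rw [toLin'_apply, toLin'_apply, ← ψ.apply_symm_apply v, ← hLapp, ← hLapp, e']
  · rintro ⟨U, hU⟩
    let A : (Fin m ⊕ Fin m → F) →ₗ[F] (Fin m ⊕ Fin m → F) :=
      (ψ.toLinearMap ∘ₗ (Matrix.toLin' U.1) ∘ₗ ψ.symm.toLinearMap).restrictScalars F
    have hA : ∀ v, A v = ψ (U.1 *ᵥ ψ.symm v) := fun v => rfl
    have hAh : ∀ u v, h (A u) (A v) = h u v := by
      intro u v
      rw [hA, hA, hψ, (show Cfsg.hermForm m K q (U.1 *ᵥ ψ.symm u) (U.1 *ᵥ ψ.symm v) = _ from hU _ _), ← hψ, LinearEquiv.apply_symm_apply, LinearEquiv.apply_symm_apply]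
    have hAB : ∀ u v, B (A u) (A v) = B u v := fun u v => congrArg QuadraticAlgebra.im (hAh u v)
    have hAmem : LinearMap.toMatrix' A ∈ Matrix.symplecticGroup (Fin m) F := by
      rw [SymplecticGroup.mem_iff']
      ext i j
      have := hAB (Pi.single i 1) (Pi.single j 1)
      rw [← LinearMap.toMatrix'_mulVec, ← LinearMap.toMatrix'_mulVec] at this
      simp only [B, mulVec_single_one, mulVec_mulVec, dotProduct, Matrix.col_apply] at this
      rw [mul_assoc, Matrix.mul_apply]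
      simpa [Matrix.transpose_apply, Matrix.mul_apply, Matrix.mulVec, dotProduct, Pi.single_apply] using this
    have hAM : ∀ v, A (M *ᵥ v) = M *ᵥ A v := by
      intro v
      have hc : ∀ w, M *ᵥ w = (QuadraticAlgebra.omega : K) • w := fun w => by
        rw [hsmul, QuadraticAlgebra.omega_re, QuadraticAlgebra.omega_im, zero_smul, zero_add, one_smul]
      rw [hc, hc, hA, hA, map_smul, mulVec_smul, map_smul]
    have hcen : (⟨_, hAmem⟩ : Matrix.symplecticGroup (Fin m) F) ∈ Subgroup.centralizer ({x} : Set _) := by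
      rw [Subgroup.mem_centralizer_singleton_iff]
      refine Subtype.ext (Matrix.toLin'.injective (LinearMap.ext fun v => ?_))
      rw [Submonoid.coe_mul, Submonoid.coe_mul, toLin'_apply, toLin'_apply, ← mulVec_mulVec, ← mulVec_mulVec, ← hMdef,
        LinearMap.toMatrix'_mulVec, LinearMap.toMatrix'_mulVec, hAM]
    refine ⟨⟨_, hcen⟩, Subtype.ext (Units.ext ?_)⟩
    show LinearMap.toMatrix' (L ⟨_, hcen⟩) = U.1
    rw [← LinearMap.toMatrix'_toLin' U.1]
    congr 1
    refine LinearMap.ext fun u => ψ.injective ?_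
    rw [hLapp]
    show LinearMap.toMatrix' A *ᵥ ψ u = _
    rw [LinearMap.toMatrix'_mulVec, hA, LinearEquiv.symm_apply_apply, toLin'_apply]

end Cfsg.Agent.LBSpThree
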