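/-
A solvable group with element orders 1, 2, 3, 4, 5, 6, 9, 12.
-/
import Mathlib

set_option autoImplicit false
set_option linter.all false

namespace Cfsg.Agent.LBSpecW

variable {K : Type*} [Field K] [CharP K 3]

/-- A group of nilpotency class three and exponent nine. -/
@[ext] structure A (K : Type*) where
  a : K
  b : K
  p : K
  q : K
  r : K
  s : K
  w : K

namespace A

instance : Mul (A K) :=
  ⟨fun x y => ⟨x.a + y.a, x.b + y.b, x.p + y.p + x.a * y.b ^ 3, x.q + y.q + x.b ^ 3 * y.b ^ 9,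
    x.r + y.r + x.a ^ 9 * y.b ^ 3, x.s + y.s + x.b ^ 3 * y.b,
    x.w + y.w + (x.a * y.q + x.p * y.b ^ 9) - (x.a ^ 9 * y.s + x.r * y.b)⟩⟩

theorem mul_def (x y : A K) : x * y = ⟨x.a + y.a, x.b + y.b, x.p + y.p + x.a * y.b ^ 3,
    x.q + y.q + x.b ^ 3 * y.b ^ 9, x.r + y.r + x.a ^ 9 * y.b ^ 3, x.s + y.s + x.b ^ 3 * y.b,
    x.w + y.w + (x.a * y.q + x.p * y.b ^ 9) - (x.a ^ 9 * y.s + x.r * y.b)⟩ := rfl

instance : One (A K) := ⟨⟨0, 0, 0, 0, 0, 0, 0⟩⟩

theorem one_def : (1 : A K) = ⟨0, 0, 0, 0, 0, 0, 0⟩ := rfl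

instance : Inv (A K) :=
  ⟨fun x => ⟨-x.a, -x.b, -x.p + x.a * x.b ^ 3, -x.q + x.b ^ 3 * x.b ^ 9, -x.r + x.a ^ 9 * x.b ^ 3,
    -x.s + x.b ^ 3 * x.b, -x.w + (x.a * x.q + x.p * x.b ^ 9) - (x.a ^ 9 * x.s + x.r * x.b) -
      (x.a * (x.b ^ 3 * x.b ^ 9) - x.a ^ 9 * (x.b ^ 3 * x.b))⟩⟩

theorem inv_def (x : A K) : x⁻¹ = ⟨-x.a, -x.b, -x.p + x.a * x.b ^ 3, -x.q + x.b ^ 3 * x.b ^ 9, -x.r + x.a ^ 9 * x.b ^ 3,
    -x.s + x.b ^ 3 * x.b, -x.w + (x.a * x.q + x.p * x.b ^ 9) - (x.a ^ 9 * x.s + x.r * x.b) -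
      (x.a * (x.b ^ 3 * x.b ^ 9) - x.a ^ 9 * (x.b ^ 3 * x.b))⟩ := rfl

theorem cube_add (x y : K) : (x + y) ^ 3 = x ^ 3 + y ^ 3 := by
  simpa using add_pow_char_pow (n := 1) x y 3

theorem ninth_add (x y : K) : (x + y) ^ 9 = x ^ 9 + y ^ 9 := by
  simpa using add_pow_char_pow (n := 2) x y 3

theorem three_eq : (3 : K) = 0 := by exact_mod_cast CharP.cast_eq_zero K 3

instance : Group (A K) :=
  Group.ofLeftAxioms
    (fun x y z => by
      simp only [mul_def, cube_add, ninth_add, mk.injEq]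
      exact ⟨by ring, by ring, by ring, by ring, by ring, by ring, by ring⟩)
    (fun x => by
      ext <;> simp [mul_def, one_def])
    (fun x => by
      have h3 : ∀ t : K, (-t) ^ 3 = -t ^ 3 := fun t => by ring
      have h9 : ∀ t : K, (-t) ^ 9 = -t ^ 9 := fun t => by ring
      simp only [mul_def, one_def, inv_def, h3, h9, mk.injEq]
      exact ⟨by ring, by ring, by ring, by ring, by ring, by ring, by ring⟩)

/-- The quotient to the first layer. -/
def top : A K →* Multiplicative (K × K) where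
  toFun x := Multiplicative.ofAdd (x.a, x.b)
  map_one' := rfl
  map_mul' _ _ := rfl

theorem isSolvable : Group.IsSolvable (A K) := by
  have hcomm : ∀ x y : (top (K := K)).ker, x * y = y * x := by
    rintro ⟨x, hx⟩ ⟨y, hy⟩
    simp only [MonoidHom.mem_ker, top, MonoidHom.coe_mk, OneHom.coe_mk, ofAdd_eq_one, Prod.mk_eq_zero] at hx hy
    refine Subtype.ext ?_
    ext <;> simp [mul_def, hx.1, hx.2, hy.1, hy.2, add_comm]
  haveI : Group.IsSolvable (top (K := K)).ker := Group.isSolvable_of_comm hcomm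
  exact solvable_of_ker_le_range (top (K := K)).ker.subtype top (by simp)

theorem pow_three (x : A K) :
    x ^ 3 = ⟨0, 0, 0, 0, 0, 0, x.a * x.b ^ 3 * x.b ^ 9 - x.a ^ 9 * x.b ^ 3 * x.b⟩ := by
  have h : x ^ 3 = x * x * x := by rw [pow_succ, pow_two]
  rw [h]
  simp only [mul_def, cube_add, ninth_add, mk.injEq]
  refine ⟨?_, ?_, ?_, ?_, ?_, ?_, ?_⟩ <;> ring_nf <;> simp [three_eq]

theorem pow_nine (x : A K) : x ^ 9 = 1 := by
  rw [show 9 = 3 * 3 from rfl, pow_mul, pow_three (x ^ 3), pow_three x]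
  simp [one_def]

/-- Scaling by a fifth root of unity after a field automorphism. -/
def act (u : K) (hu : u ^ 5 = 1) (τ : K ≃+* K) : A K ≃* A K where
  toFun x := ⟨u * τ x.a, u * τ x.b, u ^ 4 * τ x.p, u ^ 2 * τ x.q, u ^ 2 * τ x.r, u ^ 4 * τ x.s, u ^ 3 * τ x.w⟩
  invFun x := ⟨τ.symm (u ^ 4 * x.a), τ.symm (u ^ 4 * x.b), τ.symm (u * x.p), τ.symm (u ^ 3 * x.q),
    τ.symm (u ^ 3 * x.r), τ.symm (u * x.s), τ.symm (u ^ 2 * x.w)⟩
  left_inv x := by
    ext <;> simp only [← mul_assoc, ← pow_succ', ← pow_succ, ← pow_add, Nat.reduceAdd, hu, one_mul, RingEquiv.symm_apply_apply]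
  right_inv x := by
    ext <;> simp only [RingEquiv.apply_symm_apply, ← mul_assoc, ← pow_succ', ← pow_succ, ← pow_add, Nat.reduceAdd, hu, one_mul]
  map_mul' x y := by
    have h : ∀ k, u ^ (k + 5) = u ^ k := fun k => by rw [pow_add, hu, mul_one]
    simp only [mul_def, map_add, map_sub, map_mul, map_pow, mk.injEq]
    refine ⟨?_, ?_, ?_, ?_, ?_, ?_, ?_⟩
    · ring
    · ring
    · ring
    · linear_combination (-(τ x.b ^ 3 * τ y.b ^ 9) * (u ^ 7 + u ^ 2)) * hu
    · linear_combination (-(τ x.a ^ 9 * τ y.b ^ 3) * (u ^ 7 + u ^ 2)) * hu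
    · ring
    · linear_combination (-(τ x.p * τ y.b ^ 9) * (u ^ 8 + u ^ 3) - τ x.a * τ y.q * 0 + τ x.a ^ 9 * τ y.s * (u ^ 8 + u ^ 3)) * hu

theorem act_apply (u : K) (hu : u ^ 5 = 1) (τ : K ≃+* K) (x : A K) :
    act u hu τ x = ⟨u * τ x.a, u * τ x.b, u ^ 4 * τ x.p, u ^ 2 * τ x.q, u ^ 2 * τ x.r, u ^ 4 * τ x.s, u ^ 3 * τ x.w⟩ := rfl

theorem act_fix {u : K} (hu : u ^ 5 = 1) (hu1 : u ≠ 1) {x : A K} (h : act u hu (RingEquiv.refl K) x = x) :
    x = 1 := by
  rw [act_apply] at h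
  have key : ∀ (k : ℕ) (t : K), k.Coprime 5 → u ^ k * t = t → t = 0 := by
    intro k t hk ht
    by_contra h0
    have h1 : u ^ k = 1 := mul_right_cancel₀ h0 (by rw [ht, one_mul])
    have h2 := (pow_gcd_eq_one (a := u) (m := k) (n := 5)).2 ⟨h1, hu⟩
    rw [Nat.coprime_iff_gcd_eq_one.1 hk, pow_one] at h2
    exact hu1 h2
  simp only [RingEquiv.refl_apply, A.ext_iff] at h
  obtain ⟨h1, h2, h3, h4, h5, h6, h7⟩ := h
  ext
  · exact key 1 _ (by norm_num) (by rwa [pow_one])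
  · exact key 1 _ (by norm_num) (by rwa [pow_one])
  · exact key 4 _ (by norm_num) h3
  · exact key 2 _ (by norm_num) h4
  · exact key 2 _ (by norm_num) h5
  · exact key 4 _ (by norm_num) h6
  · exact key 3 _ (by norm_num) h7

end A

abbrev Mu (K : Type*) [Field K] := ↥(rootsOfUnity 5 K)

theorem Mu.val_pow (u : Mu K) : ((u : Kˣ) : K) ^ 5 = 1 := by
  rw [← Units.val_pow_eq_pow_val, (mem_rootsOfUnity 5 _).1 u.2, Units.val_one]

/-- Automorphisms of `K` act on the fifth roots of unity. -/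
def galAct : RingAut K →* MulAut (Mu K) where
  toFun τ := τ.toMulEquiv.restrictRootsOfUnity 5
  map_one' := by ext u; rfl
  map_mul' _ _ := by ext u; rfl

abbrev C (K : Type*) [Field K] [CharP K 3] := Mu K ⋊[galAct] RingAut K

/-- The action of `C` on `A`. -/
def rho : C K →* MulAut (A K) where
  toFun c := A.act ((c.left : Kˣ) : K) (Mu.val_pow _) c.right
  map_one' := by
    ext x <;> simp [A.act_apply]
  map_mul' c d := by
    ext x <;> simp [A.act_apply, galAct, MulAut.mul_apply, mul_assoc, mul_pow]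

abbrev H (K : Type*) [Field K] [CharP K 3] := A K ⋊[rho] C K

theorem rho_apply (c : C K) (x : A K) :
    rho c x = A.act ((c.left : Kˣ) : K) (Mu.val_pow _) c.right x := rfl

section Finite

variable [Finite K] (hK : Nat.card K = 81)

include hK

theorem pow81 (t : K) : t ^ 81 = t := by
  haveI := Fintype.ofFinite K
  rw [← hK, Nat.card_eq_fintype_card]; exact FiniteField.pow_card t

theorem aut_form (τ : RingAut K) : ∃ j : ℕ, j < 4 ∧ ∀ t, τ t = t ^ 3 ^ j := by
  haveI := Fintype.ofFinite K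
  letI : Algebra (ZMod 3) K := ZMod.algebra K 3
  let e : K →ₐ[ZMod 3] K := { τ.toRingHom with commutes' := fun r => RingHom.congr_fun (Subsingleton.elim (τ.toRingHom.comp (algebraMap (ZMod 3) K)) (algebraMap (ZMod 3) K)) r }
  obtain ⟨⟨j, hj⟩, hje⟩ := (FiniteField.bijective_frobeniusAlgHom_pow (ZMod 3) K).2 e
  have h4 : Module.finrank (ZMod 3) K = 4 := by
    have h := Module.natCard_eq_pow_finrank (K := ZMod 3) (V := K)
    rw [hK, Nat.card_zmod] at h
    exact (Nat.pow_right_injective (le_refl 2 |>.trans (by norm_num)) (h.symm.trans (by norm_num : 81 = 3 ^ 4)))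
  refine ⟨j, h4 ▸ hj, fun t => ?_⟩
  have := AlgHom.congr_fun hje t
  simp only [AlgHom.coe_pow, FiniteField.coe_frobeniusAlgHom, pow_iterate, ZMod.card] at this
  exact this.symm

theorem isSolvable : Group.IsSolvable (H K) := by
  haveI := A.isSolvable (K := K)
  haveI : Group.IsSolvable (RingAut K) := Group.isSolvable_of_comm fun τ σ => by
    obtain ⟨i, -, hi⟩ := aut_form hK τ
    obtain ⟨j, -, hj⟩ := aut_form hK σ
    ext t
    simp only [RingAut.mul_apply, hi, hj, ← pow_mul, mul_comm]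
  haveI : Group.IsSolvable (Mu K) := Group.isSolvable_of_comm mul_comm
  haveI : Group.IsSolvable (C K) :=
    solvable_of_ker_le_range SemidirectProduct.inl SemidirectProduct.rightHom (by rw [SemidirectProduct.range_inl_eq_ker_rightHom])
  exact solvable_of_ker_le_range SemidirectProduct.inl SemidirectProduct.rightHom (by rw [SemidirectProduct.range_inl_eq_ker_rightHom])

theorem finite : Finite (H K) := by
  haveI : Finite (A K) := Finite.of_injective (fun x : A K => (x.a, x.b, x.p, x.q, x.r, x.s, x.w)) (by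
    intro x y h; simp only [Prod.mk.injEq] at h; ext <;> simp [h])
  haveI : Finite (RingAut K) := Finite.of_injective (fun τ : RingAut K => (τ : K → K)) DFunLike.coe_injective
  haveI : Finite (C K) := Finite.of_equiv _ SemidirectProduct.equivProd.symm
  exact Finite.of_equiv _ SemidirectProduct.equivProd.symm

theorem order_cases (g : H K) : orderOf g ∣ 9 ∨ orderOf g ∣ 5 ∨ orderOf g ∣ 12 := by
  haveI := finite hK
  obtain ⟨x, ⟨u, τ⟩⟩ := g
  obtain ⟨j, hj4, hj⟩ := aut_form hK τ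
  have hA3 : ∀ (v : Mu K) (σ : RingAut K) (y N : A K), (∀ t, σ t = t ^ 9) →
      Commute (⟨y, ⟨v, σ⟩⟩ : H K) ⟨N, 1⟩ → N ^ 3 = 1 := by
    intro v σ y N hσ hc
    have h := congrArg SemidirectProduct.left hc.eq
    simp only [SemidirectProduct.mul_left, map_one, MulAut.one_apply, rho_apply] at h
    have ha := congrArg A.a h
    have hb := congrArg A.b h
    simp only [A.act_apply, A.mul_def, hσ] at ha hb
    have hv := Mu.val_pow v
    generalize (((v : Kˣ)) : K) = z at ha hb hv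
    have ha' : N.a ^ 9 = z ^ 4 * N.a := by
      linear_combination z ^ 4 * ha - N.a ^ 9 * hv
    have hb' : N.b ^ 9 = z ^ 4 * N.b := by
      linear_combination z ^ 4 * hb - N.b ^ 9 * hv
    rw [A.pow_three, A.one_def, ha', hb']
    congr 1
    ring
  have hfix : ∀ k : ℕ, ∀ N : A K, (⟨x, ⟨u, τ⟩⟩ : H K) ^ k = ⟨N, 1⟩ → ∀ m, Commute ((⟨x, ⟨u, τ⟩⟩ : H K) ^ m) ⟨N, 1⟩ :=
    fun k N h m => h ▸ Commute.pow_pow_self _ _ _
  interval_cases j
  · -- no field automorphism
    have hτ : τ = 1 := RingEquiv.ext fun t => by simp [hj]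
    subst hτ
    by_cases hu : u = 1
    · subst hu
      left
      refine orderOf_dvd_of_pow_eq_one ?_
      rw [show (⟨x, ⟨1, 1⟩⟩ : H K) = SemidirectProduct.inl x from rfl, ← map_pow, A.pow_nine, map_one]
    · right; left
      have hu' : ((u : Kˣ) : K) ≠ 1 := fun h => hu (Subtype.ext (Units.ext h))
      let φ : A K ≃* A K := rho ⟨u, 1⟩
      have hinj : Function.Injective fun y : A K => y * (φ y)⁻¹ := by
        intro y z h
        have h' : φ (z⁻¹ * y) = z⁻¹ * y := by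
          rw [map_mul, map_inv]
          simp only at h
          simpa [mul_assoc] using (congrArg (fun t => z⁻¹ * t * φ y) h).symm
        have := A.act_fix (Mu.val_pow u) hu' h'
        exact (inv_mul_eq_one.1 this).symm
      haveI : Finite (A K) := Finite.of_injective (fun y : A K => (⟨y, 1⟩ : H K)) (fun _ _ h => congrArg SemidirectProduct.left h)
      obtain ⟨y, hy⟩ := (Finite.injective_iff_surjective.1 hinj) x
      have hconj : (⟨x, ⟨u, 1⟩⟩ : H K) = SemidirectProduct.inl y * SemidirectProduct.inr ⟨u, 1⟩ * (SemidirectProduct.inl y)⁻¹ := by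
        ext1
        · simp only [← map_inv, SemidirectProduct.mul_left, SemidirectProduct.mul_right, SemidirectProduct.left_inl,
            SemidirectProduct.right_inl, SemidirectProduct.left_inr, SemidirectProduct.right_inr, map_one,
            MulAut.one_apply, mul_one, one_mul]
          rw [← hy]
          simp [φ]
        · simp
      refine orderOf_dvd_of_pow_eq_one ?_
      rw [hconj, conj_pow, ← map_pow]
      have : (⟨u, 1⟩ : C K) ^ 5 = 1 := by
        rw [show (⟨u, 1⟩ : C K) = SemidirectProduct.inl u from rfl, ← map_pow,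
          show u ^ 5 = 1 from Subtype.ext ((mem_rootsOfUnity 5 _).1 u.2), map_one]
      rw [this, map_one, mul_one, mul_inv_cancel]
  all_goals right; right
  · -- Frobenius
    have hc2 : (⟨u, τ⟩ : C K) ^ 2 = ⟨u * galAct τ u, τ * τ⟩ := by rw [pow_two]; rfl
    have hc4 : (⟨u, τ⟩ : C K) ^ 4 = 1 := by
      rw [show 4 = 2 * 2 from rfl, pow_mul, hc2, pow_two]
      ext1
      · refine Subtype.ext (Units.ext ?_)
        show ((u : Kˣ) : K) * τ ((u : Kˣ) : K) * τ (τ (((u : Kˣ) : K) * τ ((u : Kˣ) : K))) = 1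
        simp only [hj, ← pow_mul, mul_pow]
        have h5 := Mu.val_pow u
        generalize ((u : Kˣ) : K) = z at h5 ⊢
        rw [← pow_add, ← pow_succ', ← pow_add, pow_eq_pow_mod _ h5]
        norm_num
      · refine RingEquiv.ext fun t => ?_
        show τ (τ (τ (τ t))) = t
        simp only [hj, ← pow_mul]
        exact pow81 hK t
    obtain ⟨N, hN⟩ : ∃ N, (⟨x, ⟨u, τ⟩⟩ : H K) ^ 4 = ⟨N, 1⟩ := ⟨((⟨x, ⟨u, τ⟩⟩ : H K) ^ 4).left, by
      ext1
      · rfl
      · show SemidirectProduct.rightHom ((⟨x, ⟨u, τ⟩⟩ : H K) ^ 4) = 1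
        rw [map_pow]; exact hc4⟩
    obtain ⟨y, hy⟩ : ∃ y, (⟨x, ⟨u, τ⟩⟩ : H K) ^ 2 = ⟨y, (⟨u, τ⟩ : C K) ^ 2⟩ := ⟨((⟨x, ⟨u, τ⟩⟩ : H K) ^ 2).left, by
      ext1
      · rfl
      · show SemidirectProduct.rightHom ((⟨x, ⟨u, τ⟩⟩ : H K) ^ 2) = _
        rw [map_pow]; rfl⟩
    have hc := hfix 4 N hN 2
    rw [hy, hc2] at hc
    refine orderOf_dvd_of_pow_eq_one ?_
    rw [show 12 = 4 * 3 from rfl, pow_mul, hN, show (⟨N, 1⟩ : H K) = SemidirectProduct.inl N from rfl, ← map_pow,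
      hA3 _ _ y N (fun t => by show τ (τ t) = t ^ 9; simp [hj, ← pow_mul]) hc, map_one]
  · -- the square
    have hc2 : (⟨u, τ⟩ : C K) ^ 2 = 1 := by
      rw [pow_two]
      ext1
      · refine Subtype.ext (Units.ext ?_)
        show ((u : Kˣ) : K) * τ ((u : Kˣ) : K) = 1
        rw [hj]
        linear_combination (((u : Kˣ) : K) ^ 5 + 1) * Mu.val_pow u
      · refine RingEquiv.ext fun t => ?_
        show τ (τ t) = t
        simp only [hj, ← pow_mul]
        exact pow81 hK t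
    obtain ⟨N, hN⟩ : ∃ N, (⟨x, ⟨u, τ⟩⟩ : H K) ^ 2 = ⟨N, 1⟩ := ⟨((⟨x, ⟨u, τ⟩⟩ : H K) ^ 2).left, by
      ext1
      · rfl
      · show SemidirectProduct.rightHom ((⟨x, ⟨u, τ⟩⟩ : H K) ^ 2) = 1
        rw [map_pow]; exact hc2⟩
    have hc := hfix 2 N hN 1
    rw [pow_one] at hc
    refine (orderOf_dvd_of_pow_eq_one ?_ : orderOf _ ∣ 6).trans (by norm_num)
    rw [show 6 = 2 * 3 from rfl, pow_mul, hN, show (⟨N, 1⟩ : H K) = SemidirectProduct.inl N from rfl, ← map_pow,
      hA3 _ _ x N (fun t => by simp [hj]) hc, map_one]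
  · -- inverse Frobenius
    have hc2 : (⟨u, τ⟩ : C K) ^ 2 = ⟨u * galAct τ u, τ * τ⟩ := by rw [pow_two]; rfl
    have hc4 : (⟨u, τ⟩ : C K) ^ 4 = 1 := by
      rw [show 4 = 2 * 2 from rfl, pow_mul, hc2, pow_two]
      ext1
      · refine Subtype.ext (Units.ext ?_)
        show ((u : Kˣ) : K) * τ ((u : Kˣ) : K) * τ (τ (((u : Kˣ) : K) * τ ((u : Kˣ) : K))) = 1
        simp only [hj, ← pow_mul, mul_pow]
        have h5 := Mu.val_pow u
        generalize ((u : Kˣ) : K) = z at h5 ⊢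
        rw [← pow_add, ← pow_succ', ← pow_add, pow_eq_pow_mod _ h5]
        norm_num
      · refine RingEquiv.ext fun t => ?_
        show τ (τ (τ (τ t))) = t
        simp only [hj, ← pow_mul]
        conv_lhs => rw [show 3 ^ 3 * 3 ^ 3 * 3 ^ 3 * 3 ^ 3 = 81 * 81 * 81 by norm_num]
        rw [pow_mul, pow_mul, pow81 hK, pow81 hK, pow81 hK]
    obtain ⟨N, hN⟩ : ∃ N, (⟨x, ⟨u, τ⟩⟩ : H K) ^ 4 = ⟨N, 1⟩ := ⟨((⟨x, ⟨u, τ⟩⟩ : H K) ^ 4).left, by
      ext1
      · rfl
      · show SemidirectProduct.rightHom ((⟨x, ⟨u, τ⟩⟩ : H K) ^ 4) = 1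
        rw [map_pow]; exact hc4⟩
    obtain ⟨y, hy⟩ : ∃ y, (⟨x, ⟨u, τ⟩⟩ : H K) ^ 2 = ⟨y, (⟨u, τ⟩ : C K) ^ 2⟩ := ⟨((⟨x, ⟨u, τ⟩⟩ : H K) ^ 2).left, by
      ext1
      · rfl
      · show SemidirectProduct.rightHom ((⟨x, ⟨u, τ⟩⟩ : H K) ^ 2) = _
        rw [map_pow]; rfl⟩
    have hc := hfix 4 N hN 2
    rw [hy, hc2] at hc
    refine orderOf_dvd_of_pow_eq_one ?_
    rw [show 12 = 4 * 3 from rfl, pow_mul, hN, show (⟨N, 1⟩ : H K) = SemidirectProduct.inl N from rfl, ← map_pow,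
      hA3 _ _ y N (fun t => by
        show τ (τ t) = t ^ 9
        simp only [hj, ← pow_mul]
        rw [show 3 ^ 3 * 3 ^ 3 = 81 * 9 by norm_num, pow_mul, pow81 hK]) hc, map_one]

theorem order_exists : (∃ g : H K, orderOf g = 9) ∧ (∃ g : H K, orderOf g = 5) ∧ ∃ g : H K, orderOf g = 12 := by
  haveI := Fintype.ofFinite K
  obtain ⟨ζ, hζ⟩ := IsCyclic.exists_generator (α := Kˣ)
  have ho : orderOf ζ = 80 := by
    rw [orderOf_eq_card_of_forall_mem_zpowers hζ, Nat.card_units, hK]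
  refine ⟨⟨SemidirectProduct.inl ⟨(ζ : K), 1, 0, 0, 0, 0, 0⟩, ?_⟩, ⟨SemidirectProduct.inr (SemidirectProduct.inl ⟨ζ ^ 16, ?_⟩), ?_⟩, ?_⟩
  · rw [orderOf_injective _ SemidirectProduct.inl_injective]
    refine orderOf_eq_prime_pow (p := 3) (n := 1) ?_ (A.pow_nine _)
    rw [pow_one, A.pow_three, A.one_def]
    intro h
    simp only [A.mk.injEq, one_pow, mul_one, true_and, sub_eq_zero] at h
    have h8 : ζ ^ 8 = 1 := by
      refine mul_right_cancel (b := ζ) (Units.ext ?_)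
      rw [one_mul, ← pow_succ, Units.val_pow_eq_pow_val]
      exact h.symm
    have := orderOf_dvd_of_pow_eq_one h8
    rw [ho] at this
    norm_num at this
  · rw [mem_rootsOfUnity, ← pow_mul, show 16 * 5 = 80 from rfl, ← ho, pow_orderOf_eq_one]
  · rw [orderOf_injective _ SemidirectProduct.inr_injective, orderOf_injective _ SemidirectProduct.inl_injective,
      ← orderOf_injective (Subgroup.subtype _) Subtype.val_injective]
    show orderOf (ζ ^ 16) = 5
    rw [orderOf_pow, ho]; norm_num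
  · let φ : RingAut K := frobeniusEquiv K 3
    have hφ : ∀ t, φ t = t ^ 3 := fun t => rfl
    let n : H K := SemidirectProduct.inl ⟨1, 0, 0, 0, 0, 0, 0⟩
    let c : H K := SemidirectProduct.inr (SemidirectProduct.inr φ)
    have hcomm : Commute n c := by
      ext1
      · simp [n, c, rho_apply, A.act_apply, hφ]
      · simp [n, c]
    have hn3 : orderOf n = 3 := by
      rw [orderOf_injective _ SemidirectProduct.inl_injective]
      refine orderOf_eq_prime ?_ ?_
      · rw [A.pow_three, A.one_def]; simp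
      · intro h; rw [A.one_def] at h; exact one_ne_zero (congrArg A.a h)
    have hc4 : orderOf c = 4 := by
      rw [orderOf_injective _ SemidirectProduct.inr_injective, orderOf_injective _ SemidirectProduct.inr_injective]
      refine orderOf_eq_prime_pow (p := 2) (n := 1) ?_ ?_
      · intro h
        have h' : φ (φ (ζ : K)) = ζ := RingEquiv.congr_fun (by simpa [pow_two] using h : φ * φ = 1) _
        rw [hφ, hφ, ← pow_mul] at h'
        have h8 : ζ ^ 8 = 1 := mul_right_cancel (b := ζ) (Units.ext (by rw [one_mul, ← pow_succ, Units.val_pow_eq_pow_val]; exact h'))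
        have := orderOf_dvd_of_pow_eq_one h8
        rw [ho] at this
        norm_num at this
      · refine RingEquiv.ext fun t => ?_
        show φ (φ (φ (φ t))) = t
        simp only [hφ, ← pow_mul]
        exact pow81 hK t
    exact ⟨n * c, by rw [hcomm.orderOf_mul_eq_mul_orderOf_of_coprime (by rw [hn3, hc4]; norm_num), hn3, hc4]⟩

end Finite

/-- The divisors of 9, 5 and 12 that occur. -/
theorem range_eq {G : Type*} [Group G] (h : ∀ g : G, orderOf g ∣ 9 ∨ orderOf g ∣ 5 ∨ orderOf g ∣ 12)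
    (h9 : ∃ g : G, orderOf g = 9) (h5 : ∃ g : G, orderOf g = 5) (h12 : ∃ g : G, orderOf g = 12) :
    Set.range (orderOf : G → ℕ) = {n | n ∣ 9 ∨ n ∣ 5 ∨ n ∣ 12} := by
  ext n
  refine ⟨fun ⟨g, hg⟩ => hg ▸ h g, fun hn => ?_⟩
  have key : ∀ N, 0 < N → n ∣ N → (∃ g : G, orderOf g = N) → ∃ g : G, orderOf g = n := by
    rintro N hN hd ⟨g, hg⟩
    refine ⟨g ^ (N / n), ?_⟩
    rw [orderOf_pow_of_dvd (Nat.div_pos (Nat.le_of_dvd hN hd) (Nat.pos_of_dvd_of_pos hd hN)).ne' (by rw [hg]; exact Nat.div_dvd_of_dvd hd), hg,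
      Nat.div_div_self hd hN.ne']
  rcases hn with hn | hn | hn
  · exact key 9 (by norm_num) hn h9
  · exact key 5 (by norm_num) hn h5
  · exact key 12 (by norm_num) hn h12

theorem exists_witness : ∃ (H : Type) (_ : Group H) (_ : Fintype H), Group.IsSolvable H ∧
    Set.range (orderOf : H → ℕ) = {n | n ∣ 9 ∨ n ∣ 5 ∨ n ∣ 12} := by
  haveI : Fact (Nat.Prime 3) := ⟨Nat.prime_three⟩
  let K := GaloisField 3 4
  have hK : Nat.card K = 81 := by rw [GaloisField.card 3 4 (by norm_num)]; norm_num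
  haveI : Finite (H K) := finite hK
  obtain ⟨h9, h5, h12⟩ := order_exists hK
  exact ⟨H K, inferInstance, Fintype.ofFinite _, isSolvable hK, range_eq (order_cases hK) h9 h5 h12⟩

end Cfsg.Agent.LBSpecW
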