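/-
Element orders of PSp(4, 3).
-/
import Cfsg.Agent.Lib.Spectra.SympModels
import Cfsg.Agent.Lib.LinearBlock.SpecWitness

set_option autoImplicit false
set_option linter.all false

namespace Cfsg.Agent.LBSpecP

open Polynomial Matrix

abbrev I4 := Fin 2 ⊕ Fin 2
abbrev M3 := Matrix I4 I4 (ZMod 3)

/-- Multiplication by `X` modulo `X^4 + aX^3 + bX^2 + aX + 1`. -/
def step (a b : ZMod 3) (v : ZMod 3 × ZMod 3 × ZMod 3 × ZMod 3) : ZMod 3 × ZMod 3 × ZMod 3 × ZMod 3 :=
  (-v.2.2.2, v.1 - a * v.2.2.2, v.2.1 - b * v.2.2.2, v.2.2.1 - a * v.2.2.2)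

theorem table : ∀ a b : ZMod 3, ∃ N ∈ [4, 5, 6, 9, 12],
    (step a b)^[N] (1, 0, 0, 0) = (1, 0, 0, 0) ∨ (step a b)^[N] (1, 0, 0, 0) = (-1, 0, 0, 0) := by
  decide +kernel

variable {F : Type*} [Field F]

theorem charpoly_self_inv (s : Matrix.symplecticGroup (Fin 2) F) :
    ((s : Matrix I4 I4 F)⁻¹).charpoly = (s : Matrix I4 I4 F).charpoly := by
  rw [← SymplecticGroup.coe_inv', SymplecticGroup.coe_inv]
  have hJ : Matrix.J (Fin 2) F * -Matrix.J (Fin 2) F = 1 := by rw [mul_neg, Matrix.J_squared, neg_neg]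
  have hJ' : -Matrix.J (Fin 2) F * Matrix.J (Fin 2) F = 1 := by rw [neg_mul, Matrix.J_squared, neg_neg]
  rw [Matrix.charpoly_mul_comm, ← mul_assoc, hJ, one_mul, Matrix.charpoly_transpose]

theorem palindrome (s : Matrix.symplecticGroup (Fin 2) F) :
    (s : Matrix I4 I4 F).charpoly.coeff 1 = (s : Matrix I4 I4 F).charpoly.coeff 3 ∧
    (s : Matrix I4 I4 F).charpoly.coeff 0 = 1 := by
  set M := (s : Matrix I4 I4 F) with hM
  have hd : M.det = 1 := SymplecticGroup.det_eq_one s.2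
  have h := Matrix.charpoly_inv M ((Matrix.isUnit_iff_isUnit_det M).2 (by rw [hd]; exact isUnit_one))
  rw [hM, charpoly_self_inv, ← hM, hd, Ring.inverse_one, map_one, mul_one,
    ← Matrix.reverse_charpoly] at h
  simp only [Fintype.card_sum, Fintype.card_fin] at h
  norm_num at h
  have hdeg : M.charpoly.natDegree = 4 := by rw [Matrix.charpoly_natDegree_eq_dim]; simp
  refine ⟨?_, ?_⟩
  · conv_lhs => rw [h, coeff_reverse, hdeg]
    rfl
  · conv_lhs => rw [h, coeff_reverse, hdeg]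
    rw [show revAt 4 0 = 4 from rfl, ← hdeg]
    exact (Matrix.charpoly_monic M).coeff_natDegree

theorem exists_pow (φ : ZMod 3 →+* F) (hφ : Function.Surjective φ) (s : Matrix.symplecticGroup (Fin 2) F) :
    ∃ N ∈ [4, 5, 6, 9, 12], (QuotientGroup.mk s : Cfsg.PSp 2 F) ^ N = 1 := by
  obtain ⟨h1, h0⟩ := palindrome s
  set M := (s : Matrix I4 I4 F) with hM
  obtain ⟨a, ha⟩ := hφ (M.charpoly.coeff 3)
  obtain ⟨b, hb⟩ := hφ (M.charpoly.coeff 2)
  have hdeg : M.charpoly.natDegree = 4 := by rw [Matrix.charpoly_natDegree_eq_dim]; simp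
  have hCH : (1 : Matrix I4 I4 F) + φ a • M + φ b • M ^ 2 + φ a • M ^ 3 + M ^ 4 = 0 := by
    have h := M.aeval_self_charpoly
    rw [aeval_eq_sum_range, hdeg] at h
    have h4 : M.charpoly.coeff 4 = 1 := hdeg ▸ (Matrix.charpoly_monic M).coeff_natDegree
    simpa [Finset.sum_range_succ, h0, h1, h4, ← ha, ← hb] using h
  have h4 : M ^ 4 = -(1 + φ a • M + φ b • M ^ 2 + φ a • M ^ 3) := eq_neg_of_add_eq_zero_right hCH
  let ev : ZMod 3 × ZMod 3 × ZMod 3 × ZMod 3 → Matrix I4 I4 F := fun v =>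
    φ v.1 • 1 + φ v.2.1 • M + φ v.2.2.1 • M ^ 2 + φ v.2.2.2 • M ^ 3
  have hev : ∀ n, M ^ n = ev ((step a b)^[n] (1, 0, 0, 0)) := by
    intro n
    induction n with
    | zero => simp [ev]
    | succ n ih =>
      rw [Function.iterate_succ_apply', pow_succ, ih]
      generalize (step a b)^[n] (1, 0, 0, 0) = v
      simp only [ev, step, map_neg, map_sub, map_mul, add_mul, smul_mul_assoc, one_mul, ← pow_succ, ← pow_two, Nat.reduceAdd, h4]
      module
  obtain ⟨N, hN, hcase⟩ := table a b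
  refine ⟨N, hN, ?_⟩
  rw [← QuotientGroup.mk_pow, SympSpectra.mk_eq_one_iff (by norm_num), SubmonoidClass.coe_pow, ← hM, hev]
  rcases hcase with h | h <;> rw [h] <;> simp [ev]

/-- An explicit element of order dividing `N` with proper powers not scalar. -/
theorem exists_order (φ : ZMod 3 →+* F) (A : M3) (N : ℕ) (hA : A * Matrix.J (Fin 2) (ZMod 3) * Aᵀ = Matrix.J (Fin 2) (ZMod 3))
    (hN : A ^ N = 1 ∨ A ^ N = -1) (hlt : ∀ m < N, 0 < m → A ^ m ≠ 1 ∧ A ^ m ≠ -1) (hpos : 0 < N) :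
    ∃ g : Cfsg.PSp 2 F, orderOf g = N := by
  let s : Matrix.symplecticGroup (Fin 2) F := ⟨φ.mapMatrix A, by
    rw [SymplecticGroup.mem_iff]
    have h := congrArg φ.mapMatrix hA
    simpa [map_mul, Matrix.transpose_map, Matrix.map_J] using h⟩
  have hinj : Function.Injective (φ.mapMatrix : M3 →+* _) := fun X Y h =>
    Matrix.map_injective φ.injective h
  refine ⟨QuotientGroup.mk s, (orderOf_eq_iff hpos).2 ⟨?_, fun m hm h0 => ?_⟩⟩
  · rw [← QuotientGroup.mk_pow, SympSpectra.mk_eq_one_iff (by norm_num), SubmonoidClass.coe_pow]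
    show φ.mapMatrix A ^ N = 1 ∨ φ.mapMatrix A ^ N = -1
    rw [← map_pow]
    exact hN.imp (fun h => by rw [h, map_one]) (fun h => by rw [h, map_neg, map_one])
  · rw [← QuotientGroup.mk_pow, Ne, SympSpectra.mk_eq_one_iff (by norm_num), SubmonoidClass.coe_pow]
    show ¬ (φ.mapMatrix A ^ m = 1 ∨ φ.mapMatrix A ^ m = -1)
    obtain ⟨g1, g2⟩ := hlt m hm h0
    rw [← map_pow]
    rintro (h | h)
    · exact g1 (hinj (h.trans (map_one _).symm))
    · exact g2 (hinj (h.trans (by rw [map_neg, map_one])))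

def A5 : M3 := fromBlocks !![1, 1; 0, 2] !![1, 2; 1, 0] !![2, 1; 1, 0] !![1, 1; 0, 1]
def A12 : M3 := fromBlocks !![0, 0; 0, 1] !![-1, 0; 0, 1] !![1, 0; 0, 0] !![0, 0; 0, 1]
def A9 : M3 := fromBlocks !![1, 1; 0, 1] !![0, 0; 0, 0] !![0, 0; 0, 0] !![1, 0; -1, 1] * fromBlocks 1 !![0, 0; 0, 1] 0 1

theorem range_psp [Fintype F] (hF : Fintype.card F = 3) :
    Set.range (orderOf : Cfsg.PSp 2 F → ℕ) = {n | n ∣ 9 ∨ n ∣ 5 ∨ n ∣ 12} := by
  haveI : Fact (Nat.Prime 3) := ⟨Nat.prime_three⟩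
  let φ : ZMod 3 →+* F := (ZMod.ringEquivOfPrime F Nat.prime_three hF).toRingHom
  have hφ : Function.Surjective φ := (ZMod.ringEquivOfPrime F Nat.prime_three hF).surjective
  refine LBSpecW.range_eq (fun g => ?_) (exists_order φ A9 9 (by decide +kernel) (by decide +kernel) (by decide +kernel) (by norm_num))
    (exists_order φ A5 5 (by decide +kernel) (by decide +kernel) (by decide +kernel) (by norm_num))
    (exists_order φ A12 12 (by decide +kernel) (by decide +kernel) (by decide +kernel) (by norm_num))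
  obtain ⟨s, rfl⟩ := QuotientGroup.mk_surjective g
  obtain ⟨N, hN, h⟩ := exists_pow φ hφ s
  have hd := orderOf_dvd_of_pow_eq_one h
  simp only [List.mem_cons, List.not_mem_nil, or_false] at hN
  rcases hN with rfl | rfl | rfl | rfl | rfl
  · exact Or.inr (Or.inr (hd.trans (by norm_num)))
  · exact Or.inr (Or.inl hd)
  · exact Or.inr (Or.inr (hd.trans (by norm_num)))
  · exact Or.inl hd
  · exact Or.inr (Or.inr hd)

end Cfsg.Agent.LBSpecP
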