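/-
Elements of odd prime order of PSL_n(q) and subfield subgroups.
-/
import Cfsg.Agent.Lib.LinearBlock.SimQuad
import Cfsg.Agent.Lib.LinearBlock.LinSubfieldInvolution

set_option autoImplicit false
set_option linter.all false

namespace Cfsg.Agent.LBSubSpec

open Matrix Polynomial LBSim

universe u

variable {F : Type u} [Field F] {n : ℕ} {F₀ : Subfield F}

/-- Some conjugate by a matrix of determinant one is rational up to a scalar. -/
def Fix (F₀ : Subfield F) (X : Matrix (Fin n) (Fin n) F) : Prop :=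
  ∃ P : Matrix.SpecialLinearGroup (Fin n) F, ∃ a : F, a ≠ 0 ∧ Transvec.RatM F₀ (a • ((P⁻¹).1 * X * P.1))

/-- Raising to a power of the characteristic twists the characteristic polynomial. -/
theorem charpoly_pow_char (p a : ℕ) [Fact p.Prime] [CharP F p] (hn : 0 < n) (M : Matrix (Fin n) (Fin n) F) :
    (M ^ p ^ a).charpoly = M.charpoly.map (iterateFrobenius F p a) := by
  haveI : Nonempty (Fin n) := ⟨⟨0, hn⟩⟩
  haveI : ExpChar F p := ExpChar.prime Fact.out
  have hp0 : 0 < p ^ a := pow_pos (Fact.out : p.Prime).pos a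
  refine Polynomial.expand_injective hp0 ?_
  have h1 : Polynomial.expand F (p ^ a) (M.charpoly.map (iterateFrobenius F p a)) = M.charpoly ^ p ^ a := by
    rw [← Polynomial.map_expand, Polynomial.map_iterateFrobenius_expand]
  rw [h1]
  unfold Matrix.charpoly
  rw [AlgHom.map_det, ← Matrix.coe_detMonoidHom, ← map_pow]
  apply congr_arg Matrix.det
  refine matPolyEquiv.injective ?_
  rw [map_pow, matPolyEquiv_charmatrix, sub_pow_char_pow_of_commute, ← Polynomial.C_pow]
  · exact (id (matPolyEquiv_eq_X_pow_sub_C (p ^ a) M) :)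
  · exact (Polynomial.C M).commute_X

theorem map_eq_self_of_rat {σ : F →+* F} (hσ : ∀ x ∈ F₀, σ x = x) {M : Matrix (Fin n) (Fin n) F}
    (hM : Transvec.RatM F₀ M) : M.charpoly.map σ = M.charpoly := by
  rw [← Matrix.charpoly_map]
  congr 1
  ext i j
  exact hσ _ (hM i j)

theorem fix_stable {σ : F →+* F} (hσ : ∀ x ∈ F₀, σ x = x) {X : Matrix (Fin n) (Fin n) F} {a : F}
    {P : Matrix.SpecialLinearGroup (Fin n) F} (h : Transvec.RatM F₀ (a • ((P⁻¹).1 * X * P.1))) :
    (a • X).charpoly.map σ = (a • X).charpoly := by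
  obtain ⟨U, hU⟩ : ∃ U : GL (Fin n) F, U = SpecialLinearGroup.toGL P := ⟨_, rfl⟩
  have e : a • ((P⁻¹).1 * X * P.1) = (U⁻¹).1 * (a • X) * U.1 := by
    rw [Matrix.mul_smul, Matrix.smul_mul, hU, ← map_inv]; rfl
  have := map_eq_self_of_rat hσ h
  rwa [e, Matrix.coe_units_inv, Matrix.charpoly_units_conj'] at this

variable [Fintype F]

/-- A semisimple element with Galois-stable spectrum up to a scalar has a fixed point. -/
theorem fix_of_stable (p : ℕ) [Fact p.Prime] [CharP F p] {σ : F →+* F} (hσ : ∀ x, σ x = x → x ∈ F₀) (hn : 0 < n)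
    {r : ℕ} (hr : r.Prime) (hrp : r ≠ p) {X : Matrix (Fin n) (Fin n) F} {z a : F} (hd : X.det ≠ 0) (ha : a ≠ 0)
    (hX : X ^ r = z • 1) (hz : z ≠ 0) (h : (a • X).charpoly.map σ = (a • X).charpoly) : Fix F₀ X := by
  classical
  haveI : Fintype F₀ := Fintype.ofFinite _
  haveI : CharP F₀ p := (F₀.subtype.charP_iff F₀.subtype.injective p).2 inferInstance
  have hlift : (a • X).charpoly ∈ Polynomial.lifts F₀.subtype := by
    rw [Polynomial.lifts_iff_coeff_lifts]
    intro j
    refine ⟨⟨_, hσ ((a • X).charpoly.coeff j) ?_⟩, rfl⟩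
    have := congrArg (fun f : F[X] => f.coeff j) h
    simpa only [Polynomial.coeff_map] using this
  obtain ⟨f, hf, hfd, hfm⟩ := Polynomial.lifts_and_degree_eq_and_monic hlift (Matrix.charpoly_monic _)
  have hfn : f.natDegree = n := by
    rw [← Polynomial.natDegree_map F₀.subtype, hf, Matrix.charpoly_natDegree_eq_dim, Fintype.card_fin]
  have hf0 : f.coeff 0 ≠ 0 := fun e0 => by
    have h1 : (a • X).det = 0 := by
      rw [Matrix.det_eq_sign_charpoly_coeff, ← hf, Polynomial.coeff_map, e0, map_zero, mul_zero]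
    rw [Matrix.det_smul] at h1
    exact hd ((mul_eq_zero.1 h1).resolve_left (pow_ne_zero _ ha))
  obtain ⟨A, hA, hAc⟩ := SemisimpleCl.exists_gl_rep p hfm hfn hf0
  obtain ⟨M, hM⟩ : ∃ M, M = F₀.subtype.mapMatrix A.1 := ⟨_, rfl⟩
  have hMo : M ^ orderOf A = 1 := by
    rw [hM, ← map_pow, ← Units.val_pow_eq_pow_val, pow_orderOf_eq_one, Units.val_one, map_one]
  have hMc : (a • X).charpoly = M.charpoly := by
    rw [hM, RingHom.mapMatrix_apply, Matrix.charpoly_map, hAc, hf]
  obtain ⟨P, hP⟩ := LBInvCl.sl_conj_semisimple hn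
    (semisimple_of_root p hr hrp (z := a ^ r * z) (mul_ne_zero (pow_ne_zero _ ha) hz)
      (by rw [_root_.smul_pow, hX, smul_smul]))
    (SemisimpleCl.isSemisimple_of_pow p hMo hA) hMc
  refine ⟨P, a, ha, fun i j => ?_⟩
  rw [Matrix.mul_smul, Matrix.smul_mul] at hP
  rw [hP, hM]
  exact (A.1 i j).2

/-- The factor of the index forced by a prime. -/
theorem index_factor (hn : 2 ≤ n) {k q₀ : ℕ} (hF₀ : Nat.card F₀ = q₀) (hqk : Fintype.card F = q₀ ^ k) {r : ℕ} [Fact r.Prime]
    (hrk : (k : ZMod r) ≠ 0) (hqr : (q₀ : ZMod r) ≠ 0)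
    (hΩ : r ∣ ((Cfsg.Geo.subfieldSubgroup F₀ 1).comap (Matrix.SpecialLinearGroup.toGL : Matrix.SpecialLinearGroup (Fin n) F →* GL (Fin n) F)).index) :
    ∃ j, 2 ≤ j ∧ j ≤ n ∧ (q₀ : ZMod r) ^ (j * k) = 1 ∧ (q₀ : ZMod r) ^ j ≠ 1 := by
  classical
  haveI : Fintype F₀ := Fintype.ofFinite _
  haveI : Nonempty (Fin n) := ⟨⟨0, by omega⟩⟩
  obtain ⟨H, hH⟩ : ∃ H, H = (Cfsg.Geo.subfieldSubgroup F₀ 1).comap
      (Matrix.SpecialLinearGroup.toGL : Matrix.SpecialLinearGroup (Fin n) F →* GL (Fin n) F) := ⟨_, rfl⟩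
  rw [← hH] at hΩ
  let φ : Matrix.SpecialLinearGroup (Fin n) F₀ →* Matrix.SpecialLinearGroup (Fin n) F :=
    Matrix.SpecialLinearGroup.map F₀.subtype
  have hinj : Function.Injective φ := fun a b e => Subtype.ext (Matrix.ext fun i j =>
    Subtype.ext (congrFun (congrFun (congrArg Subtype.val e) i) j))
  have hle : φ.range ≤ H := by
    rintro _ ⟨a, rfl⟩
    rw [hH, Subgroup.mem_comap, LBSubfieldInv.mem_iff]
    exact ⟨1, one_ne_zero, fun i j => by rw [one_smul]; exact (a.1 i j).2⟩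
  have hd : Nat.card (Matrix.SpecialLinearGroup (Fin n) F₀) ∣ Nat.card H := by
    rw [Nat.card_congr (MonoidHom.ofInjective hinj).toEquiv]
    exact Subgroup.card_dvd_of_le hle
  have key : ∀ (L : Type u) [Field L] [Fintype L] (Q : ℕ), Fintype.card L = Q →
      ∃ e, (Nat.card (Matrix.SpecialLinearGroup (Fin n) L) : ℤ) = (Q : ℤ) ^ e *
        ∏ i ∈ Finset.range (n - 1), ((Q : ℤ) ^ (i + 2) - 1) := by
    intro L _ _ Q hQ
    classical
    obtain ⟨e, he⟩ := LBSim.card_gl_int (F := L) hQ n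
    refine ⟨e, ?_⟩
    have h1 : 1 < Q := hQ ▸ Fintype.one_lt_card
    have h2 : ((Q : ℤ) - 1) * (Nat.card (Matrix.SpecialLinearGroup (Fin n) L) : ℤ) =
        ((Q : ℤ) - 1) * ((Q : ℤ) ^ e * ∏ i ∈ Finset.range (n - 1), ((Q : ℤ) ^ (i + 2) - 1)) := by
      rw [show ((Q : ℤ) - 1) = ((Nat.card L - 1 : ℕ) : ℤ) by
          rw [Nat.card_eq_fintype_card, hQ, Nat.cast_sub h1.le, Nat.cast_one],
        ← Nat.cast_mul, ClassicalSL.card_sl_mul, he,
        Nat.cast_sub (Nat.card_pos (α := L)), Nat.card_eq_fintype_card, hQ, Nat.cast_one]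
      rw [show Finset.range n = Finset.range (n - 1 + 1) by congr 1; omega, Finset.prod_range_succ']
      ring
    exact mul_left_cancel₀ (sub_ne_zero.2 (by exact_mod_cast h1.ne')) h2
  obtain ⟨c, hc⟩ := hd
  obtain ⟨b, hb⟩ := hΩ
  have hmul := Subgroup.index_mul_card H
  rw [hc, hb] at hmul
  obtain ⟨e, he⟩ := key F (q₀ ^ k) hqk
  obtain ⟨e₀, he₀⟩ := key F₀ q₀ (by rw [← Nat.card_eq_fintype_card, hF₀])
  rw [← hmul, Nat.cast_mul, Nat.cast_mul, Nat.cast_mul, he₀] at he
  obtain ⟨u, hu⟩ : ∃ u : ℕ → ℤ, u = fun i => ∑ t ∈ Finset.range k, ((q₀ : ℤ) ^ (i + 2)) ^ t := ⟨_, rfl⟩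
  have hpu : ∀ i, ((q₀ : ℤ) ^ k) ^ (i + 2) - 1 = ((q₀ : ℤ) ^ (i + 2) - 1) * u i := fun i => by
    rw [hu, mul_geom_sum, ← pow_mul, ← pow_mul, mul_comm k]
  rw [Nat.cast_pow, Finset.prod_congr rfl (fun i _ => hpu i), Finset.prod_mul_distrib] at he
  have hq2 : 2 ≤ q₀ := hF₀ ▸ Finite.one_lt_card
  have e1 : ((q₀ : ℤ) ^ k) ^ e * ∏ i ∈ Finset.range (n - 1), u i = (r : ℤ) * ((b : ℤ) * c * (q₀ : ℤ) ^ e₀) := by
    have hne : (∏ i ∈ Finset.range (n - 1), ((q₀ : ℤ) ^ (i + 2) - 1)) ≠ 0 := Finset.prod_ne_zero_iff.2 fun i _ =>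
      sub_ne_zero.2 (one_lt_pow₀ (show (1 : ℤ) < q₀ by exact_mod_cast hq2) (show i + 2 ≠ 0 by omega)).ne'
    refine mul_right_cancel₀ hne ?_
    linear_combination -he
  have e2 := congrArg (fun x : ℤ => (x : ZMod r)) e1
  simp only [Int.cast_mul, Int.cast_natCast, ZMod.natCast_self, zero_mul, mul_eq_zero, Int.cast_pow, pow_eq_zero_iff',
    hqr, false_and, false_or] at e2
  obtain ⟨i, hi, hi0⟩ := LBSim.exists_zero e2
  have hi' := Finset.mem_range.1 hi
  rw [hu] at hi0
  push_cast at hi0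
  refine ⟨i + 2, by omega, by omega, ?_, fun h1 => ?_⟩
  · have := mul_geom_sum ((q₀ : ZMod r) ^ (i + 2)) k
    rw [hi0, mul_zero, ← pow_mul] at this
    exact sub_eq_zero.1 this.symm
  · rw [h1] at hi0
    simp only [one_pow, Finset.sum_const, Finset.card_range, nsmul_one] at hi0
    exact hrk hi0

theorem exists_perm {α : Type*} [DecidableEq α] (d d' : Fin n → α) (h : Finset.univ.val.map d = Finset.univ.val.map d') :
    ∃ π : Equiv.Perm (Fin n), ∀ i, d' (π i) = d i := by
  have hc : ∀ v, Fintype.card {i // d i = v} = Fintype.card {i // d' i = v} := fun v => by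
    rw [LBSim.card_fibre, LBSim.card_fibre, ← Multiset.coe_count, ← Multiset.coe_count, ← Fin.univ_val_map,
      ← Fin.univ_val_map, h]
  exact ⟨Equiv.ofFiberEquiv fun v => Fintype.equivOfCardEq (hc v), fun i => Equiv.ofFiberEquiv_map _ i⟩

/-- Diagonal derangements. -/
theorem not_all_diag {σ : F →+* F} (hσ₀ : ∀ x ∈ F₀, σ x = x) {m : ℕ} [NeZero m] {θ : F} (hθ : orderOf θ = m) {s : ℕ}
    (hσ : σ θ = θ ^ s) {r : ℕ} (e : Fin n → ZMod m) (hsum : ∑ i, e i = 0)
    (hr : ∀ i j, (r : ZMod m) * e i = (r : ZMod m) * e j) {i₀ j₀ : Fin n} (hne : e i₀ ≠ e j₀)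
    (hno : ∀ (b : ZMod m) (π : Equiv.Perm (Fin n)), ¬ ∀ i, e (π i) = (s : ZMod m) * e i + b) :
    ¬ ∀ X : Matrix (Fin n) (Fin n) F, X.det = 1 → (∃ z : F, X ^ r = z • 1) → (∀ z : F, X ≠ z • 1) → Fix F₀ X := by
  intro h
  classical
  obtain ⟨P, a, ha, hrat⟩ := h (Matrix.diagonal fun i => ev θ (e i))
    (by rw [Matrix.det_diagonal, ← ev_sum hθ, hsum, ev_zero])
    ⟨ev θ ((r : ZMod m) * e i₀), by
      rw [Matrix.diagonal_pow, Matrix.smul_one_eq_diagonal]
      congr 1
      funext i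
      rw [Pi.pow_apply, ev_pow hθ, hr i i₀]⟩
    (fun z hz => by
      rw [Matrix.smul_one_eq_diagonal] at hz
      exact hne (ev_inj hθ ((congrFun (Matrix.diagonal_injective hz) i₀).trans
        (congrFun (Matrix.diagonal_injective hz) j₀).symm)))
  have hst := fix_stable hσ₀ hrat
  rw [← Matrix.diagonal_smul, Matrix.charpoly_diagonal, Polynomial.map_prod,
    Finset.prod_congr rfl (fun i _ => show ((Polynomial.X - Polynomial.C ((a • fun i => ev θ (e i)) i)).map σ) =
      Polynomial.X - Polynomial.C (σ (a * ev θ (e i))) by simp)] at hst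
  have hroots := congrArg Polynomial.roots hst
  rw [Polynomial.roots_prod _ _ (Finset.prod_ne_zero_iff.2 fun i _ => Polynomial.X_sub_C_ne_zero _),
    Polynomial.roots_prod _ _ (Finset.prod_ne_zero_iff.2 fun i _ => Polynomial.X_sub_C_ne_zero _)] at hroots
  simp only [Polynomial.roots_X_sub_C, Multiset.bind_singleton, Pi.smul_apply, smul_eq_mul] at hroots
  obtain ⟨π, hπ⟩ := exists_perm _ _ hroots
  have hev : ∀ x : ZMod m, σ (ev θ x) = ev θ ((s : ZMod m) * x) := fun x => by
    rw [ev, map_pow, hσ, ← pow_mul, mul_comm, pow_mul]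
    exact ev_pow hθ x s
  refine hno (e (π i₀) - (s : ZMod m) * e i₀) π fun i => ?_
  have h1 := hπ i
  have h2 := hπ i₀
  rw [map_mul, hev] at h1 h2
  have h3 : ev θ (e (π i) + (s : ZMod m) * e i₀) = ev θ (e (π i₀) + (s : ZMod m) * e i) := by
    refine mul_left_cancel₀ (mul_ne_zero ha ((map_ne_zero σ).2 ha)) ?_
    rw [ev_add hθ, ev_add hθ]
    linear_combination (σ a * ev θ ((s : ZMod m) * e i₀)) * h1 - (σ a * ev θ ((s : ZMod m) * e i)) * h2
  linear_combination ev_inj hθ h3

omit [Fintype F] in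
/-- The exponents `1, 1, -2, 0, …` against a multiplier of order at least three. -/
theorem no_affine {r : ℕ} [Fact r.Prime] (h7 : 5 ≤ r) (hn : 2 ≤ n) {s : ZMod r} (hs1 : s ≠ 1) (hs : s ≠ -1)
    (b : ZMod r) (π : Equiv.Perm (Fin n)) :
    ¬ ∀ i, (if n = 2 then (if (π i).val = 0 then 1 else -1) else
        if (π i).val < 2 then 1 else if (π i).val = 2 then -2 else 0) =
      s * (if n = 2 then (if i.val = 0 then 1 else -1) else if i.val < 2 then 1 else if i.val = 2 then -2 else 0) + b := by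
  intro h
  have hnz : ∀ k : ℕ, 0 < k → k < r → (k : ZMod r) ≠ 0 := fun k hk hk' e =>
    absurd (Nat.le_of_dvd hk ((ZMod.natCast_eq_zero_iff k r).1 e)) (by omega)
  have e1 : (1 : ZMod r) ≠ 0 := one_ne_zero
  have e2 : (2 : ZMod r) ≠ 0 := by simpa using hnz 2 (by omega) (by omega)
  have e3 : (3 : ZMod r) ≠ 0 := by simpa using hnz 3 (by omega) (by omega)
  have hs0 : s ≠ 0 := by
    intro e
    by_cases hn2 : n = 2
    · have hi := h (π.symm ⟨0, by omega⟩)
      have hj := h (π.symm ⟨1, by omega⟩)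
      simp only [Equiv.apply_symm_apply, e, zero_mul, zero_add, hn2, if_true, show (1 : ℕ) ≠ 0 by omega, if_false] at hi hj
      exact e2 (by linear_combination hi - hj)
    · have hi := h (π.symm ⟨0, by omega⟩)
      have hj := h (π.symm ⟨2, by omega⟩)
      simp only [Equiv.apply_symm_apply, e, zero_mul, zero_add, hn2, if_false, show (0 : ℕ) < 2 by omega, if_true,
        show ¬ (2 : ℕ) < 2 by omega] at hi hj
      exact e3 (by linear_combination hi - hj)
  by_cases hn2 : n = 2
  · subst hn2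
    have h0 := h ⟨0, by omega⟩
    have h1 := h ⟨1, by omega⟩
    simp only [if_true, show (1 : ℕ) ≠ 0 by omega, if_false] at h0 h1
    have hne : (π ⟨0, by omega⟩).val ≠ (π ⟨1, by omega⟩).val := fun e => by
      have := congrArg Fin.val (π.injective (Fin.ext e)); simp at this
    have := (π ⟨0, by omega⟩).isLt
    have := (π ⟨1, by omega⟩).isLt
    split_ifs at h0 h1 with k k'
    · exact e2 (mul_left_cancel₀ hs0 (by linear_combination h1 - h0))
    · exact hs1 (mul_left_cancel₀ e2 (by linear_combination h1 - h0))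
    · exact hs (mul_left_cancel₀ e2 (by linear_combination h1 - h0))
    · omega
  simp only [hn2, if_false] at h
  have hval : ∀ j : Fin n, ((if j.val < 2 then 1 else if j.val = 2 then -2 else 0 : ZMod r) = 1 ∧ j.val < 2) ∨
      ((if j.val < 2 then 1 else if j.val = 2 then -2 else 0 : ZMod r) = -2 ∧ j.val = 2) ∨
      ((if j.val < 2 then 1 else if j.val = 2 then -2 else 0 : ZMod r) = 0 ∧ 3 ≤ j.val) := fun j => by
    by_cases h1 : j.val < 2
    · exact Or.inl ⟨if_pos h1, h1⟩
    · by_cases h2 : j.val = 2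
      · exact Or.inr (Or.inl ⟨by rw [if_neg h1, if_pos h2], h2⟩)
      · exact Or.inr (Or.inr ⟨by rw [if_neg h1, if_neg h2], by omega⟩)
  obtain ⟨a, a', c, ha, ha', hc⟩ := two_val (n := n) (by omega)
  have hA := h a
  have hA' := h a'
  have hC := h c
  rw [if_pos (show a.val < 2 by omega)] at hA
  rw [if_pos (show a'.val < 2 by omega)] at hA'
  rw [if_neg (show ¬ c.val < 2 by omega), if_pos hc] at hC
  have hzero : ∀ i : Fin n, 3 ≤ i.val →
      (if (π i).val < 2 then 1 else if (π i).val = 2 then -2 else 0 : ZMod r) = b := fun i hi => by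
    have hI := h i
    rw [if_neg (show ¬ i.val < 2 by omega), if_neg (show i.val ≠ 2 by omega), mul_zero, zero_add] at hI
    exact hI
  have inj : ∀ i j : Fin n, i.val ≠ j.val → (π i).val ≠ (π j).val := fun i j hij e =>
    hij (congrArg Fin.val (π.injective (Fin.ext e)))
  rcases hval (π a) with ⟨ea, ka⟩ | ⟨ea, ka⟩ | ⟨ea, ka⟩ <;> rw [ea] at hA
  · -- the image of 1 is 1
    rcases hval (π c) with ⟨ec, -⟩ | ⟨ec, -⟩ | ⟨ec, kc⟩ <;> rw [ec] at hC
    · exact hs0 (mul_left_cancel₀ e3 (by linear_combination hC - hA))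
    · exact hs1 (mul_left_cancel₀ e3 (by linear_combination hC - hA))
    · have hn4 : 3 < n := lt_of_le_of_lt kc (π c).isLt
      have h0 := hzero ⟨3, hn4⟩ le_rfl
      rcases hval (π ⟨3, hn4⟩) with ⟨e0, -⟩ | ⟨e0, -⟩ | ⟨e0, -⟩ <;> rw [e0] at h0
      · exact hs0 (by linear_combination -hA + h0)
      · have h8 : ((8 : ℕ) : ZMod r) = 0 := by push_cast; linear_combination -3 * h0 + 2 * hA + hC
        have h9 : r ∣ 2 ^ 3 := (ZMod.natCast_eq_zero_iff _ _).1 h8
        have := Nat.le_of_dvd two_pos ((Fact.out : r.Prime).dvd_of_dvd_pow h9)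
        omega
      · exact hs1 (by linear_combination -hA + h0)
  · -- the image of 1 is -2
    rcases hval (π a') with ⟨ea', -⟩ | ⟨-, k'⟩ | ⟨ea', -⟩
    · rw [ea'] at hA'; exact e3 (by linear_combination hA' - hA)
    · exact inj a a' (by omega) (ka.trans k'.symm)
    · rw [ea'] at hA'; exact e2 (by linear_combination hA' - hA)
  · -- the image of 1 is 0
    have hn4 : 3 < n := lt_of_le_of_lt ka (π a).isLt
    rcases hval (π a') with ⟨ea', -⟩ | ⟨ea', -⟩ | ⟨ea', ka'⟩ <;> rw [ea'] at hA'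
    · exact e1 (by linear_combination hA' - hA)
    · exact e2 (by linear_combination hA - hA')
    have hn5 : 4 < n := by
      have := (π a).isLt
      have := (π a').isLt
      have := inj a a' (by omega)
      omega
    have h0 := hzero ⟨3, hn4⟩ le_rfl
    have h0' := hzero ⟨4, hn5⟩ (by norm_num)
    rcases hval (π ⟨3, hn4⟩) with ⟨e0, -⟩ | ⟨e0, k0⟩ | ⟨e0, -⟩ <;> rw [e0] at h0
    · exact hs (by linear_combination -hA + h0)
    · rcases hval (π ⟨4, hn5⟩) with ⟨e0', -⟩ | ⟨-, k0'⟩ | ⟨e0', -⟩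
      · rw [e0'] at h0'; exact e3 (by linear_combination h0' - h0)
      · exact inj ⟨3, hn4⟩ ⟨4, hn5⟩ (by norm_num) (k0.trans k0'.symm)
      · rw [e0'] at h0'; exact e2 (by linear_combination h0' - h0)
    · exact hs0 (by linear_combination -hA + h0)

theorem exists_root_of_pow {r : ℕ} (hd : r ∣ Fintype.card F - 1) {z : F} (hz : z ≠ 0)
    (h : z ^ ((Fintype.card F - 1) / r) = 1) : ∃ t, t ^ r = z := by
  obtain ⟨g, hg⟩ := IsCyclic.exists_generator (α := Fˣ)
  obtain ⟨e, he⟩ := (mem_powers_iff_mem_zpowers.2 (hg (Units.mk0 z hz)))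
  have he' : (g : F) ^ e = z := by
    have := congrArg Units.val he
    simpa using this
  rw [← he', ← pow_mul] at h
  have hord : orderOf g = Fintype.card F - 1 := by
    rw [orderOf_eq_card_of_forall_mem_zpowers hg, Nat.card_units, Nat.card_eq_fintype_card]
  have h1 : orderOf g ∣ e * ((Fintype.card F - 1) / r) := orderOf_dvd_of_pow_eq_one (Units.ext (by simpa using h))
  obtain ⟨c, hc⟩ := hd
  have hq : 0 < Fintype.card F - 1 := Nat.sub_pos_of_lt Fintype.one_lt_card
  have hc0 : 0 < c := Nat.pos_of_ne_zero fun e0 => by rw [e0, mul_zero] at hc; omega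
  have hr0 : 0 < r := Nat.pos_of_ne_zero fun e0 => by rw [e0, zero_mul] at hc; omega
  rw [hord, hc, Nat.mul_div_cancel_left c hr0] at h1
  obtain ⟨d, rfl⟩ : r ∣ e := Nat.dvd_of_mul_dvd_mul_right hc0 h1
  exact ⟨(g : F) ^ d, by rw [← pow_mul, mul_comm, he']⟩

/-- Elements of odd prime order and the subfield subgroup. -/
theorem main (p : ℕ) [Fact p.Prime] [CharP F p] {q : ℕ} (hq : Fintype.card F = q) (hn : 2 ≤ n) (k q₀ : ℕ) (hk : k.Prime)
    (hF₀ : Nat.card F₀ = q₀) (hqk : q = q₀ ^ k) (r : ℕ) [Fact r.Prime] (hr2 : r ≠ 2) (hrp : r ≠ p) (hgap : ¬ (n = 6 ∧ r = 3))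
    (hgapk : r = k → r ∣ q₀ - 1 → padicValNat r n ≤ padicValNat r (q - 1))
    (hΩ : r ∣ ((Cfsg.Geo.subfieldSubgroup F₀ 1).comap (Matrix.SpecialLinearGroup.toGL : Matrix.SpecialLinearGroup (Fin n) F →* GL (Fin n) F)).index) :
    (∀ x : Matrix.SpecialLinearGroup (Fin n) F,
      (∃ z : F, ((x ^ r : Matrix.SpecialLinearGroup (Fin n) F) : Matrix (Fin n) (Fin n) F) = z • (1 : Matrix (Fin n) (Fin n) F)) →
      (∀ z : F, (x : Matrix (Fin n) (Fin n) F) ≠ z • (1 : Matrix (Fin n) (Fin n) F)) →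
      ∃ P : Matrix.SpecialLinearGroup (Fin n) F, P⁻¹ * x * P ∈ ((Cfsg.Geo.subfieldSubgroup F₀ 1).comap (Matrix.SpecialLinearGroup.toGL : Matrix.SpecialLinearGroup (Fin n) F →* GL (Fin n) F))) ↔
    (r = k ∨ (k = 2 ∧ r = n ∧ (n = 3 ∨ n = 5) ∧ padicValNat r (q₀ + 1) = 1)) := by
  classical
  have hr : r.Prime := Fact.out
  have hpp : p.Prime := Fact.out
  have hn0 : 0 < n := by omega
  have hiff : (∀ x : Matrix.SpecialLinearGroup (Fin n) F,
      (∃ z : F, ((x ^ r : Matrix.SpecialLinearGroup (Fin n) F) : Matrix (Fin n) (Fin n) F) = z • (1 : Matrix (Fin n) (Fin n) F)) →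
      (∀ z : F, (x : Matrix (Fin n) (Fin n) F) ≠ z • (1 : Matrix (Fin n) (Fin n) F)) →
      ∃ P : Matrix.SpecialLinearGroup (Fin n) F, P⁻¹ * x * P ∈ ((Cfsg.Geo.subfieldSubgroup F₀ 1).comap (Matrix.SpecialLinearGroup.toGL : Matrix.SpecialLinearGroup (Fin n) F →* GL (Fin n) F))) ↔
      ∀ X : Matrix (Fin n) (Fin n) F, X.det = 1 → (∃ z : F, X ^ r = z • 1) → (∀ z : F, X ≠ z • 1) → Fix F₀ X := by
    constructor
    · intro h X hd hz hns
      obtain ⟨x, rfl⟩ : ∃ x : Matrix.SpecialLinearGroup (Fin n) F, x.1 = X := ⟨⟨X, hd⟩, rfl⟩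
      obtain ⟨P, hP⟩ := h x hz hns
      obtain ⟨a, ha, hrat⟩ := (LBSubfieldInv.mem_iff _).1 (Subgroup.mem_comap.1 hP)
      exact ⟨P, a, ha, hrat⟩
    · intro h x hz hns
      obtain ⟨P, a, ha, hrat⟩ := h x.1 x.2 hz hns
      exact ⟨P, Subgroup.mem_comap.2 ((LBSubfieldInv.mem_iff _).2 ⟨a, ha, hrat⟩)⟩
  rw [hiff]
  have hFq : Fintype.card F = q₀ ^ k := hq.trans hqk
  obtain ⟨e, -, hFe⟩ := FiniteField.card F p
  obtain ⟨a, -, ha⟩ := (Nat.dvd_prime_pow hpp).1 (hFe ▸ hFq ▸ dvd_pow_self q₀ hk.ne_zero : q₀ ∣ p ^ (e : ℕ))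
  obtain ⟨σ, hσdef⟩ : ∃ σ : F →+* F, σ = iterateFrobenius F p a := ⟨_, rfl⟩
  have hσ : ∀ x, σ x = x ^ q₀ := fun x => by rw [hσdef, iterateFrobenius_def, ha]
  have hmem : ∀ x, σ x = x → x ∈ F₀ := fun x hx => by
    rw [Aschbacher.mem_subfield_iff, hF₀, ← hσ, hx]
  have hfix : ∀ x ∈ F₀, σ x = x := fun x hx => by
    rw [hσ, ← hF₀]; exact (Aschbacher.mem_subfield_iff F₀).1 hx
  have hq₀2 : 2 ≤ q₀ := hF₀ ▸ Finite.one_lt_card
  have hqr : (q₀ : ZMod r) ≠ 0 := by
    rw [Ne, ZMod.natCast_eq_zero_iff, ha]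
    exact fun h => hrp ((Nat.prime_dvd_prime_iff_eq hr hpp).1 (hr.dvd_of_dvd_pow h))
  have hcast : (Fintype.card F : ZMod r) = (q₀ : ZMod r) ^ k := by rw [hFq, Nat.cast_pow]
  by_cases hrk : r = k
  · -- every element has a fixed point
    refine iff_of_true (fun X hd hzx hns => ?_) (Or.inl hrk)
    obtain ⟨z, hz⟩ := hzx
    have hz0 := ne_zero_of_pow hn0 hd hz
    have hqq : (Fintype.card F : ZMod r) = q₀ := by rw [hcast, ← hrk, ZMod.pow_card]
    obtain ⟨t, ht⟩ : ∃ t, t ^ r = z := by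
      by_cases hd1 : r ∣ Fintype.card F - 1
      swap
      · refine ((powCoprime (G := Fˣ) (n := r) ?_).surjective (Units.mk0 z hz0)).elim fun t ht => ⟨t, ?_⟩
        · rw [Nat.card_units, Nat.card_eq_fintype_card]; exact (hr.coprime_iff_not_dvd.2 hd1).symm
        · have := congrArg Units.val ht; simpa using this
      by_contra hno
      have hdq : r ∣ q₀ - 1 := by
        rw [← ZMod.natCast_eq_zero_iff, Nat.cast_sub (by omega), Nat.cast_one, ← hqq, ← Nat.cast_one,
          ← Nat.cast_sub Fintype.card_pos, ZMod.natCast_eq_zero_iff]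
        exact hd1
      have hgk := hgapk hrk hdq
      push Not at hno
      have hirr : Irreducible (Polynomial.X ^ r - Polynomial.C z : F[X]) := (X_pow_sub_C_irreducible_iff_of_prime hr).2 hno
      obtain ⟨l, hl⟩ := LBInvCl.eq_pow_of_factors (Matrix.charpoly_monic X) (monic_X_pow_sub_C z hr.ne_zero)
        fun u hum hui hud => eq_of_monic_of_associated hum (monic_X_pow_sub_C z hr.ne_zero) (hui.associated_of_dvd hirr
          ((Spectra.dvd_minpoly_of_dvd_charpoly X hui hud).trans (minpoly.dvd F X (by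
            simp [hz, Algebra.algebraMap_eq_smul_one]))))
      have h1 := congrArg natDegree hl
      rw [natDegree_pow, natDegree_X_pow_sub_C, Matrix.charpoly_natDegree_eq_dim, Fintype.card_fin] at h1
      have hrodd : Odd r := hr.odd_of_ne_two hr2
      have h2 := Matrix.det_eq_sign_charpoly_coeff X
      rw [hd, hl, Fintype.card_fin, Polynomial.coeff_zero_eq_eval_zero, eval_pow, eval_sub, eval_pow, eval_X, eval_C,
        zero_pow hr.ne_zero, zero_sub, h1, pow_mul', hrodd.neg_one_pow, ← mul_pow, neg_one_mul, neg_neg] at h2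
      have hl0 : l ≠ 0 := fun e0 => by rw [e0, zero_mul] at h1; omega
      have hg : z ^ Nat.gcd l (Fintype.card F - 1) = 1 :=
        pow_gcd_eq_one.2 ⟨h2.symm, FiniteField.pow_card_sub_one_eq_one z hz0⟩
      obtain ⟨c, hc⟩ := Nat.gcd_dvd_right l (Fintype.card F - 1)
      have hq1 : Fintype.card F - 1 ≠ 0 := (Nat.sub_pos_of_lt Fintype.one_lt_card).ne'
      rw [h1, padicValNat.mul hl0 hr.ne_zero, padicValNat.self hr.one_lt, ← hq] at hgk
      have hrc : r ∣ c := by
        by_contra hrc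
        have h3 : r ^ padicValNat r (Fintype.card F - 1) ∣ Nat.gcd l (Fintype.card F - 1) :=
          ((hr.coprime_iff_not_dvd.2 hrc).pow_left _).dvd_of_dvd_mul_right (hc ▸ pow_padicValNat_dvd)
        have := (padicValNat_dvd_iff_le hl0).1 (h3.trans (Nat.gcd_dvd_left _ _))
        omega
      obtain ⟨c', hc'⟩ := hrc
      obtain ⟨t, ht⟩ := exists_root_of_pow hd1 hz0 (by
        rw [show (Fintype.card F - 1) / r = Nat.gcd l (Fintype.card F - 1) * c' by
          nth_rewrite 1 [hc]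
          rw [hc', mul_left_comm, Nat.mul_div_cancel_left _ hr.pos], pow_mul, hg, one_pow])
      exact hno t ht
    have ht0 : t ≠ 0 := fun e0 => by rw [e0, zero_pow hr.ne_zero] at ht; exact hz0 ht.symm
    refine fix_of_stable p hmem hn0 hr hrp (by rw [hd]; exact one_ne_zero) (inv_ne_zero ht0) hz hz0 ?_
    have hY : (t⁻¹ • X) ^ r = 1 := by rw [_root_.smul_pow, hz, smul_smul, inv_pow, ht, inv_mul_cancel₀ hz0, one_smul]
    rw [hσdef, ← charpoly_pow_char p a hn0, ← ha]
    have hmod : q₀ % r = Fintype.card F % r := (ZMod.natCast_eq_natCast_iff' _ _ _).1 hqq.symm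
    rw [pow_eq_pow_mod q₀ hY, hmod, ← pow_eq_pow_mod (Fintype.card F) hY, FiniteField.Matrix.charpoly_pow_card]
  rw [or_iff_right hrk]
  have hkr : (k : ZMod r) ≠ 0 := by
    rw [Ne, ZMod.natCast_eq_zero_iff]; exact fun h => hrk ((Nat.prime_dvd_prime_iff_eq hr hk).1 h)
  obtain ⟨j, hj2, hjn, hjk, hjne⟩ := index_factor hn hF₀ hFq hkr hqr hΩ
  obtain ⟨i₀, hi₀⟩ : ∃ i₀, i₀ = orderOf (q₀ : ZMod r) := ⟨_, rfl⟩
  have hki : k ∣ i₀ := by
    by_contra hki
    have h1 : i₀ ∣ j * k := hi₀ ▸ orderOf_dvd_of_pow_eq_one hjk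
    exact hjne (orderOf_dvd_iff_pow_eq_one.1 (hi₀ ▸ (hk.coprime_iff_not_dvd.2 hki).symm.dvd_of_dvd_mul_right h1))
  by_cases hone : (Fintype.card F : ZMod r) = 1
  swap
  · refine iff_of_false (fun hall => ?_) fun ⟨hk2, _, _, hv⟩ => hone ?_
    · obtain ⟨g, hg, hgd⟩ := factor_exists (F := F) p hr hrp
      obtain ⟨hgne, hgm, hgi, hgdvd⟩ := (LBRootPoly.mem_factors hr.ne_zero).1 hg
      have hin : g.natDegree ≤ n := by
        rw [hgd]
        refine (Nat.le_of_dvd (by omega) (orderOf_dvd_of_pow_eq_one ?_)).trans hjn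
        rw [hcast, ← pow_mul, mul_comm, hjk]
      have hgood : LBRootPoly.Good r (g * (Polynomial.X - Polynomial.C 1) ^ (n - g.natDegree)) := by
        refine ⟨hgm.mul ((monic_X_sub_C 1).pow _), fun u hum hui hud => ?_⟩
        rcases hui.prime.dvd_or_dvd hud with e | e
        · exact e.trans hgdvd
        · exact (hui.prime.dvd_of_dvd_pow e).trans (dvd_iff_isRoot.2 (by simp [IsRoot]))
      obtain ⟨X, hXd, hXr, hXc, hXs⟩ := exists_elem p hone hg hgood (n := n) (by
        rw [hgm.natDegree_mul ((monic_X_sub_C 1).pow _), natDegree_pow, natDegree_X_sub_C]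
        omega) (dvd_mul_right _ _)
      obtain ⟨P, c, hc, hrat⟩ := hall X hXd ⟨1, by rw [hXr, one_smul]⟩ hXs
      have hRr : ((P⁻¹).1 * X * P.1) ^ r = 1 := by
        have e : (P⁻¹).1 * X * P.1 = ((SpecialLinearGroup.toGL P)⁻¹).1 * X * (SpecialLinearGroup.toGL P).1 := by
          rw [← map_inv]; rfl
        rw [e, Units.conj_pow', hXr, Matrix.mul_one, Units.inv_mul]
      have hcr : c ^ r ∈ F₀ := by
        have h2 : Transvec.RatM F₀ ((c • ((P⁻¹).1 * X * P.1)) ^ r) := by
          have : ∀ m : ℕ, Transvec.RatM F₀ ((c • ((P⁻¹).1 * X * P.1)) ^ m) := fun m => by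
            induction m with
            | zero =>
              intro i j
              rw [pow_zero, Matrix.one_apply]
              split_ifs <;> [exact F₀.one_mem; exact F₀.zero_mem]
            | succ m ih => rw [pow_succ]; exact Transvec.ratM_mul ih hrat
          exact this r
        rw [_root_.smul_pow, hRr] at h2
        have := h2 ⟨0, hn0⟩ ⟨0, hn0⟩
        simpa using this
      have hσc : σ c = c := by
        have h1 : (σ c / c) ^ r = 1 := by
          rw [div_pow, ← map_pow, hfix _ hcr, div_self (pow_ne_zero _ hc)]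
        have := root_one hone h1
        rwa [div_eq_one_iff_eq hc] at this
      have hrat' : Transvec.RatM F₀ ((1 : F) • ((P⁻¹).1 * X * P.1)) := fun i j => by
        rw [one_smul]
        have := F₀.mul_mem (F₀.inv_mem (hmem c hσc)) (hrat i j)
        rwa [Matrix.smul_apply, smul_eq_mul, inv_mul_cancel_left₀ hc] at this
      have hst := fix_stable hfix hrat'
      rw [one_smul, hXc, Polynomial.map_mul, Polynomial.map_pow, Polynomial.map_sub, map_X, map_C, map_one] at hst
      have hgs : g.map σ = g := mul_right_cancel₀ (pow_ne_zero _ (X_sub_C_ne_zero _)) hst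
      haveI : Fact (Irreducible g) := ⟨hgi⟩
      haveI : Module.Finite F (AdjoinRoot g) := hgm.finite_adjoinRoot
      haveI : Finite (AdjoinRoot g) := Module.finite_of_finite F
      haveI : CharP (AdjoinRoot g) p := charP_of_injective_algebraMap (algebraMap F (AdjoinRoot g)).injective p
      obtain ⟨θ, hθ⟩ : ∃ θ, θ = AdjoinRoot.root g := ⟨_, rfl⟩
      have hgθ : eval₂ (algebraMap F (AdjoinRoot g)) θ g = 0 := by rw [hθ]; exact AdjoinRoot.eval₂_root g
      have hθr : θ ^ r = 1 := by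
        have h := AdjoinRoot.mk_eq_zero.2 hgdvd
        rwa [map_sub, map_pow, map_one, AdjoinRoot.mk_X, sub_eq_zero, ← hθ] at h
      have hθ1 : θ ≠ 1 := by
        intro h
        apply hgne
        have h' : g ∣ Polynomial.X - Polynomial.C 1 := AdjoinRoot.mk_eq_zero.1
          (by rw [map_sub, AdjoinRoot.mk_X, map_one, map_one, ← hθ, h, sub_self])
        exact eq_of_monic_of_associated hgm (monic_X_sub_C 1) (hgi.associated_of_dvd (irreducible_X_sub_C 1) h')
      have hord : orderOf θ = r := orderOf_eq_prime hθr hθ1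
      have hroot : aeval (θ ^ q₀) g = 0 := by
        have h1 := congrArg (iterateFrobenius (AdjoinRoot g) p a) hgθ
        rw [map_zero, hom_eval₂, iterateFrobenius_def, ← ha] at h1
        have hcomp : (iterateFrobenius (AdjoinRoot g) p a).comp (algebraMap F (AdjoinRoot g)) =
            (algebraMap F (AdjoinRoot g)).comp σ :=
          RingHom.ext fun x => by simp [iterateFrobenius_def, hσ, ha]
        rw [hcomp, ← eval₂_map, hgs] at h1
        rwa [aeval_def]
      obtain ⟨τ, hτ⟩ : ∃ τ : AdjoinRoot g →ₐ[F] AdjoinRoot g, τ θ = θ ^ q₀ :=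
        ⟨AdjoinRoot.liftAlgHom g (Algebra.ofId F (AdjoinRoot g)) _ hroot, by subst hθ; exact AdjoinRoot.lift_root hroot⟩
      obtain ⟨⟨d, _⟩, rfl⟩ := (FiniteField.bijective_frobeniusAlgHom_pow F (AdjoinRoot g)).2 τ
      simp only [AlgHom.coe_pow, FiniteField.coe_frobeniusAlgHom, pow_iterate] at hτ
      rw [pow_eq_pow_mod _ hθr, pow_eq_pow_mod q₀ hθr] at hτ
      have hτ' := pow_injOn_Iio_orderOf (x := θ) (by rw [Set.mem_Iio, hord]; exact Nat.mod_lt _ hr.pos)
        (by rw [Set.mem_Iio, hord]; exact Nat.mod_lt _ hr.pos) hτ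
      rw [← ZMod.natCast_eq_natCast_iff', Nat.cast_pow, hcast, ← pow_mul] at hτ'
      clear hτ
      rename' hτ' => hτ
      -- the twist would be a power of the `k`-th power
      rcases Nat.eq_zero_or_pos (k * d) with h0 | h0
      · rw [h0, pow_zero] at hτ
        rw [← hτ, orderOf_one] at hi₀
        exact hk.one_lt.ne' (Nat.dvd_one.1 (hi₀ ▸ hki))
      · have h1 : (q₀ : ZMod r) ^ (k * d - 1) = 1 := by
          refine mul_right_cancel₀ hqr ?_
          rw [← pow_succ, show k * d - 1 + 1 = k * d by omega, one_mul, hτ]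
        have h2 : k ∣ k * d - 1 := hki.trans (hi₀ ▸ orderOf_dvd_of_pow_eq_one h1)
        have h3 : k ∣ 1 := by
          have := Nat.dvd_sub (dvd_mul_right k d) h2
          rwa [show k * d - (k * d - 1) = 1 by omega] at this
        exact hk.one_lt.ne' (Nat.dvd_one.1 h3)
    · subst hk2
      obtain ⟨u, hu⟩ := dvd_of_one_le_padicValNat hv.ge
      have h1 : ((q₀ + 1 : ℕ) : ZMod r) = 0 := by rw [hu, Nat.cast_mul, ZMod.natCast_self, zero_mul]
      push_cast at h1
      rw [hcast, eq_neg_of_add_eq_zero_left h1, neg_one_sq]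
  -- `r` divides `q - 1` and `q₀` has order `k` modulo `r`
  have hik : i₀ = k := Nat.dvd_antisymm (hi₀ ▸ orderOf_dvd_of_pow_eq_one (hcast ▸ hone)) hki
  have hq₀1 : (q₀ : ZMod r) ≠ 1 := fun e0 => by rw [e0, orderOf_one] at hi₀; exact hk.one_lt.ne' (hik ▸ hi₀)
  have hrq : r ∣ Fintype.card F - 1 := by
    by_contra h
    exact cast_card_ne_one_iff.2 h hone
  have hrodd : Odd r := hr.odd_of_ne_two hr2
  haveI : NeZero r := ⟨hr.ne_zero⟩
  have h3r : 3 ≤ r := by have := hr.two_le; omega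
  have hneg : ∀ (m : ℕ), m ∣ q₀ + 1 → (q₀ : ZMod m) = -1 := fun m hm => by
    refine eq_neg_of_add_eq_zero_left ?_
    rw [← Nat.cast_one, ← Nat.cast_add, ZMod.natCast_eq_zero_iff]; exact hm
  by_cases hk2 : k = 2
  swap
  · refine iff_of_false (fun hall => ?_) fun h => hk2 h.1
    have hkr1 : k ∣ r - 1 := hik ▸ hi₀ ▸ ZMod.orderOf_dvd_card_sub_one hqr
    have h5 : 5 ≤ r := by
      have := Nat.le_of_dvd (by omega) hkr1
      have := hk.two_le
      have : r ≠ 4 := fun e0 => by rw [e0] at hr; norm_num at hr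
      omega
    have hs : (q₀ : ZMod r) ≠ -1 := fun e0 => hk2 (by
      have h1 : i₀ ∣ 2 := hi₀ ▸ orderOf_dvd_of_pow_eq_one (by rw [e0, neg_one_sq])
      exact (Nat.prime_dvd_prime_iff_eq hk Nat.prime_two).1 (hik ▸ h1))
    obtain ⟨θ, hθ⟩ := exists_order (F := F) hrq
    refine not_all_diag (σ := σ) hfix hθ (hσ θ)
      (fun i : Fin n => if n = 2 then (if i.val = 0 then 1 else -1) else if i.val < 2 then 1 else if i.val = 2 then -2 else 0)
      ?_ (fun i j => by simp) (i₀ := ⟨0, by omega⟩) (j₀ := ⟨if n = 2 then 1 else 2, by split_ifs <;> omega⟩) ?_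
      (no_affine h5 hn hq₀1 hs) hall
    · by_cases h2 : n = 2
      · subst h2; simp
      · simp only [h2, if_false]
        rw [exponent_one (by omega) (1 : ZMod r) (fun i => if i < 2 then 1 else if i = 2 then -2 else 0)
          (fun i hi => by rw [if_neg (by omega), if_neg (by omega)])]
        norm_num
    · by_cases h2 : n = 2
      · simp only [h2, if_true, show (1 : ℕ) ≠ 0 by omega, if_false]
        intro e0
        have : ((2 : ℕ) : ZMod r) = 0 := by push_cast; linear_combination e0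
        have := Nat.le_of_dvd two_pos ((ZMod.natCast_eq_zero_iff _ _).1 this)
        omega
      · simp only [h2, if_false, show ¬ (2 : ℕ) < 2 by omega, if_true, show (0 : ℕ) < 2 by omega]
        intro e0
        have : ((3 : ℕ) : ZMod r) = 0 := by push_cast; linear_combination e0
        have := Nat.le_of_dvd (by omega) ((ZMod.natCast_eq_zero_iff _ _).1 this)
        omega
  subst hk2
  have hq0n : (q₀ : ZMod r) = -1 := (sq_eq_one_iff.1 (hcast ▸ hone)).resolve_left hq₀1
  have hdvd : r ∣ q₀ + 1 := by rw [← ZMod.natCast_eq_zero_iff]; push_cast; rw [hq0n]; ring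
  have hn3 : 3 ≤ n := by
    by_contra h
    obtain rfl : n = 2 := by omega
    obtain rfl : j = 2 := by omega
    exact hjne (by rw [hq0n, neg_one_sq])
  have hk1 : q₀ + 1 ≠ 0 := by omega
  have hdq : q₀ + 1 ∣ Fintype.card F - 1 := by
    rw [hFq, pow_two, ← Orth.sub_one_mul_add_one]; exact dvd_mul_left _ _
  constructor
  swap
  · rintro ⟨-, hrn, hn35, hv⟩ X hd ⟨z, hz⟩ hns
    have hv' : padicValNat r (Fintype.card F - 1) = 1 := by
      rw [hFq, pow_two, ← Orth.sub_one_mul_add_one, padicValNat.mul (by omega) hk1, hv,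
        padicValNat.eq_zero_of_not_dvd (fun h => ?_)]
      have := Nat.le_of_dvd two_pos (show r ∣ 2 by
        have := Nat.dvd_sub hdvd h; rwa [show q₀ + 1 - (q₀ - 1) = 2 by omega] at this)
      omega
    obtain ⟨ω, hω⟩ := exists_order (F := F) hrq
    have hz0 := ne_zero_of_pow hn0 hd hz
    have hzr : z ^ r = 1 := by
      have h1 := congrArg Matrix.det hz
      rw [Matrix.det_pow, hd, one_pow, Matrix.det_smul, Matrix.det_one, mul_one, Fintype.card_fin, ← hrn] at h1
      exact h1.symm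
    have hz1 : z = 1 := by
      by_contra hne
      have hnp : ∀ t : F, t ^ r ≠ z := fun t ht => by
        have ht2 : t ^ r ^ 2 = 1 := by rw [pow_two, pow_mul, ht, hzr]
        have ht0 : t ≠ 0 := fun e0 => by rw [e0, zero_pow hr.ne_zero] at ht; exact hz0 ht.symm
        have hqd : orderOf t ∣ Fintype.card F - 1 := orderOf_dvd_of_pow_eq_one (FiniteField.pow_card_sub_one_eq_one t ht0)
        obtain ⟨l, hl, hlo⟩ := (Nat.dvd_prime_pow hr).1 (orderOf_dvd_of_pow_eq_one ht2)
        have hl1 : l ≤ 1 := by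
          by_contra hl1
          rw [hlo, show l = 2 by omega] at hqd
          have := (padicValNat_dvd_iff_le (Nat.sub_pos_of_lt Fintype.one_lt_card).ne').1 hqd
          omega
        exact hne (ht.symm.trans (orderOf_dvd_iff_pow_eq_one.1 (hlo ▸ (pow_dvd_pow r hl1).trans (by rw [pow_one]))))
      have hirr : Irreducible (Polynomial.X ^ r - Polynomial.C z : F[X]) := (X_pow_sub_C_irreducible_iff_of_prime hr).2 hnp
      obtain ⟨l, hl⟩ := LBInvCl.eq_pow_of_factors (Matrix.charpoly_monic X) (monic_X_pow_sub_C z hr.ne_zero)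
        fun u hum hui hud => eq_of_monic_of_associated hum (monic_X_pow_sub_C z hr.ne_zero) (hui.associated_of_dvd hirr
          ((Spectra.dvd_minpoly_of_dvd_charpoly X hui hud).trans (minpoly.dvd F X (by
            simp [hz, Algebra.algebraMap_eq_smul_one]))))
      have h1 := congrArg natDegree hl
      rw [natDegree_pow, natDegree_X_pow_sub_C, Matrix.charpoly_natDegree_eq_dim, Fintype.card_fin, ← hrn] at h1
      obtain rfl : l = 1 := Nat.eq_of_mul_eq_mul_right hr.pos (by rw [one_mul, ← h1])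
      have h2 := Matrix.det_eq_sign_charpoly_coeff X
      rw [hd, hl, pow_one, Fintype.card_fin, ← hrn, coeff_sub, coeff_X_pow, if_neg (Ne.symm hr.ne_zero), coeff_C_zero,
        zero_sub, hrodd.neg_one_pow, neg_one_mul, neg_neg] at h2
      exact hne h2.symm
    subst hz1
    rw [one_smul] at hz
    obtain ⟨e, he⟩ := charpoly_split hr (hω ▸ IsPrimitiveRoot.orderOf ω) hz
    have hc0 : X.charpoly = (Matrix.diagonal fun i => ev ω (e i)).charpoly := by rw [he, Matrix.charpoly_diagonal]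
    have hsum : ∑ i, e i = 0 := by
      refine ev_inj hω ?_
      rw [ev_sum hω, ev_zero, ← Matrix.det_diagonal, ← LBInvCl.det_eq_of_charpoly hc0, hd]
    obtain ⟨b, π, hπ, hb⟩ := exists_pairing (by omega) hrn.symm e hsum
    obtain ⟨v, hv0⟩ : ∃ v : ZMod r, 2 * v = b := ⟨((r + 1) / 2 : ℕ) * b, by
      obtain ⟨l, hl⟩ := hrodd
      have h0 : ((2 * l + 1 : ℕ) : ZMod r) = 0 := by rw [← hl, ZMod.natCast_self]
      push_cast at h0
      rw [show (r + 1) / 2 = l + 1 by omega]
      push_cast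
      linear_combination b * h0⟩
    have hdr : (Matrix.diagonal fun i => ev ω (e i)) ^ r = 1 := by
      rw [Matrix.diagonal_pow, ← Matrix.diagonal_one]
      congr 1
      funext i
      rw [Pi.pow_apply, ev_pow hω, ZMod.natCast_self, zero_mul, ev_zero]
    obtain ⟨P, hP⟩ := LBInvCl.sl_conj_semisimple hn0
      (semisimple_of_root p hr hrp one_ne_zero (by rw [hz, one_smul]))
      (semisimple_of_root p hr hrp one_ne_zero (by rw [hdr, one_smul])) hc0
    refine fix_of_stable p hmem hn0 hr hrp (by rw [hd]; exact one_ne_zero) (ev_ne_zero hω (-v))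
      (by rw [hz, one_smul]) one_ne_zero ?_
    have hcc : (ev ω (-v) • X).charpoly = (Matrix.diagonal fun i => ev ω (e i - v)).charpoly := by
      rw [show (Matrix.diagonal fun i => ev ω (e i - v)) = ev ω (-v) • Matrix.diagonal (fun i => ev ω (e i)) by
        rw [← Matrix.diagonal_smul]; congr 1; funext i
        rw [Pi.smul_apply, smul_eq_mul, ← ev_add hω]; congr 1; ring, ← hP]
      have e1 : ev ω (-v) • ((P⁻¹).1 * X * P.1) =
          ((SpecialLinearGroup.toGL P)⁻¹).1 * (ev ω (-v) • X) * (SpecialLinearGroup.toGL P).1 := by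
        rw [Matrix.mul_smul, Matrix.smul_mul, ← map_inv]; rfl
      rw [e1, Matrix.coe_units_inv, Matrix.charpoly_units_conj']
    rw [hcc, Matrix.charpoly_diagonal, Polynomial.map_prod]
    conv_rhs => rw [← Equiv.prod_comp π]
    refine Finset.prod_congr rfl fun i _ => ?_
    have h3 := hb i
    have e2 : (q₀ : ZMod r) * (e i - v) = e (π i) - v := by
      rw [hneg r hdvd]; linear_combination hv0 - h3
    rw [Polynomial.map_sub, map_X, map_C, hσ, ev_pow hω, e2]
  · intro hall
    refine ⟨rfl, ?_⟩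
    by_contra hex
    have hnd : ∀ {m : ℕ} [NeZero m] (e : Fin n → ZMod m) (θ : F), orderOf θ = m → m ∣ q₀ + 1 → ∑ i, e i = 0 →
        (∀ i j, (r : ZMod m) * e i = (r : ZMod m) * e j) → (∃ i j, e i ≠ e j) →
        (∀ (b : ZMod m) (π : Equiv.Perm (Fin n)), ¬ ∀ i, e (π i) + e i = b) → False := by
      intro m _ e θ hθ hm hsum hre ⟨i₁, j₁, hne⟩ hno
      refine not_all_diag (σ := σ) hfix hθ (hσ θ) e hsum hre hne (fun b π h => hno b π fun i => ?_) hall
      rw [h i, hneg m hm]; ring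
    by_cases hsq : (r = 3 ∨ r = 5) ∧ n = r
    · obtain ⟨hr35, rfl⟩ := hsq
      have hv : 2 ≤ padicValNat n (q₀ + 1) := by
        have := one_le_padicValNat_of_dvd hk1 hdvd
        by_contra h
        exact hex ⟨rfl, hr35, by omega⟩
      have hnn : n * n ∣ q₀ + 1 := by rw [← pow_two]; exact (padicValNat_dvd_iff_le hk1).2 hv
      haveI : NeZero (n * n) := ⟨mul_ne_zero hr.ne_zero hr.ne_zero⟩
      obtain ⟨θ, hθ⟩ := exists_order (F := F) (hnn.trans hdq)
      have hone' : ((n * n : ℕ) : ZMod (n * n)) = 0 := ZMod.natCast_self _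
      push_cast at hone'
      refine hnd (fun i : Fin n => if i.val + 1 < n then 1 else 1 - (n : ZMod (n * n))) θ hθ hnn ?_ (fun i j => ?_)
        ⟨⟨0, by omega⟩, ⟨n - 1, by omega⟩, ?_⟩ (no_pairing_square hn3 hrodd)
      · rw [Fin.sum_univ_eq_sum_range (fun i => if i + 1 < n then (1 : ZMod (n * n)) else 1 - (n : ZMod (n * n))) n]
        obtain ⟨l, hl⟩ : ∃ l, n = l + 1 := ⟨n - 1, by omega⟩
        rw [show Finset.range n = Finset.range (l + 1) by rw [hl], Finset.sum_range_succ,
          Finset.sum_congr rfl (g := fun _ => (1 : ZMod (n * n))) (fun i hi => if_pos (by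
            have := Finset.mem_range.1 hi; omega)), if_neg (by omega), Finset.sum_const, Finset.card_range, nsmul_one]
        have : (n : ZMod (n * n)) = (l : ZMod (n * n)) + 1 := by
          rw [← Nat.cast_one, ← Nat.cast_add]; exact congrArg _ hl
        linear_combination -this
      · split_ifs
        · rfl
        · linear_combination hone'
        · linear_combination -hone'
        · rfl
      · rw [if_pos (by simp; omega), if_neg (by simp; omega)]
        intro e0
        have e2 : (n : ZMod (n * n)) = 0 := by linear_combination e0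
        have := Nat.le_of_dvd (by omega) ((ZMod.natCast_eq_zero_iff n (n * n)).1 e2)
        nlinarith
    · obtain ⟨θ, hθ⟩ := exists_order (F := F) hrq
      by_cases h3 : r = 3
      · subst h3
        have hn4 : 4 ≤ n := by
          by_contra hcon
          exact hsq ⟨Or.inl rfl, by omega⟩
        refine hnd (fun i : Fin n => if i.val < 3 then 1 else 0) θ hθ hdvd ?_ (fun i j => by simp only [ZMod.natCast_self, zero_mul])
          ⟨⟨0, by omega⟩, ⟨3, by omega⟩, by simp⟩ (no_pairing_three hn4 fun e0 => hgap ⟨e0, rfl⟩)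
        rw [exponent_one hn3 (1 : ZMod 3) (fun i => if i < 3 then 1 else 0) (fun i hi => if_neg (by omega))]
        simp only [show (0 : ℕ) < 3 by omega, show (1 : ℕ) < 3 by omega, show (2 : ℕ) < 3 by omega, if_true]
        have h30 : ((3 : ℕ) : ZMod 3) = 0 := ZMod.natCast_self 3
        push_cast at h30
        linear_combination h30
      · have h5 : 5 ≤ r := by
          have : r ≠ 4 := fun e0 => by rw [e0] at hr; norm_num at hr
          omega
        refine hnd (fun i : Fin n => if i.val < 2 then 1 else if i.val = 2 then -2 else 0) θ hθ hdvd ?_ (fun i j => by simp)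
          ⟨⟨0, by omega⟩, ⟨2, by omega⟩, ?_⟩ (no_pairing_five h5 hn3 fun e0 => hsq ⟨Or.inr e0.1, e0.2.trans e0.1.symm⟩)
        · rw [exponent_one hn3 (1 : ZMod r) (fun i => if i < 2 then 1 else if i = 2 then -2 else 0)
            (fun i hi => by rw [if_neg (by omega), if_neg (by omega)])]
          norm_num
        · simp only [show ¬ (2 : ℕ) < 2 by omega, if_false, if_true, show (0 : ℕ) < 2 by omega]
          intro e0
          have : ((3 : ℕ) : ZMod r) = 0 := by push_cast; linear_combination e0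
          have := Nat.le_of_dvd (by omega) ((ZMod.natCast_eq_zero_iff _ _).1 this)
          omega

end Cfsg.Agent.LBSubSpec
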