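/-
Elements of order three in characteristic three and subfield groups of SL_n.
-/
import Cfsg.Agent.Lib.LinearBlock.LinSubfieldInvolution
import Cfsg.Agent.Lib.Classical.NilpotentJordan
import Cfsg.Prelude.Def_JordanBlocks

set_option autoImplicit false
set_option linter.all false

namespace Cfsg.Agent.LBSubThree

open Matrix Module

variable {F : Type*} [Field F] {n : ℕ}

/-- Jordan form of a nilpotent matrix with explicit change of basis. -/
theorem exists_jordan (N : Matrix (Fin n) (Fin n) F) {r : ℕ} (hN : N ^ r = 0) :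
    ∃ (t : ℕ) (d : Fin t → ℕ) (σ : ((k : Fin t) × Fin (d k)) ≃ Fin n) (g : GL (Fin n) F),
      (∀ k, d k ≤ r) ∧ g.1 * (N + 1) = Matrix.reindex σ σ (Cfsg.jordanTypeMatrix d F) * g.1 := by
  classical
  obtain ⟨f, hf⟩ : ∃ f : Module.End F (Fin n → F), f = Matrix.toLinAlgEquiv' N := ⟨_, rfl⟩
  have hfr : f ^ r = 0 := by rw [hf, ← map_pow, hN, map_zero]
  obtain ⟨t, d, e, he⟩ := NilJordan.exists_sim f ⟨r, hfr⟩
  have hsum : ∑ k, d k = n := by
    have h1 := LinearEquiv.finrank_eq e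
    rw [NilJordan.finrank_model, Module.finrank_fin_fun] at h1
    exact h1.symm
  have hdr : ∀ k, d k ≤ r := by
    intro k
    by_contra hlt
    obtain ⟨v, hv⟩ := e.surjective (Pi.single k (fun j => if (j : ℕ) = 0 then 1 else 0))
    have h1 := NilJordan.Sim.pow he r v
    rw [hfr, LinearMap.zero_apply, map_zero, hv] at h1
    have h2 := congrFun (congrFun h1.symm k) ⟨r, by omega⟩
    rw [NilJordan.nf_pow_apply, Pi.single_eq_same, NilJordan.shift_pow_apply, dif_pos le_rfl, if_pos (by simp)] at h2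
    exact one_ne_zero h2
  obtain ⟨σ⟩ : Nonempty (((k : Fin t) × Fin (d k)) ≃ Fin n) := ⟨Fintype.equivOfCardEq (by simp [hsum])⟩
  let cu : ((k : Fin t) → Fin (d k) → F) ≃ₗ[F] (Fin n → F) :=
    (LinearEquiv.piCurry F (fun (k : Fin t) (_ : Fin (d k)) => F)).symm.trans (LinearEquiv.funCongrLeft F F σ.symm)
  let T : (Fin n → F) ≃ₗ[F] (Fin n → F) := e.trans cu
  let g : GL (Fin n) F := ⟨LinearMap.toMatrix' T.toLinearMap, LinearMap.toMatrix' T.symm.toLinearMap,
    by rw [← LinearMap.toMatrix'_comp]; simp, by rw [← LinearMap.toMatrix'_comp]; simp⟩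
  refine ⟨t, d, σ, g, hdr, Matrix.ext_iff_mulVec.2 fun v => ?_⟩
  rw [← mulVec_mulVec, ← mulVec_mulVec, add_mulVec, one_mulVec]
  show LinearMap.toMatrix' T.toLinearMap *ᵥ _ = _ *ᵥ (LinearMap.toMatrix' T.toLinearMap *ᵥ _)
  rw [LinearMap.toMatrix'_mulVec, LinearMap.toMatrix'_mulVec, Matrix.reindex_apply, Matrix.submatrix_mulVec_equiv,
    Equiv.symm_symm]
  show cu (e (N *ᵥ v + v)) = (Cfsg.jordanTypeMatrix d F *ᵥ (cu (e v) ∘ σ)) ∘ σ.symm
  rw [map_add, show e (N *ᵥ v) = NilJordan.nf F d (e v) by rw [← he, hf]; rfl]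
  funext j
  obtain ⟨⟨k, i⟩, rfl⟩ := σ.surjective j
  have hcu : ∀ (w : (k : Fin t) → Fin (d k) → F) (a : (k : Fin t) × Fin (d k)), cu w (σ a) = w a.1 a.2 := fun w a => by
    show w (σ.symm (σ a)).1 (σ.symm (σ a)).2 = _
    rw [Equiv.symm_apply_apply]
  rw [hcu, Function.comp_apply, Equiv.symm_apply_apply, Pi.add_apply, Pi.add_apply]
  rw [Matrix.mulVec, dotProduct, Fintype.sum_sigma, Finset.sum_eq_single k (fun l _ hl => Finset.sum_eq_zero fun x _ => by
    rw [Cfsg.jordanTypeMatrix, Matrix.blockDiagonal'_apply_ne _ _ _ (Ne.symm hl), zero_mul]) (by simp)]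
  simp only [Cfsg.jordanTypeMatrix, Matrix.blockDiagonal'_apply_eq, Cfsg.jordanBlock, Matrix.of_apply, Function.comp_apply, hcu]
  show NilJordan.shift F (d k) (e v k) i + e v k i = _
  rw [← Finset.add_sum_erase _ _ (Finset.mem_univ i), if_pos rfl, one_mul, add_comm]
  refine congrArg (e v k i + ·) ?_
  show (if h : 0 < (i : ℕ) then e v k ⟨(i : ℕ) - 1, by omega⟩ else 0) = _
  split_ifs with h
  · rw [Finset.sum_eq_single (⟨(i : ℕ) - 1, by omega⟩ : Fin (d k)) (fun x hx hne => by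
        rw [if_neg (fun e => Finset.ne_of_mem_erase hx (Fin.ext e.symm)),
          if_neg (fun e => hne (Fin.ext (by simp only; omega))), zero_mul])
      (fun hn => absurd (Finset.mem_erase.2 ⟨fun e => by have := congrArg Fin.val e; simp only at this; omega, Finset.mem_univ _⟩) hn),
      if_neg (by simp only; omega), if_pos (by simp only; omega), one_mul]
  · exact (Finset.sum_eq_zero fun x hx => by
      rw [if_neg (fun e => Finset.ne_of_mem_erase hx (Fin.ext e.symm)), if_neg (by omega), zero_mul]).symm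

theorem cube_root [Fintype F] [CharP F 3] (z : F) : ∃ a, a ^ 3 = z := by
  haveI : Fact (Nat.Prime 3) := ⟨Nat.prime_three⟩
  exact ⟨(frobeniusEquiv F 3).symm z, frobenius_apply_frobeniusEquiv_symm F 3 z⟩

variable {F₀ : Subfield F}

theorem main [Fintype F] [CharP F 3] (hn : 0 < n) {k : ℕ} (hqk : Fintype.card F = Nat.card F₀ ^ k)
    (hcase : Odd n ∨ Odd k) (x : Matrix.SpecialLinearGroup (Fin n) F) {z : F} (hxz : x.1 ^ 3 = z • 1) :
    ∃ P : Matrix.SpecialLinearGroup (Fin n) F, P⁻¹ * x * P ∈ ((Cfsg.Geo.subfieldSubgroup F₀ 1).comap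
      (Matrix.SpecialLinearGroup.toGL : Matrix.SpecialLinearGroup (Fin n) F →* GL (Fin n) F)) := by
  classical
  haveI : Fact (Nat.Prime 3) := ⟨Nat.prime_three⟩
  haveI : Nonempty (Fin n) := ⟨⟨0, hn⟩⟩
  haveI : CharP (Matrix (Fin n) (Fin n) F) 3 := inferInstance
  obtain ⟨a, rfl⟩ := cube_root z
  have ha : a ≠ 0 := fun e => by
    have h := congrArg Matrix.det hxz
    rw [det_pow, x.2, e, zero_pow three_ne_zero, zero_smul, det_zero, one_pow] at h
    exact one_ne_zero h
  obtain ⟨N, hNdef⟩ : ∃ N, N = a⁻¹ • x.1 - 1 := ⟨_, rfl⟩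
  have hN : N ^ 3 = 0 := by
    rw [hNdef, sub_pow_char_of_commute (p := 3) (Commute.one_right _), smul_pow, hxz, smul_smul, ← mul_pow,
      inv_mul_cancel₀ ha, one_pow, one_smul, one_pow, sub_self]
  obtain ⟨t, d, σ, g, hd, hg⟩ := exists_jordan N hN
  have hsum : ∑ k, d k = n := by
    have := Fintype.card_congr σ
    simpa using this
  obtain ⟨A, hA⟩ : ∃ A, A = Matrix.reindex σ σ (Cfsg.jordanTypeMatrix d F) := ⟨_, rfl⟩
  rw [← hA] at hg
  obtain ⟨k₀, hk₀, c, hc, t₀, ht₀, ht₀', hdet⟩ : ∃ k₀ : Fin t, 0 < d k₀ ∧ ∃ c : F, c ≠ 0 ∧ ∃ t₀ ∈ F₀, t₀ ≠ 0 ∧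
      c ^ d k₀ * t₀ = g.1.det := by
    have hg0 : g.1.det ≠ 0 := (GeneralLinearGroup.det g).ne_zero
    by_cases hodd : ∃ k₀, Odd (d k₀)
    · obtain ⟨k₀, hk⟩ := hodd
      refine ⟨k₀, hk.pos, ?_⟩
      obtain ⟨w, hw⟩ := hk
      rcases (by have := hd k₀; omega : d k₀ = 1 ∨ d k₀ = 3) with h | h
      · exact ⟨g.1.det, hg0, 1, F₀.one_mem, one_ne_zero, by rw [h, pow_one, mul_one]⟩
      · obtain ⟨c, hc⟩ := cube_root g.1.det
        exact ⟨c, fun e => hg0 (by rw [← hc, e, zero_pow three_ne_zero]), 1, F₀.one_mem, one_ne_zero, by rw [h, hc, mul_one]⟩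
    · push Not at hodd
      have hne : Even n := by
        rw [← hsum]
        exact Finset.even_sum _ fun k _ => Nat.not_odd_iff_even.1 (hodd k)
      have hk : Odd k := hcase.resolve_left (Nat.not_odd_iff_even.2 hne)
      obtain ⟨k₀, hk₀⟩ : ∃ k₀, 0 < d k₀ := by
        by_contra hcon
        push Not at hcon
        rw [Finset.sum_eq_zero fun k _ => Nat.le_zero.1 (hcon k)] at hsum
        omega
      have hq : Odd (Fintype.card F) := by
        obtain ⟨e, -, he⟩ := FiniteField.card F 3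
        rw [he]; exact Odd.pow (by decide)
      obtain ⟨t₀, ht₀, s, hs, hz⟩ := LBSubfieldInv.nonsquare_rational hk hq hqk hg0
      have h2 : d k₀ = 2 := by
        have := hd k₀
        have := Nat.not_odd_iff_even.1 (hodd k₀)
        rw [Nat.even_iff] at this
        omega
      exact ⟨k₀, hk₀, s, hs, t₀, ht₀, fun e => hg0 (by rw [hz, e, zero_mul]), by rw [h2, hz]; ring⟩
  -- the two diagonal corrections
  obtain ⟨D, hD⟩ : ∃ D : Fin n → F, D = fun j => if (σ.symm j).1 = k₀ then c else 1 := ⟨_, rfl⟩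
  obtain ⟨E, hE⟩ : ∃ E : Fin n → F, E = fun j => if j = σ ⟨k₀, ⟨0, hk₀⟩⟩ then t₀ else 1 := ⟨_, rfl⟩
  have hDA : diagonal D * A = A * diagonal D := by
    ext i j
    rw [diagonal_mul, mul_diagonal, hA, Matrix.reindex_apply, submatrix_apply]
    by_cases h : (σ.symm i).1 = (σ.symm j).1
    · rw [hD]; simp only [h]; rw [mul_comm]
    · obtain ⟨⟨k1, i1⟩, rfl⟩ := σ.surjective i
      obtain ⟨⟨k2, i2⟩, rfl⟩ := σ.surjective j
      rw [Equiv.symm_apply_apply, Equiv.symm_apply_apply] at h ⊢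
      rw [Cfsg.jordanTypeMatrix, Matrix.blockDiagonal'_apply_ne _ _ _ h, mul_zero, zero_mul]
  have hDdet : (diagonal D).det = c ^ d k₀ := by
    rw [det_diagonal, ← Equiv.prod_comp σ, Fintype.prod_sigma, Finset.prod_eq_single k₀
      (fun b _ hb => Finset.prod_eq_one fun x _ => by simp [hD, hb]) (by simp)]
    simp [hD]
  have hEdet : (diagonal E).det = t₀ := by
    rw [det_diagonal, hE, Finset.prod_ite_eq']
    simp
  have hE0 : ∀ j, E j ≠ 0 := fun j => by rw [hE]; simp only; split_ifs <;> [exact ht₀'; exact one_ne_zero]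
  obtain ⟨P, hP⟩ : ∃ P : Matrix.SpecialLinearGroup (Fin n) F, P.1 = (g⁻¹).1 * diagonal D * diagonal E := by
    refine ⟨⟨_, ?_⟩, rfl⟩
    have h1 : (g⁻¹).1.det * g.1.det = 1 := by rw [← det_mul, Units.inv_mul, det_one]
    rw [det_mul, det_mul, hDdet, hEdet, mul_assoc, hdet, h1]
  obtain ⟨H, hH⟩ : ∃ H, H = diagonal (fun j => (E j)⁻¹) * A * diagonal E := ⟨_, rfl⟩
  have hPH : P.1 * (a • H) = x.1 * P.1 := by
    have e1 : x.1 = a • ((g⁻¹).1 * A * g.1) := by
      rw [Matrix.mul_assoc, ← hg, ← Matrix.mul_assoc, Units.inv_mul, one_mul, hNdef, sub_add_cancel, smul_smul,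
        mul_inv_cancel₀ ha, one_smul]
    rw [Matrix.mul_smul, e1, Matrix.smul_mul, hP, hH]
    congr 1
    calc (g⁻¹).1 * diagonal D * diagonal E * (diagonal (fun j => (E j)⁻¹) * A * diagonal E)
        = (g⁻¹).1 * diagonal D * (diagonal E * diagonal (fun j => (E j)⁻¹)) * A * diagonal E := by simp only [Matrix.mul_assoc]
      _ = (g⁻¹).1 * (diagonal D * A) * diagonal E := by
          rw [diagonal_mul_diagonal, show (fun j => E j * (E j)⁻¹) = 1 from funext fun j => mul_inv_cancel₀ (hE0 j)]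
          simp [Matrix.mul_assoc]
      _ = (g⁻¹).1 * A * g.1 * ((g⁻¹).1 * diagonal D * diagonal E) := by
          rw [hDA]; simp [Matrix.mul_assoc]
  refine ⟨P, Subgroup.mem_comap.2 ((LBSubfieldInv.mem_iff _).2 ⟨a⁻¹, inv_ne_zero ha, ?_⟩)⟩
  have hval : (P⁻¹ * x * P : Matrix.SpecialLinearGroup (Fin n) F).1 = a • H := by
    rw [Matrix.SpecialLinearGroup.coe_mul, Matrix.SpecialLinearGroup.coe_mul, Matrix.mul_assoc, ← hPH, ← Matrix.mul_assoc,
      ← Matrix.SpecialLinearGroup.coe_mul, inv_mul_cancel, Matrix.SpecialLinearGroup.coe_one, one_mul]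
  intro i j
  show (a⁻¹ • (P⁻¹ * x * P : Matrix.SpecialLinearGroup (Fin n) F).1) i j ∈ F₀
  rw [hval, smul_smul, inv_mul_cancel₀ ha, one_smul, hH, mul_diagonal, diagonal_mul]
  have hEm : ∀ l, E l ∈ F₀ := fun l => by rw [hE]; simp only; split_ifs <;> [exact ht₀; exact F₀.one_mem]
  refine F₀.mul_mem (F₀.mul_mem (F₀.inv_mem (hEm i)) ?_) (hEm j)
  rw [hA, Matrix.reindex_apply, submatrix_apply]
  obtain ⟨⟨k1, i1⟩, rfl⟩ := σ.surjective i
  obtain ⟨⟨k2, i2⟩, rfl⟩ := σ.surjective j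
  rw [Equiv.symm_apply_apply, Equiv.symm_apply_apply]
  by_cases h : k1 = k2
  · subst h
    rw [Cfsg.jordanTypeMatrix, Matrix.blockDiagonal'_apply_eq, Cfsg.jordanBlock, Matrix.of_apply]
    split_ifs <;> first | exact F₀.one_mem | exact F₀.zero_mem
  · rw [Cfsg.jordanTypeMatrix, Matrix.blockDiagonal'_apply_ne _ _ _ h]
    exact F₀.zero_mem

section invariant

variable {m : ℕ}

/-- The frame attached to a square-zero map and complementary vectors. -/
def frame (e : Fin m ⊕ Fin m ≃ Fin n) (N : Matrix (Fin n) (Fin n) F) (W : Matrix (Fin n) (Fin m) F) :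
    Matrix (Fin m ⊕ Fin m) (Fin m ⊕ Fin m) F :=
  Matrix.of fun a b => Sum.elim (fun j => (N * W) (e a) j) (fun j => W (e a) j) b

/-- Two frames differ by a square. -/
theorem frame_square (e : Fin m ⊕ Fin m ≃ Fin n) {N : Matrix (Fin n) (Fin n) F} (hN : N * N = 0)
    {W W' : Matrix (Fin n) (Fin m) F} (hW : (frame e N W).det ≠ 0) :
    ∃ s : F, (frame e N W').det = s * s * (frame e N W).det := by
  classical
  obtain ⟨C, hC⟩ : ∃ C : Matrix (Fin m ⊕ Fin m) (Fin m) F, C = (frame e N W)⁻¹ * Matrix.of (fun a j => W' (e a) j) := ⟨_, rfl⟩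
  obtain ⟨B, hB⟩ : ∃ B : Matrix (Fin m) (Fin m) F, B = Matrix.of fun i j => C (Sum.inl i) j := ⟨_, rfl⟩
  obtain ⟨A, hA⟩ : ∃ A : Matrix (Fin m) (Fin m) F, A = Matrix.of fun i j => C (Sum.inr i) j := ⟨_, rfl⟩
  have hW' : W' = N * W * B + W * A := by
    ext i j
    obtain ⟨a, rfl⟩ := e.surjective i
    have h := congrFun (congrFun (show frame e N W * C = Matrix.of (fun a j => W' (e a) j) by
      rw [hC, ← Matrix.mul_assoc, Matrix.mul_nonsing_inv _ hW.isUnit, Matrix.one_mul]) a) j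
    rw [Matrix.mul_apply, Fintype.sum_sum_type] at h
    simp only [frame, Matrix.of_apply, Sum.elim_inl, Sum.elim_inr] at h
    rw [← h, Matrix.add_apply, Matrix.mul_apply (M := N * W), Matrix.mul_apply (M := W)]
    simp [hA, hB]
  have hNW' : N * W' = N * W * A := by
    rw [hW', Matrix.mul_add, ← Matrix.mul_assoc, ← Matrix.mul_assoc, hN, Matrix.zero_mul, Matrix.zero_mul, zero_add, ← Matrix.mul_assoc]
  refine ⟨A.det, ?_⟩
  have : frame e N W' = frame e N W * fromBlocks A B 0 A := by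
    ext a b
    rw [Matrix.mul_apply, Fintype.sum_sum_type]
    rcases b with b | b <;> simp only [frame, Matrix.of_apply, Sum.elim_inl, Sum.elim_inr, fromBlocks_apply₁₁,
      fromBlocks_apply₁₂, fromBlocks_apply₂₁, fromBlocks_apply₂₂]
    · rw [hNW', Matrix.mul_apply (M := N * W)]; simp
    · rw [hW', Matrix.add_apply, Matrix.mul_apply (M := N * W), Matrix.mul_apply (M := W)]
  rw [this, det_mul, det_fromBlocks_zero₂₁]
  ring

/-- Coordinate vectors completing the frame. -/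
theorem exists_unit_frame (e : Fin m ⊕ Fin m ≃ Fin n) {N : Matrix (Fin n) (Fin n) F} (hN : N * N = 0)
    {W : Matrix (Fin n) (Fin m) F} (hW : (frame e N W).det ≠ 0) :
    ∃ c : Fin m → Fin n, (frame e N (Matrix.of fun i j => if i = c j then 1 else 0)).det ≠ 0 := by
  classical
  have key : ∀ (W : Matrix (Fin n) (Fin m) F) (u : Fin m ⊕ Fin m → F) (i : Fin m ⊕ Fin m),
      (frame e N W *ᵥ u) i = ((N * W) *ᵥ (u ∘ Sum.inl)) (e i) + (W *ᵥ (u ∘ Sum.inr)) (e i) := by
    intro W u i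
    rw [Matrix.mulVec, dotProduct, Fintype.sum_sum_type]
    simp [frame, Matrix.mulVec, dotProduct]
  -- the rank
  have hli : LinearIndependent F fun j => (N * W).col j := by
    rw [← Matrix.mulVec_injective_iff]
    intro u u' huu
    have : frame e N W *ᵥ Sum.elim (u - u') 0 = 0 := funext fun i => by
      rw [key, Sum.elim_comp_inl, Sum.elim_comp_inr, mulVec_sub, mulVec_zero, Pi.zero_apply, add_zero, Pi.sub_apply, huu, sub_self]
      rfl
    have h0 := Matrix.eq_zero_of_mulVec_eq_zero hW this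
    exact sub_eq_zero.1 (funext fun j => congrFun h0 (Sum.inl j))
  obtain ⟨R, hR⟩ : ∃ R, R = LinearMap.range (Matrix.mulVecLin N) := ⟨_, rfl⟩
  have hm : finrank F R = m := by
    have hle : R ≤ LinearMap.ker (Matrix.mulVecLin N) := by
      rw [hR]
      rintro _ ⟨v, rfl⟩
      rw [LinearMap.mem_ker, Matrix.mulVecLin_apply, Matrix.mulVecLin_apply, mulVec_mulVec, hN, zero_mulVec]
    have h1 := Submodule.finrank_mono hle
    have h2 := LinearMap.finrank_range_add_finrank_ker (Matrix.mulVecLin N)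
    rw [← hR, Module.finrank_fin_fun] at h2
    have h3 : m ≤ finrank F R := by
      have h4 : Submodule.span F (Set.range fun j => (N * W).col j) ≤ R := by
        rw [Submodule.span_le, hR]
        rintro _ ⟨j, rfl⟩
        refine ⟨W.col j, ?_⟩
        rw [Matrix.mulVecLin_apply]
        funext i
        simp [Matrix.mul_apply, Matrix.mulVec, dotProduct]
      have := Submodule.finrank_mono h4
      rwa [finrank_span_eq_card hli, Fintype.card_fin] at this
    have hmn := Fintype.card_congr e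
    simp at hmn
    omega
  obtain ⟨κ, a, ha, hspan, hli'⟩ := exists_linearIndependent' F (fun j => N.col j)
  haveI : Finite κ := Finite.of_injective a ha
  haveI : Fintype κ := Fintype.ofFinite κ
  have hκ : Fintype.card κ = m := by
    have h := finrank_span_eq_card hli'
    rw [hspan, ← Matrix.range_mulVecLin, ← hR, hm] at h
    exact h.symm
  obtain ⟨ε⟩ : Nonempty (Fin m ≃ κ) := ⟨(Fintype.equivFinOfCardEq hκ).symm⟩
  refine ⟨fun j => a (ε j), ?_⟩
  obtain ⟨U, hU⟩ : ∃ U : Matrix (Fin n) (Fin m) F, U = Matrix.of fun i j => if i = a (ε j) then 1 else 0 := ⟨_, rfl⟩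
  rw [← hU]
  intro h0
  obtain ⟨u, hu0, hu⟩ := Matrix.exists_mulVec_eq_zero_iff.2 h0
  have h1 : (N * U) *ᵥ (u ∘ Sum.inl) + U *ᵥ (u ∘ Sum.inr) = 0 := funext fun i => by
    obtain ⟨b, rfl⟩ := e.surjective i
    have := congrFun hu b
    rw [key] at this
    exact this
  have hNU : ∀ w, (N * U) *ᵥ w = 0 → w = 0 := by
    intro w hw
    have hcol : (fun j => (N * U).col j) = fun j => N.col (a (ε j)) := funext fun j => funext fun i => by
      simp [hU, Matrix.mul_apply]
    have hinj : Function.Injective (N * U).mulVec := by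
      rw [Matrix.mulVec_injective_iff]
      show LinearIndependent F fun j => (N * U).col j
      rw [hcol]
      exact hli'.comp _ ε.injective
    exact hinj (hw.trans (mulVec_zero _).symm)
  have hr : u ∘ Sum.inr = 0 := hNU _ (by
    have := congrArg (N *ᵥ ·) h1
    simp only [mulVec_add, mulVec_mulVec, mulVec_zero] at this
    rwa [← Matrix.mul_assoc, hN, Matrix.zero_mul, zero_mulVec, zero_add] at this)
  rw [hr, mulVec_zero, add_zero] at h1
  have hl := hNU _ h1
  exact hu0 (funext fun b => by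
    rcases b with b | b
    · exact congrFun hl b
    · exact congrFun hr b)

theorem witness [Fintype F] [CharP F 3] (hm : 0 < m) (hnm : n = 2 * m) (hqk : Fintype.card F = Nat.card F₀ ^ 2) :
    ∃ x : Matrix.SpecialLinearGroup (Fin n) F, x.1 ^ 3 = 1 ∧ (∀ z : F, x.1 ≠ z • 1) ∧
      ∀ P : Matrix.SpecialLinearGroup (Fin n) F, P⁻¹ * x * P ∉ ((Cfsg.Geo.subfieldSubgroup F₀ 1).comap
        (Matrix.SpecialLinearGroup.toGL : Matrix.SpecialLinearGroup (Fin n) F →* GL (Fin n) F)) := by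
  classical
  haveI : Fact (Nat.Prime 3) := ⟨Nat.prime_three⟩
  have h2 : (2 : F) ≠ 0 := by
    intro h
    have : ((2 : ℕ) : F) = 0 := by exact_mod_cast h
    rw [CharP.cast_eq_zero_iff F 3] at this
    omega
  have hodd : Odd (Fintype.card F) := by
    obtain ⟨f, -, hf⟩ := FiniteField.card F 3
    rw [hf]; exact Odd.pow (by decide)
  obtain ⟨δ, hδ⟩ := FiniteField.exists_nonsquare (F := F) (fun h => h2 (by
    haveI := ringChar.of_eq h; exact CharTwo.two_eq_zero))
  obtain ⟨e⟩ : Nonempty (Fin m ⊕ Fin m ≃ Fin n) := ⟨finSumFinEquiv.trans (finCongr (by omega))⟩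
  obtain ⟨D, hD⟩ : ∃ D : Fin m → F, D = fun i => if i = ⟨0, hm⟩ then δ else 1 := ⟨_, rfl⟩
  obtain ⟨N₀, hN₀⟩ : ∃ N₀ : Matrix (Fin m ⊕ Fin m) (Fin m ⊕ Fin m) F, N₀ = fromBlocks 0 (diagonal D) 0 0 := ⟨_, rfl⟩
  obtain ⟨N, hNe⟩ : ∃ N, N = Matrix.reindexAlgEquiv F F e N₀ := ⟨_, rfl⟩
  have hN : N * N = 0 := by
    rw [hNe, ← map_mul, hN₀, fromBlocks_multiply]; simp
  obtain ⟨W, hW⟩ : ∃ W : Matrix (Fin n) (Fin m) F, W = Matrix.of fun i j => if i = e (Sum.inr j) then 1 else 0 := ⟨_, rfl⟩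
  have hframe : frame e N W = fromBlocks (diagonal D) 0 0 1 := by
    ext a b
    rcases b with b | b
    · simp only [frame, Matrix.of_apply, Sum.elim_inl, Matrix.mul_apply, hW, mul_ite, mul_one, mul_zero, Finset.sum_ite_eq',
        Finset.mem_univ, if_true, hNe, Matrix.reindexAlgEquiv_apply, Matrix.reindex_apply, submatrix_apply, Equiv.symm_apply_apply, hN₀]
      rcases a with a | a <;> simp
    · simp only [frame, Matrix.of_apply, Sum.elim_inr, hW, e.injective.eq_iff]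
      rcases a with a | a <;> simp [Matrix.one_apply]
  have hdetW : (frame e N W).det = δ := by
    rw [hframe, det_fromBlocks_zero₂₁, det_one, mul_one, det_diagonal, hD, Finset.prod_ite_eq']
    simp
  obtain ⟨x, hx⟩ : ∃ x : Matrix.SpecialLinearGroup (Fin n) F, x.1 = 1 + N := ⟨⟨1 + N, by
    rw [hNe, ← map_one (Matrix.reindexAlgEquiv F F e), ← map_add, det_reindexAlgEquiv, hN₀, ← fromBlocks_one, fromBlocks_add,
      add_zero, add_zero, det_fromBlocks_zero₂₁] <;> simp⟩, rfl⟩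
  haveI : Nonempty (Fin n) := ⟨⟨0, by omega⟩⟩
  refine ⟨x, ?_, fun z hz => ?_, fun P hP => ?_⟩
  · rw [hx, add_pow_char_of_commute (p := 3) (Commute.one_left _), one_pow, pow_succ, pow_two, hN, zero_mul, add_zero]
  · have h := congrFun (congrFun hz (e (Sum.inl ⟨0, hm⟩))) (e (Sum.inr ⟨0, hm⟩))
    rw [hx, hNe] at h
    simp [hN₀, hD, Matrix.one_apply] at h
    exact hδ (h ▸ IsSquare.zero)
  obtain ⟨a, ha, hrat⟩ := (LBSubfieldInv.mem_iff _).1 (Subgroup.mem_comap.1 hP)
  obtain ⟨h, hh⟩ : ∃ h, h = (P⁻¹ * x * P : Matrix.SpecialLinearGroup (Fin n) F).1 := ⟨_, rfl⟩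
  have hrat' : Transvec.RatM F₀ (a • h) := hh ▸ hrat
  have hPP : P.1 * (P⁻¹).1 = 1 := by rw [← Matrix.SpecialLinearGroup.coe_mul, mul_inv_cancel, Matrix.SpecialLinearGroup.coe_one]
  have hPP' : (P⁻¹).1 * P.1 = 1 := mul_eq_one_comm.1 hPP
  obtain ⟨N', hN'⟩ : ∃ N', N' = (P⁻¹).1 * N * P.1 := ⟨_, rfl⟩
  have hhN : h = 1 + N' := by
    rw [hh, Matrix.SpecialLinearGroup.coe_mul, Matrix.SpecialLinearGroup.coe_mul, hx, mul_add, add_mul, mul_one, hPP', hN']
  have hN'2 : N' * N' = 0 := by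
    rw [hN', show (P⁻¹).1 * N * P.1 * ((P⁻¹).1 * N * P.1) = (P⁻¹).1 * N * (P.1 * (P⁻¹).1) * N * P.1 by simp only [Matrix.mul_assoc],
      hPP, mul_one, Matrix.mul_assoc _ N N, hN, mul_zero, zero_mul]
  -- the scalar is rational
  have haF : a ∈ F₀ := by
    have h3 := Transvec.ratM_mul hrat' (Transvec.ratM_mul hrat' hrat')
    have hh3 : h * (h * h) = 1 := by
      rw [hhN, ← pow_two, ← pow_succ', add_pow_char_of_commute (p := 3) (Commute.one_left _), one_pow, pow_succ, pow_two, hN'2,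
        zero_mul, add_zero]
    have hi := h3 (Classical.arbitrary _) (Classical.arbitrary _)
    rw [smul_mul_smul_comm, smul_mul_smul_comm, hh3, Matrix.smul_apply, one_apply_eq, smul_eq_mul, mul_one] at hi
    haveI : Finite F₀ := inferInstance
    have hinj : Function.Injective fun b : F₀ => b * (b * b) := fun b c hbc => Subtype.ext (frobenius_inj F 3 (by
      have : (b : F) * (b * b) = c * (c * c) := congrArg Subtype.val hbc
      rw [frobenius_def, frobenius_def, pow_succ', pow_two, this, pow_succ', pow_two]))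
    obtain ⟨b, hb⟩ := (Finite.injective_iff_surjective.1 hinj) ⟨_, hi⟩
    have : (b : F) = a := frobenius_inj F 3 (by
      have e : (b : F) * (b * b) = a * (a * a) := congrArg Subtype.val hb
      rw [frobenius_def, frobenius_def, pow_succ', pow_two, e, pow_succ', pow_two])
    exact this ▸ b.2
  have hNrat : ∀ i j, N' i j ∈ F₀ := by
    intro i j
    have e1 : N' i j = a⁻¹ * (a • h) i j - (1 : Matrix (Fin n) (Fin n) F) i j := by
      rw [Matrix.smul_apply, smul_eq_mul, ← mul_assoc, inv_mul_cancel₀ ha, one_mul, hhN, Matrix.add_apply, add_sub_cancel_left]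
    rw [e1]
    refine F₀.sub_mem (F₀.mul_mem (F₀.inv_mem haF) (hrat' i j)) ?_
    rw [Matrix.one_apply]; split_ifs <;> first | exact F₀.one_mem | exact F₀.zero_mem
  -- transport the standard frame
  have hfr : ∀ (V : Matrix (Fin n) (Fin m) F), frame e N' ((P⁻¹).1 * V) = ((P⁻¹).1.submatrix e e) * frame e N V := by
    intro V
    ext i j
    rw [Matrix.mul_apply]
    rw [show N' = (P⁻¹).1 * N * P.1 from hN']
    have hNV : (P⁻¹).1 * N * P.1 * ((P⁻¹).1 * V) = (P⁻¹).1 * (N * V) := by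
      rw [show (P⁻¹).1 * N * P.1 * ((P⁻¹).1 * V) = (P⁻¹).1 * N * (P.1 * (P⁻¹).1) * V by simp only [Matrix.mul_assoc],
        hPP, Matrix.mul_one, Matrix.mul_assoc]
    rcases j with j | j <;> simp only [frame, Matrix.of_apply, Sum.elim_inl, Sum.elim_inr, submatrix_apply]
    · rw [hNV, Matrix.mul_apply, ← Equiv.sum_comp e]
    · rw [Matrix.mul_apply, ← Equiv.sum_comp e]
  have hdet' : (frame e N' ((P⁻¹).1 * W)).det = δ := by
    rw [hfr, det_mul, det_submatrix_equiv_self, (P⁻¹).2, one_mul, hdetW]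
  have hδ0 : δ ≠ 0 := fun e => hδ (e ▸ IsSquare.zero)
  obtain ⟨c, hc⟩ := exists_unit_frame e hN'2 (W := (P⁻¹).1 * W) (by rw [hdet']; exact hδ0)
  obtain ⟨U, hU⟩ : ∃ U : Matrix (Fin n) (Fin m) F, U = Matrix.of fun i j => if i = c j then 1 else 0 := ⟨_, rfl⟩
  rw [← hU] at hc
  obtain ⟨s, hs⟩ := frame_square e hN'2 (W' := (P⁻¹).1 * W) hc
  rw [hdet'] at hs
  have hmem : (frame e N' U).det ∈ F₀ := by
    rw [Matrix.det_apply]
    refine F₀.sum_mem fun π _ => ?_
    rw [Units.smul_def, zsmul_eq_mul]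
    refine F₀.mul_mem (intCast_mem F₀ _) (F₀.prod_mem fun b _ => ?_)
    have hUe : ∀ i j, U i j ∈ F₀ := fun i j => by
      rw [hU, Matrix.of_apply]; split_ifs <;> first | exact F₀.one_mem | exact F₀.zero_mem
    rcases b with b | b <;> simp only [frame, Matrix.of_apply, Sum.elim_inl, Sum.elim_inr]
    · rw [Matrix.mul_apply]; exact F₀.sum_mem fun l _ => F₀.mul_mem (hNrat _ _) (hUe _ _)
    · exact hUe _ _
  have hsq : IsSquare ((frame e N' U).det) := by
    rw [FiniteField.isSquare_iff (fun h => h2 (by haveI := ringChar.of_eq h; exact CharTwo.two_eq_zero)) hc]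
    have h1 : (frame e N' U).det ^ (Nat.card F₀ - 1) = 1 := by
      refine mul_right_cancel₀ hc ?_
      rw [← pow_succ, Nat.sub_add_cancel (Finite.one_lt_card.le), one_mul]
      exact (Aschbacher.mem_subfield_iff F₀).1 hmem
    obtain ⟨t, ht⟩ := (Nat.odd_pow_iff two_ne_zero).1 (hqk ▸ hodd)
    rw [show Fintype.card F / 2 = (Nat.card F₀ - 1) * (t + 1) by
      rw [hqk, ht, Nat.add_sub_cancel]
      have e : (2 * t + 1) ^ 2 = 2 * (2 * t * (t + 1)) + 1 := by ring
      omega, pow_mul, h1, one_pow]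
  obtain ⟨w, hw⟩ := hsq
  exact hδ ⟨s * w, by rw [hs, hw]; ring⟩

end invariant

end Cfsg.Agent.LBSubThree
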