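/-
Elements of prime order of PSp_2d(q) and orthogonal decompositions into non-degenerate subspaces of equal dimension.
-/
import Cfsg.Agent.Lib.Elusive.SympIso
import Cfsg.Agent.Lib.LinearBlock.DecompSpectra

set_option autoImplicit false
set_option linter.all false

namespace Cfsg.Agent.LBSympDecomp

open Module Elusive Polynomial

set_option maxHeartbeats 1000000

section form

variable {F : Type*} [Field F] {W : Type*} [AddCommGroup W] [Module F W] [FiniteDimensional F W]
  {B : LinearMap.BilinForm F W} {hA : B.IsAlt} {hB : B.Nondegenerate} {T : Module.End F W} {r : ℕ}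

local notation "Φ" => altForm hA hB

/-- Sums of orthogonal non-degenerate subspaces. -/
theorem nd_sup {X Y : Submodule F W} (hX : (Φ).ND X) (hY : (Φ).ND Y) (h : ∀ x ∈ X, ∀ y ∈ Y, B x y = 0) :
    (Φ).ND (X ⊔ Y) ∧ finrank F (X ⊔ Y : Submodule F W) = finrank F X + finrank F Y := by
  have h' : ∀ y ∈ Y, ∀ x ∈ X, B y x = 0 := fun y hy x hx => (Φ).refl _ _ (h x hx y hy)
  have hd : X ⊓ Y = ⊥ := eq_bot_iff.2 fun v hv => (Submodule.mem_bot F).2 (hX v hv.1 fun x hx => h' v hv.2 x hx)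
  refine ⟨fun u hu hz => ?_, ?_⟩
  · obtain ⟨x, hx, y, hy, rfl⟩ := Submodule.mem_sup.1 hu
    have hx0 : x = 0 := hX x hx fun x' hx' => by
      have := hz x' (Submodule.mem_sup_left hx')
      change B (x + y) x' = 0 at this
      rwa [map_add, LinearMap.add_apply, h' y hy x' hx', add_zero] at this
    have hy0 : y = 0 := hY y hy fun y' hy' => by
      have := hz y' (Submodule.mem_sup_right hy')
      change B (x + y) y' = 0 at this
      rwa [map_add, LinearMap.add_apply, h x hx y' hy', zero_add] at this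
    rw [hx0, hy0, add_zero]
  · have := Submodule.finrank_sup_add_finrank_inf_eq X Y
    rw [hd, finrank_bot] at this
    omega

/-- Climbing by non-degenerate blocks. -/
theorem nd_climb (hI : (Φ).Isom T) {S : Submodule F W} {c : ℕ}
    (hblock : ∀ U, Inv T U → U ≤ S → (Φ).ND U → U ≠ ⊥ → ∃ X, Inv T X ∧ X ≤ U ∧ (Φ).ND X ∧ finrank F X = c) :
    ∀ j, ∀ U, Inv T U → U ≤ S → (Φ).ND U → j * c ≤ finrank F U →
      ∃ X, Inv T X ∧ X ≤ U ∧ (Φ).ND X ∧ finrank F X = j * c := by
  intro j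
  induction j with
  | zero =>
    intro U _ _ _ _
    refine ⟨⊥, fun w hw => ?_, bot_le, fun u hu _ => (Submodule.mem_bot F).1 hu, by simp⟩
    rw [Submodule.mem_bot] at hw
    rw [hw, map_zero]
    exact Submodule.zero_mem _
  | succ j ih =>
    intro U hUi hUS hU hd
    rw [Nat.succ_mul] at hd
    rcases eq_or_ne U ⊥ with hb | hb
    · rw [hb, finrank_bot] at hd
      refine ⟨⊥, fun w hw => ?_, bot_le, fun u hu _ => (Submodule.mem_bot F).1 hu, by rw [Nat.succ_mul, finrank_bot]; omega⟩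
      rw [Submodule.mem_bot] at hw
      rw [hw, map_zero]
      exact Submodule.zero_mem _
    obtain ⟨X, hXi, hXU, hX, hXd⟩ := hblock U hUi hUS hU hb
    have hR : (Φ).ND ((Φ).perp X ⊓ U) := fun u hu hz => hU u hu.2 fun v hv => by
      obtain ⟨x, hx, y, hy, rfl⟩ := Submodule.mem_sup.1 (((Φ).isCompl_perp hX).sup_eq_top.ge (Submodule.mem_top (x := v)))
      have hyU : y ∈ U := by have := U.sub_mem hv (hXU hx); rwa [add_sub_cancel_left] at this
      rw [(Φ).add_right, (Φ).refl _ _ (hu.1 x hx), hz y ⟨hy, hyU⟩, add_zero]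
    have hfr := (Φ).finrank_perp_inf hU hXU
    obtain ⟨Y, hYi, hYR, hY, hYd⟩ := ih ((Φ).perp X ⊓ U) (fun v hv => ⟨hI.inv_perp hXi v hv.1, hUi v hv.2⟩)
      (inf_le_right.trans hUS) hR (by omega)
    obtain ⟨hnd, hdim⟩ := nd_sup hX hY fun x hx y hy => (hYR hy).1 x hx
    refine ⟨X ⊔ Y, fun v hv => ?_, sup_le hXU (hYR.trans inf_le_right), hnd, by rw [hdim, hYd, hXd, Nat.succ_mul]; omega⟩
    obtain ⟨x, hx, y, hy, rfl⟩ := Submodule.mem_sup.1 hv
    rw [map_add]
    exact Submodule.add_mem_sup (hXi x hx) (hYi y hy)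

/-- Planes of fixed vectors. -/
theorem block_fixed (U : Submodule F W) (hUS : U ≤ fixedSpace T) (hU : (Φ).ND U) (hne : U ≠ ⊥) :
    ∃ X, Inv T X ∧ X ≤ U ∧ (Φ).ND X ∧ finrank F X = 2 := by
  obtain ⟨v, hv, hv0⟩ := Submodule.exists_mem_ne_zero_of_ne_bot hne
  obtain ⟨w, hw, hvw⟩ : ∃ w ∈ U, B v w ≠ 0 := by
    by_contra h
    push Not at h
    exact hv0 (hU v hv h)
  have hle : Submodule.span F {v, w} ≤ U := Submodule.span_le.2 (Set.insert_subset hv (Set.singleton_subset_iff.2 hw))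
  have hwv : B w v ≠ 0 := fun h => hvw ((Φ).refl _ _ h)
  refine ⟨Submodule.span F {v, w}, inv_of_le_fixed (hle.trans hUS), hle, fun u hu hz => ?_, ?_⟩
  · obtain ⟨x, y, rfl⟩ := Submodule.mem_span_pair.1 hu
    have h1 := hz v (Submodule.subset_span (Set.mem_insert _ _))
    have h2 := hz w (Submodule.subset_span (Set.mem_insert_of_mem _ rfl))
    change B (x • v + y • w) v = 0 at h1
    change B (x • v + y • w) w = 0 at h2
    simp only [map_add, map_smul, LinearMap.add_apply, LinearMap.smul_apply, smul_eq_mul, hA v, hA w, mul_zero, zero_add,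
      add_zero, mul_eq_zero, hvw, hwv, or_false] at h1 h2
    rw [h1, h2, zero_smul, zero_smul, add_zero]
  · have hli : LinearIndependent F ![v, w] := LinearIndependent.pair_iff.2 fun x y h => by
      have h1 := congrArg (fun u => B u v) h
      have h2 := congrArg (fun u => B u w) h
      simp only [map_add, map_smul, map_zero, LinearMap.zero_apply, LinearMap.add_apply, LinearMap.smul_apply, smul_eq_mul,
        hA v, hA w, mul_zero, zero_add, add_zero, mul_eq_zero, hvw, hwv, or_false] at h1 h2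
      exact ⟨h2, h1⟩
    have := finrank_span_eq_card hli
    rwa [Matrix.range_cons, Matrix.range_cons, Matrix.range_empty, Set.union_empty, Set.singleton_union, Fintype.card_fin] at this

variable [Fintype F] [Fact r.Prime] {i c : ℕ}

/-- The non-degenerate blocks of the moved part. -/
theorem block_moved (p : ℕ) [Fact p.Prime] [CharP F p] (hr2 : r ≠ 2) (hT : T ^ r = 1) (hr0 : (r : F) ≠ 0) (hI : (Φ).Isom T)
    (hi : i = orderOf (Fintype.card F : ZMod r)) (hc : c = if Even i then i else 2 * i)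
    (U : Submodule F W) (hUi : Inv T U) (hUM : U ≤ movedSpace T r) (hU : (Φ).ND U) (hne : U ≠ ⊥) :
    ∃ X, Inv T X ∧ X ≤ U ∧ (Φ).ND X ∧ finrank F X = c := by
  classical
  have hrp : r ≠ p := fun e => hr0 (by rw [e, CharP.cast_eq_zero])
  have hr : r.Prime := Fact.out
  obtain ⟨X, hXi, hXU, hXd⟩ := SForm.exists_minimal hT hr0 hUi hUM hne
  rw [← hi] at hXd
  have hi0 : 0 < i := hi ▸ orderOf_card_pos hr0
  by_cases hrad : X ⊓ (Φ).perp X = ⊥
  · have hX := (Φ).nd_of_inf_perp hrad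
    have hev : Even i := hXd ▸ even_finrank_nd hX
    exact ⟨X, hXi, hXU, hX, by rw [hc, if_pos hev, hXd]⟩
  have hXbot : Inv T (⊥ : Submodule F W) := fun w hw => by
    rw [Submodule.mem_bot] at hw
    rw [hw, map_zero]
    exact Submodule.zero_mem _
  have hiso : ∀ u ∈ X, ∀ v ∈ X, B u v = 0 := by
    obtain ⟨Y, hYi, hY, hYd⟩ := SForm.exists_minimal hT hr0 (Z := X ⊓ (Φ).perp X)
      (fun v hv => ⟨hXi v hv.1, hI.inv_perp hXi v hv.2⟩) (inf_le_left.trans (hXU.trans hUM)) hrad
    rw [← hi] at hYd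
    have hYX : Y = X := Submodule.eq_of_le_of_finrank_eq (hY.trans inf_le_left) (hYd.trans hXd.symm)
    exact fun u hu v hv => (hY (hYX ▸ hv)).2 u hu
  -- an invariant partner
  obtain ⟨C', hC', hC'i⟩ := exists_inv_compl (c := 1) (by rw [hT, one_smul]) one_ne_zero hr0
    (W := (Φ).perp X ⊓ U) (fun v hv => ⟨hI.inv_perp hXi v hv.1, hUi v hv.2⟩)
  obtain ⟨C, hC⟩ : ∃ C, C = C' ⊓ U := ⟨_, rfl⟩
  have hCi : Inv T C := fun v hv => by rw [hC] at hv ⊢; exact ⟨hC'i v hv.1, hUi v hv.2⟩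
  have hsupC : ((Φ).perp X ⊓ U) ⊔ C = U := by
    rw [hC, ← sup_inf_assoc_of_le C' inf_le_right, hC'.sup_eq_top, top_inf_eq]
  have hinfC : ((Φ).perp X ⊓ U) ⊓ C = ⊥ := by
    rw [hC, ← inf_assoc, hC'.inf_eq_bot, bot_inf_eq]
  have hCU : C ≤ U := hC ▸ inf_le_right
  have hCd : finrank F C = i := by
    have h1 := (Φ).finrank_perp_inf hU hXU
    have h2 := Submodule.finrank_sup_add_finrank_inf_eq ((Φ).perp X ⊓ U) C
    rw [hsupC, hinfC, finrank_bot] at h2
    omega
  have hpair : ∀ u ∈ C, (∀ x ∈ X, B x u = 0) → u = 0 := fun u hu h =>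
    (Submodule.mem_bot F).1 (hinfC ▸ (⟨⟨h, hCU hu⟩, hu⟩ : u ∈ ((Φ).perp X ⊓ U) ⊓ C))
  obtain ⟨Z, hZ⟩ : ∃ Z, Z = X ⊔ C := ⟨_, rfl⟩
  have hZi : Inv T Z := fun v hv => by
    rw [hZ] at hv ⊢
    obtain ⟨x, hx, y, hy, rfl⟩ := Submodule.mem_sup.1 hv
    rw [map_add]
    exact Submodule.add_mem_sup (hXi x hx) (hCi y hy)
  have hZU : Z ≤ U := hZ ▸ sup_le hXU hCU
  have hZnd : (Φ).ND Z := fun u hu hz => by
    rw [hZ] at hu hz
    obtain ⟨x, hx, y, hy, rfl⟩ := Submodule.mem_sup.1 hu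
    have hy0 : y = 0 := hpair y hy fun x' hx' => (Φ).refl _ _ (by
      have := hz x' (Submodule.mem_sup_left hx')
      change B (x + y) x' = 0 at this
      rwa [map_add, LinearMap.add_apply, hiso x hx x' hx', zero_add] at this)
    subst hy0
    rw [add_zero] at hz ⊢
    refine hU x (hXU hx) fun w hw => ?_
    rw [← hsupC] at hw
    obtain ⟨y₁, hy₁, y₂, hy₂, rfl⟩ := Submodule.mem_sup.1 hw
    rw [(Φ).add_right, hy₁.1 x hx, hz y₂ (Submodule.mem_sup_right hy₂), add_zero]
  have hZd : finrank F Z = 2 * i := by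
    have hd : X ⊓ C = ⊥ := eq_bot_iff.2 fun v hv => (Submodule.mem_bot F).2 (hpair v hv.2 fun x hx => hiso x hx v hv.1)
    have h2 := Submodule.finrank_sup_add_finrank_inf_eq X C
    rw [hd, finrank_bot, hXd, hCd, ← hZ] at h2
    omega
  by_cases hev : Even i
  swap
  · exact ⟨Z, hZi, hZU, hZnd, by rw [hc, if_neg hev, hZd]⟩
  -- the two halves are killed by the same polynomial
  obtain ⟨u, hu, hu0⟩ := Submodule.exists_mem_ne_zero_of_ne_bot (p := X) (fun h => by rw [h, finrank_bot] at hXd; omega)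
  have hne' : (Polynomial.X ^ r - 1 : Polynomial F) ≠ 0 :=
    (Polynomial.monic_X_pow_sub_C (1 : F) hr.ne_zero).ne_zero
  obtain ⟨g, hgm, hgi, hgd, v, hvX, hv0, hgv⟩ := exists_irreducible_vec (W := ⊥) hXi _ hne' u hu
    (by rwa [Submodule.mem_bot]) (by simp [hT])
  rw [Submodule.mem_bot] at hv0 hgv
  have hg1 : g ≠ Polynomial.X - Polynomial.C 1 := fun e => hv0 (eq_zero_of_fixed_moved hr0 (mem_fixedSpace.2 (by
    rw [e, map_sub, aeval_X, aeval_C, map_one, LinearMap.sub_apply, Module.End.one_apply, sub_eq_zero] at hgv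
    exact hgv)) (hUM (hXU hvX)))
  have hgf : g ∈ LBRootPoly.factors F r := (LBRootPoly.mem_factors hr.ne_zero).2 ⟨hg1, hgm, hgi, hgd⟩
  have hdeg : g.natDegree = i := hi ▸ LBRootPoly.natDegree_factor hr hgm hgi hgd hg1
  have hg0 : g.coeff 0 ≠ 0 := LBRootTwist.factor_coeff_zero hr.ne_zero hgd
  have hsym := (LBRootTwist.rc_fix_iff _ LBEvenRoot.hid hgm hg0 hdeg).1
    ((LBEvenRoot.rc_self_iff' p hr hr2 hrp hgf).2 (hi ▸ hev))
  have hkX : ∀ x ∈ X, aeval T g x = 0 := by
    have hinv : Inv T (X ⊓ LinearMap.ker (aeval T g)) := fun x hx => ⟨hXi x hx.1, by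
      rw [SetLike.mem_coe, LinearMap.mem_ker, ← Module.End.mul_apply,
        show aeval T g * T = T * aeval T g by
          have := ((Commute.all g Polynomial.X).map (aeval (R := F) T)).eq; rwa [aeval_X] at this,
        Module.End.mul_apply, LinearMap.mem_ker.1 hx.2, map_zero]⟩
    obtain ⟨y, hy⟩ := dvd_finrank_moved hT hr0 hinv (inf_le_left.trans (hXU.trans hUM))
    rw [← hi] at hy
    have hpos : 0 < finrank F (X ⊓ LinearMap.ker (aeval T g) : Submodule F W) := Nat.pos_of_ne_zero fun h0 =>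
      hv0 ((Submodule.mem_bot F).1 (Submodule.finrank_eq_zero.1 h0 ▸ (⟨hvX, LinearMap.mem_ker.2 hgv⟩ : v ∈ X ⊓ LinearMap.ker (aeval T g))))
    have : i ≤ finrank F (X ⊓ LinearMap.ker (aeval T g) : Submodule F W) := Nat.le_of_dvd hpos ⟨y, hy⟩
    have e := Submodule.eq_of_le_of_finrank_le inf_le_left (hXd.le.trans this)
    exact fun x hx => LinearMap.mem_ker.1 (e.ge hx).2
  have hkC : ∀ y ∈ C, aeval T g y = 0 := fun y hy => by
    refine hpair _ (hCi.aeval g hy) fun x hx => ?_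
    have e1 : ∀ w, aeval T g w = ∑ k ∈ Finset.range (i + 1), g.coeff k • (T ^ k) w := fun w => by
      rw [← hdeg, Polynomial.aeval_eq_sum_range, LinearMap.sum_apply]; rfl
    have h1 : g.coeff 0 * B x (aeval T g y) = B (aeval T g x) ((T ^ i) y) := by
      rw [e1, e1, map_sum, map_sum, LinearMap.sum_apply, Finset.mul_sum]
      conv_rhs => rw [← Finset.sum_range_reflect]
      refine Finset.sum_congr rfl fun k hk => ?_
      rw [Finset.mem_range] at hk
      rw [map_smul, map_smul, LinearMap.smul_apply, smul_eq_mul, smul_eq_mul, ← mul_assoc,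
        show g.coeff 0 * g.coeff k = g.coeff (i + 1 - 1 - k) by rw [show i + 1 - 1 - k = i - k by omega, hsym k (by omega)]; rfl]
      congr 1
      have := hI.pow (i - k) x ((T ^ k) y)
      rw [← Module.End.mul_apply, ← pow_add, show i - k + k = i by omega] at this
      rw [show i + 1 - 1 - k = i - k by omega]
      exact this.symm
    rw [hkX x hx, map_zero, LinearMap.zero_apply] at h1
    exact (mul_eq_zero.1 h1).resolve_left hg0
  obtain ⟨w, hwZ, k, hwk⟩ : ∃ w ∈ Z, ∃ k : ℕ, B ((T ^ k) w) w ≠ 0 := by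
    by_contra hcon
    push Not at hcon
    have hadj : ∀ w₁ ∈ Z, ∀ w₂ ∈ Z, B (T w₁) w₂ = B w₁ (T w₂) := fun w₁ h₁ w₂ h₂ => by
      have h := hcon (w₁ + w₂) (Z.add_mem h₁ h₂) 1
      have e₁ := hcon w₁ h₁ 1
      have e₂ := hcon w₂ h₂ 1
      simp only [pow_one, map_add, LinearMap.add_apply] at h e₁ e₂
      rw [← LinearMap.BilinForm.IsAlt.neg_eq hA w₁ (T w₂)] at *
      linear_combination h - e₁ - e₂
    obtain ⟨w, hw, hw0⟩ := Submodule.exists_mem_ne_zero_of_ne_bot (p := Z) (fun h => by rw [h, finrank_bot] at hZd; omega)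
    have hsur : ∀ y ∈ Z, ∃ x ∈ Z, T x = y := fun y hy => by
      refine ⟨(T ^ (r - 1)) y, hZi.pow _ y hy, ?_⟩
      rw [← Module.End.mul_apply, ← pow_succ', show r - 1 + 1 = r by have := hr.pos; omega, hT, Module.End.one_apply]
    have hsq : T (T w) = w := by
      refine sub_eq_zero.1 (hZnd _ (Z.sub_mem (hZi _ (hZi _ hw)) hw) fun y hy => ?_)
      obtain ⟨x, hx, rfl⟩ := hsur y hy
      show B (T (T w) - w) (T x) = 0
      rw [map_sub, LinearMap.sub_apply]
      have e3 : B (T (T w)) (T x) = B (T w) x := hI.pres _ _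
      rw [e3, hadj w hw x hx, sub_self]
    have hfix : T w = w := by
      obtain ⟨l, hl⟩ := hr.odd_of_ne_two hr2
      have h1 : ∀ l, (T ^ (2 * l + 1)) w = T w := fun l => by
        induction l with
        | zero => simp
        | succ l ih =>
          rw [show 2 * (l + 1) + 1 = (2 * l + 1) + 1 + 1 by ring, pow_succ', pow_succ', Module.End.mul_apply,
            Module.End.mul_apply, ih, hsq]
      have h2 := h1 l
      rw [← hl, hT, Module.End.one_apply] at h2
      exact h2.symm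
    exact hw0 (eq_zero_of_fixed_moved hr0 (mem_fixedSpace.2 hfix) (hUM (hZU hw)))
  have hw0 : w ≠ 0 := fun e => hwk (by simp [e])
  have hgw : aeval T g w = 0 := by
    rw [hZ] at hwZ
    obtain ⟨x, hx, y, hy, rfl⟩ := Submodule.mem_sup.1 hwZ
    rw [map_add, hkX x hx, hkC y hy, add_zero]
  obtain ⟨Y, hY⟩ : ∃ Y, Y = cyc T w g.natDegree := ⟨_, rfl⟩
  have hYi : Inv T Y := by
    have := inv_sup_cyc hXbot hgm (v := w) (by rw [hgw]; exact Submodule.zero_mem _)
    rwa [bot_sup_eq, ← hY] at this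
  have hYU : Y ≤ U := hY ▸ cyc_le hUi (hZU hwZ) _
  have hwY : w ∈ Y := hY ▸ mem_cyc T w hgi.natDegree_pos
  have hle : finrank F Y ≤ i := hdeg ▸ hY ▸ finrank_cyc_le T w _
  have hpos : ∀ Y' : Submodule F W, Inv T Y' → Y' ≤ Y → Y' ≠ ⊥ → i ≤ finrank F Y' := fun Y' h1 h2 h3 => by
    obtain ⟨z, hz⟩ := dvd_finrank_moved hT hr0 h1 (h2.trans (hYU.trans hUM))
    rw [← hi] at hz
    exact Nat.le_of_dvd (Nat.pos_of_ne_zero fun h0 => h3 (Submodule.finrank_eq_zero.1 h0)) ⟨z, hz⟩
  have hYd : finrank F Y = i := le_antisymm hle (hpos Y hYi le_rfl fun h => hw0 ((Submodule.mem_bot F).1 (h ▸ hwY)))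
  refine ⟨Y, hYi, hYU, (Φ).nd_of_inf_perp ?_, by rw [hc, if_pos hev, hYd]⟩
  by_contra h
  have h1 := hpos (Y ⊓ (Φ).perp Y) (fun v hv => ⟨hYi v hv.1, hI.inv_perp hYi v hv.2⟩) inf_le_left h
  have h2 := Submodule.eq_of_le_of_finrank_le inf_le_left (hle.trans h1)
  exact hwk ((h2.ge hwY).2 _ (hYi.pow k w hwY))

/-- The dimension of a non-degenerate moved subspace. -/
theorem dvd_moved (hT : T ^ r = 1) (hr0 : (r : F) ≠ 0) (hi : i = orderOf (Fintype.card F : ZMod r))
    (hc : c = if Even i then i else 2 * i) {X : Submodule F W} (hXi : Inv T X) (hXM : X ≤ movedSpace T r) (hX : (Φ).ND X) :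
    c ∣ finrank F X := by
  have h1 := dvd_finrank_moved hT hr0 hXi hXM
  rw [← hi] at h1
  by_cases he : Even i
  · rw [hc, if_pos he]; exact h1
  · rw [hc, if_neg he]
    exact Nat.Coprime.mul_dvd_of_dvd_of_dvd (Nat.coprime_two_left.2 (Nat.not_even_iff_odd.1 he))
      (even_iff_two_dvd.1 (even_finrank_nd hX)) h1

omit [Fintype F] in
/-- The parts of a non-degenerate invariant subspace. -/
theorem nd_parts (hT : T ^ r = 1) (hr0 : (r : F) ≠ 0) (hI : (Φ).Isom T) {X : Submodule F W} (hXi : Inv T X) (hX : (Φ).ND X) :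
    (Φ).ND (X ⊓ fixedSpace T) ∧ (Φ).ND (X ⊓ movedSpace T r) := by
  constructor
  · intro u hu hz
    refine hX u hu.1 fun v hv => ?_
    rw [← split_inv hT hr0 hXi] at hv
    obtain ⟨a, ha, b, hb, rfl⟩ := Submodule.mem_sup.1 hv
    rw [(Φ).add_right, hz a ha, SForm.fixed_perp_moved hr0 hI hu.2 hb.2, add_zero]
  · intro u hu hz
    refine hX u hu.1 fun v hv => ?_
    rw [← split_inv hT hr0 hXi] at hv
    obtain ⟨a, ha, b, hb, rfl⟩ := Submodule.mem_sup.1 hv
    rw [(Φ).add_right, hz b hb, (Φ).refl _ _ (SForm.fixed_perp_moved hr0 hI ha.2 hu.2), add_zero]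

/-- Cutting off a part. -/
theorem pick (p : ℕ) [Fact p.Prime] [CharP F p] (hr2 : r ≠ 2) (hT : T ^ r = 1) (hr0 : (r : F) ≠ 0) (hI : (Φ).Isom T)
    (hi : i = orderOf (Fintype.card F : ZMod r)) (hc : c = if Even i then i else 2 * i) {a t : ℕ} (hae : Even a)
    (hca : c ≤ a) (htl : t * (a % c) < c) (s : ℕ) (hs : s + 1 ≤ t)
    (U : Submodule F W) (hUi : Inv T U) (hU : (Φ).ND U) (hd : finrank F U = a * (s + 1)) :
    ∃ X, X ≤ U ∧ Inv T X ∧ (Φ).ND X ∧ finrank F X = a := by
  obtain ⟨hf, hm⟩ := nd_parts hT hr0 hI hUi hU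
  have hMi : Inv T (U ⊓ movedSpace T r) := fun v hv => ⟨hUi v hv.1, inv_moved v hv.2⟩
  obtain ⟨J, hJ⟩ := dvd_moved (T := T) hT hr0 hi hc hMi inf_le_right hm
  have hsum := finrank_split hT hr0 hUi
  rw [hd, hJ, mul_comm c J] at hsum
  rw [mul_comm c J] at hJ
  have hcev : Even c := by
    rw [hc]; split_ifs with he
    · exact he
    · exact even_two_mul i
  have hsl : (s + 1) * (a % c) < c := (Nat.mul_le_mul_right _ hs).trans_lt htl
  have hfix : (s + 1) * (a % c) ≤ finrank F (U ⊓ fixedSpace T : Submodule F W) := by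
    have e : (finrank F (U ⊓ fixedSpace T : Submodule F W) + J * c) % c = (s + 1) * (a % c) := by
      rw [← hsum, mul_comm, ← Nat.mul_mod_mod, Nat.mod_eq_of_lt hsl]
    rw [← e, Nat.add_mul_mod_self_right]
    exact Nat.mod_le _ _
  obtain ⟨j, hj⟩ : ∃ j, j = min J (a / c) := ⟨_, rfl⟩
  have hdm : c * (a / c) + a % c = a := Nat.div_add_mod a c
  have hjc : j * c ≤ J * c := Nat.mul_le_mul_right c (by omega)
  have hjf : j * c ≤ c * (a / c) := by rw [mul_comm c]; exact Nat.mul_le_mul_right c (by omega)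
  have hroom : a - j * c ≤ finrank F (U ⊓ fixedSpace T : Submodule F W) := by
    rcases le_total J (a / c) with h | h
    · rw [show j = J by omega]
      have : a ≤ a * (s + 1) := Nat.le_mul_of_pos_right a (by omega)
      omega
    · rw [show j = a / c by omega, mul_comm]
      have : a % c ≤ (s + 1) * (a % c) := Nat.le_mul_of_pos_left _ (by omega)
      omega
  obtain ⟨Y, hYi, hYU, hY, hYd⟩ := nd_climb hI (block_moved p hr2 hT hr0 hI hi hc) j (U ⊓ movedSpace T r)
    hMi inf_le_right hm (by omega)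
  obtain ⟨l, hl⟩ : ∃ l, a - j * c = l * 2 := by
    obtain ⟨l, hl⟩ : Even (a - j * c) := (Nat.even_sub (by omega)).2 (iff_of_true hae (hcev.mul_left j))
    exact ⟨l, by omega⟩
  obtain ⟨Z, hZi, hZU, hZ, hZd⟩ := nd_climb hI (S := fixedSpace T) (c := 2) (fun U' _ h2 h3 h4 => block_fixed U' h2 h3 h4) l
    (U ⊓ fixedSpace T) (inv_of_le_fixed inf_le_right) inf_le_right hf (by omega)
  obtain ⟨hnd, hdim⟩ := nd_sup hZ hY fun x hx y hy => SForm.fixed_perp_moved hr0 hI (hZU hx).2 (hYU hy).2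
  refine ⟨Z ⊔ Y, sup_le (hZU.trans inf_le_left) (hYU.trans inf_le_left), fun v hv => ?_, hnd, by omega⟩
  obtain ⟨x, hx, y, hy, rfl⟩ := Submodule.mem_sup.1 hv
  rw [map_add]
  exact Submodule.add_mem_sup (hZi x hx) (hYi y hy)

/-- An invariant orthogonal decomposition. -/
theorem chop (hI : (Φ).Isom T) {a t : ℕ}
    (hpick : ∀ s, s + 1 ≤ t → ∀ U : Submodule F W, Inv T U → (Φ).ND U → finrank F U = a * (s + 1) →
      ∃ X, X ≤ U ∧ Inv T X ∧ (Φ).ND X ∧ finrank F X = a) :
    ∀ s, s ≤ t → ∀ U : Submodule F W, Inv T U → (Φ).ND U → finrank F U = a * s →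
      ∃ D : Fin s → Submodule F W, (∀ k, Inv T (D k) ∧ D k ≤ U ∧ (Φ).ND (D k) ∧ finrank F (D k) = a) ∧
        (∀ k l, k ≠ l → ∀ u ∈ D k, ∀ v ∈ D l, B u v = 0) ∧ U ≤ ⨆ k, D k := by
  intro s
  induction s with
  | zero =>
    intro _ U _ _ hd
    refine ⟨Fin.elim0, fun k => k.elim0, fun k => k.elim0, ?_⟩
    rw [mul_zero, Submodule.finrank_eq_zero] at hd
    rw [hd]; exact bot_le
  | succ s ih =>
    intro hs U hUi hU hd
    obtain ⟨X, hXU, hXi, hX, hXd⟩ := hpick s hs U hUi hU hd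
    have hR : (Φ).ND ((Φ).perp X ⊓ U) := fun u hu hz => hU u hu.2 fun v hv => by
      obtain ⟨x, hx, y, hy, rfl⟩ := Submodule.mem_sup.1 (((Φ).isCompl_perp hX).sup_eq_top.ge (Submodule.mem_top (x := v)))
      have hyU : y ∈ U := by have := U.sub_mem hv (hXU hx); rwa [add_sub_cancel_left] at this
      rw [(Φ).add_right, (Φ).refl _ _ (hu.1 x hx), hz y ⟨hy, hyU⟩, add_zero]
    have hsup : X ⊔ ((Φ).perp X ⊓ U) = U := by
      rw [← sup_inf_assoc_of_le _ hXU, ((Φ).isCompl_perp hX).sup_eq_top, top_inf_eq]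
    have hfr := (Φ).finrank_perp_inf hU hXU
    rw [hd, hXd, Nat.mul_succ] at hfr
    obtain ⟨D, hD, hDo, hDt⟩ := ih (by omega) ((Φ).perp X ⊓ U) (fun v hv => ⟨hI.inv_perp hXi v hv.1, hUi v hv.2⟩) hR
      (by omega)
    refine ⟨Fin.cons X D, fun k => ?_, fun k l hkl => ?_, ?_⟩
    · refine Fin.cases ?_ (fun k => ?_) k
      · rw [Fin.cons_zero]; exact ⟨hXi, hXU, hX, hXd⟩
      · rw [Fin.cons_succ]; exact ⟨(hD k).1, (hD k).2.1.trans inf_le_right, (hD k).2.2.1, (hD k).2.2.2⟩
    · revert hkl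
      refine Fin.cases ?_ (fun k => ?_) k <;> refine Fin.cases ?_ (fun l => ?_) l
      · intro h; exact absurd rfl h
      · intro _ u hu v hv
        rw [Fin.cons_zero] at hu; rw [Fin.cons_succ] at hv
        exact ((hD l).2.1 hv).1 u hu
      · intro _ u hu v hv
        rw [Fin.cons_succ] at hu; rw [Fin.cons_zero] at hv
        exact (Φ).refl _ _ (((hD k).2.1 hu).1 v hv)
      · intro h u hu v hv
        rw [Fin.cons_succ] at hu hv
        exact hDo k l (fun e => h (e ▸ rfl)) u hu v hv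
    · calc U = X ⊔ ((Φ).perp X ⊓ U) := hsup.symm
        _ ≤ _ := sup_le (le_iSup_of_le 0 (by rw [Fin.cons_zero])) (hDt.trans (iSup_le fun k => le_iSup_of_le k.succ (by rw [Fin.cons_succ])))

end form

section std

variable {F : Type*} [Field F] {d a t r : ℕ}

local notation "V" => (Fin d ⊕ Fin d → F)

/-- An orthogonal decomposition. -/
def IsOrtho (t a : ℕ) (D : Fin t → Submodule F V) : Prop :=
  Cfsg.Geo.IsMDecomposition a D ∧ (∀ j, ∀ u ∈ D j, u ≠ 0 → ∃ v ∈ D j, Cfsg.sympForm d F u v ≠ 0) ∧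
    (∀ j j', j ≠ j' → ∀ u ∈ D j, ∀ v ∈ D j', Cfsg.sympForm d F u v = 0)

theorem nd_iff (U : Submodule F V) :
    (∀ u ∈ U, u ≠ 0 → ∃ v ∈ U, Cfsg.sympForm d F u v ≠ 0) ↔ (stdForm d F).ND U := by
  constructor
  · intro h u hu hz
    by_contra hu0
    obtain ⟨v, hv, hne⟩ := h u hu hu0
    exact hne ((ClassicalSp.spBilin_apply u v).symm.trans (hz v hv))
  · intro h u hu hu0
    by_contra hcon
    push Not at hcon
    exact hu0 (h u hu fun v hv => (ClassicalSp.spBilin_apply u v).trans (hcon v hv))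

variable [Fintype F]

/-- The decompositions are permuted transitively, so their number divides the order of the group. -/
theorem le_of_dvd_count (ha : 1 ≤ a) (hae : Even a) (ht : 2 ≤ t) (hn : 2 * d = a * t) [Fact r.Prime] (hr0 : (r : F) ≠ 0)
    (hΩ : r ∣ Nat.card {D : Fin t → Submodule F V // IsOrtho t a D} / Nat.factorial t)
    {i c : ℕ} (hi : i = orderOf (Fintype.card F : ZMod r)) (hc : c = if Even i then i else 2 * i) : c ≤ 2 * d := by
  classical
  obtain ⟨m, rfl⟩ : ∃ m, a = 2 * m := ⟨a / 2, by obtain ⟨l, hl⟩ := hae; omega⟩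
  let X := {D : Fin t → Submodule F V // IsOrtho t (2 * m) D}
  haveI : Finite V := inferInstance
  haveI : Finite (Submodule F V) := Finite.of_injective _ SetLike.coe_injective
  have hinjD : ∀ D : X, Function.Injective D.1 := fun D k l h => by
    by_contra hkl
    have := D.2.1.indep.pairwiseDisjoint hkl
    rw [Function.onFun, h, disjoint_self] at this
    have h2 := D.2.1.finrank_eq l
    rw [this, finrank_bot] at h2
    omega
  let Q := Set.range fun D : X => Set.range D.1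
  choose rep hrep using fun q : Q => q.2
  let act : X → Equiv.Perm (Fin t) → X := fun D π => ⟨D.1 ∘ π, ⟨D.2.1.two_le, D.2.1.pos, fun k => D.2.1.finrank_eq _,
    D.2.1.indep.comp π.injective, by rw [← D.2.1.iSup_eq_top]; exact π.surjective.iSup_comp D.1⟩,
    fun k => D.2.2.1 (π k), fun k l hkl => D.2.2.2 _ _ (π.injective.ne hkl)⟩
  have hbij : Function.Bijective fun p : Q × Equiv.Perm (Fin t) => act (rep p.1) p.2 := by
    constructor
    · rintro ⟨q, π⟩ ⟨q', π'⟩ h
      have h1 : (rep q).1 ∘ π = (rep q').1 ∘ π' := congrArg Subtype.val h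
      have hq : q = q' := Subtype.ext (by
        rw [← hrep q, ← hrep q']
        have := congrArg Set.range h1
        rwa [π.surjective.range_comp, π'.surjective.range_comp] at this)
      subst hq
      exact Prod.ext rfl (Equiv.ext fun k => hinjD (rep q) (congrFun h1 k))
    · intro D
      obtain ⟨q, hq⟩ : ∃ q : Q, q.1 = Set.range D.1 := ⟨⟨_, D, rfl⟩, rfl⟩
      have h1 : Set.range (rep q).1 = Set.range D.1 := (hrep q).trans hq
      refine ⟨(q, (Equiv.ofInjective D.1 (hinjD D)).trans ((Equiv.setCongr h1.symm).trans (Equiv.ofInjective _ (hinjD (rep q))).symm)), ?_⟩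
      refine Subtype.ext (funext fun k => ?_)
      show (rep q).1 ((Equiv.ofInjective _ (hinjD (rep q))).symm _) = D.1 k
      exact (Equiv.apply_ofInjective_symm (hinjD (rep q)) _).trans rfl
  have hcardX : Nat.card X = Nat.card Q * Nat.factorial t := by
    rw [← Nat.card_eq_of_bijective _ hbij, Nat.card_prod, Nat.card_perm, Nat.card_fin]
  have hdvd : r ∣ Nat.card X := hΩ.trans (Nat.div_dvd_of_dvd (hcardX ▸ dvd_mul_left _ _))
  let B := ClassicalSp.spBilin d F
  let G : Subgroup (V ≃ₗ[F] V) :=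
    { carrier := {g | ∀ u v, B (g u) (g v) = B u v}
      mul_mem' := fun {g h} hg hh u v => (hg (h u) (h v)).trans (hh u v)
      one_mem' := fun u v => rfl
      inv_mem' := fun {g} hg u v => by
        rw [← hg (g⁻¹ u) (g⁻¹ v), ← LinearEquiv.mul_apply, ← LinearEquiv.mul_apply, mul_inv_cancel]; rfl }
  have hstd : ∀ D : X, ∃ b : Basis ((_ : Fin t) × (Fin m ⊕ Fin m)) F V,
      (∀ k s, b ⟨k, s⟩ ∈ D.1 k) ∧ (∀ k, D.1 k ≤ Submodule.span F (Set.range fun s => b ⟨k, s⟩)) ∧
      ∀ x y, B (b x) (b y) = if x.1 = y.1 then ClassicalSp.spBilin m F (Pi.single x.2 1) (Pi.single y.2 1) else 0 := fun D => by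
    have hex : ∀ k, ∃ b : Basis (Fin m ⊕ Fin m) F (D.1 k),
        ∀ x y, B.restrict (D.1 k) x y = ClassicalSp.spBilin m F (b.equivFun x) (b.equivFun y) := fun k =>
      SympSpectra.exists_std_basis (AltForm.restrict_isAlt ClassicalSp.spBilin_isAlt _)
        ⟨fun u hu => Subtype.ext ((nd_iff (D.1 k)).1 (D.2.2.1 k) u.1 u.2 fun v hv => hu ⟨v, hv⟩),
          fun u hu => Subtype.ext ((nd_iff (D.1 k)).1 (D.2.2.1 k) u.1 u.2 fun v hv => (stdForm d F).refl _ _ (hu ⟨v, hv⟩))⟩
        (D.2.1.finrank_eq k)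
    choose bk hbk using hex
    have h0 := DirectSum.isInternal_submodule_of_iSupIndep_of_iSup_eq_top D.2.1.indep D.2.1.iSup_eq_top
    refine ⟨h0.collectedBasis bk, fun k s => ?_, fun k u hu => ?_, fun x y => ?_⟩
    · rw [DirectSum.IsInternal.collectedBasis_coe]; exact Subtype.prop _
    · have e := congrArg Subtype.val ((bk k).sum_repr ⟨u, hu⟩)
      rw [← show _ = u from e, Submodule.coe_sum]
      refine sum_mem fun s _ => ?_
      rw [Submodule.coe_smul]
      refine Submodule.smul_mem _ _ (Submodule.subset_span ⟨s, ?_⟩)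
      simp [DirectSum.IsInternal.collectedBasis_coe]
    · simp only [DirectSum.IsInternal.collectedBasis_coe]
      rcases x with ⟨k, s⟩
      rcases y with ⟨l, s'⟩
      dsimp only
      split_ifs with hkl
      · subst hkl
        have := hbk k (bk k s) (bk k s')
        rw [show (bk k).equivFun (bk k s) = Pi.single s 1 by funext w; simp [Module.Basis.equivFun_self, Pi.single_apply, eq_comm],
          show (bk k).equivFun (bk k s') = Pi.single s' 1 by funext w; simp [Module.Basis.equivFun_self, Pi.single_apply, eq_comm]] at this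
        exact this
      · exact (ClassicalSp.spBilin_apply _ _).trans (D.2.2.2 k l hkl _ (bk k s).2 _ (bk l s').2)
  rcases isEmpty_or_nonempty X with hX | ⟨⟨D₀⟩⟩
  · exfalso
    have hdm : d = t * m := by nlinarith
    let e : Fin d ≃ Fin t × Fin m := (Fintype.equivFinOfCardEq (by simp [hdm])).symm
    let D : Fin t → Submodule F V := fun k => Submodule.span F (Set.range fun s : Fin m ⊕ Fin m =>
      (Pi.single (Sum.map (fun j => e.symm (k, j)) (fun j => e.symm (k, j)) s) 1 : V))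
    have hD := LBDecomp.mdecomp_of_top (F := F) (a := 2 * m) ht ha (by simp [hdm]; ring) D (fun k => (finrank_range_le_card _).trans (by simp [two_mul])) (fun v => by
      rw [← Finset.univ_sum_single v]
      refine sum_mem fun s _ => ?_
      rw [show (Pi.single s (v s) : V) = v s • Pi.single s 1 by simp [← Pi.single_smul]]
      rcases s with j | j
      · exact le_iSup D (e j).1 (Submodule.smul_mem _ _ (Submodule.subset_span ⟨Sum.inl (e j).2, by simp⟩))
      · exact le_iSup D (e j).1 (Submodule.smul_mem _ _ (Submodule.subset_span ⟨Sum.inr (e j).2, by simp⟩)))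
    have hperp : ∀ k l, k ≠ l → ∀ u ∈ D k, ∀ v ∈ D l, Cfsg.sympForm d F u v = 0 := fun k l hkl u hu v hv => by
      rw [← ClassicalSp.spBilin_apply]
      refine (LinearMap.mem_ker (f := (ClassicalSp.spBilin d F).flip v)).1 ((Submodule.span_le (p := LinearMap.ker ((ClassicalSp.spBilin d F).flip v))).2 ?_ hu)
      rintro _ ⟨s, rfl⟩
      rw [SetLike.mem_coe, LinearMap.mem_ker]
      show ClassicalSp.spBilin d F _ v = 0
      refine (LinearMap.mem_ker (f := ClassicalSp.spBilin d F _)).1 ((Submodule.span_le (p := LinearMap.ker (ClassicalSp.spBilin d F _))).2 ?_ hv)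
      rintro _ ⟨s', rfl⟩
      rw [SetLike.mem_coe, LinearMap.mem_ker, ClassicalSp.spBilin_apply]
      rcases s with s | s <;> rcases s' with s' | s' <;> simp [Cfsg.sympForm, Matrix.J, hkl, Ne.symm hkl]
    refine hX.false ⟨D, hD, fun k u hu hu0 => ?_, hperp⟩
    by_contra hcon
    push Not at hcon
    refine hu0 ((ClassicalSp.spBilin_nondeg (m := d) (F := F)).1 u fun v => ?_)
    refine Submodule.iSup_induction _ (motive := fun v => ClassicalSp.spBilin d F u v = 0) (hD.iSup_eq_top ▸ Submodule.mem_top : v ∈ iSup D)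
      (fun l w hw => ?_) (by simp) (fun x y hx hy => by simp [hx, hy])
    rw [ClassicalSp.spBilin_apply]
    by_cases hkl : k = l
    · subst hkl; exact hcon w hw
    · exact hperp k l hkl u hu w hw
  let L : G → X := fun g => ⟨fun k => (D₀.1 k).map (g.1 : V →ₗ[F] V), ⟨D₀.2.1.two_le, D₀.2.1.pos,
    fun k => (g.1.finrank_map_eq _).trans (D₀.2.1.finrank_eq k), D₀.2.1.indep.map_orderIso (Submodule.orderIsoMapComap g.1),
    by rw [← Submodule.map_iSup, D₀.2.1.iSup_eq_top, Submodule.map_top]; exact LinearMap.range_eq_top.2 g.1.surjective⟩,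
    fun k u hu hu0 => by
      obtain ⟨u, hu, rfl⟩ := hu
      obtain ⟨v, hv, hne⟩ := D₀.2.2.1 k u hu (fun e => hu0 (by rw [e, map_zero]))
      refine ⟨g.1 v, ⟨v, hv, rfl⟩, ?_⟩
      rw [← ClassicalSp.spBilin_apply] at hne ⊢
      exact fun h => hne ((g.2 u v).symm.trans h),
    fun k l hkl u hu v hv => by
      obtain ⟨u, hu, rfl⟩ := hu
      obtain ⟨v, hv, rfl⟩ := hv
      rw [← ClassicalSp.spBilin_apply]
      exact (g.2 u v).trans ((ClassicalSp.spBilin_apply _ _).trans (D₀.2.2.2 k l hkl u hu v hv))⟩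
  have hLmul : ∀ g h : G, (L (g * h)).1 = fun k => ((L h).1 k).map (g.1 : V →ₗ[F] V) := fun g h => funext fun k => by
    show Submodule.map _ _ = Submodule.map _ (Submodule.map _ _)
    rw [← Submodule.map_comp]; rfl
  have hsurj : Function.Surjective L := fun D => by
    obtain ⟨b₀, -, hb₀, hB₀⟩ := hstd D₀
    obtain ⟨b₁, hb₁, -, hB₁⟩ := hstd D
    let g : V ≃ₗ[F] V := b₀.equiv b₁ (Equiv.refl _)
    have hg : ∀ u v, B (g u) (g v) = B u v := fun u v => by
      have : B.comp (g : V →ₗ[F] V) (g : V →ₗ[F] V) = B := LinearMap.BilinForm.ext_basis b₀ fun x y => by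
        rw [LinearMap.BilinForm.comp_apply, LinearEquiv.coe_coe]
        show B (b₀.equiv b₁ (Equiv.refl _) (b₀ x)) (b₀.equiv b₁ (Equiv.refl _) (b₀ y)) = _
        rw [Module.Basis.equiv_apply, Module.Basis.equiv_apply, Equiv.refl_apply, Equiv.refl_apply, hB₁, hB₀]
      exact LinearMap.congr_fun (LinearMap.congr_fun this u) v
    refine ⟨⟨g, hg⟩, Subtype.ext (funext fun k => ?_)⟩
    refine Submodule.eq_of_le_of_finrank_le ?_ (by rw [(L ⟨g, hg⟩).2.1.finrank_eq, D.2.1.finrank_eq])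
    show (D₀.1 k).map (g : V →ₗ[F] V) ≤ D.1 k
    refine (Submodule.map_mono (hb₀ k)).trans ?_
    rw [Submodule.map_span, Submodule.span_le]
    rintro _ ⟨_, ⟨s, rfl⟩, rfl⟩
    show b₀.equiv b₁ (Equiv.refl _) (b₀ ⟨k, s⟩) ∈ D.1 k
    rw [Module.Basis.equiv_apply, Equiv.refl_apply]
    exact hb₁ k s
  choose sec hsec using hsurj
  let S := {g : G // L g = L 1}
  haveI : Finite (V ≃ₗ[F] V) := Finite.of_injective (fun g : V ≃ₗ[F] V => (g : V → V)) DFunLike.coe_injective
  have hL1 : ∀ D : X, ∀ h : G, L h = L 1 → L (sec D * h) = D := fun D h hh => by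
    refine Subtype.ext ?_
    rw [hLmul, hh, ← hLmul, mul_one, hsec]
  have hbij2 : Function.Bijective fun p : X × S => sec p.1 * p.2.1 := by
    constructor
    · rintro ⟨D, h, hh⟩ ⟨D', h', hh'⟩ e
      have e1 := congrArg L e
      simp only [hL1 D h hh, hL1 D' h' hh'] at e1
      subst e1
      exact Prod.ext rfl (Subtype.ext (mul_left_cancel e))
    · intro g
      refine ⟨(L g, ⟨(sec (L g))⁻¹ * g, Subtype.ext ?_⟩), by simp⟩
      have e1 : L g = L (sec (L g)) := (hsec _).symm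
      rw [hLmul, show (L g).1 = (L (sec (L g))).1 from congrArg Subtype.val e1, ← hLmul, inv_mul_cancel]
  have hdg : r ∣ Nat.card G := by
    rw [← Nat.card_eq_of_bijective _ hbij2, Nat.card_prod]
    exact dvd_mul_of_dvd_left hdvd _
  obtain ⟨g, hg⟩ := exists_prime_orderOf_dvd_card' r hdg
  let T : Module.End F V := (g.1 : V →ₗ[F] V)
  have hTpow : ∀ k, T ^ k = (((g ^ k : G) : V ≃ₗ[F] V) : V →ₗ[F] V) := fun k => by
    induction k with
    | zero => rfl
    | succ k ih => rw [pow_succ, ih, pow_succ]; rfl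
  have hT : T ^ r = 1 := by rw [hTpow, ← hg, pow_orderOf_eq_one]; rfl
  have hI : (stdForm d F).Isom T := altForm_isom (hA := ClassicalSp.spBilin_isAlt) (hB := ClassicalSp.spBilin_nondeg) g.2
  obtain ⟨z, hz⟩ := dvd_moved (T := T) hT hr0 hi hc inv_moved le_rfl (SForm.nd_moved hT hr0 hI)
  rcases Nat.eq_zero_or_pos z with rfl | hz0
  · exfalso
    rw [mul_zero] at hz
    have hsum := SForm.finrank_fixed_add (T := T) hT hr0
    rw [hz, add_zero] at hsum
    have htop : fixedSpace T = ⊤ := Submodule.eq_top_of_finrank_eq hsum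
    have : g = 1 := Subtype.ext (LinearEquiv.ext fun v => mem_fixedSpace.1 (htop.ge (Submodule.mem_top : v ∈ (⊤ : Submodule F V))))
    rw [this, orderOf_one] at hg
    exact (Fact.out : r.Prime).ne_one hg.symm
  · have h1 := Nat.le_mul_of_pos_right c hz0
    have h2 := Submodule.finrank_le (movedSpace T r)
    rw [ClassicalSp.finrank_space] at h2
    omega

/-- Elements of prime order and orthogonal decompositions. -/
theorem main (p : ℕ) [Fact p.Prime] [CharP F p] {q : ℕ} (hq : Fintype.card F = q) (hat : 2 * d = a * t) (ha : 2 ≤ a) (hae : Even a)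
    (ht : 2 ≤ t) [Fact r.Prime] (hr2 : r ≠ 2) (hrp : r ≠ p)
    (hΩ : r ∣ Nat.card {D : Fin t → Submodule F V // IsOrtho t a D} / Nat.factorial t)
    (i c : ℕ) (hi : i = orderOf (q : ZMod r)) (hc : c = if Even i then i else 2 * i) :
    (∀ x : ↥(Matrix.symplecticGroup (Fin d) F),
      (∃ z : F, ((x ^ r : ↥(Matrix.symplecticGroup (Fin d) F)) : Matrix (Fin d ⊕ Fin d) (Fin d ⊕ Fin d) F) = z • (1 : Matrix (Fin d ⊕ Fin d) (Fin d ⊕ Fin d) F)) →
      (∀ z : F, (x : Matrix (Fin d ⊕ Fin d) (Fin d ⊕ Fin d) F) ≠ z • (1 : Matrix (Fin d ⊕ Fin d) (Fin d ⊕ Fin d) F)) →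
      ∃ D : Fin t → Submodule F V, IsOrtho t a D ∧
        ∃ σ : Equiv.Perm (Fin t), ∀ j, (D j).map (Matrix.toLin' (x : Matrix (Fin d ⊕ Fin d) (Fin d ⊕ Fin d) F)) = D (σ j)) ↔
    (c ≤ a ∧ (2 * d) % c = t * (a % c)) := by
  classical
  subst hq
  have hr : r.Prime := Fact.out
  have hr0 : (r : F) ≠ 0 := LBRootPoly.cast_ne_zero' p hr hrp
  have hd0 : 0 < d := by have := Nat.mul_le_mul ha ht; omega
  have hi0 : 0 < i := hi ▸ orderOf_card_pos hr0
  have hc0 : 0 < c := by rw [hc]; split_ifs <;> omega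
  constructor
  swap
  · rintro ⟨hca, hk⟩ x ⟨z, hz⟩ -
    have hz2 : z * z = 1 := Elusive.scalar_sq hd0 hz
    obtain ⟨T, hTdef⟩ : ∃ T : Module.End F V, T = z • Matrix.toLin' x.1 := ⟨_, rfl⟩
    have hT : T ^ r = 1 := by
      rw [hTdef, _root_.smul_pow, ← toLin_pow_eq, hz, map_smul, Matrix.toLin'_one, smul_smul, ← pow_succ]
      obtain ⟨l, hl⟩ := hr.odd_of_ne_two hr2
      rw [hl, show 2 * l + 1 + 1 = 2 * (l + 1) by ring, pow_mul, pow_two, hz2, one_pow, one_smul]
      rfl
    have hB : ∀ u v, ClassicalSp.spBilin d F (T u) (T v) = ClassicalSp.spBilin d F u v := fun u v => by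
      simp only [hTdef, LinearMap.smul_apply, map_smul, smul_eq_mul, ← mul_assoc]
      rw [toLin_isometry, hz2, one_mul]
    have hI : (stdForm d F).Isom T := altForm_isom (hA := ClassicalSp.spBilin_isAlt) (hB := ClassicalSp.spBilin_nondeg) hB
    have htl : t * (a % c) < c := hk ▸ Nat.mod_lt _ hc0
    obtain ⟨D, hD, hDo, hDt⟩ := chop (T := T) hI (fun s hs U => pick p hr2 hT hr0 hI hi hc hae hca htl s hs U) t le_rfl ⊤
      (fun _ _ => trivial) (stdForm d F).nd_top (by rw [finrank_top, ClassicalSp.finrank_space, hat])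
    refine ⟨D, ⟨LBDecomp.mdecomp_of_top ht (by omega) (by simp [← hat, two_mul]) D (fun k => (hD k).2.2.2.le)
      (fun v => hDt trivial), fun k => (nd_iff _).2 (hD k).2.2.1,
      fun k l hkl u hu v hv => (ClassicalSp.spBilin_apply u v).symm.trans (hDo k l hkl u hu v hv)⟩, 1, fun k => ?_⟩
    refine toLin_map_of_le x ?_ rfl
    rintro _ ⟨v, hv, rfl⟩
    have := (D k).smul_mem z ((hD k).1 v hv)
    rwa [hTdef, LinearMap.smul_apply, smul_smul, hz2, one_smul] at this
  intro hall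
  have hc2d : c ≤ 2 * d := le_of_dvd_count (by omega) hae ht hat hr0 hΩ hi hc
  obtain ⟨h, hh, hij⟩ : ∃ h, c = 2 * h ∧ ((Odd i ∧ h = i) ∨ i = 2 * h) := by
    by_cases he : Even i
    · obtain ⟨h, rfl⟩ := he
      exact ⟨h, by rw [hc, if_pos ⟨h, rfl⟩]; ring, Or.inr (by ring)⟩
    · exact ⟨i, by rw [hc, if_neg he], Or.inl ⟨Nat.not_even_iff_odd.1 he, rfl⟩⟩
  obtain ⟨A, hA, hAr, hA1⟩ := LBSpExt.exists_fpf (F := F) p hr2 hrp hi hij
  have hh0 : 0 < h := by omega
  have hqr : (Fintype.card F : ZMod r) ≠ 0 := fun h0 => by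
    obtain ⟨k, hp, he⟩ := FiniteField.card F p
    rw [ZMod.natCast_eq_zero_iff, he] at h0
    exact hrp ((Nat.prime_dvd_prime_iff_eq hr hp).1 (hr.dvd_of_dvd_pow h0))
  have hir : i ∣ r - 1 := hi ▸ ZMod.orderOf_dvd_card_sub_one hqr
  have hcr : c ≤ r - 1 := by
    refine Nat.le_of_dvd (by have := hr.two_le; omega) ?_
    rw [hc]
    split_ifs with he
    · exact hir
    · exact Nat.Coprime.mul_dvd_of_dvd_of_dvd (Nat.coprime_two_left.2 (Nat.not_even_iff_odd.1 he))
        (even_iff_two_dvd.1 (hr.odd_of_ne_two hr2 |>.tsub_odd odd_one)) hir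
  have hwit : ∀ J f, 0 < J → d = f + J * h → ∃ (T : Module.End F V) (D : Fin t → Submodule F V) (σ : Equiv.Perm (Fin t)),
      T ^ r = 1 ∧ (stdForm d F).Isom T ∧ finrank F (fixedSpace T) = 2 * f ∧ finrank F (movedSpace T r) = J * c ∧
      IsOrtho t a D ∧ ∀ k, ∀ v ∈ D k, T v ∈ D (σ k) := by
    intro J f hJ hd
    obtain ⟨x, hx1, hx2, e, heB, heT⟩ := exists_transfer (d := d) (κ := Fin J) (f := f) (h := h) (A := fun _ => A) hr2
      (by rw [Fintype.card_fin]; exact hd) (by rw [Fintype.card_fin]; exact hJ) hh0 (fun _ => hA) (fun _ => hAr) (fun _ => hA1)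
    obtain ⟨D, hD, σ, hσ⟩ := hall x hx1 hx2
    obtain ⟨T, hTdef⟩ : ∃ T : Module.End F V, T = Matrix.toLin' x.1 := ⟨_, rfl⟩
    have hpow : ∀ n u, (T ^ n) (e u) = e ((mdlMap (fun _ : Fin J => A) ^ n) u) := fun n => by
      induction n with
      | zero => intro u; simp
      | succ n ih => intro u; rw [pow_succ', pow_succ', Module.End.mul_apply, Module.End.mul_apply, ih, hTdef, heT]
    have hT : T ^ r = 1 := LinearMap.ext fun v => by
      obtain ⟨u, rfl⟩ := e.surjective v
      rw [hpow, mdlMap_pow_eq_one fun _ => hAr, Module.End.one_apply, Module.End.one_apply]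
    have hI : (stdForm d F).Isom T := altForm_isom (hA := ClassicalSp.spBilin_isAlt) (hB := ClassicalSp.spBilin_nondeg)
      (hTdef ▸ toLin_isometry x)
    have hfix : finrank F (fixedSpace T) = 2 * f := by
      rw [← finrank_fixed (F := F) (κ := Fin J) (A := fun _ => A) (f := f) (fun _ => hA1)]
      have he : fixedSpace T = (fixedSpace (mdlMap (f := f) fun _ : Fin J => A)).map e.toLinearMap := by
        ext v
        obtain ⟨u, rfl⟩ := e.surjective v
        rw [Submodule.mem_map_equiv, e.symm_apply_apply, mem_fixedSpace, mem_fixedSpace, hTdef, heT, e.injective.eq_iff]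
      rw [he, LinearEquiv.finrank_map_eq]
    have hsum := SForm.finrank_fixed_add (T := T) hT hr0
    rw [hfix, ClassicalSp.finrank_space] at hsum
    refine ⟨T, D, σ, hT, hI, hfix, ?_, hD, fun k v hv => by rw [← hσ k, hTdef]; exact ⟨v, hv, rfl⟩⟩
    have : J * c = 2 * (J * h) := by rw [hh]; ring
    omega
  have hparts : ∀ {T : Module.End F V} {D : Fin t → Submodule F V} {σ : Equiv.Perm (Fin t)}, T ^ r = 1 → (stdForm d F).Isom T →
      IsOrtho t a D → (∀ k, ∀ v ∈ D k, T v ∈ D (σ k)) → (∀ k, σ k = k) → ∀ k, ∃ y,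
        finrank F (D k ⊓ fixedSpace T : Submodule F V) + c * y = a ∧
        finrank F (D k ⊓ movedSpace T r : Submodule F V) = c * y := by
    intro T D σ hT hI hD hσ hne k
    have hinv : Inv T (D k) := fun v hv => by simpa [hne k] using hσ k v hv
    obtain ⟨-, hm⟩ := nd_parts (T := T) hT hr0 hI hinv ((nd_iff _).1 (hD.2.1 k))
    obtain ⟨y, hy⟩ := dvd_moved (T := T) (X := D k ⊓ movedSpace T r) hT hr0 hi hc (fun v hv => ⟨hinv v hv.1, inv_moved v hv.2⟩) inf_le_right hm
    have hs := finrank_split hT hr0 hinv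
    rw [hD.1.finrank_eq, hy] at hs
    exact ⟨y, hs.symm, hy⟩
  have hca : c ≤ a := by
    by_contra hlt
    obtain ⟨T, D, σ, hT, hI, hfix, hmov, hD, hσ⟩ := hwit 1 (d - h) one_pos (by omega)
    by_cases hne : ∀ k, σ k = k
    · have : (⊤ : Submodule F V) ≤ fixedSpace T := by
        rw [← hD.1.iSup_eq_top]
        refine iSup_le fun k => ?_
        obtain ⟨y, hy1, hy2⟩ := hparts hT hI hD hσ hne k
        have hy0 : c * y = 0 := by
          rcases Nat.eq_zero_or_pos y with rfl | h0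
          · simp
          · have := Nat.le_mul_of_pos_right c h0
            omega
        exact inf_eq_left.1 (Submodule.eq_of_le_of_finrank_le inf_le_left (by rw [hD.1.finrank_eq]; omega))
      have h1 := Submodule.finrank_mono this
      rw [finrank_top, ClassicalSp.finrank_space, hfix] at h1
      omega
    · push Not at hne
      obtain ⟨k, hk⟩ := hne
      have h1 := (LBDecomp.moved_part hT hD.1.indep hD.1.finrank_eq (by omega) hσ hk).2 hr0
      rw [hmov, one_mul] at h1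
      have h2 : (c + 1) * a ≤ r * a := Nat.mul_le_mul_right a (by have := hr.two_le; omega)
      rw [Nat.succ_mul] at h2
      have h3 : c * 2 ≤ c * a := Nat.mul_le_mul_left c ha
      omega
  refine ⟨hca, ?_⟩
  obtain ⟨T, D, σ, hT, hI, hfix, hmov, hD, hσ⟩ := hwit (d / h) (d % h) (Nat.div_pos (by omega) hh0)
    (Nat.mod_add_div' d h).symm
  have hk : 2 * d % c = 2 * (d % h) := by rw [hh, Nat.mul_mod_mul_left]
  have hne : ∀ k, σ k = k := fun k => by
    by_contra hj
    have h1 := (LBDecomp.moved_part hT hD.1.indep hD.1.finrank_eq (by omega) hσ hj).1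
    have := Nat.mod_lt (2 * d) hc0
    omega
  have h1 := LBDecomp.sum_finrank_le hD.1.indep (fun k => D k ⊓ fixedSpace T) (fun k => inf_le_left) _ (fun k => inf_le_right)
  have h2 : ∀ k, a % c ≤ finrank F (D k ⊓ fixedSpace T : Submodule F V) := fun k => by
    obtain ⟨y, hy1, -⟩ := hparts hT hI hD hσ hne k
    rw [← hy1, Nat.add_mul_mod_self_left]
    exact Nat.mod_le _ _
  have h3 : t * (a % c) ≤ 2 * d % c := by
    rw [hk, ← hfix]
    refine le_trans ?_ h1
    calc t * (a % c) = ∑ _k : Fin t, a % c := by simp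
      _ ≤ _ := Finset.sum_le_sum fun k _ => h2 k
  have h4 : 2 * d % c = (t * (a % c)) % c := by rw [Nat.mul_mod_mod, hat, mul_comm]
  have := Nat.mod_le (t * (a % c)) c
  omega

end std

end Cfsg.Agent.LBSympDecomp
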