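/-
Elements of prime order of PSL_n(q) and the stabilisers of tensor decompositions.
-/
import Cfsg.Agent.Lib.LinearBlock.SimFactor
import Cfsg.Prelude.Def_GeometricClasses
import Mathlib.LinearAlgebra.Matrix.Kronecker
import Mathlib.FieldTheory.IsAlgClosed.AlgebraicClosure

set_option autoImplicit false
set_option linter.all false

namespace Cfsg.Agent.LBTensorSpec

open Matrix Polynomial LBSim

set_option maxHeartbeats 1000000
open scoped Kronecker

variable {F : Type*} [Field F] {n a b : ℕ}

/-- Some conjugate by a matrix of determinant one stabilises the decomposition. -/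
def Fix (e : Fin n ≃ Fin a × Fin b) (U : GL (Fin n) F) (X : Matrix (Fin n) (Fin n) F) : Prop :=
  ∃ P : Matrix.SpecialLinearGroup (Fin n) F, ∃ A : GL (Fin a) F, ∃ B : GL (Fin b) F,
    (P⁻¹).1 * X * P.1 = U.1 * (A.1 ⊗ₖ B.1).submatrix e e * (U⁻¹).1

theorem mem_iff {ι : Type} [Fintype ι] [DecidableEq ι] (e : ι ≃ Fin a × Fin b) (U g : GL ι F) :
    g ∈ Cfsg.Geo.tensorProductSubgroup a b e U ↔
      ∃ A : GL (Fin a) F, ∃ B : GL (Fin b) F, g.1 = U.1 * (A.1 ⊗ₖ B.1).submatrix e e * (U⁻¹).1 := by
  constructor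
  · rintro ⟨g', ⟨k, ⟨A, B, hk⟩, rfl⟩, rfl⟩
    refine ⟨A, B, ?_⟩
    rw [← hk]
    rfl
  · rintro ⟨A, B, hg⟩
    have hdet : (A.1 ⊗ₖ B.1).det ≠ 0 := by
      rw [Matrix.det_kronecker]
      exact mul_ne_zero (pow_ne_zero _ (GeneralLinearGroup.det A).ne_zero) (pow_ne_zero _ (GeneralLinearGroup.det B).ne_zero)
    exact ⟨_, ⟨GeneralLinearGroup.mkOfDetNeZero _ hdet, ⟨A, B, rfl⟩, rfl⟩, Units.ext hg.symm⟩

theorem conj_pow_sub {ι : Type} [Fintype ι] [DecidableEq ι] (U : GL ι F) (e : ι ≃ Fin a × Fin b)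
    (M : Matrix (Fin a × Fin b) (Fin a × Fin b) F) (k : ℕ) :
    (U.1 * M.submatrix e e * (U⁻¹).1) ^ k = U.1 * (M ^ k).submatrix e e * (U⁻¹).1 := by
  rw [Units.conj_pow]
  congr 2
  exact (map_pow (Matrix.reindexAlgEquiv F F e.symm) M k).symm

theorem scalar_factor {ι κ : Type*} [Fintype ι] [DecidableEq ι] [Fintype κ] [DecidableEq κ] [Nonempty ι] [Nonempty κ]
    {A : Matrix ι ι F} {B : Matrix κ κ F} {z : F} (hz : z ≠ 0) (h : A ⊗ₖ B = z • 1) :
    ∃ z₁ z₂ : F, z₁ * z₂ = z ∧ A = z₁ • 1 ∧ B = z₂ • 1 := by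
  obtain ⟨i⟩ := ‹Nonempty ι›
  obtain ⟨j⟩ := ‹Nonempty κ›
  have hh : ∀ i i' j j', A i i' * B j j' = z * if i = i' ∧ j = j' then 1 else 0 := fun i i' j j' => by
    have := congrFun (congrFun h (i, j)) (i', j')
    simpa [Matrix.one_apply, Prod.ext_iff] using this
  have h0 := hh i i j j
  rw [if_pos ⟨rfl, rfl⟩, mul_one] at h0
  have hA0 : A i i ≠ 0 := fun e => hz (by rw [← h0, e, zero_mul])
  have hB0 : B j j ≠ 0 := fun e => hz (by rw [← h0, e, mul_zero])
  refine ⟨A i i, B j j, h0, Matrix.ext fun s t => ?_, Matrix.ext fun s t => ?_⟩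
  · refine mul_right_cancel₀ hB0 ?_
    rw [hh, Matrix.smul_apply, Matrix.one_apply, smul_eq_mul]
    simp only [and_true]
    split_ifs <;> simp [h0]
  · refine mul_left_cancel₀ hA0 ?_
    rw [hh, Matrix.smul_apply, Matrix.one_apply, smul_eq_mul]
    simp only [true_and]
    split_ifs <;> simp [h0]

/-- A tensor product is not a transvection. -/
theorem not_rankone (ha : 2 ≤ a) (hb : 2 ≤ b) {A : GL (Fin a) F} {B : GL (Fin b) F} {u w : Fin a × Fin b → F}
    (h : A.1 ⊗ₖ B.1 = 1 + vecMulVec u w) (hN : vecMulVec u w * vecMulVec u w = 0) : vecMulVec u w = 0 := by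
  classical
  have hh : ∀ i i' j j', A.1 i i' * B.1 j j' = (if i = i' ∧ j = j' then 1 else 0) + u (i, j) * w (i', j') :=
    fun i i' j j' => by
      have := congrFun (congrFun h (i, j)) (i', j')
      simpa [Matrix.one_apply, Prod.ext_iff, vecMulVec] using this
  have key : ∀ {m : ℕ} (M : GL (Fin m) F) (x y : Fin m → F), 2 ≤ m → M.1 = vecMulVec x y → False := by
    intro m M x y hm hM
    obtain ⟨v, hv, hv0⟩ : ∃ v : Fin m → F, v ≠ 0 ∧ y ⬝ᵥ v = 0 := by
      by_cases h0 : y ⟨0, by omega⟩ = 0
      · exact ⟨Pi.single ⟨0, by omega⟩ 1, by simp, by rw [dotProduct_single, h0, zero_mul]⟩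
      · refine ⟨Pi.single ⟨1, by omega⟩ (y ⟨0, by omega⟩) - Pi.single ⟨0, by omega⟩ (y ⟨1, by omega⟩), fun e => h0 ?_, ?_⟩
        · have := congrFun e ⟨1, by omega⟩
          simpa using this
        · rw [dotProduct_sub, dotProduct_single, dotProduct_single]; ring
    refine hv (Matrix.eq_zero_of_mulVec_eq_zero (GeneralLinearGroup.det M).ne_zero ?_)
    rw [hM, vecMulVec_mulVec, hv0]
    simp
  have hAd : ∀ i i', i ≠ i' → A.1 i i' = 0 := fun i i' hii => by
    by_contra hA
    refine key B (fun j => u (i, j) / A.1 i i') (fun j => w (i', j)) hb ?_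
    ext j j'
    have := hh i i' j j'
    rw [if_neg fun h => hii h.1, zero_add] at this
    simp only [vecMulVec, Matrix.of_apply]
    field_simp
    linear_combination this
  have hBd : ∀ j j', j ≠ j' → B.1 j j' = 0 := fun j j' hjj => by
    by_contra hB
    refine key A (fun i => u (i, j) / B.1 j j') (fun i => w (i, j')) ha ?_
    ext i i'
    have := hh i i' j j'
    rw [if_neg fun h => hjj h.2, zero_add] at this
    simp only [vecMulVec, Matrix.of_apply]
    field_simp
    linear_combination this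
  have hoff : ∀ s t : Fin a × Fin b, s ≠ t → u s * w t = 0 := by
    rintro ⟨i, j⟩ ⟨i', j'⟩ hne
    have := hh i i' j j'
    rw [if_neg fun h => hne (by rw [h.1, h.2]), zero_add] at this
    rw [← this]
    by_cases hi : i = i'
    · rw [hBd j j' fun e => hne (by rw [hi, e]), mul_zero]
    · rw [hAd i i' hi, zero_mul]
  ext s t
  by_cases hst : s = t
  · subst hst
    have h1 := congrFun (congrFun hN s) s
    simp only [Matrix.mul_apply, vecMulVec, Matrix.of_apply, Matrix.zero_apply] at h1
    rw [Finset.sum_eq_single s (fun t _ hts => by rw [hoff s t (Ne.symm hts), zero_mul]) (by simp)] at h1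
    simp only [vecMulVec, Matrix.of_apply, Matrix.zero_apply]
    exact mul_self_eq_zero.1 h1
  · simp only [vecMulVec, Matrix.of_apply, Matrix.zero_apply]
    exact hoff s t hst

section roots

variable [Fintype F]

/-- A matrix with a scalar power prime to the characteristic is diagonalisable over an algebraically closed field. -/
theorem exists_diag (p : ℕ) [Fact p.Prime] [CharP F p] {K : Type*} [Field K] [IsAlgClosed K] (φ : F →+* K) {m : ℕ}
    {M : Matrix (Fin m) (Fin m) F} {N : ℕ} (hM : M ^ N = 1) (hN : N.Coprime p) :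
    ∃ d : Fin m → K, ∃ V : GL (Fin m) K, V.1 * M.map φ = Matrix.diagonal d * V.1 ∧
      M.charpoly.map φ = ∏ i, (Polynomial.X - Polynomial.C (d i)) := by
  classical
  haveI : CharP K p := charP_of_injective_ringHom φ.injective p
  obtain ⟨R, hR⟩ : ∃ R : List K, R = (M.charpoly.map φ).roots.toList := ⟨_, rfl⟩
  have hsplit : (M.charpoly.map φ).Splits := IsAlgClosed.splits _
  have hmon : (M.charpoly.map φ).Monic := (Matrix.charpoly_monic M).map φ
  have hlen : R.length = m := by
    rw [hR, Multiset.length_toList, ← hsplit.natDegree_eq_card_roots, Polynomial.natDegree_map,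
      Matrix.charpoly_natDegree_eq_dim, Fintype.card_fin]
  obtain ⟨d, hd⟩ : ∃ d : Fin m → K, d = fun i => R[i.val]'(hlen.symm ▸ i.isLt) := ⟨_, rfl⟩
  have hchar : M.charpoly.map φ = ∏ i, (Polynomial.X - Polynomial.C (d i)) := by
    rw [hd]
    refine Eq.trans ?_ (Fintype.prod_equiv (finCongr hlen.symm) _ (fun i => Polynomial.X - Polynomial.C R[i.val]) (fun i => rfl)).symm
    rw [Fin.prod_univ_fun_getElem R (fun x => Polynomial.X - Polynomial.C x)]
    conv_lhs => rw [hsplit.eq_prod_roots_of_monic hmon]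
    rw [hR, ← Multiset.prod_coe, ← Multiset.map_coe, Multiset.coe_toList]
  have hMK : (M.map φ) ^ N = 1 := by
    have := congrArg φ.mapMatrix hM
    rwa [map_pow, map_one, RingHom.mapMatrix_apply] at this
  have hdN : ∀ i, d i ^ N = 1 := fun i => by
    have h1 : (Polynomial.X - Polynomial.C (d i)) ∣ (M.map φ).charpoly := by
      rw [Matrix.charpoly_map, hchar]
      exact Finset.dvd_prod_of_mem _ (Finset.mem_univ i)
    have h2 := (Spectra.dvd_minpoly_of_dvd_charpoly _ (irreducible_X_sub_C _) h1).trans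
      (minpoly.dvd K (M.map φ) (p := Polynomial.X ^ N - 1) (by simp [hMK]))
    have := dvd_iff_isRoot.1 h2
    simpa [IsRoot, sub_eq_zero] using this
  obtain ⟨V, hV⟩ := SemisimpleCl.exists_conjugator (SemisimpleCl.isSemisimple_of_pow p hMK hN)
    (SemisimpleCl.isSemisimple_of_pow p (M := Matrix.diagonal d) (m := N) (by
      rw [Matrix.diagonal_pow, ← Matrix.diagonal_one]; congr 1; funext i; exact hdN i) hN)
    (by rw [Matrix.charpoly_map, hchar, Matrix.charpoly_diagonal])
  exact ⟨d, V, hV, hchar⟩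

/-- The eigenvalues of a tensor product. -/
theorem kron_roots (p : ℕ) [Fact p.Prime] [CharP F p] {K : Type*} [Field K] [IsAlgClosed K] (φ : F →+* K)
    {A : Matrix (Fin a) (Fin a) F} {B : Matrix (Fin b) (Fin b) F} {N : ℕ} (hA : A ^ N = 1) (hB : B ^ N = 1)
    (hN : N.Coprime p) :
    ∃ (α : Fin a → K) (β : Fin b → K), A.charpoly.map φ = ∏ i, (Polynomial.X - Polynomial.C (α i)) ∧
      B.charpoly.map φ = ∏ i, (Polynomial.X - Polynomial.C (β i)) ∧ (∀ j, β j ≠ 0) ∧
      ((A ⊗ₖ B).charpoly.map φ).roots = Finset.univ.val.map fun ij : Fin a × Fin b => α ij.1 * β ij.2 := by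
  classical
  obtain ⟨α, V, hV, hAc⟩ := exists_diag p φ hA hN
  obtain ⟨β, W, hW, hBc⟩ := exists_diag p φ hB hN
  refine ⟨α, β, hAc, hBc, fun j hj => ?_, ?_⟩
  · have h1 := congrArg Matrix.det hW
    rw [Matrix.det_mul, Matrix.det_mul, Matrix.det_diagonal, Finset.prod_eq_zero (Finset.mem_univ j) hj, zero_mul,
      mul_eq_zero] at h1
    have h2 : B.det ≠ 0 := fun e => by
      have h4 : B.det ^ N = 1 := by rw [← Matrix.det_pow, hB, Matrix.det_one]
      rcases Nat.eq_zero_or_pos N with h0 | h0
      · rw [h0, Nat.coprime_zero_left] at hN; exact (Fact.out : p.Prime).ne_one hN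
      · rw [e, zero_pow h0.ne'] at h4; exact zero_ne_one h4
    rcases h1 with h1 | h1
    · exact (GeneralLinearGroup.det W).ne_zero h1
    · rw [← RingHom.mapMatrix_apply, ← RingHom.map_det, map_eq_zero] at h1; exact h2 h1
  · have hAK : A.map φ = (V⁻¹).1 * Matrix.diagonal α * V.1 := by rw [Matrix.mul_assoc, ← hV, ← Matrix.mul_assoc, Units.inv_mul, Matrix.one_mul]
    have hBK : B.map φ = (W⁻¹).1 * Matrix.diagonal β * W.1 := by rw [Matrix.mul_assoc, ← hW, ← Matrix.mul_assoc, Units.inv_mul, Matrix.one_mul]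
    have hdet : (V.1 ⊗ₖ W.1).det ≠ 0 := by
      rw [Matrix.det_kronecker]
      exact mul_ne_zero (pow_ne_zero _ (GeneralLinearGroup.det V).ne_zero) (pow_ne_zero _ (GeneralLinearGroup.det W).ne_zero)
    obtain ⟨T, hT⟩ : ∃ T : GL (Fin a × Fin b) K, T.1 = V.1 ⊗ₖ W.1 := ⟨GeneralLinearGroup.mkOfDetNeZero _ hdet, rfl⟩
    have hTi : (T⁻¹).1 = (V⁻¹).1 ⊗ₖ (W⁻¹).1 := by
      refine Units.inv_eq_of_mul_eq_one_right ?_
      rw [hT, ← Matrix.mul_kronecker_mul, Units.mul_inv, Units.mul_inv, Matrix.one_kronecker_one]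
    have hm : (A ⊗ₖ B).map φ = A.map φ ⊗ₖ B.map φ := by
      ext ⟨i, j⟩ ⟨i', j'⟩; simp
    rw [← Matrix.charpoly_map, hm, hAK, hBK, Matrix.mul_kronecker_mul, Matrix.mul_kronecker_mul,
      Matrix.diagonal_kronecker_diagonal, ← hT, ← hTi, Matrix.coe_units_inv, Matrix.charpoly_units_conj',
      Matrix.charpoly_diagonal, Polynomial.roots_prod _ _ (Finset.prod_ne_zero_iff.2 fun i _ => X_sub_C_ne_zero _)]
    simp only [Polynomial.roots_X_sub_C, Multiset.bind_singleton]

/-- Constant first factor: multiplicities are multiples of `a`; otherwise no value is taken too often. -/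
theorem count_bound {K : Type*} [Field K] [DecidableEq K] (α : Fin a → K) (β : Fin b → K) (hβ : ∀ j, β j ≠ 0) (v : K) :
    ((∀ i i', α i = α i') → a ∣ (Finset.univ.val.map fun ij : Fin a × Fin b => α ij.1 * β ij.2).count v) ∧
      (¬ (∀ i i', α i = α i') →
        (Finset.univ.val.map fun ij : Fin a × Fin b => α ij.1 * β ij.2).count v + b ≤ a * b) := by
  have hc : (Finset.univ.val.map fun ij : Fin a × Fin b => α ij.1 * β ij.2).count v =
      ∑ j, (Finset.univ.filter fun i => α i * β j = v).card := by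
    rw [Multiset.count_map, ← Finset.filter_val, ← Finset.card_def, Finset.card_filter, Fintype.sum_prod_type_right]
    simp only [Finset.card_filter, eq_comm]
  rw [hc]
  refine ⟨fun h => Finset.dvd_sum fun j _ => ?_, fun h => ?_⟩
  · by_cases hj : ∃ i, α i * β j = v
    · obtain ⟨i, hi⟩ := hj
      rw [Finset.filter_true_of_mem fun i' _ => by rw [h i' i, hi], Finset.card_univ, Fintype.card_fin]
    · push Not at hj
      rw [Finset.filter_false_of_mem fun i _ => hj i, Finset.card_empty]
      exact dvd_zero a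
  · push Not at h
    obtain ⟨i₁, i₂, h12⟩ := h
    have hle : ∀ j, (Finset.univ.filter fun i => α i * β j = v).card + 1 ≤ a := fun j => by
      have : (Finset.univ.filter fun i => α i * β j = v) ≠ Finset.univ := fun e => h12 (by
        have h1 := (Finset.mem_filter.1 (e.symm ▸ Finset.mem_univ i₁ : i₁ ∈ Finset.univ.filter fun i => α i * β j = v)).2
        have h2 := (Finset.mem_filter.1 (e.symm ▸ Finset.mem_univ i₂ : i₂ ∈ Finset.univ.filter fun i => α i * β j = v)).2
        exact mul_right_cancel₀ (hβ j) (h1.trans h2.symm))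
      have := Finset.card_lt_card (Finset.ssubset_univ_iff.2 this)
      rw [Finset.card_univ, Fintype.card_fin] at this
      omega
    calc ∑ j, (Finset.univ.filter fun i => α i * β j = v).card + b
        = ∑ j, ((Finset.univ.filter fun i => α i * β j = v).card + 1) := by simp [Finset.sum_add_distrib]
      _ ≤ ∑ _j : Fin b, a := Finset.sum_le_sum fun j _ => hle j
      _ = a * b := by simp [mul_comm]

variable [DecidableEq F]

/-- Spectral data of an element with a fixed point. -/
theorem fix_spectrum (p : ℕ) [Fact p.Prime] [CharP F p] {r : ℕ} [Fact r.Prime] (hrp : r ≠ p) (ha : 0 < a) (hb : 0 < b)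
    {e : Fin n ≃ Fin a × Fin b} {U : GL (Fin n) F} {X : Matrix (Fin n) (Fin n) F} {z : F} (hz : z ≠ 0) (hX : X ^ r = z • 1)
    (h : Fix e U X) {K : Type*} [Field K] [IsAlgClosed K] [DecidableEq K] (φ : F →+* K) :
    ∃ (A : Matrix (Fin a) (Fin a) F) (z₁ : F) (α : Fin a → K) (β : Fin b → K), z₁ ≠ 0 ∧ A ^ r = z₁ • 1 ∧
      A.charpoly.map φ = ∏ i, (Polynomial.X - Polynomial.C (α i)) ∧ (∀ j, β j ≠ 0) ∧
      (X.charpoly.map φ).roots = Finset.univ.val.map fun ij : Fin a × Fin b => α ij.1 * β ij.2 := by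
  obtain ⟨P, A, B, hP⟩ := h
  haveI : Nonempty (Fin a) := ⟨⟨0, ha⟩⟩
  haveI : Nonempty (Fin b) := ⟨⟨0, hb⟩⟩
  obtain ⟨T, hT⟩ : ∃ T : GL (Fin n) F, T = SpecialLinearGroup.toGL P := ⟨_, rfl⟩
  have hPX : (P⁻¹).1 * X * P.1 = (T⁻¹).1 * X * T.1 := by rw [hT, ← map_inv]; rfl
  rw [hPX] at hP
  have hk : (A.1 ⊗ₖ B.1) ^ r = z • 1 := by
    have h1 : z • (1 : Matrix (Fin n) (Fin n) F) = U.1 * ((A.1 ⊗ₖ B.1) ^ r).submatrix e e * (U⁻¹).1 := by
      rw [← conj_pow_sub, ← hP, Units.conj_pow', hX, Matrix.mul_smul, Matrix.mul_one, Matrix.smul_mul, Units.inv_mul]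
    have h2 : z • (1 : Matrix (Fin n) (Fin n) F) = ((A.1 ⊗ₖ B.1) ^ r).submatrix e e :=
      calc z • (1 : Matrix (Fin n) (Fin n) F) = (U⁻¹).1 * (z • 1) * U.1 := by
            rw [Matrix.mul_smul, Matrix.mul_one, Matrix.smul_mul, Units.inv_mul]
        _ = ((U⁻¹).1 * U.1) * ((A.1 ⊗ₖ B.1) ^ r).submatrix e e * ((U⁻¹).1 * U.1) := by
            rw [h1]; simp only [Matrix.mul_assoc]
        _ = _ := by rw [Units.inv_mul, Matrix.one_mul, Matrix.mul_one]
    have h3 := congrArg (fun M : Matrix (Fin n) (Fin n) F => M.submatrix e.symm e.symm) h2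
    simp only [Matrix.submatrix_submatrix, Equiv.self_comp_symm, Matrix.submatrix_id_id, Matrix.submatrix_smul,
      Pi.smul_apply, Matrix.submatrix_one_equiv] at h3
    exact h3.symm
  have hkp : ∀ k, (A.1 ⊗ₖ B.1) ^ k = (A.1 ^ k) ⊗ₖ (B.1 ^ k) := fun k => by
    induction k with
    | zero => simp
    | succ k ih => rw [pow_succ, ih, ← Matrix.mul_kronecker_mul, ← pow_succ, ← pow_succ]
  obtain ⟨z₁, z₂, hz12, hA, hB⟩ := scalar_factor hz ((hkp r).symm.trans hk)
  have hz1 : z₁ ≠ 0 := fun e0 => hz (by rw [← hz12, e0, zero_mul])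
  have hz2 : z₂ ≠ 0 := fun e0 => hz (by rw [← hz12, e0, mul_zero])
  have hr : r.Prime := Fact.out
  have hN : (r * (Fintype.card F - 1)).Coprime p := by
    have hpp : p.Prime := Fact.out
    refine Nat.Coprime.mul_left ((Nat.coprime_primes hr hpp).2 hrp) ?_
    obtain ⟨k, -, he⟩ := FiniteField.card F p
    refine (hpp.coprime_iff_not_dvd.2 fun h => ?_).symm
    have h2 : p ∣ Fintype.card F := he ▸ dvd_pow_self p k.ne_zero
    have h1 := Fintype.one_lt_card (α := F)
    have := Nat.dvd_sub h2 h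
    rw [show Fintype.card F - (Fintype.card F - 1) = 1 by omega] at this
    exact hpp.ne_one (Nat.dvd_one.1 this)
  have hAN : A.1 ^ (r * (Fintype.card F - 1)) = 1 := by
    rw [pow_mul, hA, _root_.smul_pow, one_pow, FiniteField.pow_card_sub_one_eq_one z₁ hz1, one_smul]
  have hBN : B.1 ^ (r * (Fintype.card F - 1)) = 1 := by
    rw [pow_mul, hB, _root_.smul_pow, one_pow, FiniteField.pow_card_sub_one_eq_one z₂ hz2, one_smul]
  obtain ⟨α, β, hα, -, hβ, hroots⟩ := kron_roots p φ hAN hBN hN
  refine ⟨A.1, z₁, α, β, hz1, hA, hα, hβ, ?_⟩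
  have hc : X.charpoly = (A.1 ⊗ₖ B.1).charpoly := by
    rw [← Matrix.charpoly_units_conj' T X, ← Matrix.coe_units_inv, hP, Matrix.coe_units_inv, Matrix.charpoly_units_conj]
    exact Matrix.charpoly_reindex e.symm (A.1 ⊗ₖ B.1)
  rw [← hroots, hc]

/-- An element with a lone eigenvalue and one dominant eigenvalue has no fixed point. -/
theorem not_fix_of_counts (p : ℕ) [Fact p.Prime] [CharP F p] {r : ℕ} [Fact r.Prime] (hrp : r ≠ p) (ha : 0 < a) (hb : 0 < b)
    (hn : n = a * b) {e : Fin n ≃ Fin a × Fin b} {U : GL (Fin n) F} {X : Matrix (Fin n) (Fin n) F} {z : F} (hz : z ≠ 0)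
    (hX : X ^ r = z • 1) {K : Type*} [Field K] [IsAlgClosed K] [DecidableEq K] (φ : F →+* K) {v w : K}
    (hv : ¬ a ∣ (X.charpoly.map φ).roots.count v) (hw : n < (X.charpoly.map φ).roots.count w + b) : ¬ Fix e U X := by
  intro h
  obtain ⟨A, z₁, α, β, -, -, -, hβ, hroots⟩ := fix_spectrum p hrp ha hb hz hX h φ
  rw [hroots] at hv hw
  by_cases hc : ∀ i i', α i = α i'
  · exact hv ((count_bound α β hβ v).1 hc)
  · have := (count_bound α β hβ w).2 hc
    omega

/-- Elements of prime order and tensor decompositions. -/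
theorem main (p : ℕ) [Fact p.Prime] [CharP F p] {q : ℕ} (hq : Fintype.card F = q) (hn : n = a * b) (ha : 2 ≤ a) (hlt : a < b)
    (e : Fin n ≃ Fin a × Fin b) (U : GL (Fin n) F) (r : ℕ) [Fact r.Prime]
    (hΩ : r ∣ (Cfsg.Geo.tensorProductSubgroup a b e U).relIndex (Cfsg.Geo.specialLinear (Fin n) F)) :
    (∀ x ∈ Cfsg.Geo.specialLinear (Fin n) F, (∃ z : F, ((x ^ r : GL (Fin n) F) : Matrix (Fin n) (Fin n) F) = z • (1 : Matrix (Fin n) (Fin n) F)) →
      (∀ z : F, (x : Matrix (Fin n) (Fin n) F) ≠ z • (1 : Matrix (Fin n) (Fin n) F)) →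
      ∃ g ∈ Cfsg.Geo.specialLinear (Fin n) F, g⁻¹ * x * g ∈ Cfsg.Geo.tensorProductSubgroup a b e U) ↔
    (r = 2 ∧ a = 2 ∧ Odd q ∧ padicValNat 2 (q - 1) ≤ padicValNat 2 n) := by
  have hr : r.Prime := Fact.out
  have hn0 : 0 < n := hn ▸ Nat.mul_pos (by omega) (by omega)
  have hn6 : 6 ≤ n := hn ▸ Nat.mul_le_mul ha (show 3 ≤ b by omega)
  have hiff : (∀ x ∈ Cfsg.Geo.specialLinear (Fin n) F, (∃ z : F, ((x ^ r : GL (Fin n) F) : Matrix (Fin n) (Fin n) F) = z • (1 : Matrix (Fin n) (Fin n) F)) →
      (∀ z : F, (x : Matrix (Fin n) (Fin n) F) ≠ z • (1 : Matrix (Fin n) (Fin n) F)) →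
      ∃ g ∈ Cfsg.Geo.specialLinear (Fin n) F, g⁻¹ * x * g ∈ Cfsg.Geo.tensorProductSubgroup a b e U) ↔
      ∀ X : Matrix (Fin n) (Fin n) F, X.det = 1 → (∃ z : F, X ^ r = z • 1) → (∀ z : F, X ≠ z • 1) → Fix e U X := by
    constructor
    · intro h X hd hz hns
      obtain ⟨T, rfl⟩ : ∃ T : SpecialLinearGroup (Fin n) F, T.1 = X := ⟨⟨X, hd⟩, rfl⟩
      obtain ⟨g, hg, hgS⟩ := h (SpecialLinearGroup.toGL T) (MonoidHom.mem_ker.2 (Units.ext (by simp [T.2])))
        (by obtain ⟨z, hz⟩ := hz; exact ⟨z, by rw [Units.val_pow_eq_pow_val]; exact hz⟩) hns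
      obtain ⟨P, hP⟩ : ∃ P : SpecialLinearGroup (Fin n) F, SpecialLinearGroup.toGL P = g :=
        ⟨⟨g.1, congrArg Units.val (MonoidHom.mem_ker.1 hg)⟩, Units.ext rfl⟩
      obtain ⟨A, B, hAB⟩ := (mem_iff e U _).1 hgS
      rw [← hP, ← map_inv, Units.val_mul, Units.val_mul] at hAB
      exact ⟨P, A, B, hAB⟩
    · intro h x hx hz hns
      have hd : x.1.det = 1 := congrArg Units.val (MonoidHom.mem_ker.1 hx)
      obtain ⟨P, A, B, hP⟩ := h x.1 hd (by simpa using hz) hns
      refine ⟨SpecialLinearGroup.toGL P, MonoidHom.mem_ker.2 (Units.ext (by simp [P.2])), (mem_iff e U _).2 ⟨A, B, ?_⟩⟩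
      rw [← map_inv, Units.val_mul, Units.val_mul]
      exact hP
  rw [hiff]
  obtain ⟨c₀, c₁, c₂, hc₀, hc₁, hc₂⟩ := two_val (n := n) (by omega)
  by_cases hrp : r = p
  · subst hrp
    refine iff_of_false (fun hall => ?_) fun h => ?_
    · obtain ⟨X, hX⟩ : ∃ X, X = Matrix.transvection c₀ c₁ (1 : F) := ⟨_, rfl⟩
      have hne : c₀ ≠ c₁ := fun h => by rw [h] at hc₀; omega
      have hpow : ∀ k : ℕ, X ^ k = Matrix.transvection c₀ c₁ (k : F) := fun k => by
        induction k with
        | zero => rw [pow_zero, Nat.cast_zero, Matrix.transvection_zero]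
        | succ k ih => rw [pow_succ, ih, hX, Matrix.transvection_mul_transvection_same (h := hne), Nat.cast_succ]
      have hns : ∀ z : F, X ≠ z • 1 := fun z hz => by
        have := congrFun (congrFun hz c₀) c₁
        rw [hX] at this
        simp [Matrix.transvection, Matrix.one_apply_ne hne] at this
      obtain ⟨P, A, B, hP⟩ := hall X (hX ▸ Matrix.det_transvection_of_ne _ _ hne 1)
        ⟨1, by rw [hpow, CharP.cast_eq_zero, Matrix.transvection_zero, one_smul]⟩ hns
      obtain ⟨W, hW⟩ : ∃ W : GL (Fin n) F, W = SpecialLinearGroup.toGL P * U := ⟨_, rfl⟩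
      have hconj : (W⁻¹).1 * X * W.1 = (A.1 ⊗ₖ B.1).submatrix e e := by
        have h1 := congrArg (fun M => (U⁻¹).1 * M * U.1) hP
        simp only [← Matrix.mul_assoc, Units.inv_mul, Matrix.one_mul] at h1
        rw [Matrix.mul_assoc _ (U⁻¹).1 U.1, Units.inv_mul, Matrix.mul_one] at h1
        rw [← h1, hW, _root_.mul_inv_rev, Units.val_mul, Units.val_mul, ← map_inv]
        simp only [Matrix.mul_assoc]
        rfl
      obtain ⟨u, hu⟩ : ∃ u : Fin a × Fin b → F, u = ((W⁻¹).1 *ᵥ Pi.single c₀ 1) ∘ e.symm := ⟨_, rfl⟩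
      obtain ⟨w, hw⟩ : ∃ w : Fin a × Fin b → F, w = (Pi.single c₁ 1 ᵥ* W.1) ∘ e.symm := ⟨_, rfl⟩
      have hE : (W⁻¹).1 * X * W.1 = 1 + (vecMulVec u w).submatrix e e := by
        rw [hX, Matrix.transvection, Matrix.mul_add, Matrix.add_mul, Matrix.mul_one, Units.inv_mul]
        congr 1
        have : (vecMulVec u w).submatrix e e = vecMulVec ((W⁻¹).1 *ᵥ Pi.single c₀ 1) (Pi.single c₁ 1 ᵥ* W.1) := by
          ext i j; simp [hu, hw, vecMulVec]
        rw [this, ← Matrix.mul_vecMulVec, ← Matrix.vecMulVec_mul, ← Matrix.single_eq_single_vecMulVec_single, Matrix.mul_assoc]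
      have hk : A.1 ⊗ₖ B.1 = 1 + vecMulVec u w := by
        have h1 := congrArg (fun M : Matrix (Fin n) (Fin n) F => M.submatrix e.symm e.symm) (hconj.symm.trans hE)
        simpa [Matrix.submatrix_add, Matrix.submatrix_one_equiv] using h1
      have hwu : w ⬝ᵥ u = 0 := by
        rw [hu, hw, comp_equiv_dotProduct_comp_equiv, Matrix.dotProduct_mulVec, Matrix.vecMul_vecMul, Units.mul_inv,
          Matrix.vecMul_one, dotProduct_single, Pi.single_eq_of_ne hne, zero_mul]
      have h0 := not_rankone ha (by omega) hk (by rw [vecMulVec_mul_vecMulVec, hwu]; simp)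
      rw [h0, Matrix.submatrix_zero, Pi.zero_apply, Pi.zero_apply, add_zero] at hE
      refine hns 1 ?_
      rw [one_smul]
      have h1 := congrArg (fun M => W.1 * M * (W⁻¹).1) hE
      simp only [← Matrix.mul_assoc, Units.mul_inv, Matrix.one_mul, Matrix.mul_one] at h1
      rwa [Matrix.mul_assoc, Units.mul_inv, Matrix.mul_one] at h1
    · obtain ⟨h2, -, hodd, -⟩ := h
      subst h2
      obtain ⟨k, -, hk⟩ := FiniteField.card F 2
      rw [← hq, hk] at hodd
      exact Nat.not_odd_iff_even.2 (Nat.even_pow.2 ⟨even_two, k.ne_zero⟩) hodd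
  obtain ⟨φ, -⟩ : ∃ φ : F →+* AlgebraicClosure F, φ = algebraMap F (AlgebraicClosure F) := ⟨_, rfl⟩
  classical
  have hdiag : ∀ d : Fin n → F, ((Matrix.diagonal d).charpoly.map φ).roots = Finset.univ.val.map (fun i => φ (d i)) := fun d => by
    rw [Matrix.charpoly_diagonal, Polynomial.map_prod,
      Polynomial.roots_prod _ _ (Finset.prod_ne_zero_iff.2 fun i _ => by simp [X_sub_C_ne_zero])]
    simp [Multiset.bind_singleton]
  have hcount : ∀ (d : Fin n → F) (v : F), ((Matrix.diagonal d).charpoly.map φ).roots.count (φ v) =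
      (Finset.univ.filter fun i => d i = v).card := fun d v => by
    rw [hdiag, Multiset.count_map, ← Finset.filter_val, ← Finset.card_def]
    simp only [φ.injective.eq_iff, eq_comm]
  -- a derangement with a lone and a dominant eigenvalue
  have hder : ∀ (d : Fin n → F) (v w z : F), z ≠ 0 → (∀ i, d i ^ r = z) → ∏ i, d i = 1 → (∀ t, d ≠ fun _ => t) →
      ¬ a ∣ (Finset.univ.filter fun i => d i = v).card →
      n < (Finset.univ.filter fun i => d i = w).card + b →
      ¬ ∀ X : Matrix (Fin n) (Fin n) F, X.det = 1 → (∃ z : F, X ^ r = z • 1) → (∀ z : F, X ≠ z • 1) → Fix e U X := by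
    intro d v w z hz hd hprod hnc hv hw hall
    have hX : (Matrix.diagonal d) ^ r = z • 1 := by
      rw [Matrix.diagonal_pow, Matrix.smul_one_eq_diagonal]
      congr 1
      funext i
      exact hd i
    refine not_fix_of_counts p hrp (by omega) (by omega) hn hz hX φ (v := φ v) (w := φ w) (by rwa [hcount]) (by rwa [hcount])
      (hall _ (by rw [Matrix.det_diagonal, hprod]) ⟨z, hX⟩ fun t ht => ?_)
    rw [Matrix.smul_one_eq_diagonal] at ht
    exact hnc t (Matrix.diagonal_injective ht)
  by_cases hr2 : r = 2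
  · subst hr2
    have hchar : ringChar F ≠ 2 := by rw [ringChar.eq F p]; exact Ne.symm hrp
    have h2 : (2 : F) ≠ 0 := Ring.two_ne_zero hchar
    have hm1 : (-1 : F) ≠ 1 := Ring.neg_one_ne_one_of_char_ne_two hchar
    have hqodd : Odd q := by rw [Nat.odd_iff, ← hq]; exact FiniteField.odd_card_of_char_ne_two hchar
    by_cases ha2 : a = 2
    swap
    · refine iff_of_false ?_ fun h => ha2 h.2.1
      refine hder (fun i => if i.val < 2 then -1 else 1) (-1) 1 1 one_ne_zero (fun i => by split_ifs <;> simp) ?_ ?_ ?_ ?_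
      · rw [Fin.prod_univ_eq_prod_range (fun i => if i < 2 then (-1 : F) else 1) n,
          ← Finset.prod_range_mul_prod_Ico _ (show 2 ≤ n by omega),
          Finset.prod_congr (s₁ := Finset.Ico 2 n) rfl (fun i hi => if_neg (not_lt.2 (Finset.mem_Ico.1 hi).1))]
        simp [Finset.prod_range_succ]
      · intro t ht
        have h0 := congrFun ht c₀
        have h2' := congrFun ht c₂
        simp only [hc₀, hc₂, show (0 : ℕ) < 2 by omega, if_true, show ¬ (2 : ℕ) < 2 by omega, if_false] at h0 h2'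
        exact hm1 (h0.trans h2'.symm)
      · rw [show (Finset.univ.filter fun i : Fin n => (if i.val < 2 then (-1 : F) else 1) = -1) = {c₀, c₁} by
          ext i; simp only [Finset.mem_filter, Finset.mem_univ, true_and, Finset.mem_insert, Finset.mem_singleton, Fin.ext_iff]
          split_ifs with h
          · simp only [true_iff]; omega
          · simp only [hm1.symm, false_iff]; omega,
          Finset.card_pair fun h => by rw [h] at hc₀; omega]
        intro h
        have := Nat.le_of_dvd two_pos h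
        omega
      · rw [show (Finset.univ.filter fun i : Fin n => (if i.val < 2 then (-1 : F) else 1) = 1) = {c₀, c₁}ᶜ by
          ext i; simp only [Finset.mem_filter, Finset.mem_univ, true_and, Finset.mem_compl, Finset.mem_insert,
            Finset.mem_singleton, Fin.ext_iff]
          split_ifs with h
          · simp only [hm1, false_iff]; omega
          · simp only [true_iff]; omega,
          Finset.card_compl, Finset.card_pair fun h => by rw [h] at hc₀; omega, Fintype.card_fin]
        omega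
    subst ha2
    haveI : Fact (Nat.Prime 2) := ⟨Nat.prime_two⟩
    constructor
    · intro hall
      refine ⟨rfl, rfl, hqodd, ?_⟩
      by_contra hlt
      push Not at hlt
      obtain ⟨t, ht⟩ := LBInvCl.exists_pow_eq_neg_one (F := F) h2 (m := n) (by omega) (by rw [hq]; exact hlt)
      have ht0 : t ≠ 0 := fun e0 => by rw [e0, zero_pow (by omega)] at ht; exact one_ne_zero (neg_eq_zero.1 ht.symm)
      have htt : -t ≠ t := fun e0 => hm1 (mul_right_cancel₀ ht0 (by linear_combination e0))
      refine hder (fun i => if i.val = 0 then -t else t) (-t) t (t * t) (mul_ne_zero ht0 ht0)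
        (fun i => by split_ifs <;> ring) ?_ ?_ ?_ ?_ hall
      · rw [Fin.prod_univ_eq_prod_range (fun i => if i = 0 then (-t : F) else t) n,
          ← Finset.prod_range_mul_prod_Ico _ (show 1 ≤ n by omega),
          Finset.prod_congr (s₁ := Finset.Ico 1 n) rfl (g := fun _ => t) (fun i hi => if_neg (by have := Finset.mem_Ico.1 hi; omega))]
        simp only [Finset.prod_range_one, if_true, Finset.prod_const, Nat.card_Ico]
        rw [neg_mul, ← pow_succ', show n - 1 + 1 = n by omega, ht, neg_neg]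
      · intro u hu
        have h0 := congrFun hu c₀
        have h1' := congrFun hu c₁
        simp only [hc₀, hc₁, if_true, show (1 : ℕ) ≠ 0 by omega, if_false] at h0 h1'
        exact htt (h0.trans h1'.symm)
      · rw [show (Finset.univ.filter fun i : Fin n => (if i.val = 0 then -t else t) = -t) = {c₀} by
          ext i; simp only [Finset.mem_filter, Finset.mem_univ, true_and, Finset.mem_singleton, Fin.ext_iff]
          split_ifs with h
          · simp only [true_iff]; omega
          · simp only [htt.symm, false_iff]; omega, Finset.card_singleton]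
        decide
      · rw [show (Finset.univ.filter fun i : Fin n => (if i.val = 0 then -t else t) = t) = {c₀}ᶜ by
          ext i; simp only [Finset.mem_filter, Finset.mem_univ, true_and, Finset.mem_compl, Finset.mem_singleton, Fin.ext_iff]
          split_ifs with h
          · simp only [htt, false_iff]; omega
          · simp only [true_iff]; omega, Finset.card_compl, Finset.card_singleton, Fintype.card_fin]
        omega
    · rintro ⟨-, -, -, hle⟩ X hd ⟨z, hz⟩ -
      have hz0 := ne_zero_of_pow hn0 hd hz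
      have hXX : X * X = z • 1 := by rw [← pow_two, hz]
      obtain ⟨A, B, hAB, hABc⟩ : ∃ (A : GL (Fin 2) F) (B : GL (Fin b) F), (A.1 ⊗ₖ B.1) * (A.1 ⊗ₖ B.1) = z • 1 ∧
          (A.1 ⊗ₖ B.1).charpoly = X.charpoly := by
        by_cases hsq : IsSquare z
        · obtain ⟨t, rfl⟩ := hsq
          have ht0 : t ≠ 0 := fun e0 => hz0 (by rw [e0, mul_zero])
          obtain ⟨k, hk, hc⟩ := LBInvCl.charpoly_square hXX
          have heven : Even (n - k) := by
            by_contra hod
            have h1 := Matrix.det_eq_sign_charpoly_coeff X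
            rw [hd, hc, Fintype.card_fin, coeff_zero_eq_eval_zero, eval_mul, eval_pow, eval_pow, eval_sub, eval_sub, eval_X,
              eval_C, eval_C, zero_sub, zero_sub, neg_neg, show n = k + (n - k) by omega, Nat.add_sub_cancel_left, pow_add,
              ← neg_one_mul t, mul_pow, (Nat.not_even_iff_odd.1 hod).neg_one_pow] at h1
            refine LBInvCl.pow_ne_neg_one (F := F) h2 (m := n) (by omega) (by rw [hq]; exact hle) t ?_
            rw [show n = k + (n - k) by omega, pow_add]
            have h3 : ((-1 : F) ^ k) * (-1) ^ k = 1 := by rw [← mul_pow]; simp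
            linear_combination h1 - (t ^ k * t ^ (n - k)) * h3
          obtain ⟨l, hl⟩ := heven
          have hdet : (Matrix.diagonal fun j : Fin b => if j.val < b - l then t else -t).det ≠ 0 := by
            rw [Matrix.det_diagonal]
            exact Finset.prod_ne_zero_iff.2 fun j _ => by split_ifs <;> simp [ht0]
          refine ⟨1, GeneralLinearGroup.mkOfDetNeZero _ hdet, ?_, ?_⟩
          · show ((1 : Matrix (Fin 2) (Fin 2) F) ⊗ₖ Matrix.diagonal _) * ((1 : Matrix (Fin 2) (Fin 2) F) ⊗ₖ Matrix.diagonal _) = _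
            rw [← Matrix.mul_kronecker_mul, Matrix.one_mul, Matrix.diagonal_mul_diagonal,
              show (fun i : Fin b => (if i.val < b - l then t else -t) * if i.val < b - l then t else -t) = fun _ => t * t from
                funext fun i => by split_ifs <;> ring, ← Matrix.smul_one_eq_diagonal, Matrix.kronecker_smul, Matrix.one_kronecker_one]
          · show ((1 : Matrix (Fin 2) (Fin 2) F) ⊗ₖ Matrix.diagonal _).charpoly = _
            rw [← Matrix.diagonal_one, Matrix.diagonal_kronecker_diagonal, Matrix.charpoly_diagonal, hc, Fintype.prod_prod_type]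
            simp only [one_mul, Fin.prod_univ_two]
            rw [Fin.prod_univ_eq_prod_range (fun i => Polynomial.X - Polynomial.C (if i < b - l then t else -t)) b,
              ← Finset.prod_range_mul_prod_Ico _ (show b - l ≤ b by omega),
              Finset.prod_congr rfl (g := fun _ => Polynomial.X - Polynomial.C t) (fun i hi => by rw [if_pos (Finset.mem_range.1 hi)]),
              Finset.prod_congr (s₁ := Finset.Ico (b - l) b) rfl (g := fun _ => Polynomial.X - Polynomial.C (-t))
                (fun i hi => by rw [if_neg (not_lt.2 (Finset.mem_Ico.1 hi).1)]),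
              Finset.prod_const, Finset.prod_const, Finset.card_range, Nat.card_Ico,
              show k = (b - l) + (b - l) by omega, show n - ((b - l) + (b - l)) = (b - (b - l)) + (b - (b - l)) by omega]
            ring
        · have hdet : (!![0, z; 1, 0] : Matrix (Fin 2) (Fin 2) F).det ≠ 0 := by simp [hz0]
          have hW : ((GeneralLinearGroup.mkOfDetNeZero _ hdet : GL (Fin 2) F).1 ⊗ₖ (1 : GL (Fin b) F).1) *
              ((GeneralLinearGroup.mkOfDetNeZero _ hdet : GL (Fin 2) F).1 ⊗ₖ (1 : GL (Fin b) F).1) = z • 1 := by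
            rw [← Matrix.mul_kronecker_mul, Units.val_one, Matrix.mul_one]
            show ((!![0, z; 1, 0] : Matrix (Fin 2) (Fin 2) F) * !![0, z; 1, 0]) ⊗ₖ (1 : Matrix (Fin b) (Fin b) F) = _
            rw [show (!![0, z; 1, 0] : Matrix (Fin 2) (Fin 2) F) * !![0, z; 1, 0] = z • 1 by
              ext i j; fin_cases i <;> fin_cases j <;> simp [Matrix.mul_apply, Fin.sum_univ_two],
              Matrix.smul_kronecker, Matrix.one_kronecker_one]
          refine ⟨_, _, hW, ?_⟩
          obtain ⟨k, hk, hc⟩ := LBInvCl.charpoly_nonsquare hXX hsq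
          have h1 : ∀ M : Matrix (Fin 2 × Fin b) (Fin 2 × Fin b) F, M * M = z • 1 →
              M.charpoly = (Polynomial.X ^ 2 - Polynomial.C z) ^ k := fun M hM => by
            have hM' : (Matrix.reindexAlgEquiv F F e.symm M) * (Matrix.reindexAlgEquiv F F e.symm M) = z • 1 := by
              rw [← map_mul, hM, map_smul, map_one]
            obtain ⟨k', hk', hc'⟩ := LBInvCl.charpoly_nonsquare hM' hsq
            rw [Matrix.reindexAlgEquiv_apply, Matrix.charpoly_reindex] at hc'
            rw [hc', show k' = k by omega]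
          rw [h1 _ hW, hc]
      obtain ⟨hh, hhd⟩ : ∃ hh : Matrix (Fin n) (Fin n) F, hh = U.1 * (A.1 ⊗ₖ B.1).submatrix e e * (U⁻¹).1 := ⟨_, rfl⟩
      have hh2 : hh ^ 2 = z • 1 := by
        rw [hhd, conj_pow_sub, pow_two, hAB, Matrix.submatrix_smul, Pi.smul_apply, Pi.smul_apply,
          Matrix.submatrix_one_equiv, Matrix.mul_smul, Matrix.mul_one, Matrix.smul_mul, Units.mul_inv]
      obtain ⟨P, hP⟩ := LBInvCl.sl_conj_semisimple hn0 (semisimple_of_root p Nat.prime_two hrp hz0 hz)
        (semisimple_of_root p Nat.prime_two hrp hz0 hh2) (by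
          rw [hhd, Matrix.coe_units_inv, Matrix.charpoly_units_conj, ← hABc]
          exact (Matrix.charpoly_reindex e.symm _).symm)
      exact ⟨P, A, B, hP.trans hhd⟩
  refine iff_of_false ?_ fun h => hr2 h.1
  by_cases hq1 : r ∣ q - 1
  · obtain ⟨ω, hω⟩ := exists_order (F := F) (m := r) (hq.symm ▸ hq1)
    have hω0 : ω ≠ 0 := fun e0 => by
      have := pow_orderOf_eq_one ω
      rw [hω, e0, zero_pow hr.ne_zero] at this
      exact zero_ne_one this
    have hωr : ω ^ r = 1 := hω ▸ pow_orderOf_eq_one ω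
    have hω1 : ω ≠ 1 := fun e0 => by rw [e0, orderOf_one] at hω; exact hr.ne_one hω.symm
    have hωi : ω⁻¹ ≠ ω := fun e0 => by
      have : ω ^ 2 = 1 := by rw [pow_two]; nth_rewrite 1 [← e0]; exact inv_mul_cancel₀ hω0
      exact hr2 ((Nat.prime_dvd_prime_iff_eq hr Nat.prime_two).1 (hω ▸ orderOf_dvd_of_pow_eq_one this))
    refine hder (fun i => if i.val = 0 then ω else if i.val = 1 then ω⁻¹ else 1) ω 1 1 one_ne_zero
      (fun i => by split_ifs <;> simp [hωr]) ?_ ?_ ?_ ?_
    · rw [Fin.prod_univ_eq_prod_range (fun i => if i = 0 then ω else if i = 1 then ω⁻¹ else 1) n,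
        ← Finset.prod_range_mul_prod_Ico _ (show 2 ≤ n by omega),
        Finset.prod_congr (s₁ := Finset.Ico 2 n) rfl (g := fun _ => (1 : F)) (fun i hi => by
          have := Finset.mem_Ico.1 hi; rw [if_neg (by omega), if_neg (by omega)])]
      simp [Finset.prod_range_succ, hω0]
    · intro u hu
      have h0 := congrFun hu c₀
      have h2' := congrFun hu c₂
      simp only [hc₀, hc₂, if_true, show (2 : ℕ) ≠ 0 by omega, show (2 : ℕ) ≠ 1 by omega, if_false] at h0 h2'
      exact hω1 (h0.trans h2'.symm)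
    · rw [show (Finset.univ.filter fun i : Fin n => (if i.val = 0 then ω else if i.val = 1 then ω⁻¹ else 1) = ω) = {c₀} by
        ext i; simp only [Finset.mem_filter, Finset.mem_univ, true_and, Finset.mem_singleton, Fin.ext_iff]
        split_ifs with h h'
        · simp only [true_iff]; omega
        · simp only [hωi, false_iff]; omega
        · simp only [hω1.symm, false_iff]; omega, Finset.card_singleton, Nat.dvd_one]
      omega
    · rw [show (Finset.univ.filter fun i : Fin n => (if i.val = 0 then ω else if i.val = 1 then ω⁻¹ else 1) = 1) = {c₀, c₁}ᶜ by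
        ext i; simp only [Finset.mem_filter, Finset.mem_univ, true_and, Finset.mem_compl, Finset.mem_insert, Finset.mem_singleton, Fin.ext_iff]
        split_ifs with h h'
        · simp only [hω1, false_iff]; omega
        · simp only [inv_eq_one, hω1, false_iff]; omega
        · simp only [true_iff]; omega,
        Finset.card_compl, Finset.card_pair fun h => by rw [h] at hc₀; omega, Fintype.card_fin]
      omega
  · intro hall
    have hqr : (q : ZMod r) ≠ 0 := by
      obtain ⟨k, -, hk⟩ := FiniteField.card F p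
      rw [Ne, ZMod.natCast_eq_zero_iff, ← hq, hk]
      exact fun h => hrp ((Nat.prime_dvd_prime_iff_eq hr Fact.out).1 (hr.dvd_of_dvd_pow h))
    have hone : (Fintype.card F : ZMod r) ≠ 1 := cast_card_ne_one_iff.2 (by rw [hq]; exact hq1)
    obtain ⟨g, hg, hgd⟩ := factor_exists (F := F) p hr hrp
    obtain ⟨hgne, hgm, hgi, hgdvd⟩ := (LBRootPoly.mem_factors hr.ne_zero).1 hg
    have hin : g.natDegree ≤ n := by
      obtain ⟨k, hk⟩ := card_gl_int (F := F) hq n
      have h1 : ((Nat.card (GL (Fin n) F) : ℕ) : ZMod r) = 0 := by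
        rw [ZMod.natCast_eq_zero_iff]
        exact hΩ.trans ((Subgroup.relIndex_dvd_card _ _).trans (Subgroup.card_subgroup_dvd_card _))
      have h2 := congrArg (fun x : ℤ => (x : ZMod r)) hk
      simp only [Int.cast_natCast, h1, Int.cast_mul, Int.cast_pow] at h2
      obtain ⟨i, hi, hi0⟩ := exists_zero ((mul_eq_zero.1 h2.symm).resolve_left (pow_ne_zero _ hqr))
      push_cast at hi0
      rw [hgd, hq]
      refine (Nat.le_of_dvd (by omega) (orderOf_dvd_of_pow_eq_one (sub_eq_zero.1 hi0))).trans ?_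
      have := Finset.mem_range.1 hi
      omega
    have hgood : LBRootPoly.Good r (g * (Polynomial.X - Polynomial.C 1) ^ (n - g.natDegree)) := by
      refine ⟨hgm.mul ((monic_X_sub_C 1).pow _), fun u hum hui hud => ?_⟩
      rcases hui.prime.dvd_or_dvd hud with e | e
      · exact e.trans hgdvd
      · exact (hui.prime.dvd_of_dvd_pow e).trans (dvd_iff_isRoot.2 (by simp [IsRoot]))
    obtain ⟨X, hXd, hXr, hXc, hXs⟩ := exists_elem p hone hg hgood (n := n) (by
      rw [hgm.natDegree_mul ((monic_X_sub_C 1).pow _), natDegree_pow, natDegree_X_sub_C]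
      omega) (dvd_mul_right _ _)
    have hfix := hall X hXd ⟨1, by rw [hXr, one_smul]⟩ hXs
    obtain ⟨θ, hθ⟩ : ∃ θ, (g.map φ).IsRoot θ :=
      IsAlgClosed.exists_root _ (by rw [degree_map]; exact (degree_pos_of_irreducible hgi).ne')
    have hsep : (g.map φ).roots.Nodup := by
      refine Polynomial.nodup_roots (Polynomial.Separable.map (Polynomial.Separable.of_dvd ?_ hgdvd))
      rw [← Polynomial.C_1]
      exact separable_X_pow_sub_C 1 (LBRootPoly.cast_ne_zero' p hr hrp) one_ne_zero
    have h1g : ¬ (g.map φ).IsRoot 1 := fun h => by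
      have h' : g.IsRoot 1 := by
        rw [← map_one φ, IsRoot, eval_map, eval₂_at_apply, map_eq_zero] at h
        exact h
      exact hgne (eq_of_monic_of_associated hgm (monic_X_sub_C 1)
        ((irreducible_X_sub_C (1 : F)).associated_of_dvd hgi (dvd_iff_isRoot.2 h')).symm)
    have hθ1 : θ ≠ 1 := fun e0 => h1g (e0 ▸ hθ)
    have hroots : (X.charpoly.map φ).roots = (g.map φ).roots + Multiset.replicate (n - g.natDegree) 1 := by
      rw [hXc, Polynomial.map_mul, Polynomial.map_pow, Polynomial.map_sub, map_X, map_C, map_one,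
        Polynomial.roots_mul (mul_ne_zero (hgm.map φ).ne_zero (pow_ne_zero _ (X_sub_C_ne_zero _))), roots_pow,
        roots_X_sub_C, Multiset.nsmul_singleton]
    have hcθ : (X.charpoly.map φ).roots.count θ = 1 := by
      rw [hroots, Multiset.count_add, Multiset.count_replicate, if_neg (Ne.symm hθ1), add_zero,
        Multiset.count_eq_one_of_mem hsep ((mem_roots (hgm.map φ).ne_zero).2 hθ)]
    obtain ⟨A, z₁, α, β, hz1, hA, hAc, hβ, hR⟩ := fix_spectrum p hrp (by omega) (by omega) (one_ne_zero (α := F))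
      (by rw [hXr, one_smul]) hfix φ
    by_cases hc : ∀ i i', α i = α i'
    · have h1 := (count_bound α β hβ θ).1 hc
      rw [← hR, hcθ, Nat.dvd_one] at h1
      omega
    by_cases hia : g.natDegree ≤ a
    · have h1 := (count_bound α β hβ 1).2 hc
      rw [← hR, hroots, Multiset.count_add, Multiset.count_replicate, if_pos rfl] at h1
      omega
    refine hc fun i i' => ?_
    -- the first factor is scalar
    obtain ⟨t, ht⟩ : ∃ t : F, t ^ r = z₁ := by
      refine ((powCoprime (G := Fˣ) (n := r) ?_).surjective (Units.mk0 z₁ hz1)).elim fun t ht => ⟨t, ?_⟩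
      · rw [Nat.card_units, Nat.card_eq_fintype_card, hq]; exact (hr.coprime_iff_not_dvd.2 hq1).symm
      · have := congrArg Units.val ht; simpa using this
    have hA' : LBRootPoly.Good r (t⁻¹ • A).charpoly := LBRootPoly.good_charpoly (by
      rw [_root_.smul_pow, hA, smul_smul, inv_pow, ht, inv_mul_cancel₀ hz1, one_smul])
    have hfac : ∀ u : F[X], u.Monic → Irreducible u → u ∣ A.charpoly → u = Polynomial.X - Polynomial.C t := by
      intro u hum hui hud
      have ht0 : t ≠ 0 := fun e0 => by rw [e0, zero_pow hr.ne_zero] at ht; exact hz1 ht.symm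
      obtain ⟨k, hk⟩ := LBInvCl.eq_pow_of_factors hA'.1 (monic_X_sub_C 1) fun v hvm hvi hvd => by
        by_contra hv1
        have hdeg := LBRootPoly.natDegree_factor hr hvm hvi (hA'.2 v hvm hvi hvd) hv1
        have hle := Polynomial.natDegree_le_of_dvd hvd hA'.1.ne_zero
        rw [Matrix.charpoly_natDegree_eq_dim, Fintype.card_fin] at hle
        omega
      -- `t⁻¹ • A - 1` is nilpotent
      have hnil : ((t⁻¹ • A) - 1) ^ k = 0 := by
        have := Matrix.aeval_self_charpoly (t⁻¹ • A)
        rwa [hk, map_pow, map_sub, aeval_X, aeval_C, map_one] at this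
      have hnil' : Polynomial.aeval A ((Polynomial.X - Polynomial.C t) ^ k) = 0 := by
        rw [map_pow, map_sub, aeval_X, aeval_C, Algebra.algebraMap_eq_smul_one,
          show A - t • (1 : Matrix (Fin a) (Fin a) F) = t • (t⁻¹ • A - 1) by
            rw [smul_sub, smul_smul, mul_inv_cancel₀ ht0, one_smul], _root_.smul_pow, hnil, smul_zero]
      have h2 := hui.prime.dvd_of_dvd_pow ((Spectra.dvd_minpoly_of_dvd_charpoly A hui hud).trans (minpoly.dvd F A hnil'))
      exact eq_of_monic_of_associated hum (monic_X_sub_C t) (hui.associated_of_dvd (irreducible_X_sub_C t) h2)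
    obtain ⟨k, hk⟩ := LBInvCl.eq_pow_of_factors (Matrix.charpoly_monic A) (monic_X_sub_C t) hfac
    have hall' : ∀ i, α i = φ t := fun i => by
      have h1 : (A.charpoly.map φ).IsRoot (α i) := by
        rw [hAc, IsRoot, eval_prod]
        exact Finset.prod_eq_zero (Finset.mem_univ i) (by simp)
      rw [hk, Polynomial.map_pow, Polynomial.map_sub, map_X, map_C, IsRoot, eval_pow, eval_sub, eval_X, eval_C] at h1
      exact sub_eq_zero.1 (eq_zero_of_pow_eq_zero h1)
    rw [hall', hall']

end roots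

end Cfsg.Agent.LBTensorSpec
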