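/-
Elements of prime order of PSp_2d(q) and the stabilisers of tensor decompositions.
-/
import Cfsg.Agent.Lib.LinearBlock.TensorSpectra
import Cfsg.Agent.Lib.LinearBlock.SpExtWitness

set_option autoImplicit false
set_option linter.all false

namespace Cfsg.Agent.LBSympTensor

open Matrix Polynomial LBRootPoly LBRootTwist LBEvenRoot

set_option maxHeartbeats 1000000
open scoped Kronecker

variable {F : Type*} [Field F] {d a b r : ℕ}

/-- A value taken by a product of a non-constant factor with small multiplicities. -/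
theorem count_injective {K : Type*} [Field K] [DecidableEq K] (hb : 2 ≤ b) (α : Fin a → K) (β : Fin b → K)
    (hβ : ∀ j, β j ≠ 0) {v : K} (hv : v ≠ 0)
    (hone : ∀ w, w ≠ v → (Finset.univ.val.map fun ij : Fin a × Fin b => α ij.1 * β ij.2).count w ≤ 1)
    (hα : ¬ ∀ i i', α i = α i') :
    (Finset.univ.val.map fun ij : Fin a × Fin b => α ij.1 * β ij.2).count v ≤ min a b ∧ ¬ ∀ j j', β j = β j' := by
  have hone' : ∀ s t : Fin a × Fin b, s ≠ t → α s.1 * β s.2 = α t.1 * β t.2 → α s.1 * β s.2 = v := fun s t hst h => by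
    by_contra hne
    have h1 := hone _ hne
    rw [Multiset.count_map, ← Finset.filter_val, ← Finset.card_def] at h1
    exact hst (Finset.card_le_one.1 h1 s (by simp) t (by simp [h]))
  have hβinj : Function.Injective β := fun j j' h => by
    by_contra hne
    refine hα fun i i' => ?_
    have h1 : ∀ i, α i * β j = v := fun i => hone' (i, j) (i, j') (by simp [hne]) (by simp [h])
    exact mul_right_cancel₀ (hβ j) ((h1 i).trans (h1 i').symm)
  have hαinj : Function.Injective α := fun i i' h => by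
    by_contra hne
    have h1 : ∀ j, α i * β j = v := fun j => hone' (i, j) (i', j) (by simp [hne]) (by simp [h])
    have h0 : α i ≠ 0 := fun e => hv (by rw [← h1 ⟨0, by omega⟩, e, zero_mul])
    have := hβinj (mul_left_cancel₀ h0 ((h1 ⟨0, by omega⟩).trans (h1 ⟨1, by omega⟩).symm))
    simp at this
  refine ⟨?_, fun h => by have := hβinj (h ⟨0, by omega⟩ ⟨1, by omega⟩); simp at this⟩
  rw [Multiset.count_map, ← Finset.filter_val, ← Finset.card_def, le_min_iff]
  constructor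
  · refine (Finset.card_le_card_of_injOn Prod.fst (fun _ _ => Finset.mem_univ _) fun s hs t ht h => ?_).trans_eq (Finset.card_fin a)
    simp only [Finset.coe_filter, Finset.mem_univ, true_and, Set.mem_setOf_eq] at hs ht
    have h0 : α s.1 ≠ 0 := fun e => hv (by rw [hs, e, zero_mul])
    rw [hs, ← h] at ht
    exact Prod.ext h (hβinj (mul_left_cancel₀ h0 ht))
  · refine (Finset.card_le_card_of_injOn Prod.snd (fun _ _ => Finset.mem_univ _) fun s hs t ht h => ?_).trans_eq (Finset.card_fin b)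
    simp only [Finset.coe_filter, Finset.mem_univ, true_and, Set.mem_setOf_eq] at hs ht
    rw [hs, ← h] at ht
    exact Prod.ext (hαinj (mul_right_cancel₀ (hβ s.2) ht)) h

theorem charpoly_sub {ι κ : Type} [Fintype ι] [DecidableEq ι] [Fintype κ] [DecidableEq κ] (e : ι ≃ κ) (M : Matrix κ κ F) :
    (M.submatrix e e).charpoly = M.charpoly := by
  have := Matrix.charpoly_reindex e.symm M
  rwa [Matrix.reindex_apply, Equiv.symm_symm] at this

section finite

variable [Fintype F]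

/-- Below the order of `q` there are only scalars. -/
theorem const_of_small (p : ℕ) [Fact p.Prime] [CharP F p] [Fact r.Prime] (hq1 : ¬ r ∣ Fintype.card F - 1) {m : ℕ}
    {M : Matrix (Fin m) (Fin m) F} {z : F} (hz : z ≠ 0) (hM : M ^ r = z • 1) (hm : m < orderOf (Fintype.card F : ZMod r))
    {K : Type*} [Field K] (φ : F →+* K) {α : Fin m → K}
    (hα : M.charpoly.map φ = ∏ i, (Polynomial.X - Polynomial.C (α i))) : ∀ i i', α i = α i' := by
  classical
  have hr : r.Prime := Fact.out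
  obtain ⟨t, ht⟩ : ∃ t : F, t ^ r = z := by
    refine ((powCoprime (G := Fˣ) (n := r) ?_).surjective (Units.mk0 z hz)).elim fun t ht => ⟨t, ?_⟩
    · rw [Nat.card_units, Nat.card_eq_fintype_card]; exact (hr.coprime_iff_not_dvd.2 hq1).symm
    · have := congrArg Units.val ht; simpa using this
  have ht0 : t ≠ 0 := fun e0 => by rw [e0, zero_pow hr.ne_zero] at ht; exact hz ht.symm
  have hM' : Good r (t⁻¹ • M).charpoly := good_charpoly (by
    rw [_root_.smul_pow, hM, smul_smul, inv_pow, ht, inv_mul_cancel₀ hz, one_smul])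
  obtain ⟨k, hk⟩ := LBInvCl.eq_pow_of_factors hM'.1 (monic_X_sub_C 1) fun v hvm hvi hvd => by
    by_contra hv1
    have hdeg := natDegree_factor hr hvm hvi (hM'.2 v hvm hvi hvd) hv1
    have hle := Polynomial.natDegree_le_of_dvd hvd hM'.1.ne_zero
    rw [Matrix.charpoly_natDegree_eq_dim, Fintype.card_fin] at hle
    omega
  have hnil : ((t⁻¹ • M) - 1) ^ k = 0 := by
    have := Matrix.aeval_self_charpoly (t⁻¹ • M)
    rwa [hk, map_pow, map_sub, aeval_X, aeval_C, map_one] at this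
  have hnil' : Polynomial.aeval M ((Polynomial.X - Polynomial.C t) ^ k) = 0 := by
    rw [map_pow, map_sub, aeval_X, aeval_C, Algebra.algebraMap_eq_smul_one,
      show M - t • (1 : Matrix (Fin m) (Fin m) F) = t • (t⁻¹ • M - 1) by
        rw [smul_sub, smul_smul, mul_inv_cancel₀ ht0, one_smul], _root_.smul_pow, hnil, smul_zero]
  obtain ⟨k', hk'⟩ := LBInvCl.eq_pow_of_factors (Matrix.charpoly_monic M) (monic_X_sub_C t) fun u hum hui hud => by
    have h2 := hui.prime.dvd_of_dvd_pow ((Spectra.dvd_minpoly_of_dvd_charpoly M hui hud).trans (minpoly.dvd F M hnil'))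
    exact eq_of_monic_of_associated hum (monic_X_sub_C t) (hui.associated_of_dvd (irreducible_X_sub_C t) h2)
  have hall : ∀ i, α i = φ t := fun i => by
    have h1 : (M.charpoly.map φ).IsRoot (α i) := by
      rw [hα, IsRoot, eval_prod]
      exact Finset.prod_eq_zero (Finset.mem_univ i) (by simp)
    rw [hk', Polynomial.map_pow, Polynomial.map_sub, map_X, map_C, IsRoot, eval_pow, eval_sub, eval_X, eval_C] at h1
    exact sub_eq_zero.1 (eq_zero_of_pow_eq_zero h1)
  intro i i'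
  rw [hall, hall]

/-- The spectrum of a tensor product of order `r`. -/
theorem kron_spectrum (p : ℕ) [Fact p.Prime] [CharP F p] [Fact r.Prime] (hrp : r ≠ p) (ha : 0 < a) (hb : 0 < b)
    {A : GL (Fin a) F} {B : GL (Fin b) F} (h : (A.1 ⊗ₖ B.1) ^ r = 1) {K : Type*} [Field K] [IsAlgClosed K] (φ : F →+* K) :
    ∃ (α : Fin a → K) (β : Fin b → K), (∀ j, β j ≠ 0) ∧
      ((A.1 ⊗ₖ B.1).charpoly.map φ).roots = (Finset.univ.val.map fun ij : Fin a × Fin b => α ij.1 * β ij.2) ∧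
      (¬ r ∣ Fintype.card F - 1 → (a < orderOf (Fintype.card F : ZMod r) → ∀ i i', α i = α i') ∧
        (b < orderOf (Fintype.card F : ZMod r) → ∀ j j', β j = β j')) := by
  classical
  have hr : r.Prime := Fact.out
  haveI : Nonempty (Fin a) := ⟨⟨0, ha⟩⟩
  haveI : Nonempty (Fin b) := ⟨⟨0, hb⟩⟩
  have hkp : ∀ k, (A.1 ⊗ₖ B.1) ^ k = (A.1 ^ k) ⊗ₖ (B.1 ^ k) := fun k => by
    induction k with
    | zero => simp
    | succ k ih => rw [pow_succ, ih, ← Matrix.mul_kronecker_mul, ← pow_succ, ← pow_succ]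
  obtain ⟨z₁, z₂, hz12, hA, hB⟩ := LBTensorSpec.scalar_factor (one_ne_zero (α := F)) (by rw [← hkp, h, one_smul])
  have hz1 : z₁ ≠ 0 := fun e0 => zero_ne_one (α := F) (by rw [← hz12, e0, zero_mul])
  have hz2 : z₂ ≠ 0 := fun e0 => zero_ne_one (α := F) (by rw [← hz12, e0, mul_zero])
  have hN : (r * (Fintype.card F - 1)).Coprime p := by
    have hpp : p.Prime := Fact.out
    refine Nat.Coprime.mul_left ((Nat.coprime_primes hr hpp).2 hrp) ?_
    obtain ⟨k, -, he⟩ := FiniteField.card F p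
    refine (hpp.coprime_iff_not_dvd.2 fun h => ?_).symm
    have h2 : p ∣ Fintype.card F := he ▸ dvd_pow_self p k.ne_zero
    have h1 := Fintype.one_lt_card (α := F)
    have := Nat.dvd_sub h2 h
    rw [show Fintype.card F - (Fintype.card F - 1) = 1 by omega] at this
    exact hpp.ne_one (Nat.dvd_one.1 this)
  have hAN : A.1 ^ (r * (Fintype.card F - 1)) = 1 := by
    rw [pow_mul, hA, _root_.smul_pow, one_pow, FiniteField.pow_card_sub_one_eq_one z₁ hz1, one_smul]
  have hBN : B.1 ^ (r * (Fintype.card F - 1)) = 1 := by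
    rw [pow_mul, hB, _root_.smul_pow, one_pow, FiniteField.pow_card_sub_one_eq_one z₂ hz2, one_smul]
  obtain ⟨α, β, hα, hβc, hβ, hroots⟩ := LBTensorSpec.kron_roots p φ hAN hBN hN
  exact ⟨α, β, hβ, hroots, fun hq1 =>
    ⟨fun hm => const_of_small p hq1 hz1 hA hm φ hα, fun hm => const_of_small p hq1 hz2 hB hm φ hβc⟩⟩

omit [Fintype F] in
theorem map_roots_split {K : Type*} [Field K] (φ : F →+* K) {h : F[X]} (hm : h.Monic) (m : ℕ) :
    ((h * (Polynomial.X - Polynomial.C 1) ^ m).map φ).roots = (h.map φ).roots + Multiset.replicate m 1 := by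
  rw [Polynomial.map_mul, Polynomial.map_pow, Polynomial.map_sub, map_X, map_C, map_one,
    Polynomial.roots_mul (mul_ne_zero (hm.map φ).ne_zero (pow_ne_zero _ (X_sub_C_ne_zero _))), roots_pow,
    roots_X_sub_C, Multiset.nsmul_singleton]

/-- Symplectic matrices with a given self-reciprocal characteristic polynomial and order dividing `r`. -/
theorem exists_sp (p : ℕ) [Fact p.Prime] [CharP F p] [Fact r.Prime] {f : F[X]} (hf : Good r f) (hdeg : f.natDegree = 2 * d)
    (h0 : f.coeff 0 = 1) (hrc : rc (RingHom.id F) f = f) :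
    ∃ M : Matrix (Fin d ⊕ Fin d) (Fin d ⊕ Fin d) F, M ∈ Matrix.symplecticGroup (Fin d) F ∧ M ^ r = 1 ∧ M.charpoly = f := by
  classical
  have hr : r.Prime := Fact.out
  have hsym := (rc_fix_iff _ hid hf.1 (coeff_zero_ne hr.ne_zero hf) hdeg).1 hrc
  obtain ⟨A, hA⟩ := SympClasses.exists_charpoly_eq hf.1 hdeg h0 fun t ht => by rw [hsym t ht, h0, one_mul]; rfl
  obtain ⟨e, he⟩ := SemisimpleCl.exists_coprime_pow (F := F) p A
  obtain ⟨B, hB⟩ : ∃ B, B = A ^ Fintype.card F ^ e := ⟨_, rfl⟩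
  rw [← hB] at he
  have hk : ∀ n, ((A : Matrix (Fin d ⊕ Fin d) (Fin d ⊕ Fin d) F) ^ Fintype.card F ^ n).charpoly =
      (A : Matrix (Fin d ⊕ Fin d) (Fin d ⊕ Fin d) F).charpoly := by
    intro n
    induction n with
    | zero => simp
    | succ n ih => rw [pow_succ, pow_mul, FiniteField.Matrix.charpoly_pow_card, ih]
  have hMc : (B : Matrix (Fin d ⊕ Fin d) (Fin d ⊕ Fin d) F).charpoly = f := by rw [hB, SubmonoidClass.coe_pow, hk, hA]
  exact ⟨B.1, B.2, LBRootPoly.pow_eq_one p (by rw [← SubmonoidClass.coe_pow, pow_orderOf_eq_one]; rfl) he (hMc.symm ▸ hf) hr.ne_zero,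
    hMc⟩

/-- A self-reciprocal squarefree polynomial of roots of order `r`. -/
theorem exists_core (p : ℕ) [Fact p.Prime] [CharP F p] [Fact r.Prime] (hr2 : r ≠ 2) (hrp : r ≠ p) {i j : ℕ}
    (hi : i = orderOf (Fintype.card F : ZMod r)) (hij : (Odd i ∧ j = i) ∨ i = 2 * j) :
    ∃ h : F[X], h.Monic ∧ h.natDegree = 2 * j ∧ h.coeff 0 = 1 ∧ rc (RingHom.id F) h = h ∧ h ∣ Polynomial.X ^ r - 1 ∧
      ¬ h.IsRoot 1 := by
  classical
  have hr : r.Prime := Fact.out
  obtain ⟨g, hg⟩ : (factors F r).Nonempty := by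
    rw [← Finset.card_pos]
    refine Nat.pos_of_ne_zero fun e => ?_
    have hcard := card_factors (F := F) p hr hrp
    rw [e, zero_mul] at hcard
    have := hr.two_le; omega
  obtain ⟨hg1, hgm, hgi, hgd⟩ := (mem_factors hr.ne_zero).1 hg
  have hgdeg : g.natDegree = i := hi ▸ natDegree_factor hr hgm hgi hgd hg1
  have hg0 := factor_coeff_zero hr.ne_zero hgd
  obtain ⟨hn1, hnm, hni, hnd⟩ := (mem_factors hr.ne_zero).1 (rc_mem_factors (RingHom.id F) hid hr hg)
  have hndeg : (rc (RingHom.id F) g).natDegree = i := hi ▸ natDegree_factor hr hnm hni hnd hn1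
  have hroot : ∀ u : F[X], u.Monic → Irreducible u → u ≠ X - C 1 → ¬ u.IsRoot 1 := fun u hm hu hne h =>
    hne (eq_of_monic_of_associated hm (monic_X_sub_C 1)
      ((irreducible_X_sub_C (1 : F)).associated_of_dvd hu (dvd_iff_isRoot.2 h)).symm)
  rcases hij with ⟨hodd, rfl⟩ | hev
  · have hne : g ≠ rc (RingHom.id F) g := fun h => (Nat.not_even_iff_odd.2 hodd) (hi ▸ (rc_self_iff' p hr hr2 hrp hg).1 h.symm)
    refine ⟨g * rc (RingHom.id F) g, hgm.mul hnm, ?_, ?_, ?_, ?_, ?_⟩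
    · rw [hgm.natDegree_mul hnm, hgdeg, hndeg, two_mul]
    · have hc : (rc (RingHom.id F) g).coeff 0 = (g.coeff 0)⁻¹ := by
        rw [rc_coeff _ _ (Nat.zero_le _), Nat.sub_zero, hgm.coeff_natDegree]; simp
      rw [mul_coeff_zero, hc, mul_inv_cancel₀ hg0]
    · rw [rc_mul, rc_rc _ hid hgm hg0, mul_comm]
    · exact IsCoprime.mul_dvd ((hgi.coprime_iff_not_dvd).2 fun h =>
        hne (eq_of_monic_of_associated hgm hnm (hgi.associated_of_dvd hni h))) hgd hnd
    · rw [IsRoot.def, eval_mul]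
      exact mul_ne_zero (hroot g hgm hgi hg1) (hroot _ hnm hni hn1)
  · have hself := (rc_self_iff' p hr hr2 hrp hg).2 (hi ▸ ⟨j, by omega⟩)
    refine ⟨g, hgm, by omega, ?_, hself, hgd, hroot g hgm hgi hg1⟩
    have hsy := (rc_fix_iff _ hid hgm hg0 rfl).1 hself
    have e2 := hsy 0 (Nat.zero_le _)
    rw [Nat.sub_zero, hgm.coeff_natDegree, RingHom.id_apply] at e2
    rcases mul_self_eq_one_iff.1 e2.symm with h1 | h1
    · exact h1
    by_cases h22 : (2 : F) = 0
    · rw [h1]; linear_combination -h22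
    exfalso
    refine hroot g hgm hgi hg1 ?_
    have h2 : ∑ t ∈ Finset.range (g.natDegree + 1), g.coeff t = -∑ t ∈ Finset.range (g.natDegree + 1), g.coeff t := by
      conv_lhs => rw [← Finset.sum_range_reflect]
      rw [← Finset.sum_neg_distrib]
      refine Finset.sum_congr rfl fun t ht => ?_
      rw [Finset.mem_range] at ht
      rw [show g.natDegree + 1 - 1 - t = g.natDegree - t by omega, hsy t (by omega), h1, RingHom.id_apply, neg_one_mul]
    rw [IsRoot.def, show g.eval 1 = ∑ t ∈ Finset.range (g.natDegree + 1), g.coeff t by rw [eval_eq_sum_range]; simp]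
    exact (mul_eq_zero.1 (show (2 : F) * _ = 0 by linear_combination h2)).resolve_left h22

end finite

/-- A diagonal symplectic matrix moving one pair. -/
theorem exists_pair (c : ℕ) {ω : F} (hω : ω ≠ 0) :
    ∃ X : Matrix (Fin (c + 1) ⊕ Fin (c + 1)) (Fin (c + 1) ⊕ Fin (c + 1)) F, X ∈ Matrix.symplecticGroup (Fin (c + 1)) F ∧
      (∀ k, ω ^ k = 1 → X ^ k = 1) ∧ (ω ≠ 1 → 1 ≤ c → ∀ z : F, X ≠ z • 1) ∧
      X.charpoly = ((Polynomial.X - Polynomial.C ω) * (Polynomial.X - Polynomial.C ω⁻¹)) * (Polynomial.X - Polynomial.C 1) ^ (2 * c) := by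
  classical
  refine ⟨Matrix.diagonal (Sum.elim (Fin.cons ω 1) (Fin.cons ω⁻¹ 1)), ?_, fun k hk => ?_, fun h1 hc z hz => ?_, ?_⟩
  · rw [SymplecticGroup.mem_iff, ← fromBlocks_diagonal, Matrix.J, fromBlocks_multiply, fromBlocks_transpose, fromBlocks_multiply]
    simp only [Matrix.diagonal_transpose, Matrix.transpose_zero, mul_zero, zero_mul, add_zero, zero_add, mul_neg, neg_mul, mul_one,
      Matrix.diagonal_mul_diagonal]
    have e : (fun i => (Fin.cons ω 1 : Fin (c + 1) → F) i * (Fin.cons ω⁻¹ 1 : Fin (c + 1) → F) i) = fun _ => 1 := by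
      funext i
      refine Fin.cases ?_ (fun i => ?_) i <;> simp [hω]
    have e' : (fun i => (Fin.cons ω⁻¹ 1 : Fin (c + 1) → F) i * (Fin.cons ω 1 : Fin (c + 1) → F) i) = fun _ => 1 := by
      funext i; rw [mul_comm]; exact congrFun e i
    rw [e, e', Matrix.diagonal_one, fromBlocks_inj]
    simp
  · rw [Matrix.diagonal_pow, ← Matrix.diagonal_one]
    congr 1
    funext i
    rcases i with i | i <;> refine Fin.cases ?_ (fun i => ?_) i <;> simp [inv_pow, hk]
  · have e0 := congrFun (congrFun hz (Sum.inl 0)) (Sum.inl 0)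
    have e1 := congrFun (congrFun hz (Sum.inl (Fin.succ ⟨0, hc⟩))) (Sum.inl (Fin.succ ⟨0, hc⟩))
    simp only [Matrix.diagonal_apply_eq, Sum.elim_inl, Fin.cons_zero, Fin.cons_succ, Pi.one_apply, Matrix.smul_apply,
      Matrix.one_apply_eq, smul_eq_mul, mul_one] at e0 e1
    exact h1 (e0.trans e1.symm)
  · rw [Matrix.charpoly_diagonal, Fintype.prod_sum_type, Fin.prod_univ_succ, Fin.prod_univ_succ]
    simp only [Sum.elim_inl, Sum.elim_inr, Fin.cons_zero, Fin.cons_succ, Pi.one_apply, Finset.prod_const, Finset.card_fin]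
    ring

/-- Elements of the tensor product group. -/
theorem exists_member {e : (Fin d ⊕ Fin d) ≃ Fin a × Fin b} {P : GL (Fin d ⊕ Fin d) F}
    {f₁ : (Fin a → F) → (Fin a → F) → F} {f₂ : (Fin b → F) → (Fin b → F) → F}
    (hS : Cfsg.Geo.IsTensorFormStructure id (Cfsg.sympForm d F) f₁ f₂ e P) (A : GL (Fin a) F) (B : GL (Fin b) F)
    (hA : A.1ᵀ * Cfsg.Geo.gramMatrix f₁ * A.1 = Cfsg.Geo.gramMatrix f₁)
    (hB : B.1ᵀ * Cfsg.Geo.gramMatrix f₂ * B.1 = Cfsg.Geo.gramMatrix f₂) :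
    ∃ y ∈ Cfsg.spGL d F, y ∈ Cfsg.Geo.tensorProductSubgroup a b e P ∧
      y.1 = P.1 * (A.1 ⊗ₖ B.1).submatrix e e * (P⁻¹).1 := by
  classical
  obtain ⟨c, -, hf⟩ := hS
  obtain ⟨G, hG⟩ : ∃ G, G = Cfsg.Geo.gramMatrix f₁ ⊗ₖ Cfsg.Geo.gramMatrix f₂ := ⟨_, rfl⟩
  obtain ⟨k, hk⟩ : ∃ k, k = A.1 ⊗ₖ B.1 := ⟨_, rfl⟩
  have hdet : (P.1 * k.submatrix e e * (P⁻¹).1).det ≠ 0 := by
    rw [Matrix.coe_units_inv, Matrix.det_conj, Matrix.det_submatrix_equiv_self, hk, Matrix.det_kronecker]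
    · exact mul_ne_zero (pow_ne_zero _ (GeneralLinearGroup.det A).ne_zero) (pow_ne_zero _ (GeneralLinearGroup.det B).ne_zero)
    · exact P.isUnit
  refine ⟨GeneralLinearGroup.mkOfDetNeZero _ hdet, fun u v => ?_, (LBTensorSpec.mem_iff e P _).2 ⟨A, B, hk ▸ rfl⟩, hk ▸ rfl⟩
  show Cfsg.sympForm d F ((P.1 * k.submatrix e e * (P⁻¹).1) *ᵥ u) ((P.1 * k.submatrix e e * (P⁻¹).1) *ᵥ v) = _
  have hrep : ∀ u : Fin d ⊕ Fin d → F, ∃ x, u = P.1 *ᵥ (x ∘ e) := fun u => ⟨((P⁻¹).1 *ᵥ u) ∘ e.symm, by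
    rw [Function.comp_assoc, Equiv.symm_comp_self, Function.comp_id, mulVec_mulVec, Units.mul_inv, one_mulVec]⟩
  have hform : ∀ x y : Fin a × Fin b → F, Cfsg.Geo.formOfGram id G x y = x ⬝ᵥ (G *ᵥ y) := fun x y => by
    simp only [Cfsg.Geo.formOfGram, id, dotProduct, mulVec, Finset.mul_sum, mul_assoc]
  have hact : ∀ x : Fin a × Fin b → F, (P.1 * k.submatrix e e * (P⁻¹).1) *ᵥ (P.1 *ᵥ (x ∘ e)) = P.1 *ᵥ ((k *ᵥ x) ∘ e) := fun x => by
    rw [mulVec_mulVec, mul_assoc, Units.inv_mul, mul_one, ← mulVec_mulVec, Matrix.submatrix_mulVec_equiv,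
      Function.comp_assoc, Equiv.self_comp_symm, Function.comp_id]
  obtain ⟨x, rfl⟩ := hrep u
  obtain ⟨y, rfl⟩ := hrep v
  rw [hact, hact, hf, hf, ← hG, hform, hform, mulVec_mulVec, ← vecMul_transpose, ← dotProduct_mulVec, mulVec_mulVec,
    ← mul_assoc, hk, hG, ← kroneckerMap_transpose, ← mul_kronecker_mul, ← mul_kronecker_mul, hA, hB]

/-- A symmetric matrix is congruent to a diagonal one. -/
theorem exists_congr_diagonal (h2 : (2 : F) ≠ 0) (G : Matrix (Fin b) (Fin b) F) (hG : Gᵀ = G) :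
    ∃ W : GL (Fin b) F, ∃ δ : Fin b → F, W.1ᵀ * G * W.1 = Matrix.diagonal δ := by
  classical
  haveI : Invertible (2 : F) := invertibleOfNonzero h2
  obtain ⟨B, hB⟩ : ∃ B : LinearMap.BilinForm F (Fin b → F), B = Matrix.toBilin' G := ⟨_, rfl⟩
  have hsymm : LinearMap.IsSymm B := ⟨fun x y => by
    simp only [hB, RingHom.id_apply, Matrix.toBilin'_apply']
    rw [dotProduct_mulVec, ← mulVec_transpose, hG, dotProduct_comm]⟩
  obtain ⟨v, hv⟩ := LinearMap.BilinForm.exists_orthogonal_basis hsymm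
  obtain ⟨v', hv'⟩ : ∃ v' : Module.Basis (Fin b) F (Fin b → F), v' = v.reindex (finCongr (Module.finrank_fin_fun F)) := ⟨_, rfl⟩
  have hu : IsUnit (Matrix.of fun i j => v' j i) := Matrix.linearIndependent_cols_iff_isUnit.1 v'.linearIndependent
  refine ⟨hu.unit, fun j => B (v' j) (v' j), Matrix.ext fun s t => ?_⟩
  have e : (hu.unit.1ᵀ * G * hu.unit.1) s t = B (v' s) (v' t) := by
    rw [IsUnit.unit_spec, hB, Matrix.toBilin'_apply', mul_assoc, Matrix.mul_apply]
    rfl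
  rw [e, Matrix.diagonal_apply]
  split_ifs with h
  · rw [h]
  · rw [hv', Module.Basis.reindex_apply, Module.Basis.reindex_apply]
    exact hv (fun h' => h ((finCongr (Module.finrank_fin_fun F)).symm.injective h'))

section finite

variable [Fintype F]

theorem scalar_sq (hd : 1 ≤ d) {x : Matrix (Fin d ⊕ Fin d) (Fin d ⊕ Fin d) F} (hx : x ∈ Matrix.symplecticGroup (Fin d) F) {z : F}
    (hz : x = z • 1) : z * z = 1 := by
  rw [hz, SymplecticGroup.mem_iff, smul_mul_assoc, one_mul, transpose_smul, transpose_one, mul_smul_comm, mul_one, smul_smul] at hx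
  have := congrFun (congrFun hx (Sum.inr ⟨0, hd⟩)) (Sum.inl ⟨0, hd⟩)
  simpa [Matrix.J] using this

/-- The characteristic polynomial of a symplectic matrix with square `-1`. -/
theorem charpoly_square_neg (h2 : (2 : F) ≠ 0) {x : Matrix (Fin d ⊕ Fin d) (Fin d ⊕ Fin d) F}
    (hx : x ∈ Matrix.symplecticGroup (Fin d) F) (hxx : x * x = (-1 : F) • 1) :
    x.charpoly = (Polynomial.X ^ 2 - Polynomial.C (-1)) ^ d := by
  classical
  obtain ⟨R, hR⟩ : ∃ e, e = Matrix.reindexAlgEquiv F F (finSumFinEquiv : Fin d ⊕ Fin d ≃ Fin (d + d)) := ⟨_, rfl⟩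
  have hch : (R x).charpoly = x.charpoly := by rw [hR, Matrix.coe_reindexAlgEquiv, Matrix.charpoly_reindex]
  have hRx : R x * R x = (-1 : F) • 1 := by rw [← map_mul, hxx, map_smul, map_one]
  by_cases hzs : IsSquare (-1 : F)
  swap
  · obtain ⟨n, hn, hc⟩ := LBInvCl.charpoly_nonsquare hRx hzs
    rw [← hch, hc, show n = d by omega]
  obtain ⟨t, ht⟩ := hzs
  obtain ⟨n, hn, hc⟩ := LBInvCl.charpoly_square (a := t) (by rw [hRx, ht])
  rw [hch] at hc
  obtain ⟨hp0, hpal⟩ := SympClasses.charpoly_palindrome ⟨x, hx⟩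
  have ht0 : t ≠ 0 := fun h => by rw [h, mul_zero] at ht; exact neg_ne_zero.2 one_ne_zero ht
  have htt : -t ≠ t := fun h => ht0 ((mul_eq_zero.1 (show (2 : F) * t = 0 by linear_combination -h)).resolve_left h2)
  have hti : t⁻¹ = -t := inv_eq_of_mul_eq_one_right (by linear_combination ht)
  have hlin : ∀ u : F, u ≠ 0 → rc (RingHom.id F) (Polynomial.X - Polynomial.C u) = Polynomial.X - Polynomial.C u⁻¹ := fun u hu => by
    have h0 : (Polynomial.X - Polynomial.C u).coeff 0 ≠ 0 := by simp [hu]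
    obtain ⟨hm, hdg⟩ := rc_monic (RingHom.id F) (monic_X_sub_C u) h0
    rw [natDegree_X_sub_C] at hdg
    rw [hm.eq_X_add_C hdg, rc_coeff _ _ (Nat.zero_le _), natDegree_X_sub_C, RingHom.id_apply, RingHom.id_apply]
    simp [sub_eq_add_neg, coeff_X, hu, inv_neg]
  have hrc : rc (RingHom.id F) x.charpoly = x.charpoly := by
    refine (rc_fix_iff _ hid (Matrix.charpoly_monic x) (by
      rw [show x.charpoly.coeff 0 = 1 from hp0]; exact one_ne_zero) (n := 2 * d) (by
      rw [Matrix.charpoly_natDegree_eq_dim]; simp [two_mul])).2 fun i hi => ?_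
    rw [show x.charpoly.coeff 0 = 1 from hp0, one_mul]
    exact hpal i hi
  rw [hc, rc_mul, rc_pow, rc_pow, hlin t ht0, hlin (-t) (neg_ne_zero.2 ht0), inv_neg, hti, neg_neg] at hrc
  have hnd : n = d := by
    have e := congrArg (Polynomial.rootMultiplicity t) hrc
    rw [rootMultiplicity_mul (mul_ne_zero (pow_ne_zero _ (X_sub_C_ne_zero _)) (pow_ne_zero _ (X_sub_C_ne_zero _))),
      rootMultiplicity_mul (mul_ne_zero (pow_ne_zero _ (X_sub_C_ne_zero _)) (pow_ne_zero _ (X_sub_C_ne_zero _))),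
      rootMultiplicity_eq_zero (p := (Polynomial.X - Polynomial.C (-t)) ^ n) (by simp [IsRoot, sub_neg_eq_add, ← two_mul, h2, ht0]),
      rootMultiplicity_eq_zero (p := (Polynomial.X - Polynomial.C (-t)) ^ (d + d - n)) (by simp [IsRoot, sub_neg_eq_add, ← two_mul, h2, ht0]),
      rootMultiplicity_X_sub_C_pow, rootMultiplicity_X_sub_C_pow] at e
    omega
  rw [hc, hnd, show d + d - d = d by omega, ← mul_pow, ht, C_neg, C_mul]
  congr 1
  ring

/-- Conjugacy of square roots of scalars. -/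
theorem conj_of_charpoly (p : ℕ) [Fact p.Prime] [CharP F p] (hp : p ≠ 2) {x y : GL (Fin d ⊕ Fin d) F}
    (hx : x ∈ Cfsg.spGL d F) (hy : y ∈ Cfsg.spGL d F) {z : F} (hz : z * z = 1) (hxx : x.1 * x.1 = z • 1)
    (hyy : y.1 * y.1 = z • 1) (hc : y.1.charpoly = x.1.charpoly) :
    ∃ g ∈ Cfsg.spGL d F, g⁻¹ * x * g = y := by
  classical
  have hord : ∀ w : Matrix.symplecticGroup (Fin d) F, w.1 * w.1 = z • 1 → (orderOf w).Coprime p := by
    intro w hw
    have h4 : w ^ 4 = 1 := Subtype.ext (by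
      rw [SubmonoidClass.coe_pow, show (4 : ℕ) = 2 * 2 from rfl, pow_mul, pow_two, pow_two, hw, smul_mul_assoc, one_mul, smul_smul,
        hz, one_smul]
      rfl)
    refine Nat.Coprime.of_dvd_left (orderOf_dvd_of_pow_eq_one h4) ?_
    rw [show (4 : ℕ) = 2 ^ 2 from rfl]
    exact Nat.Coprime.pow_left 2 ((Nat.coprime_primes Nat.prime_two Fact.out).2 (Ne.symm hp))
  obtain ⟨Q, hQ⟩ := isConj_iff.1 (SympClasses.isConj_of_charpoly p ⟨y.1, (ClassicalSp.mem_iff_preserves _).2 hy⟩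
    ⟨x.1, (ClassicalSp.mem_iff_preserves _).2 hx⟩ (hord _ hyy) (hord _ hxx) hc)
  let toG : Matrix.symplecticGroup (Fin d) F →* GL (Fin d ⊕ Fin d) F :=
    (Units.map (Submonoid.subtype _)).comp toUnits.toMonoidHom
  have hQ' := congrArg toG hQ
  rw [map_mul, map_mul, map_inv, show toG ⟨y.1, _⟩ = y from Units.ext rfl, show toG ⟨x.1, _⟩ = x from Units.ext rfl] at hQ'
  refine ⟨toG Q, (ClassicalSp.mem_iff_preserves _).1 Q.2, ?_⟩
  rw [← hQ']
  group

variable {e : (Fin d ⊕ Fin d) ≃ Fin a × Fin b} {P : GL (Fin d ⊕ Fin d) F}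

/-- Every involution in the case of a two-dimensional first factor. -/
theorem fixes_two (p : ℕ) [Fact p.Prime] [CharP F p] (hp : p ≠ 2) {e : (Fin d ⊕ Fin d) ≃ Fin 2 × Fin b}
    {f₁ : (Fin 2 → F) → (Fin 2 → F) → F} {f₂ : (Fin b → F) → (Fin b → F) → F}
    (hf₁ : Cfsg.Geo.IsSymplecticForm f₁) (hf₂ : Cfsg.Geo.IsSymmetricForm f₂)
    (hS : Cfsg.Geo.IsTensorFormStructure id (Cfsg.sympForm d F) f₁ f₂ e P) (hdb : d = b) (hd : 1 ≤ d)
    {x : GL (Fin d ⊕ Fin d) F} (hx : x ∈ Cfsg.spGL d F) {z : F} (hxx : x.1 * x.1 = z • 1) :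
    ∃ g ∈ Cfsg.spGL d F, g⁻¹ * x * g ∈ Cfsg.Geo.tensorProductSubgroup 2 b e P := by
  classical
  have h2 : (2 : F) ≠ 0 := Ring.two_ne_zero (by rw [ringChar.eq F p]; exact hp)
  have hxm := (ClassicalSp.mem_iff_preserves x.1).2 hx
  have hz : z * z = 1 := scalar_sq hd (mul_mem hxm hxm) hxx
  suffices h : ∃ y ∈ Cfsg.spGL d F, y ∈ Cfsg.Geo.tensorProductSubgroup 2 b e P ∧ y.1 * y.1 = z • 1 ∧
      y.1.charpoly = x.1.charpoly by
    obtain ⟨y, hys, hyH, hyy, hyc⟩ := h
    obtain ⟨g, hg, hgx⟩ := conj_of_charpoly p hp hx hys hz hxx hyy hyc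
    exact ⟨g, hg, hgx ▸ hyH⟩
  have hsq : ∀ (A : GL (Fin 2) F) (B : GL (Fin b) F) (y : GL (Fin d ⊕ Fin d) F), A.1 * A.1 = z • 1 → B.1 * B.1 = 1 →
      y.1 = P.1 * (A.1 ⊗ₖ B.1).submatrix e e * (P⁻¹).1 → y.1 * y.1 = z • 1 := fun A B y hA hB hy => by
    rw [← pow_two, hy, LBTensorSpec.conj_pow_sub, pow_two, ← mul_kronecker_mul, hA, hB, smul_kronecker, one_kronecker_one,
      submatrix_smul, Pi.smul_apply, Pi.smul_apply, submatrix_one_equiv, mul_smul_comm, mul_one, smul_mul_assoc, Units.mul_inv]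
  have hch : ∀ (A : GL (Fin 2) F) (B : GL (Fin b) F) (y : GL (Fin d ⊕ Fin d) F),
      y.1 = P.1 * (A.1 ⊗ₖ B.1).submatrix e e * (P⁻¹).1 → y.1.charpoly = (A.1 ⊗ₖ B.1).charpoly := fun A B y hy => by
    rw [hy, Matrix.coe_units_inv, Matrix.charpoly_units_conj, charpoly_sub]
  rcases mul_self_eq_one_iff.1 hz with rfl | rfl
  · -- involutions: the second factor carries the eigenspaces
    obtain ⟨R, hR⟩ : ∃ R, R = Matrix.reindexAlgEquiv F F (finSumFinEquiv : Fin d ⊕ Fin d ≃ Fin (d + d)) := ⟨_, rfl⟩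
    have hRc : (R x.1).charpoly = x.1.charpoly := by rw [hR, Matrix.coe_reindexAlgEquiv, Matrix.charpoly_reindex]
    obtain ⟨n, hn, hc⟩ := LBInvCl.charpoly_square (a := (1 : F)) (x := R x.1) (by rw [← map_mul, hxx, map_smul, map_one, one_mul])
    rw [hRc] at hc
    have hev : Even (d + d - n) := by
      have hdet := Matrix.det_eq_sign_charpoly_coeff x.1
      rw [SymplecticGroup.det_eq_one hxm, hc, coeff_zero_eq_eval_zero, eval_mul, eval_pow, eval_pow, eval_sub, eval_sub, eval_X,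
        eval_C, eval_C, zero_sub, zero_sub, neg_neg, one_pow, mul_one, ← pow_add, Fintype.card_sum, Fintype.card_fin] at hdet
      by_contra hod
      rw [Odd.neg_one_pow (by
        obtain ⟨m, hm⟩ := Nat.not_even_iff_odd.1 hod
        exact ⟨d + d - m - 1, by omega⟩)] at hdet
      exact h2 (by linear_combination hdet)
    obtain ⟨l, hl⟩ := hev
    obtain ⟨W, δ, hW⟩ := exists_congr_diagonal h2 (Cfsg.Geo.gramMatrix f₂) (Matrix.ext fun i j => hf₂.symm _ _)
    obtain ⟨ε, hε⟩ : ∃ ε : Fin b → F, ε = fun j => if j.val < b - l then 1 else -1 := ⟨_, rfl⟩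
    have hεε : ∀ j, ε j * ε j = 1 := fun j => by rw [hε]; dsimp only; split_ifs <;> simp
    have hD : Matrix.diagonal ε * Matrix.diagonal ε = 1 := by
      rw [diagonal_mul_diagonal, ← diagonal_one]; exact congrArg _ (funext hεε)
    obtain ⟨Du, hDu⟩ : ∃ Du : GL (Fin b) F, Du.1 = Matrix.diagonal ε := ⟨⟨_, _, hD, hD⟩, rfl⟩
    have hδ : ∀ Δ : Matrix (Fin b) (Fin b) F, Δ = Matrix.diagonal δ → Du.1ᵀ * Δ * Du.1 = Δ := fun Δ hΔ => by
      rw [hDu, hΔ, diagonal_transpose, diagonal_mul_diagonal, diagonal_mul_diagonal]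
      congr 1; funext j
      linear_combination δ j * hεε j
    have hWG : (W⁻¹).1ᵀ * Matrix.diagonal δ * (W⁻¹).1 = Cfsg.Geo.gramMatrix f₂ := by
      rw [← hW, ← mul_assoc, ← mul_assoc, ← transpose_mul, Units.mul_inv, transpose_one, one_mul, mul_assoc, Units.mul_inv, mul_one]
    obtain ⟨y, hys, hyH, hy⟩ := exists_member hS (1 : GL (Fin 2) F) (W * Du * W⁻¹) (by simp) (by
      rw [Units.val_mul, Units.val_mul, transpose_mul, transpose_mul]
      calc _ = (W⁻¹).1ᵀ * (Du.1ᵀ * (W.1ᵀ * Cfsg.Geo.gramMatrix f₂ * W.1) * Du.1) * (W⁻¹).1 := by simp only [mul_assoc]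
        _ = _ := by rw [hW, hδ _ rfl, hWG])
    refine ⟨y, hys, hyH, hsq _ _ y (by simp) (by
      rw [← Units.val_mul, show W * Du * W⁻¹ * (W * Du * W⁻¹) = W * (Du * Du) * W⁻¹ by group, Units.val_mul, Units.val_mul,
        Units.val_mul, hDu, hD, mul_one, Units.mul_inv]) hy, ?_⟩
    have hone : ((1 : GL (Fin 2) F).1 ⊗ₖ (W * Du * W⁻¹).1).charpoly =
        ((1 : Matrix (Fin 2) (Fin 2) F) ⊗ₖ Du.1).charpoly := by
      obtain ⟨T, hT⟩ : ∃ T : GL (Fin 2 × Fin b) F, T.1 = (1 : Matrix (Fin 2) (Fin 2) F) ⊗ₖ W.1 :=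
        ⟨⟨_, (1 : Matrix (Fin 2) (Fin 2) F) ⊗ₖ (W⁻¹).1, (mul_kronecker_mul _ _ _ _).symm.trans (by rw [mul_one, Units.mul_inv, one_kronecker_one]), (mul_kronecker_mul _ _ _ _).symm.trans (by rw [mul_one, Units.inv_mul, one_kronecker_one])⟩, rfl⟩
      have hTi : (T⁻¹).1 = (1 : Matrix (Fin 2) (Fin 2) F) ⊗ₖ (W⁻¹).1 :=
        Units.inv_eq_of_mul_eq_one_right (by rw [hT, ← mul_kronecker_mul, Units.mul_inv]; simp)
      rw [show ((1 : GL (Fin 2) F).1 ⊗ₖ (W * Du * W⁻¹).1) = T.1 * ((1 : Matrix (Fin 2) (Fin 2) F) ⊗ₖ Du.1) * (T⁻¹).1 by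
        rw [hT, hTi, ← mul_kronecker_mul, ← mul_kronecker_mul]; simp, Matrix.coe_units_inv, Matrix.charpoly_units_conj]
    rw [hch _ _ y hy, hone, hDu, ← diagonal_one, diagonal_kronecker_diagonal, charpoly_diagonal, hc, Fintype.prod_prod_type]
    simp only [one_mul, Fin.prod_univ_two, hε]
    rw [Fin.prod_univ_eq_prod_range (fun i => Polynomial.X - Polynomial.C (if i < b - l then (1 : F) else -1)) b,
      ← Finset.prod_range_mul_prod_Ico _ (show b - l ≤ b by omega),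
      Finset.prod_congr rfl (g := fun _ => Polynomial.X - Polynomial.C (1 : F)) (fun i hi => by rw [if_pos (Finset.mem_range.1 hi)]),
      Finset.prod_congr (s₁ := Finset.Ico (b - l) b) rfl (g := fun _ => Polynomial.X - Polynomial.C (-1 : F))
        (fun i hi => by rw [if_neg (not_lt.2 (Finset.mem_Ico.1 hi).1)]),
      Finset.prod_const, Finset.prod_const, Finset.card_range, Nat.card_Ico, mul_mul_mul_comm, ← pow_add, ← pow_add,
      show (b - l) + (b - l) = n by omega, show (b - (b - l)) + (b - (b - l)) = d + d - n by omega]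
  · -- elements of square -1: the first factor
    have hdet : (!![0, -1; 1, 0] : Matrix (Fin 2) (Fin 2) F).det ≠ 0 := by simp
    obtain ⟨A, hA⟩ : ∃ A : GL (Fin 2) F, A.1 = !![0, -1; 1, 0] := ⟨GeneralLinearGroup.mkOfDetNeZero _ hdet, rfl⟩
    have hA2 : A.1 * A.1 = (-1 : F) • 1 := by
      rw [hA]; ext i j; fin_cases i <;> fin_cases j <;> simp [Matrix.mul_apply, Fin.sum_univ_two]
    have h00 : Cfsg.Geo.gramMatrix f₁ 0 0 = 0 := hf₁.alternating _
    have h11 : Cfsg.Geo.gramMatrix f₁ 1 1 = 0 := hf₁.alternating _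
    have h10 : Cfsg.Geo.gramMatrix f₁ 1 0 = - Cfsg.Geo.gramMatrix f₁ 0 1 := hf₁.skew _ _
    obtain ⟨y, hys, hyH, hy⟩ := exists_member hS A (1 : GL (Fin b) F) (by
      rw [hA]; ext i j
      fin_cases i <;> fin_cases j <;> simp [Matrix.mul_apply, Fin.sum_univ_two, h00, h11, h10]) (by simp)
    have hyy := hsq _ _ y hA2 (by simp) hy
    refine ⟨y, hys, hyH, hyy, ?_⟩
    rw [charpoly_square_neg h2 ((ClassicalSp.mem_iff_preserves y.1).2 hys) hyy, charpoly_square_neg h2 hxm hxx]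

/-- Elements of prime order and tensor decompositions. -/
theorem main (p : ℕ) [Fact p.Prime] [CharP F p] {q : ℕ} (hq : Fintype.card F = q) (hodd : Odd q) (hd : 2 ≤ d)
    (hab : 2 * d = a * b) (ha : Even a) (ha2 : 2 ≤ a) (hb : 3 ≤ b)
    {f₁ : (Fin a → F) → (Fin a → F) → F} {f₂ : (Fin b → F) → (Fin b → F) → F}
    (hf₁ : Cfsg.Geo.IsSymplecticForm f₁) (hf₂ : Cfsg.Geo.IsSymmetricForm f₂)
    (hS : Cfsg.Geo.IsTensorFormStructure id (Cfsg.sympForm d F) f₁ f₂ e P)
    (r : ℕ) [Fact r.Prime]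
    (hΩ : r ∣ (Cfsg.Geo.tensorProductSubgroup a b e P).relIndex (Cfsg.spGL d F)) :
    (∀ x ∈ Cfsg.spGL d F, (∃ z : F, ((x ^ r : GL (Fin d ⊕ Fin d) F) : Matrix (Fin d ⊕ Fin d) (Fin d ⊕ Fin d) F) = z • (1 : Matrix (Fin d ⊕ Fin d) (Fin d ⊕ Fin d) F)) →
      (∀ z : F, (x : Matrix (Fin d ⊕ Fin d) (Fin d ⊕ Fin d) F) ≠ z • (1 : Matrix (Fin d ⊕ Fin d) (Fin d ⊕ Fin d) F)) →
      ∃ g ∈ Cfsg.spGL d F, g⁻¹ * x * g ∈ Cfsg.Geo.tensorProductSubgroup a b e P) ↔ (r = 2 ∧ a = 2) := by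
  classical
  have hr : r.Prime := Fact.out
  have hpp : p.Prime := Fact.out
  have hp2 : p ≠ 2 := by
    rintro rfl
    obtain ⟨k, -, hk⟩ := FiniteField.card F 2
    rw [← hq, hk, Nat.odd_iff, Nat.pow_mod] at hodd
    simp at hodd
  have h2 : (2 : F) ≠ 0 := Ring.two_ne_zero (by rw [ringChar.eq F p]; exact hp2)
  have hab3 : 3 * a ≤ a * b := by rw [mul_comm 3 a]; exact Nat.mul_le_mul_left a hb
  have hab2 : 2 * b ≤ a * b := Nat.mul_le_mul_right b ha2
  constructor
  swap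
  · rintro ⟨rfl, rfl⟩ x hx ⟨z, hz⟩ -
    rw [Units.val_pow_eq_pow_val, pow_two] at hz
    exact fixes_two p hp2 hf₁ hf₂ hS (by omega) (by omega) hx hz
  intro hall
  -- the fixed elements
  have hfix : ∀ X : Matrix (Fin d ⊕ Fin d) (Fin d ⊕ Fin d) F, X ∈ Matrix.symplecticGroup (Fin d) F → X ^ r = 1 →
      (∀ z : F, X ≠ z • 1) → ∃ (A : GL (Fin a) F) (B : GL (Fin b) F) (Q : GL (Fin d ⊕ Fin d) F),
        X = Q.1 * (A.1 ⊗ₖ B.1).submatrix e e * (Q⁻¹).1 := by
    intro X hX hXr hXs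
    obtain ⟨x, hx⟩ : ∃ x : GL (Fin d ⊕ Fin d) F, x.1 = X :=
      ⟨GeneralLinearGroup.mkOfDetNeZero X (SymplecticGroup.symplectic_det hX).ne_zero, rfl⟩
    subst hx
    obtain ⟨g, -, hgS⟩ := hall x ((ClassicalSp.mem_iff_preserves _).1 hX)
      ⟨1, by rw [Units.val_pow_eq_pow_val, hXr, one_smul]⟩ hXs
    obtain ⟨A, B, hAB⟩ := (LBTensorSpec.mem_iff e P _).1 hgS
    refine ⟨A, B, g * P, ?_⟩
    rw [Units.val_mul, Units.val_mul] at hAB
    calc x.1 = g.1 * ((g⁻¹).1 * x.1 * g.1) * (g⁻¹).1 := by simp [mul_assoc]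
      _ = _ := by rw [hAB, _root_.mul_inv_rev, Units.val_mul, Units.val_mul]; simp only [mul_assoc]
  obtain ⟨K, φ⟩ : ∃ K : Type _, ∃ _ : Field K, ∃ _ : IsAlgClosed K, Nonempty (F →+* K) :=
    ⟨AlgebraicClosure F, inferInstance, inferInstance, ⟨algebraMap _ _⟩⟩
  obtain ⟨_, _, ⟨φ⟩⟩ := φ
  have hspec : r ≠ p → ∀ X : Matrix (Fin d ⊕ Fin d) (Fin d ⊕ Fin d) F, X ∈ Matrix.symplecticGroup (Fin d) F → X ^ r = 1 →
      (∀ z : F, X ≠ z • 1) → ∃ (α : Fin a → K) (β : Fin b → K), (∀ j, β j ≠ 0) ∧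
        (X.charpoly.map φ).roots = (Finset.univ.val.map fun ij : Fin a × Fin b => α ij.1 * β ij.2) ∧
        (¬ r ∣ Fintype.card F - 1 → (a < orderOf (Fintype.card F : ZMod r) → ∀ i i', α i = α i') ∧
          (b < orderOf (Fintype.card F : ZMod r) → ∀ j j', β j = β j')) := by
    intro hrp X hX hXr hXs
    obtain ⟨A, B, Q, hQ⟩ := hfix X hX hXr hXs
    have hk : (A.1 ⊗ₖ B.1) ^ r = 1 := by
      have h1 := hXr
      rw [hQ, LBTensorSpec.conj_pow_sub, Units.mul_inv_eq_iff_eq_mul, one_mul] at h1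
      have h2 : ((A.1 ⊗ₖ B.1) ^ r).submatrix e e = 1 := Q.isUnit.mul_left_cancel (h1.trans (mul_one _).symm)
      have h3 := congrArg (fun M => M.submatrix e.symm e.symm) h2
      simpa only [submatrix_submatrix, Equiv.self_comp_symm, submatrix_id_id, submatrix_one_equiv] using h3
    obtain ⟨α, β, hβ, hroots, hc⟩ := kron_spectrum p hrp (by omega) (by omega) hk φ
    refine ⟨α, β, hβ, ?_, hc⟩
    rw [← hroots, hQ, Matrix.coe_units_inv, Matrix.charpoly_units_conj, charpoly_sub]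
  -- transvections
  have hrp : r ≠ p := by
    rintro rfl
    obtain ⟨v, hv⟩ : ∃ v : Fin d ⊕ Fin d → F, v = Pi.single (Sum.inl ⟨0, by omega⟩) 1 := ⟨_, rfl⟩
    obtain ⟨w, hw⟩ : ∃ w, w = Matrix.J (Fin d) F *ᵥ v := ⟨_, rfl⟩
    have hvw : w ⬝ᵥ v = 0 := by
      rw [hw, dotProduct_comm, hv, single_dotProduct, mulVec_single_one]; simp [Matrix.J]
    have hN : vecMulVec v w * vecMulVec v w = 0 := by rw [vecMulVec_mul_vecMulVec, hvw, zero_smul, vecMulVec_zero]
    have hN0 : vecMulVec v w ≠ 0 := fun h => by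
      have e := congrFun (congrFun h (Sum.inl ⟨0, by omega⟩)) (Sum.inr ⟨0, by omega⟩)
      rw [hw, hv, mulVec_single_one] at e
      simp [Matrix.J, vecMulVec] at e
    have hT : Cfsg.sympTransvection d v 1 = 1 + vecMulVec v w := by rw [Cfsg.sympTransvection, ← hw, one_smul]
    haveI : Nonempty (Fin d ⊕ Fin d) := ⟨Sum.inl ⟨0, by omega⟩⟩
    obtain ⟨A, B, Q, hQ⟩ := hfix (Cfsg.sympTransvection d v 1) (ClassicalSp.sympTransvection_mem v 1) (by
      rw [hT, add_pow_char_of_commute _ (Commute.one_left _), one_pow,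
        show r = 2 + (r - 2) by have := hr.two_le; omega, pow_add, pow_two, hN, zero_mul, add_zero]) (fun z hz => by
      have e1 := congrFun (congrFun hz (Sum.inl ⟨0, by omega⟩)) (Sum.inr ⟨0, by omega⟩)
      rw [hT, hw, hv, mulVec_single_one] at e1
      simp [Matrix.J, vecMulVec] at e1)
    have h1 : (A.1 ⊗ₖ B.1).submatrix e e = 1 + vecMulVec ((Q⁻¹).1 *ᵥ v) (w ᵥ* Q.1) := by
      calc (A.1 ⊗ₖ B.1).submatrix e e = (Q⁻¹).1 * (Q.1 * (A.1 ⊗ₖ B.1).submatrix e e * (Q⁻¹).1) * Q.1 := by simp [mul_assoc]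
        _ = _ := by rw [← hQ, hT, mul_add, add_mul, mul_one, Units.inv_mul, mul_vecMulVec, vecMulVec_mul]
    have h3 : A.1 ⊗ₖ B.1 = 1 + vecMulVec (((Q⁻¹).1 *ᵥ v) ∘ e.symm) ((w ᵥ* Q.1) ∘ e.symm) := by
      have := congrArg (fun M => M.submatrix e.symm e.symm) h1
      simp only [submatrix_submatrix, Equiv.self_comp_symm, submatrix_id_id, submatrix_add, Pi.add_apply, submatrix_one_equiv] at this
      exact this
    have h4 := LBTensorSpec.not_rankone ha2 (by omega) h3 (by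
      rw [vecMulVec_mul_vecMulVec, comp_equiv_dotProduct_comp_equiv, ← dotProduct_mulVec, mulVec_mulVec, Units.mul_inv, one_mulVec,
        hvw, zero_smul, vecMulVec_zero])
    refine hN0 ?_
    have h5 : vecMulVec ((Q⁻¹).1 *ᵥ v) (w ᵥ* Q.1) = 0 := by
      have := congrArg (fun M => M.submatrix e e) h4
      ext s t
      have := congrFun (congrFun this s) t
      simpa [vecMulVec] using this
    calc vecMulVec v w = Q.1 * vecMulVec ((Q⁻¹).1 *ᵥ v) (w ᵥ* Q.1) * (Q⁻¹).1 := by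
          rw [mul_vecMulVec, vecMulVec_mul, mulVec_mulVec, vecMul_vecMul, Units.mul_inv, one_mulVec, vecMul_one]
      _ = 0 := by rw [h5, mul_zero, zero_mul]
  obtain ⟨c, hc⟩ : ∃ c, d = c + 1 := ⟨d - 1, by omega⟩
  by_cases hr2 : r = 2
  · subst hr2
    refine ⟨rfl, ?_⟩
    by_contra ha4
    subst hc
    obtain ⟨X, hX, hXr, hXs, hXc⟩ := exists_pair (F := F) c (ω := -1) (neg_ne_zero.2 one_ne_zero)
    have hm1 : (-1 : F) ≠ 1 := fun h => h2 (by linear_combination -h)
    obtain ⟨α, β, hβ, hR, -⟩ := hspec hrp X hX (hXr 2 neg_one_sq) (hXs hm1 (by omega))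
    have hm1' : (-1 : K) ≠ 1 := fun h => hm1 (φ.injective (by rw [map_neg, map_one]; exact h))
    rw [hXc, map_roots_split φ ((monic_X_sub_C _).mul (monic_X_sub_C _)), inv_neg, inv_one, Polynomial.map_mul,
      Polynomial.map_sub, map_X, map_C, map_neg, map_one, roots_mul (mul_ne_zero (X_sub_C_ne_zero _) (X_sub_C_ne_zero _)),
      roots_X_sub_C] at hR
    by_cases hcs : ∀ i i', α i = α i'
    · have h1 := (LBTensorSpec.count_bound α β hβ (-1)).1 hcs
      rw [← hR] at h1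
      simp [Multiset.count_replicate, hm1'.symm] at h1
      have := Nat.le_of_dvd two_pos h1
      omega
    · have h1 := (LBTensorSpec.count_bound α β hβ 1).2 hcs
      rw [← hR] at h1
      rw [Multiset.count_add, Multiset.count_add, Multiset.count_replicate, if_pos rfl, Multiset.count_singleton,
        if_neg hm1'.symm] at h1
      omega
  exfalso
  obtain ⟨i, hi⟩ : ∃ i, i = orderOf (Fintype.card F : ZMod r) := ⟨_, rfl⟩
  by_cases hq1 : r ∣ Fintype.card F - 1
  · subst hc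
    obtain ⟨ω, hω⟩ := LBSim.exists_order (F := F) (m := r) hq1
    have hω0 : ω ≠ 0 := fun e0 => by
      have := pow_orderOf_eq_one ω
      rw [hω, e0, zero_pow hr.ne_zero] at this
      exact zero_ne_one this
    have hω1 : ω ≠ 1 := fun e0 => by rw [e0, orderOf_one] at hω; exact hr.ne_one hω.symm
    have hωi : ω⁻¹ ≠ ω := fun e0 => by
      have : ω ^ 2 = 1 := by rw [pow_two]; nth_rewrite 1 [← e0]; exact inv_mul_cancel₀ hω0
      exact hr2 ((Nat.prime_dvd_prime_iff_eq hr Nat.prime_two).1 (hω ▸ orderOf_dvd_of_pow_eq_one this))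
    obtain ⟨X, hX, hXr, hXs, hXc⟩ := exists_pair (F := F) c hω0
    obtain ⟨α, β, hβ, hR, -⟩ := hspec hrp X hX (hXr r (hω ▸ pow_orderOf_eq_one ω)) (hXs hω1 (by omega))
    rw [hXc, map_roots_split φ ((monic_X_sub_C _).mul (monic_X_sub_C _)), Polynomial.map_mul,
      Polynomial.map_sub, Polynomial.map_sub, map_X, map_C, map_C,
      roots_mul (mul_ne_zero (X_sub_C_ne_zero _) (X_sub_C_ne_zero _)), roots_X_sub_C, roots_X_sub_C] at hR
    have n1 : φ ω ≠ 1 := fun h => hω1 (φ.injective (by rwa [map_one]))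
    have n2 : φ ω⁻¹ ≠ 1 := fun h => hω1 (inv_eq_one.1 (φ.injective (by rwa [map_one])))
    have n3 : φ ω⁻¹ ≠ φ ω := fun h => hωi (φ.injective h)
    by_cases hcs : ∀ i i', α i = α i'
    · have h1 := (LBTensorSpec.count_bound α β hβ (φ ω)).1 hcs
      rw [← hR] at h1
      simp [Multiset.count_replicate, n1.symm, n3.symm, -map_inv₀] at h1
      omega
    · have h1 := count_injective (by omega) α β hβ (one_ne_zero (α := K)) (fun w hw => by
        rw [← hR]
        simp only [Multiset.count_add, Multiset.count_replicate, Ne.symm hw, if_false, add_zero, Multiset.count_singleton]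
        split_ifs with e1 e2 <;> first | omega | exact absurd (e2.symm.trans e1) n3) hcs
      rw [← hR] at h1
      simp [Multiset.count_replicate, n1.symm, n2.symm, -map_inv₀] at h1
      omega
  -- the order of `q`
  have hqr : (Fintype.card F : ZMod r) ≠ 0 := by
    obtain ⟨k, -, hk⟩ := FiniteField.card F p
    rw [Ne, ZMod.natCast_eq_zero_iff, hk]
    exact fun h => hrp ((Nat.prime_dvd_prime_iff_eq hr hpp).1 (hr.dvd_of_dvd_pow h))
  obtain ⟨j, hij, hj⟩ : ∃ j, ((Odd i ∧ j = i) ∨ i = 2 * j) ∧ j ≤ d := by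
    have hcard : Nat.card (Cfsg.spGL d F) = Nat.card (Matrix.symplecticGroup (Fin d) F) := Nat.card_congr
      { toFun := fun g => ⟨g.1.1, (ClassicalSp.mem_iff_preserves _).2 g.2⟩
        invFun := fun A => ⟨GeneralLinearGroup.mkOfDetNeZero A.1 (SymplecticGroup.symplectic_det A.2).ne_zero,
          (ClassicalSp.mem_iff_preserves A.1).1 A.2⟩
        left_inv := fun g => Subtype.ext (Units.ext rfl)
        right_inv := fun A => Subtype.ext rfl }
    have h1 := hΩ.trans (Subgroup.relIndex_dvd_card _ _)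
    rw [hcard, ClassicalSp.card_sp, Nat.card_eq_fintype_card (α := F)] at h1
    rcases hr.dvd_mul.1 h1 with h | h
    · exact absurd ((ZMod.natCast_eq_zero_iff _ _).2 (hr.dvd_of_dvd_pow h)) hqr
    obtain ⟨t, ht, hdt⟩ := (Prime.dvd_finset_prod_iff hr.prime _).1 h
    rw [Finset.mem_range] at ht
    have h2' : (Fintype.card F : ZMod r) ^ (2 * (t + 1)) = 1 := by
      have h1 : 1 ≤ Fintype.card F ^ (2 * (t + 1)) := Nat.one_le_pow _ _ Fintype.card_pos
      have := (ZMod.natCast_eq_zero_iff _ _).2 hdt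
      rw [Nat.cast_sub h1, Nat.cast_pow, Nat.cast_one, sub_eq_zero] at this
      exact this
    have hdvd : i ∣ 2 * (t + 1) := hi ▸ orderOf_dvd_of_pow_eq_one h2'
    rcases Nat.even_or_odd i with ⟨s, hs⟩ | ho
    · refine ⟨s, Or.inr (by omega), ?_⟩
      have := Nat.le_of_dvd (by omega) hdvd
      omega
    · refine ⟨i, Or.inl ⟨ho, rfl⟩, ?_⟩
      have := Nat.le_of_dvd (by omega) (ho.coprime_two_right.dvd_of_dvd_mul_left hdvd)
      omega
  obtain ⟨h, hhm, hhdeg, hh0, hhrc, hhd, hh1⟩ := exists_core (F := F) p hr2 hrp hi hij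
  have hG : Good r (h * (Polynomial.X - Polynomial.C 1) ^ (2 * (d - j))) := by
    refine ⟨hhm.mul ((monic_X_sub_C 1).pow _), fun u hum hui hud => ?_⟩
    rcases hui.prime.dvd_or_dvd hud with e | e
    · exact e.trans hhd
    · exact (hui.prime.dvd_of_dvd_pow e).trans (dvd_iff_isRoot.2 (by simp [IsRoot]))
  obtain ⟨X, hX, hXr, hXc⟩ := exists_sp (d := d) p hG (by
      rw [hhm.natDegree_mul ((monic_X_sub_C 1).pow _), natDegree_pow, natDegree_X_sub_C, hhdeg, mul_one]; omega) (by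
      rw [mul_coeff_zero, hh0, one_mul, coeff_zero_eq_eval_zero, eval_pow, eval_sub, eval_X, eval_C, zero_sub]
      exact Even.neg_one_pow (even_two_mul _)) (by rw [rc_mul, rc_pow, rc_X_sub_one, hhrc])
  have hsep : (h.map φ).roots.Nodup := by
    refine Polynomial.nodup_roots (Polynomial.Separable.map (Polynomial.Separable.of_dvd ?_ hhd))
    rw [← Polynomial.C_1]
    exact separable_X_pow_sub_C 1 (cast_ne_zero' p hr hrp) one_ne_zero
  have hn1 : (1 : K) ∉ (h.map φ).roots := fun hm => hh1 (by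
    have := isRoot_of_mem_roots hm
    rwa [← map_one φ, IsRoot, eval_map, eval₂_at_apply, map_eq_zero] at this)
  have hcard : (h.map φ).roots.card = 2 * j := by
    rw [← (IsAlgClosed.splits _).natDegree_eq_card_roots, natDegree_map, hhdeg]
  have hj0 : 0 < j := by
    have := hi ▸ orderOf_pos_iff.2 (isOfFinOrder_iff_pow_eq_one.2 ⟨r - 1, by have := hr.two_le; omega, ZMod.pow_card_sub_one_eq_one hqr⟩)
    rcases hij with ⟨-, h⟩ | h <;> omega
  have hXs : ∀ z : F, X ≠ z • 1 := by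
    intro z hz
    have hz2 := scalar_sq (by omega) hX hz
    have hz1 : z = 1 := by
      have hzr : z ^ r = 1 := by
        have := hXr
        rw [hz, _root_.smul_pow, one_pow] at this
        have e := congrFun (congrFun this (Sum.inl ⟨0, by omega⟩)) (Sum.inl ⟨0, by omega⟩)
        simpa using e
      obtain ⟨m, hm⟩ := hr.odd_of_ne_two hr2
      rwa [hm, pow_succ, pow_mul, pow_two, hz2, one_pow, one_mul] at hzr
    refine hh1 ?_
    have e := congrArg (fun f : F[X] => (f.map φ).roots) hXc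
    simp only [hz, hz1, one_smul, Matrix.charpoly_one, map_roots_split φ hhm] at e
    exfalso
    obtain ⟨θ, hθ⟩ := Multiset.card_pos_iff_exists_mem.1 (show 0 < (h.map φ).roots.card by omega)
    have hθ' : θ ∈ (h.map φ).roots + Multiset.replicate (2 * (d - j)) 1 := Multiset.mem_add.2 (Or.inl hθ)
    rw [← e, Polynomial.map_pow, Polynomial.map_sub, map_X, Polynomial.map_one, roots_pow] at hθ'
    rw [← Polynomial.C_1, roots_X_sub_C] at hθ'
    rw [Multiset.mem_singleton.1 (Multiset.mem_of_mem_nsmul hθ')] at hθ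
    exact hn1 hθ
  obtain ⟨α, β, hβ, hR, hsmall⟩ := hspec hrp X hX hXr hXs
  rw [hXc, map_roots_split φ hhm] at hR
  obtain ⟨hsa, hsb⟩ := hsmall hq1
  by_cases hcs : ∀ i i', α i = α i'
  · obtain ⟨θ, hθ⟩ := Multiset.card_pos_iff_exists_mem.1 (show 0 < (h.map φ).roots.card by omega)
    have hθ1 : θ ≠ 1 := fun e0 => hn1 (e0 ▸ hθ)
    have h1 := (LBTensorSpec.count_bound α β hβ θ).1 hcs
    rw [← hR, Multiset.count_add, Multiset.count_replicate, if_neg (Ne.symm hθ1), add_zero,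
      Multiset.count_eq_one_of_mem hsep hθ, Nat.dvd_one] at h1
    omega
  obtain ⟨h1, hβc⟩ := count_injective (by omega) α β hβ (one_ne_zero (α := K)) (fun w hw => by
    rw [← hR, Multiset.count_add, Multiset.count_replicate, if_neg (Ne.symm hw), add_zero]
    exact Multiset.nodup_iff_count_le_one.1 hsep w) hcs
  rw [← hR, Multiset.count_add, Multiset.count_replicate, if_pos rfl, Multiset.count_eq_zero.2 hn1, zero_add, le_min_iff] at h1
  have hia : ¬ a < i := fun hlt => hcs (hsa (hi ▸ hlt))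
  have hib : ¬ b < i := fun hlt => hβc (hsb (hi ▸ hlt))
  rcases hij with ⟨⟨m, hm⟩, rfl⟩ | hev
  · by_cases ha4 : a = 2
    · subst ha4; omega
    · have : 4 * b ≤ a * b := Nat.mul_le_mul_right b (by obtain ⟨k, hk⟩ := ha; omega)
      omega
  · omega

end finite

end Cfsg.Agent.LBSympTensor
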