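/-
Orbits of the commutant of a unipotent Jordan matrix on its invariant alternating forms, odd characteristic.
-/
import Cfsg.Agent.Lib.LinearBlock.GUUnipCentralizer
import Cfsg.Agent.Lib.SimForms.Odd
import Cfsg.Agent.Lib.SimForms.Alt

set_option autoImplicit false

namespace Cfsg.Agent.SympUnipOrbits

open Matrix
open Cfsg.Agent.S2581 Cfsg.Agent.GUUnipCentralizer

variable {F : Type*} [Field F]

/-- An invertible alternating matrix is the pull back of `J`. -/
theorem exists_pull {ι : Type} [Fintype ι] [DecidableEq ι] (h2 : (2 : F) ≠ 0) {A : Matrix ι ι F} (hA : Aᵀ = -A)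
    (hu : A.det ≠ 0) {m : ℕ} (hm : Fintype.card ι = 2 * m) :
    ∃ (P : Matrix (Fin m ⊕ Fin m) ι F) (Q : Matrix ι (Fin m ⊕ Fin m) F),
      P * Q = 1 ∧ Q * P = 1 ∧ Pᵀ * Matrix.J (Fin m) F * P = A := by
  have halt : SimForms.IsAltM A := by
    intro v
    have h : SimForms.bl A v v = -SimForms.bl A v v := by
      conv_lhs => rw [SimForms.bl, dotProduct_comm, ← Matrix.vecMul_transpose, hA, ← Matrix.dotProduct_mulVec]
      rw [Matrix.neg_mulVec, dotProduct_neg]
      rfl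
    rw [eq_neg_iff_add_eq_zero, ← two_mul] at h
    exact (mul_eq_zero.1 h).resolve_left h2
  obtain ⟨m', hm', P, Q, c, hPQ, hQP, hP⟩ :=
    SimForms.cong_alt ((Matrix.isUnit_iff_isUnit_det _).2 hu.isUnit) halt
  obtain rfl : m' = m := by omega
  let D : F → Matrix (Fin m' ⊕ Fin m') (Fin m' ⊕ Fin m') F := fun x => Matrix.fromBlocks (x • 1) 0 0 1
  have hD : ∀ x y, x * y = 1 → D x * D y = 1 := fun x y h => by
    simp [D, Matrix.fromBlocks_multiply, smul_smul, mul_comm, h]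
  have hDJ : (D c)ᵀ * Matrix.J (Fin m') F * D c = (c : F) • Matrix.J (Fin m') F := by
    simp [D, Matrix.J, Matrix.fromBlocks_transpose, Matrix.fromBlocks_multiply, Matrix.fromBlocks_smul]
  refine ⟨D c * Q, P * D ((c⁻¹ : Fˣ) : F), ?_, ?_, ?_⟩
  · rw [Matrix.mul_assoc, ← Matrix.mul_assoc Q, hQP, Matrix.one_mul, hD _ _ (Units.mul_inv c)]
  · rw [Matrix.mul_assoc, ← Matrix.mul_assoc (D _) (D c), hD _ _ (Units.inv_mul c), Matrix.one_mul, hPQ]
  · calc (D c * Q)ᵀ * Matrix.J (Fin m') F * (D c * Q)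
        = Qᵀ * ((D c)ᵀ * Matrix.J (Fin m') F * D c) * Q := by simp only [transpose_mul, Matrix.mul_assoc]
      _ = Qᵀ * (Pᵀ * A * P) * Q := by rw [hDJ, hP]
      _ = (P * Q)ᵀ * A * (P * Q) := by simp only [transpose_mul, Matrix.mul_assoc]
      _ = A := by rw [hPQ, transpose_one, Matrix.one_mul, Matrix.mul_one]

/-- The sign of the multiplicity form. -/
def sgn (F : Type*) [Field F] (j : ℕ) : F := if Even j then 1 else -1

theorem sgn_mul_sgn (j : ℕ) : sgn F j * sgn F j = 1 := by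
  unfold sgn; split_ifs <;> ring

theorem isSquare_mul_of_iff [Finite F] {a b : F} (ha : a ≠ 0) (h : IsSquare a ↔ IsSquare b) :
    IsSquare (a * b) := by
  classical
  haveI := Fintype.ofFinite F
  by_cases hb : b = 0
  · exact ⟨0, by rw [hb, mul_zero, mul_zero]⟩
  by_cases hs : IsSquare a
  · exact hs.mul (h.1 hs)
  · have hs' : ¬ IsSquare b := fun e => hs (h.2 e)
    rw [← quadraticChar_one_iff_isSquare (mul_ne_zero ha hb), map_mul,
      quadraticChar_neg_one_iff_not_isSquare.2 hs, quadraticChar_neg_one_iff_not_isSquare.2 hs']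
    norm_num

theorem isSquare_congr_det {ι : Type} [Fintype ι] [DecidableEq ι] {M P : Matrix ι ι F} (hP : P.det ≠ 0) :
    IsSquare (Pᵀ * M * P).det ↔ IsSquare M.det := by
  rw [det_mul, det_mul, det_transpose]
  constructor
  · rintro ⟨s, hs⟩
    refine ⟨s / P.det, ?_⟩
    field_simp
    linear_combination hs
  · rintro ⟨s, hs⟩
    exact ⟨P.det * s, by rw [hs]; ring⟩

variable [Fintype F] {t : ℕ} (d : Fin t → ℕ) (hd : ∀ k, 1 ≤ d k)

omit [Fintype F] in
theorem blk_inj {A B : Matrix (Fin t) (Fin t) F}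
    (h : A.submatrix (clsEquiv d) (clsEquiv d) = B.submatrix (clsEquiv d) (clsEquiv d)) : A = B := by
  ext k l
  obtain ⟨x, rfl⟩ := (clsEquiv d).surjective k
  obtain ⟨y, rfl⟩ := (clsEquiv d).surjective l
  exact congrFun (congrFun h x) y

/-- The even sizes which occur. -/
abbrev EvenSizes : Type := ↥((Finset.univ.image d).filter fun j => Even j)

/-- Their index. -/
def sizeIdx (j : EvenSizes d) : Fin (Finset.univ.sup d + 1) :=
  ⟨j.1, Nat.lt_succ_of_le (by
    obtain ⟨k, -, hk⟩ := Finset.mem_image.1 (Finset.mem_filter.1 j.2).1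
    rw [← hk]
    exact Finset.le_sup (Finset.mem_univ k))⟩

/-- The admissible forms. -/
def Valid (G : Matrix (Ix d) (Ix d) F) : Prop :=
  Gᵀ = -G ∧ G.det ≠ 0 ∧ (Cfsg.jordanTypeMatrix d F)ᵀ * G * Cfsg.jordanTypeMatrix d F = G

include hd in
theorem exists_invariant (h2 : (2 : F) ≠ 0)
    (hev : ∀ j, Odd j → Even (Finset.univ.filter (fun k : Fin t => d k = j)).card) :
    ∃ β : Matrix (Ix d) (Ix d) F → (EvenSizes d → Bool),
      (∀ G G', Valid d G → Valid d G' →
        ((∃ a : Matrix (Ix d) (Ix d) F, a * Cfsg.jordanTypeMatrix d F = Cfsg.jordanTypeMatrix d F * a ∧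
          aᵀ * G * a = G') ↔ β G = β G')) ∧
      ∀ c, ∃ G, Valid d G ∧ β G = c := by
  classical
  -- forms on the multiplicity spaces
  have hcls : ∀ i : Fin (Finset.univ.sup d + 1), Fintype.card (Cls d i) =
      (Finset.univ.filter (fun k : Fin t => d k = (i : ℕ))).card := fun i => Fintype.card_subtype _
  have hEc : ∀ i : Fin (Finset.univ.sup d + 1), ∃ E : Matrix (Cls d i) (Cls d i) F,
      Eᵀ = sgn F i • E ∧ E.det ≠ 0 := by
    intro i
    by_cases hi : Even (i : ℕ)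
    · exact ⟨1, by rw [sgn, if_pos hi, one_smul, transpose_one], by rw [det_one]; exact one_ne_zero⟩
    · obtain ⟨k, hk⟩ := hev i (Nat.not_even_iff_odd.1 hi)
      obtain ⟨e⟩ : Nonempty (Cls d i ≃ Fin k ⊕ Fin k) :=
        Fintype.card_eq.1 (by rw [hcls, hk, Fintype.card_sum, Fintype.card_fin])
      refine ⟨(Matrix.J (Fin k) F).submatrix e e, ?_, ?_⟩
      · rw [sgn, if_neg hi, neg_one_smul, transpose_submatrix, Matrix.J_transpose]
        rfl
      · rw [det_submatrix_equiv_self]; exact SimForms.det_J_ne k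
  choose Ec hEs hEd using hEc
  obtain ⟨S, hS⟩ : ∃ S : ℕ → ℕ → ℕ → F, S = fun j =>
      if Even j then LBJordanForms.altSingle (j / 2) else LBJordanForms.symSingle j := ⟨_, rfl⟩
  have hSp : ∀ j, LBJordanForms.Rel j j (S j) ∧ LBJordanForms.Tri j (S j) ∧
      ∀ a b, S j b a = -sgn F j * S j a b := by
    intro j
    rw [hS]
    by_cases hj : Even j
    · simp only [if_pos hj]
      obtain ⟨c, rfl⟩ := hj
      rw [show (c + c) / 2 = c by omega, ← two_mul]
      exact ⟨LBJordanForms.altSingle_rel c, LBJordanForms.altSingle_tri c, fun a b => by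
        rw [LBJordanForms.altSingle, LBJordanForms.altSingle, sgn, if_pos (even_two_mul c)]; ring⟩
    · simp only [if_neg hj]
      exact ⟨LBJordanForms.symSingle_rel j, LBJordanForms.symSingle_tri h2 (Nat.not_even_iff_odd.1 hj),
        fun a b => by rw [LBJordanForms.symSingle, LBJordanForms.symSingle, sgn, if_neg hj]; ring⟩
  obtain ⟨Eb, hEb⟩ : ∃ Eb : Matrix (Fin t) (Fin t) F, Eb = blkMat d ((diagEquiv d).symm Ec) := ⟨_, rfl⟩
  have hEb0 : ∀ k l, d k ≠ d l → Eb k l = 0 := fun k l h => by rw [hEb]; exact dif_neg h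
  have hEbsub : Eb.submatrix (clsEquiv d) (clsEquiv d) = Matrix.blockDiagonal' Ec := by
    rw [hEb, blkMat_eq, Equiv.apply_symm_apply]
  have hEbu : Eb.det ≠ 0 := by
    have : IsUnit Eb := by
      rw [hEb, isUnit_blk_iff, Equiv.apply_symm_apply]
      exact fun i => (Matrix.isUnit_iff_isUnit_det _).2 (hEd i).isUnit
    exact ((Matrix.isUnit_iff_isUnit_det _).1 this).ne_zero
  have hEbT : ∀ k l, d k = d l → Eb l k = sgn F (d k) * Eb k l := by
    intro k l h
    let i : Fin (Finset.univ.sup d + 1) := ⟨d k, Nat.lt_succ_of_le (Finset.le_sup (Finset.mem_univ k))⟩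
    have h1 : ∀ a b : Cls d i, Eb a.1 b.1 = Ec i a b := fun a b => by
      have := congrFun (congrFun hEbsub ⟨i, a⟩) ⟨i, b⟩
      rwa [Matrix.submatrix_apply, Matrix.blockDiagonal'_apply_eq] at this
    rw [h1 ⟨k, rfl⟩ ⟨l, h.symm⟩, h1 ⟨l, h.symm⟩ ⟨k, rfl⟩]
    exact congrFun (congrFun (hEs i) ⟨k, rfl⟩) ⟨l, h.symm⟩
  -- the reference form
  obtain ⟨G₀, hG₀⟩ : ∃ G₀ : Matrix (Ix d) (Ix d) F,
      G₀ = Matrix.of fun a b => Eb a.1 b.1 * S (d a.1) a.2 b.2 := ⟨_, rfl⟩
  have hG₀a : ∀ a b, G₀ a b = Eb a.1 b.1 * S (d a.1) a.2 b.2 := fun a b => by rw [hG₀]; rfl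
  have hG₀T : G₀ᵀ = -G₀ := by
    ext a b
    rw [transpose_apply, neg_apply, hG₀a, hG₀a]
    by_cases h : d a.1 = d b.1
    · rw [hEbT _ _ h, show S (d b.1) = S (d a.1) by rw [h], (hSp (d a.1)).2.2]
      linear_combination (-(Eb a.1 b.1 * S (d a.1) a.2 b.2)) * sgn_mul_sgn (F := F) (d a.1)
    · rw [hEb0 _ _ h, hEb0 _ _ (Ne.symm h)]; ring
  have hG₀i : (Cfsg.jordanTypeMatrix d F)ᵀ * G₀ * Cfsg.jordanTypeMatrix d F = G₀ := by
    rw [LBJordanForms.inv_iff]
    intro k l
    by_cases h : d k = d l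
    · have e : LBJordanForms.entry G₀ k l = fun i j => Eb k l * S (d k) i j := funext fun i => funext fun j => by
        rw [LBJordanForms.entry]
        split
        · rw [hG₀a]
        · rename_i hh
          rw [(hSp (d k)).1.1 i j (by omega), mul_zero]
      rw [e, ← h]
      exact (hSp (d k)).1.smul _
    · have e : LBJordanForms.entry G₀ k l = fun _ _ => 0 := funext fun i => funext fun j => by
        rw [LBJordanForms.entry]
        split
        · rw [hG₀a, hEb0 _ _ h, zero_mul]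
        · rfl
      rw [e]
      exact ⟨fun _ _ _ => rfl, fun _ _ _ _ => by simp⟩
  have hG₀d : G₀.det ≠ 0 := by
    intro h0
    obtain ⟨v, hv0, hv⟩ := Matrix.exists_mulVec_eq_zero_iff.2 h0
    let w : Fin t → ℕ → F := fun l j => if hj : j < d l then v ⟨l, ⟨j, hj⟩⟩ else 0
    refine hv0 (funext fun b => ?_)
    obtain ⟨l₀, j₀⟩ := b
    have hw := (hSp (d l₀)).2.1.inj (v := w l₀) (fun i hi => by
      let X : Fin t → F := fun l => if d l = d l₀ then ∑ j ∈ Finset.range (d l), S (d l) i j * w l j else 0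
      suffices hX : X = 0 by
        have := congrFun hX l₀
        simpa [X] using this
      refine Matrix.eq_zero_of_mulVec_eq_zero hEbu (funext fun k => ?_)
      rw [Matrix.mulVec, dotProduct, Pi.zero_apply]
      by_cases hk : d k = d l₀
      · have e := congrFun hv ⟨k, ⟨i, hk ▸ hi⟩⟩
        rw [Matrix.mulVec, dotProduct, Pi.zero_apply, Fintype.sum_sigma] at e
        rw [← e]
        refine Finset.sum_congr rfl fun l _ => ?_
        by_cases hl : d l = d l₀
        · simp only [X, if_pos hl, hG₀a, mul_assoc]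
          rw [← Finset.mul_sum, Finset.sum_range, hk, ← hl]
          refine congrArg _ (Finset.sum_congr rfl fun j _ => ?_)
          simp [w]
        · simp only [X, if_neg hl, mul_zero]
          exact (Finset.sum_eq_zero fun j _ => by
            rw [hG₀a, hEb0 _ _ (show d k ≠ d l from fun e => hl (e.symm.trans hk)), zero_mul, zero_mul]).symm
      · refine Finset.sum_eq_zero fun l _ => ?_
        by_cases hl : d l = d l₀
        · rw [hEb0 _ _ (fun e => hk (e.trans hl)), zero_mul]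
        · simp only [X, if_neg hl, mul_zero]) j₀ j₀.2
    simpa [w] using hw
  have hGu : IsUnit G₀.det := hG₀d.isUnit
  obtain ⟨T, hT⟩ : ∃ T, T = Cfsg.jordanTypeMatrix d F := ⟨_, rfl⟩
  rw [← hT] at hG₀i
  have hGiT : G₀⁻¹ᵀ = -G₀⁻¹ := by
    rw [Matrix.transpose_nonsing_inv, hG₀T]
    exact Matrix.inv_eq_left_inv (by rw [neg_mul_neg, Matrix.nonsing_inv_mul _ hGu])
  have hcommT : ∀ X : Matrix (Ix d) (Ix d) F, X * T = T * X ↔ X ∈ Comm F d := fun X => by
    rw [mem_comm, hT, S2581.jordanType_eq, mul_add, add_mul, mul_one, one_mul, add_right_inj]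
  have hTu : IsUnit (Tᵀ * G₀) := by
    rw [Matrix.isUnit_iff_isUnit_det]
    have := congrArg Matrix.det hG₀i
    rw [Matrix.det_mul] at this
    exact (isUnit_iff_ne_zero.2 fun e => hG₀d (by rw [← this, e, zero_mul]))
  have hmem : ∀ X ∈ Comm F d, G₀⁻¹ * Xᵀ * G₀ ∈ Comm F d := by
    intro X hX
    rw [← hcommT] at hX ⊢
    obtain ⟨Y, hY⟩ : ∃ Y, Y = G₀⁻¹ * Xᵀ * G₀ := ⟨_, rfl⟩
    have hGY : G₀ * Y = Xᵀ * G₀ := by
      rw [hY, ← mul_assoc, ← mul_assoc, Matrix.mul_nonsing_inv _ hGu, one_mul]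
    rw [← hY]
    refine hTu.mul_left_cancel ?_
    calc Tᵀ * G₀ * (Y * T) = Tᵀ * (G₀ * Y) * T := by simp only [mul_assoc]
      _ = (X * T)ᵀ * (G₀ * T) := by rw [hGY, transpose_mul]; simp only [mul_assoc]
      _ = Xᵀ * (Tᵀ * G₀ * T) := by rw [hX, transpose_mul]; simp only [mul_assoc]
      _ = G₀ * Y := by rw [hG₀i, hGY]
      _ = Tᵀ * G₀ * (T * Y) := by
          conv_lhs => rw [← hG₀i]
          simp only [mul_assoc]
  let st : Comm F d → Comm F d := fun X => ⟨G₀⁻¹ * X.1ᵀ * G₀, hmem X.1 X.2⟩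
  let stR : Quot' F d → Quot' F d := fun M i => (Ec i)⁻¹ * (M i)ᵀ * Ec i
  have st_add : ∀ a b, st (a + b) = st a + st b := fun a b => Subtype.ext (by
    show G₀⁻¹ * (a.1 + b.1)ᵀ * G₀ = G₀⁻¹ * a.1ᵀ * G₀ + G₀⁻¹ * b.1ᵀ * G₀
    rw [transpose_add, mul_add, add_mul])
  have st_mul : ∀ a b, st (a * b) = st b * st a := fun a b => Subtype.ext (by
    show G₀⁻¹ * (a.1 * b.1)ᵀ * G₀ = G₀⁻¹ * b.1ᵀ * G₀ * (G₀⁻¹ * a.1ᵀ * G₀)
    rw [show G₀⁻¹ * b.1ᵀ * G₀ * (G₀⁻¹ * a.1ᵀ * G₀) = G₀⁻¹ * b.1ᵀ * (G₀ * G₀⁻¹) * a.1ᵀ * G₀ by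
      simp only [mul_assoc], Matrix.mul_nonsing_inv _ hGu, mul_one, transpose_mul]
    simp only [mul_assoc])
  have st_inv : ∀ a, st (st a) = a := fun a => Subtype.ext (by
    show G₀⁻¹ * (G₀⁻¹ * a.1ᵀ * G₀)ᵀ * G₀ = a.1
    rw [transpose_mul, transpose_mul, transpose_transpose, hG₀T, hGiT,
      show G₀⁻¹ * (-G₀ * (a.1 * -G₀⁻¹)) * G₀ = (G₀⁻¹ * G₀) * a.1 * (G₀⁻¹ * G₀) by
        simp only [neg_mul, mul_neg, neg_neg, mul_assoc],
      Matrix.nonsing_inv_mul _ hGu, one_mul, mul_one])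
  have st_smul : ∀ (c : F) a, st (c • a) = RingHom.id F c • st a := fun c a => Subtype.ext (by
    show G₀⁻¹ * (c • a.1)ᵀ * G₀ = c • (G₀⁻¹ * a.1ᵀ * G₀)
    rw [transpose_smul, mul_smul_comm, smul_mul_assoc])
  have hscal : ∀ M : Quot' F d, st (scal d ((diagEquiv d).symm M)) = scal d ((diagEquiv d).symm (stR M)) := by
    intro M
    refine Subtype.ext ?_
    obtain ⟨g, hg⟩ : ∃ g, g = (diagEquiv d).symm M := ⟨_, rfl⟩
    obtain ⟨g', hg'⟩ : ∃ g', g' = (diagEquiv d).symm (stR M) := ⟨_, rfl⟩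
    rw [← hg, ← hg']
    have hblk : (blkMat d g)ᵀ * Eb = Eb * blkMat d g' := by
      refine blk_inj d ?_
      rw [← Matrix.submatrix_mul_equiv _ _ _ (clsEquiv d) _, ← Matrix.submatrix_mul_equiv _ _ _ (clsEquiv d) _,
        ← transpose_submatrix, blkMat_eq, blkMat_eq, hEbsub, hg, hg', Equiv.apply_symm_apply, Equiv.apply_symm_apply,
        Matrix.blockDiagonal'_transpose, ← Matrix.blockDiagonal'_mul, ← Matrix.blockDiagonal'_mul]
      congr 1
      funext i
      show (M i)ᵀ * Ec i = Ec i * ((Ec i)⁻¹ * (M i)ᵀ * Ec i)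
      rw [← mul_assoc, ← mul_assoc, Matrix.mul_nonsing_inv _ (hEd i).isUnit, one_mul]
    have key : (scal d g).1ᵀ * G₀ = G₀ * (scal d g').1 := by
      ext ⟨k, i⟩ ⟨l, j⟩
      rw [Matrix.mul_apply, Matrix.mul_apply, Fintype.sum_sigma, Fintype.sum_sigma]
      have hL : ∀ m : Fin t, ∑ a : Fin (d m), (scal d g).1ᵀ ⟨k, i⟩ ⟨m, a⟩ * G₀ ⟨m, a⟩ ⟨l, j⟩ =
          S (d k) i j * ((blkMat d g)ᵀ k m * Eb m l) := by
        intro m
        simp only [transpose_apply, scal_apply, hG₀a]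
        by_cases hm : d m = d k
        · rw [Finset.sum_eq_single (⟨i, hm.symm ▸ i.2⟩ : Fin (d m)) (fun b _ hb => by
            rw [if_neg (fun e => hb (Fin.ext e)), zero_mul]) (by simp), if_pos rfl,
            show S (d m) = S (d k) by rw [hm]]
          ring
        · rw [show blkMat d g m k = 0 from dif_neg hm]
          simp
      have hR : ∀ m : Fin t, ∑ a : Fin (d m), G₀ ⟨k, i⟩ ⟨m, a⟩ * (scal d g').1 ⟨m, a⟩ ⟨l, j⟩ =
          S (d k) i j * (Eb k m * blkMat d g' m l) := by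
        intro m
        simp only [scal_apply, hG₀a]
        by_cases hm : d m = d l
        · rw [Finset.sum_eq_single (⟨j, hm.symm ▸ j.2⟩ : Fin (d m)) (fun b _ hb => by
            rw [if_neg (fun e => hb (Fin.ext e)), mul_zero]) (by simp), if_pos rfl]
          ring
        · rw [show blkMat d g' m l = 0 from dif_neg hm]
          simp
      rw [Finset.sum_congr rfl fun m _ => hL m, Finset.sum_congr rfl fun m _ => hR m, ← Finset.mul_sum,
        ← Finset.mul_sum, ← Matrix.mul_apply, ← Matrix.mul_apply, hblk]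
    show G₀⁻¹ * (scal d g).1ᵀ * G₀ = (scal d g').1
    rw [mul_assoc, key, ← mul_assoc, Matrix.nonsing_inv_mul _ hGu, one_mul]
  have st0 : st 0 = 0 := by
    have := st_smul 0 0
    rwa [zero_smul, map_zero, zero_smul] at this
  have st1 : st 1 = 1 := by
    have h := st_mul (st 1) 1
    rw [mul_one, st_inv] at h
    rw [← mul_one (st 1)]
    exact h.symm
  have st_pow : ∀ (a : Comm F d) (n : ℕ), st (a ^ n) = st a ^ n := by
    intro a n
    induction n with
    | zero => rw [pow_zero, pow_zero, st1]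
    | succ n ih => rw [pow_succ, st_mul, ih, ← pow_succ']
  have hker : ∀ a, proj d hd a = 0 → proj d hd (st a) = 0 := by
    intro a ha
    funext i; ext k l
    obtain ⟨E, hE⟩ : ∃ E : Quot' F d, E = Pi.single i (Matrix.single l k (1 : F)) := ⟨_, rfl⟩
    obtain ⟨z, hz⟩ : ∃ z, proj d hd z = E := ⟨_, proj_scal d hd E⟩
    have h1 : IsNilpotent (st a * z) := by
      obtain ⟨m, hm⟩ := proj_nil d hd (st z * a) (by rw [map_mul, ha, mul_zero])
      refine ⟨m, ?_⟩
      rw [← st_inv z, ← st_mul, ← st_pow, hm, st0]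
    have h3 := (h1.map (proj d hd)).map (Pi.evalRingHom (fun i => Matrix (Cls d i) (Cls d i) F) i)
    rw [map_mul, hz, Pi.evalRingHom_apply, Pi.mul_apply, hE, Pi.single_eq_same] at h3
    have h4 := (Matrix.isNilpotent_trace_of_isNilpotent h3).eq_zero
    rw [Matrix.trace_mul_single] at h4
    simpa using h4
  have D : UnitaryNilIdeal.Data (RingHom.id F) st (proj d hd) :=
    ⟨st_add, st_mul, st_inv, st_smul, proj_nil d hd, hker⟩
  have hstR : ∀ a, proj d hd (st a) = stR (proj d hd a) := by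
    intro a
    obtain ⟨s, hs⟩ : ∃ s, s = scal d ((diagEquiv d).symm (proj d hd a)) := ⟨_, rfl⟩
    have e : st a = st s + st (a - s) := by rw [← st_add, add_sub_cancel]
    rw [e, map_add, hker (a - s) (by rw [map_sub, hs, proj_scal, sub_self]), add_zero, hs, hscal, proj_scal]
  have hunit : ∀ X : Comm F d, X.1.det ≠ 0 → IsUnit X := by
    intro X hX
    obtain ⟨u, hu⟩ := (Matrix.isUnit_iff_isUnit_det X.1).2 hX.isUnit
    have hc : (↑u⁻¹ : Matrix (Ix d) (Ix d) F) ∈ Comm F d := by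
      rw [← hcommT]
      have := (hcommT _).2 X.2
      rw [← hu] at this
      exact (show Commute (u : Matrix (Ix d) (Ix d) F) T from this).units_inv_left.eq
    exact ⟨⟨X, ⟨_, hc⟩, Subtype.ext (by show X.1 * _ = 1; rw [← hu, Units.mul_inv]),
      Subtype.ext (by show _ * X.1 = 1; rw [← hu, Units.inv_mul])⟩, rfl⟩
  have hdet : ∀ X Y : Comm F d, proj d hd X * proj d hd Y = 1 → X.1.det ≠ 0 := by
    intro X Y h h0
    have h1 := (proj_nil d hd (X * Y - 1) (by rw [map_sub, map_mul, h, map_one, sub_self])).isUnit_one_add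
    rw [add_sub_cancel] at h1
    have h2 : ((X * Y : Comm F d) : Matrix (Ix d) (Ix d) F).det ≠ 0 :=
      ((Matrix.isUnit_iff_isUnit_det _).1 (h1.map (Comm F d).val)).ne_zero
    rw [Subalgebra.coe_mul, Matrix.det_mul, h0, zero_mul] at h2
    exact h2 rfl
  -- the invariant
  obtain ⟨φ, hφ⟩ : ∃ φ : Matrix (Ix d) (Ix d) F → (i : Fin (Finset.univ.sup d + 1)) → Matrix (Cls d i) (Cls d i) F,
      φ = fun G i => Ec i * Matrix.of fun (k l : Cls d i) => (G₀⁻¹ * G) ⟨k.1, ⟨0, hd k.1⟩⟩ ⟨l.1, ⟨0, hd l.1⟩⟩ := ⟨_, rfl⟩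
  refine ⟨fun G j => decide (IsSquare (φ G (sizeIdx d j)).det), ?_, ?_⟩
  all_goals rw [show (Valid d : Matrix (Ix d) (Ix d) F → Prop) = fun G => Gᵀ = -G ∧ G.det ≠ 0 ∧ Tᵀ * G * T = G by
    rw [hT]; rfl]
  · rw [← hT]
    have hb : ∀ G, (Gᵀ = -G ∧ G.det ≠ 0 ∧ Tᵀ * G * T = G) → ∃ b : Comm F d, b.1 = G₀⁻¹ * G ∧ st b = b ∧
        IsUnit b ∧ φ G = fun i => Ec i * proj d hd b i := by
      rintro G ⟨hGT, hGd, hGi⟩
      obtain ⟨B, hB⟩ : ∃ B, B = G₀⁻¹ * G := ⟨_, rfl⟩
      have hGB : G₀ * B = G := by rw [hB, ← mul_assoc, Matrix.mul_nonsing_inv _ hGu, one_mul]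
      have hBm : B ∈ Comm F d := by
        rw [← hcommT]
        refine hTu.mul_left_cancel ?_
        calc Tᵀ * G₀ * (B * T) = Tᵀ * (G₀ * B) * T := by simp only [mul_assoc]
          _ = G₀ * B := by rw [hGB, hGi]
          _ = Tᵀ * G₀ * (T * B) := by
              conv_lhs => rw [← hG₀i]
              simp only [mul_assoc]
      have hBd : B.det ≠ 0 := fun e => hGd (by rw [← hGB, det_mul, e, mul_zero])
      refine ⟨⟨B, hBm⟩, hB, Subtype.ext ?_, hunit _ hBd, ?_⟩
      · show G₀⁻¹ * Bᵀ * G₀ = B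
        rw [hB, transpose_mul, hGT, hGiT, neg_mul_neg,
          show G₀⁻¹ * (G * G₀⁻¹) * G₀ = G₀⁻¹ * G * (G₀⁻¹ * G₀) by simp only [mul_assoc],
          Matrix.nonsing_inv_mul _ hGu, mul_one]
      · rw [hφ]
        funext i
        show Ec i * _ = _
        rw [← hB]
        rfl
    intro G G' hG hG'
    obtain ⟨b, hbv, hbs, hbu, hbφ⟩ := hb G hG
    obtain ⟨b', hb'v, hb's, hb'u, hb'φ⟩ := hb G' hG'
    have hMT : ∀ (c : Comm F d), st c = c → ∀ i,
        (Ec i * proj d hd c i)ᵀ = sgn F i • (Ec i * proj d hd c i) := by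
      intro c hc i
      have h := congrFun ((hstR c).symm.trans (congrArg (proj d hd) hc)) i
      rw [transpose_mul, hEs, mul_smul_comm]
      congr 1
      conv_rhs => rw [← h]
      show _ = Ec i * ((Ec i)⁻¹ * (proj d hd c i)ᵀ * Ec i)
      rw [← mul_assoc, ← mul_assoc, Matrix.mul_nonsing_inv _ (hEd i).isUnit, one_mul]
    have hMd : ∀ (c : Comm F d), IsUnit c → ∀ i, (Ec i * proj d hd c i).det ≠ 0 := by
      intro c hc i
      have h := (hc.map (proj d hd)).map (Pi.evalRingHom (fun i => Matrix (Cls d i) (Cls d i) F) i)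
      rw [det_mul]
      exact mul_ne_zero (hEd i) ((Matrix.isUnit_iff_isUnit_det _).1 h).ne_zero
    have hφ' : ∀ (a : Comm F d) i, Ec i * proj d hd (st a * b * a) i =
        (proj d hd a i)ᵀ * (Ec i * proj d hd b i) * proj d hd a i := by
      intro a i
      rw [map_mul, map_mul, hstR]
      show Ec i * ((Ec i)⁻¹ * (proj d hd a i)ᵀ * Ec i * proj d hd b i * proj d hd a i) = _
      rw [show Ec i * ((Ec i)⁻¹ * (proj d hd a i)ᵀ * Ec i * proj d hd b i * proj d hd a i) =
        (Ec i * (Ec i)⁻¹) * ((proj d hd a i)ᵀ * (Ec i * proj d hd b i) * proj d hd a i) by simp only [mul_assoc],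
        Matrix.mul_nonsing_inv _ (hEd i).isUnit, one_mul]
    constructor
    · rintro ⟨a, ha, haG⟩
      have had : a.det ≠ 0 := fun e => hG'.2.1 (by rw [← haG, det_mul, e, mul_zero])
      obtain ⟨A, hA⟩ : ∃ A : Comm F d, A.1 = a := ⟨⟨a, (hcommT a).1 ha⟩, rfl⟩
      have hb'e : b' = st A * b * A := by
        refine Subtype.ext ?_
        show b'.1 = G₀⁻¹ * A.1ᵀ * G₀ * b.1 * A.1
        rw [hb'v, ← haG, hbv, hA]
        simp only [mul_assoc]
        rw [← mul_assoc G₀ G₀⁻¹, Matrix.mul_nonsing_inv _ hGu, one_mul]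
      funext j
      show decide _ = decide _
      rw [decide_eq_decide, hbφ, hb'φ, hb'e]
      show _ ↔ IsSquare (Ec (sizeIdx d j) * proj d hd (st A * b * A) (sizeIdx d j)).det
      rw [hφ', isSquare_congr_det]
      have h := ((hunit A (by rw [hA]; exact had)).map (proj d hd)).map
        (Pi.evalRingHom (fun i => Matrix (Cls d i) (Cls d i) F) (sizeIdx d j))
      exact ((Matrix.isUnit_iff_isUnit_det _).1 h).ne_zero
    · intro hβ
      have hP : ∀ i, ∃ P R : Matrix (Cls d i) (Cls d i) F, P * R = 1 ∧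
          Pᵀ * (Ec i * proj d hd b i) * P = Ec i * proj d hd b' i := by
        intro i
        by_cases hi : Even (i : ℕ)
        · rcases isEmpty_or_nonempty (Cls d i) with hn | hn
          · exact ⟨1, 1, one_mul 1, Subsingleton.elim _ _⟩
          have hS' : ∀ c, st c = c → (Ec i * proj d hd c i)ᵀ = Ec i * proj d hd c i := fun c hc => by
            rw [hMT c hc i, sgn, if_pos hi, one_smul]
          obtain ⟨k⟩ := hn
          have hmemj : (i : ℕ) ∈ (Finset.univ.image d).filter fun j => Even j :=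
            Finset.mem_filter.2 ⟨Finset.mem_image.2 ⟨k.1, Finset.mem_univ _, k.2⟩, hi⟩
          have hsq := congrFun hβ ⟨i, hmemj⟩
          simp only [decide_eq_decide] at hsq
          rw [show sizeIdx d ⟨i, hmemj⟩ = i from rfl, hbφ, hb'φ] at hsq
          haveI : Nonempty (Cls d i) := ⟨k⟩
          obtain ⟨P, R, hPR, -, hP⟩ := SimForms.exists_congr_of_det h2 rfl
            ((Matrix.isUnit_iff_isUnit_det _).2 (hMd b hbu i).isUnit) (hS' b hbs)
            ((Matrix.isUnit_iff_isUnit_det _).2 (hMd b' hb'u i).isUnit) (hS' b' hb's)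
            (isSquare_mul_of_iff (hMd b hbu i) hsq)
          exact ⟨P, R, hPR, hP⟩
        · obtain ⟨k, hk⟩ := hev i (Nat.not_even_iff_odd.1 hi)
          have hA' : ∀ c, st c = c → (Ec i * proj d hd c i)ᵀ = -(Ec i * proj d hd c i) := fun c hc => by
            rw [hMT c hc i, sgn, if_neg hi, neg_one_smul]
          have hc' : Fintype.card (Cls d i) = 2 * k := by rw [hcls, hk, two_mul]
          obtain ⟨P, Q, hPQ, hQP, hP⟩ := exists_pull h2 (hA' b hbs) (hMd b hbu i) hc'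
          obtain ⟨P', Q', hPQ', hQP', hP'⟩ := exists_pull h2 (hA' b' hb's) (hMd b' hb'u i) hc'
          refine ⟨Q * P', Q' * P, ?_, ?_⟩
          · rw [Matrix.mul_assoc, ← Matrix.mul_assoc P', hPQ', Matrix.one_mul, hQP]
          · rw [← hP, ← hP']
            calc (Q * P')ᵀ * (Pᵀ * Matrix.J (Fin k) F * P) * (Q * P')
                = P'ᵀ * ((P * Q)ᵀ * Matrix.J (Fin k) F * (P * Q)) * P' := by
                  simp only [transpose_mul, Matrix.mul_assoc]
              _ = P'ᵀ * Matrix.J (Fin k) F * P' := by rw [hPQ, transpose_one, Matrix.one_mul, Matrix.mul_one]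
      choose P R hPR hPc using hP
      obtain ⟨a, ha⟩ : ∃ a, proj d hd a = P := ⟨_, proj_scal d hd P⟩
      have had : a.1.det ≠ 0 := by
        obtain ⟨c, hc⟩ : ∃ c, proj d hd c = R := ⟨_, proj_scal d hd R⟩
        exact hdet a c (by rw [ha, hc]; exact funext hPR)
      obtain ⟨v, hv⟩ : IsUnit (st a * b * a) :=
        (((hunit a had).map ({ toFun := fun x => MulOpposite.op (st x)
                               map_one' := by rw [st1]; rfl
                               map_mul' := fun x y => by rw [st_mul]; rfl } : Comm F d →* (Comm F d)ᵐᵒᵖ)).unop.mul hbu).mul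
          (hunit a had)
      have hvs : st v = v := by rw [hv, st_mul, st_mul, st_inv, hbs, mul_assoc]
      have hvπ : proj d hd b' = proj d hd (v : Comm F d) := by
        funext i
        refine (Matrix.isUnit_iff_isUnit_det (Ec i)).2 (hEd i).isUnit |>.mul_left_cancel ?_
        rw [hv, hφ', ha, hPc]
      let st₁ : Comm F d → Comm F d := fun x => ↑v⁻¹ * st x * v
      have hvi : st (↑v⁻¹ : Comm F d) = ↑v⁻¹ := D.unit_inv v hvs
      have D₁ : UnitaryNilIdeal.Data (RingHom.id F) st₁ (proj d hd) :=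
        ⟨fun x y => by show ↑v⁻¹ * st (x + y) * ↑v = _; rw [st_add, mul_add, add_mul],
          fun x y => by
            show ↑v⁻¹ * st (x * y) * ↑v = ↑v⁻¹ * st y * ↑v * (↑v⁻¹ * st x * ↑v)
            rw [st_mul, show (↑v⁻¹ : Comm F d) * st y * ↑v * (↑v⁻¹ * st x * ↑v) =
              ↑v⁻¹ * st y * ((v : Comm F d) * ↑v⁻¹) * st x * ↑v by simp only [mul_assoc], Units.mul_inv, mul_one]
            simp only [mul_assoc],
          fun x => by
            show ↑v⁻¹ * st (↑v⁻¹ * st x * ↑v) * ↑v = x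
            rw [st_mul, st_mul, st_inv, hvs, hvi, show (↑v⁻¹ : Comm F d) * (↑v * (x * ↑v⁻¹)) * ↑v =
              (↑v⁻¹ * ↑v) * x * (↑v⁻¹ * ↑v) by simp only [mul_assoc], Units.inv_mul, one_mul, mul_one],
          fun c x => by show ↑v⁻¹ * st (c • x) * ↑v = _; rw [st_smul, mul_smul_comm, smul_mul_assoc],
          proj_nil d hd,
          fun x hx => by rw [map_mul, map_mul, hker x hx, mul_zero, zero_mul]⟩
      obtain ⟨j, hj⟩ : ∃ j, j = (↑v⁻¹ : Comm F d) * (b' - v) := ⟨_, rfl⟩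
      have hjπ : proj d hd j = 0 := by rw [hj, map_mul, map_sub, hvπ, sub_self, mul_zero]
      have hjs : st₁ j = j := by
        show ↑v⁻¹ * st j * ↑v = j
        rw [hj, st_mul, hvi, D.sub, hb's, hvs, mul_assoc, mul_assoc, Units.inv_mul, mul_one]
      obtain ⟨N, hN⟩ := proj_nil d hd j hjπ
      obtain ⟨e, -, he⟩ := D₁.exists_root (μ := 1 / 2) (by simp only [RingHom.id_apply]; field_simp; ring)
        (fun _ => rfl) N j hjπ hjs (pow_eq_zero_of_le Nat.lt_two_pow_self.le hN)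
      have he' : st e * (v : Comm F d) * e = b' := by
        have := congrArg ((v : Comm F d) * ·) he
        simp only [st₁] at this
        rw [← mul_assoc, ← mul_assoc, ← mul_assoc, Units.mul_inv, one_mul, mul_add, mul_one, hj, ← mul_assoc,
          Units.mul_inv, one_mul, add_sub_cancel] at this
        exact this
      refine ⟨(a * e).1, (hcommT _).2 (a * e).2, ?_⟩
      have hfin : st (a * e) * b * (a * e) = b' := by
        rw [← he', hv, st_mul]; simp only [mul_assoc]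
      have := congrArg (fun z : Comm F d => G₀ * z.1) hfin
      simp only [Subalgebra.coe_mul] at this
      rw [hb'v, ← mul_assoc G₀ G₀⁻¹, Matrix.mul_nonsing_inv _ hGu, one_mul, hbv] at this
      rw [← this, Subalgebra.coe_mul]
      show _ = G₀ * (G₀⁻¹ * (a.1 * e.1)ᵀ * G₀ * (G₀⁻¹ * G) * (a.1 * e.1))
      rw [show G₀ * (G₀⁻¹ * (a.1 * e.1)ᵀ * G₀ * (G₀⁻¹ * G) * (a.1 * e.1)) =
        (G₀ * G₀⁻¹) * ((a.1 * e.1)ᵀ * ((G₀ * G₀⁻¹) * G) * (a.1 * e.1)) by simp only [mul_assoc],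
        Matrix.mul_nonsing_inv _ hGu, one_mul, one_mul]
  · intro c
    haveI : Fact (ringChar F ≠ 2) := ⟨fun h => h2 (by haveI := ringChar.of_eq h; exact CharTwo.two_eq_zero)⟩
    obtain ⟨α, hα⟩ := FiniteField.exists_nonsquare (F := F) (fun h => h2 (by
      haveI := ringChar.of_eq h; exact CharTwo.two_eq_zero))
    have hα0 : α ≠ 0 := fun h => hα (h ▸ IsSquare.zero)
    have hM : ∀ i : Fin (Finset.univ.sup d + 1), ∃ M : Matrix (Cls d i) (Cls d i) F,
        Mᵀ = sgn F i • M ∧ M.det ≠ 0 ∧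
        ∀ h : (i : ℕ) ∈ (Finset.univ.image d).filter (fun j => Even j), decide (IsSquare M.det) = c ⟨i, h⟩ := by
      intro i
      by_cases hi : (i : ℕ) ∈ (Finset.univ.image d).filter fun j => Even j
      · obtain ⟨hi1, hi2⟩ := Finset.mem_filter.1 hi
        obtain ⟨k, -, hk⟩ := Finset.mem_image.1 hi1
        obtain ⟨f, hf⟩ : ∃ f : Cls d i → F, f = Function.update (fun _ => (1 : F)) ⟨k, hk⟩
            (if c ⟨i, hi⟩ then 1 else α) := ⟨_, rfl⟩
        have hdetM : (Matrix.diagonal f).det = if c ⟨i, hi⟩ then 1 else α := by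
          rw [Matrix.det_diagonal, hf, Finset.prod_update_of_mem (Finset.mem_univ _)]
          simp
        refine ⟨Matrix.diagonal f, ?_, ?_, fun h => ?_⟩
        · rw [Matrix.diagonal_transpose, sgn, if_pos hi2, one_smul]
        · rw [hdetM]; split_ifs <;> [exact one_ne_zero; exact hα0]
        · rw [hdetM, show c ⟨i, h⟩ = c ⟨i, hi⟩ from rfl]
          cases c ⟨i, hi⟩ <;> simp [hα]
      · exact ⟨Ec i, hEs i, hEd i, fun h => absurd h hi⟩
    choose M hMs hMd hMc using hM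
    obtain ⟨r, hr⟩ : ∃ r : Quot' F d, r = fun i => (Ec i)⁻¹ * M i := ⟨_, rfl⟩
    have hrs : stR r = r := by
      funext i
      show (Ec i)⁻¹ * (r i)ᵀ * Ec i = r i
      have e1 : ((Ec i)⁻¹)ᵀ = sgn F i • (Ec i)⁻¹ := by
        rw [Matrix.transpose_nonsing_inv, hEs]
        exact Matrix.inv_eq_left_inv (by
          rw [smul_mul_smul_comm, sgn_mul_sgn, one_smul, Matrix.nonsing_inv_mul _ (hEd i).isUnit])
      rw [hr]
      show (Ec i)⁻¹ * ((Ec i)⁻¹ * M i)ᵀ * Ec i = (Ec i)⁻¹ * M i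
      rw [transpose_mul, hMs, e1, smul_mul_smul_comm, sgn_mul_sgn, one_smul, mul_assoc, mul_assoc,
        Matrix.nonsing_inv_mul _ (hEd i).isUnit, mul_one]
    obtain ⟨x, hx⟩ : ∃ x, x = (1 / 2 : F) • scal d ((diagEquiv d).symm r) := ⟨_, rfl⟩
    obtain ⟨b, hbdef⟩ : ∃ b, b = x + st x := ⟨_, rfl⟩
    have hbs : st b = b := by rw [hbdef, st_add, st_inv, add_comm]
    have hbπ : proj d hd b = r := by
      rw [hbdef, hx, st_smul, hscal, hrs, RingHom.id_apply, ← add_smul,
        show (1 / 2 : F) + 1 / 2 = 1 by field_simp; ring, one_smul, proj_scal]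
    have hbd : b.1.det ≠ 0 := by
      obtain ⟨y, hy⟩ : ∃ y, proj d hd y = fun i => (M i)⁻¹ * Ec i := ⟨_, proj_scal d hd _⟩
      refine hdet b y ?_
      rw [hbπ, hy, hr]
      funext i
      show (Ec i)⁻¹ * M i * ((M i)⁻¹ * Ec i) = 1
      rw [mul_assoc, ← mul_assoc (M i), Matrix.mul_nonsing_inv _ (hMd i).isUnit, one_mul,
        Matrix.nonsing_inv_mul _ (hEd i).isUnit]
    have hbs' : b.1ᵀ * G₀ = G₀ * b.1 := by
      have h := congrArg (fun z : Comm F d => G₀ * z.1) hbs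
      simp only [st, ← mul_assoc] at h
      rwa [Matrix.mul_nonsing_inv _ hGu, one_mul] at h
    refine ⟨G₀ * b.1, ⟨?_, ?_, ?_⟩, ?_⟩
    · rw [transpose_mul, hG₀T, mul_neg, hbs']
    · rw [det_mul]; exact mul_ne_zero hG₀d hbd
    · calc Tᵀ * (G₀ * b.1) * T = Tᵀ * G₀ * (b.1 * T) := by simp only [mul_assoc]
        _ = Tᵀ * G₀ * T * b.1 := by rw [(hcommT _).2 b.2]; simp only [mul_assoc]
        _ = G₀ * b.1 := by rw [hG₀i]
    · funext j
      obtain ⟨j, hj⟩ := j
      refine (?_ : _ = decide (IsSquare (M (sizeIdx d ⟨j, hj⟩)).det)).trans (hMc (sizeIdx d ⟨j, hj⟩) hj)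
      show decide _ = decide _
      rw [decide_eq_decide, hφ]
      show IsSquare (Ec (sizeIdx d ⟨j, hj⟩) * _).det ↔ _
      rw [← mul_assoc G₀⁻¹, Matrix.nonsing_inv_mul _ hGu, one_mul]
      show IsSquare (Ec (sizeIdx d ⟨j, hj⟩) * proj d hd b (sizeIdx d ⟨j, hj⟩)).det ↔ _
      rw [hbπ, hr]
      show IsSquare (Ec (sizeIdx d ⟨j, hj⟩) * ((Ec (sizeIdx d ⟨j, hj⟩))⁻¹ * M (sizeIdx d ⟨j, hj⟩))).det ↔ _
      rw [← mul_assoc, Matrix.mul_nonsing_inv _ (hEd _).isUnit, one_mul]

end Cfsg.Agent.SympUnipOrbits
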