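/-
Groups of order `16 |Z|` of symplectic type and exponent four are of class two.
-/
import Mathlib

set_option autoImplicit false
set_option linter.all false

namespace Cfsg.Agent.LBTwoStruct

open Subgroup
open scoped commutatorElement

variable {G : Type*} [Group G]

theorem char_of {H : Subgroup G} (h : ∀ ϕ : G ≃* G, ∀ x ∈ H, ϕ x ∈ H) : H.Characteristic :=
  Subgroup.characteristic_iff_map_le.2 fun ϕ => by
    rintro _ ⟨x, hx, rfl⟩
    exact h ϕ x hx

theorem two_roots [Finite G] (A : Subgroup G) [IsCyclic A] {ε : G} (hεA : ε ∈ A) (hε2 : ε * ε = 1) (hε1 : ε ≠ 1)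
    {x : G} (hx : x ∈ A) (hx2 : x * x = 1) : x = 1 ∨ x = ε := by
  classical
  haveI := Fintype.ofFinite A
  by_contra h
  push Not at h
  have hc := IsCyclic.card_pow_eq_one_le (α := A) (n := 2) (by norm_num)
  have hs : ({1, ⟨x, hx⟩, ⟨ε, hεA⟩} : Finset A) ⊆ Finset.univ.filter fun a : A => a ^ 2 = 1 := by
    intro a ha
    simp only [Finset.mem_insert, Finset.mem_singleton] at ha
    refine Finset.mem_filter.2 ⟨Finset.mem_univ _, Subtype.ext ?_⟩
    rcases ha with rfl | rfl | rfl <;> simp [pow_two, hx2, hε2]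
  have h3 : ({1, ⟨x, hx⟩, ⟨ε, hεA⟩} : Finset A).card = 3 := by
    rw [Finset.card_insert_of_notMem, Finset.card_pair]
    · simpa [Subtype.ext_iff] using h.2
    · simp [Subtype.ext_iff, eq_comm, h.1, hε1]
  exact absurd ((Finset.card_le_card hs).trans hc) (by omega)

theorem cyclic_card_le [Finite G] (A : Subgroup G) [IsCyclic A] (hexp : ∀ x : G, x ^ 4 = 1) : Nat.card A ≤ 4 := by
  obtain ⟨g, hg⟩ := IsCyclic.exists_generator (α := A)
  rw [← orderOf_eq_card_of_forall_mem_zpowers hg]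
  exact Nat.le_of_dvd (by norm_num) (orderOf_dvd_of_pow_eq_one (Subtype.ext (by simpa using hexp g.1)))

theorem class_two [Finite G] (hp : IsPGroup 2 G) (hexp : ∀ x : G, x ^ 4 = 1)
    (hchar : ∀ A : Subgroup G, A.Characteristic → IsMulCommutative A → IsCyclic A)
    (hcard : Nat.card G = 16 * Nat.card (center G))
    (hZ : Nat.card (center G) = 2 ∨ Nat.card (center G) = 4)
    {ε : G} (hε : ε ∈ center G) (hε2 : ε * ε = 1) (hε1 : ε ≠ 1) :
    ∀ x y : G, (x * y = y * x ∨ x * y = ε * (y * x)) ∧ x * x ∈ center G := by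
  classical
  haveI : Fact (Nat.Prime 2) := ⟨Nat.prime_two⟩
  haveI := IsPGroup.isNilpotent hp
  haveI hZc : IsCyclic (center G) := hchar _ inferInstance inferInstance
  obtain ⟨E, hE⟩ : ∃ E : G → Prop, ∀ x, E x ↔ x = 1 ∨ x = ε := ⟨_, fun x => Iff.rfl⟩
  have hEZ : ∀ x, E x → x ∈ center G := fun x hx => by
    rcases (hE x).1 hx with rfl | rfl
    · exact one_mem _
    · exact hε
  have hEmul : ∀ x y, E x → E y → E (x * y) := fun x y hx hy => by
    rw [hE] at *
    rcases hx with rfl | rfl <;> rcases hy with rfl | rfl <;> simp [hε2]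
  have hEinv : ∀ x, E x → E x⁻¹ := fun x hx => by
    rw [hE] at *
    rcases hx with rfl | rfl
    · simp
    · exact Or.inr (inv_eq_of_mul_eq_one_right hε2)
  have hEroot : ∀ x, x ∈ center G → x * x = 1 → E x := fun x hx h =>
    (hE x).2 (two_roots (center G) hε hε2 hε1 hx h)
  have hEphi : ∀ (ϕ : G ≃* G) x, E x → E (ϕ x) := fun ϕ x hx => by
    refine hEroot _ (Subgroup.mem_center_iff.2 fun g => by
      have := congrArg ϕ (Subgroup.mem_center_iff.1 (hEZ x hx) (ϕ.symm g))
      rwa [map_mul, map_mul, MulEquiv.apply_symm_apply] at this) ?_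
    rw [← map_mul]
    rcases (hE x).1 hx with rfl | rfl <;> simp [hε2]
  have hsq : ∀ {z u : G}, z ∈ center G → ∀ y, y * u * y⁻¹ = z * u → y * (u * u) * y⁻¹ = z * z * (u * u) := by
    intro z u hz y h
    calc y * (u * u) * y⁻¹ = (y * u * y⁻¹) * (y * u * y⁻¹) := by group
      _ = z * (u * z) * u := by rw [h]; simp only [mul_assoc]
      _ = z * z * (u * u) := by rw [Subgroup.mem_center_iff.1 hz u]; simp only [mul_assoc]
  -- elements with all commutators in `{1, ε}`
  let W : Subgroup G :=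
    { carrier := {u | ∀ y, E ⁅u, y⁆}
      mul_mem' := fun {a b} ha hb y => by
        have e : ⁅a * b, y⁆ = (a * ⁅b, y⁆ * a⁻¹) * ⁅a, y⁆ := by simp only [commutatorElement_def]; group
        rw [e, Subgroup.mem_center_iff.1 (hEZ _ (hb y)) a, mul_inv_cancel_right]
        exact hEmul _ _ (hb y) (ha y)
      one_mem' := fun y => by rw [commutatorElement_one_left]; exact (hE 1).2 (Or.inl rfl)
      inv_mem' := fun {a} ha y => by
        have e : ⁅a⁻¹, y⁆ = a⁻¹ * ⁅a, y⁆⁻¹ * a := by simp only [commutatorElement_def]; group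
        rw [e, mul_assoc, ← Subgroup.mem_center_iff.1 (inv_mem (hEZ _ (ha y))) a, inv_mul_cancel_left]
        exact hEinv _ (ha y) }
  have hWmem : ∀ u, u ∈ W ↔ ∀ y, E ⁅u, y⁆ := fun u => Iff.rfl
  have hWtop : (∀ u, u ∈ W) → ∀ x y : G, (x * y = y * x ∨ x * y = ε * (y * x)) ∧ x * x ∈ center G := by
    intro h x y
    refine ⟨?_, Subgroup.mem_center_iff.2 fun g => ?_⟩
    · rcases (hE _).1 (h x y) with e | e
      · exact Or.inl (commutatorElement_eq_one_iff_mul_comm.1 e)
      · refine Or.inr ?_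
        rw [← e, commutatorElement_def]; group
    · have hc : g * x * g⁻¹ = ⁅g, x⁆ * x := by simp only [commutatorElement_def]; group
      have := hsq (hEZ _ (h g x)) g hc
      rw [show ⁅g, x⁆ * ⁅g, x⁆ = 1 by
        rcases (hE _).1 (h g x) with e | e <;> rw [e]
        · simp
        · exact hε2, one_mul, mul_inv_eq_iff_eq_mul] at this
      exact this
  have hZW : center G ≤ W := fun z hz y => by
    rw [show ⁅z, y⁆ = 1 from commutatorElement_eq_one_iff_mul_comm.2 (Subgroup.mem_center_iff.1 hz y).symm]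
    exact (hE 1).2 (Or.inl rfl)
  -- if the centre of `W` is central then `W` is everything
  have caseA : (∀ a ∈ W, (∀ w ∈ W, a * w = w * a) → a ∈ center G) → ∀ u, u ∈ W := by
    intro hA
    haveI hWn : W.Normal := ⟨fun u hu g y => by
      have e : ⁅g * u * g⁻¹, y⁆ = g * ⁅u, g⁻¹ * y * g⁆ * g⁻¹ := by simp only [commutatorElement_def]; group
      rw [e, Subgroup.mem_center_iff.1 (hEZ _ (hu _)) g, mul_inv_cancel_right]
      exact hu _⟩
    let C := Subgroup.centralizer (W : Set G)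
    have hCn : ∀ u ∈ C, ∀ g : G, g * u * g⁻¹ ∈ C := fun u hu g => Subgroup.mem_centralizer_iff.2 fun w hw => by
      have := Subgroup.mem_centralizer_iff.1 hu (g⁻¹ * w * g⁻¹⁻¹) (hWn.conj_mem w hw g⁻¹)
      calc w * (g * u * g⁻¹) = g * ((g⁻¹ * w * g⁻¹⁻¹) * u) * g⁻¹ := by group
        _ = _ := by rw [this]; group
    have hCZ : ∀ u ∈ C, u ∈ center G := by
      by_contra hne
      push Not at hne
      obtain ⟨n, hn⟩ := Subgroup.nilpotent_iff_lowerCentralSeries.1 (inferInstance : Group.IsNilpotent G)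
      have hex : ∃ k, ∀ u ∈ C, u ∈ (⊤ : Subgroup G).lowerCentralSeries k → u ∈ center G :=
        ⟨n, fun u _ hu => by rw [hn, Subgroup.mem_bot] at hu; rw [hu]; exact one_mem _⟩
      obtain ⟨k, hk⟩ : ∃ k, Nat.find hex = k + 1 := by
        refine ⟨_, (Nat.succ_pred_eq_of_ne_zero fun h0 => ?_).symm⟩
        obtain ⟨u, hu, huZ⟩ := hne
        have := Nat.find_spec hex u hu
        rw [h0, Subgroup.lowerCentralSeries_zero] at this
        exact huZ (this (Subgroup.mem_top u))
      have hmin := Nat.find_min hex (show k < Nat.find hex by omega)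
      push Not at hmin
      obtain ⟨u, hu, huk, huZ⟩ := hmin
      have hcom : ∀ y, ⁅u, y⁆ ∈ center G := fun y => by
        refine Nat.find_spec hex _ ?_ ?_
        · rw [commutatorElement_def, show u * y * u⁻¹ * y⁻¹ = u * (y * u⁻¹ * y⁻¹) by group]
          exact mul_mem hu (hCn _ (inv_mem hu) y)
        · rw [hk, Subgroup.lowerCentralSeries_succ]
          exact Subgroup.commutator_mem_commutator huk (Subgroup.mem_top y)
      have hsq' : ∀ (v : G), (∀ y, ⁅v, y⁆ ∈ center G) → ∀ y, ⁅v * v, y⁆ = ⁅v, y⁆ * ⁅v, y⁆ := fun v hv y => by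
        have e : ⁅v * v, y⁆ = (v * ⁅v, y⁆ * v⁻¹) * ⁅v, y⁆ := by simp only [commutatorElement_def]; group
        rw [e, Subgroup.mem_center_iff.1 (hv y) v, mul_inv_cancel_right]
      obtain ⟨v, hv, hvZ, hvv, hvc⟩ : ∃ v ∈ C, v ∉ center G ∧ v * v ∈ center G ∧ ∀ y, ⁅v, y⁆ ∈ center G := by
        by_cases h : u * u ∈ center G
        · exact ⟨u, hu, huZ, h, hcom⟩
        · refine ⟨u * u, mul_mem hu hu, h, ?_, fun y => by rw [hsq' u hcom]; exact mul_mem (hcom y) (hcom y)⟩
          rw [show u * u * (u * u) = u ^ 4 by simp [pow_succ, mul_assoc], hexp]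
          exact one_mem _
      have hvW : v ∈ W := fun y => by
        refine hEroot _ (hvc y) ?_
        rw [← hsq' v hvc, commutatorElement_eq_one_iff_mul_comm, Subgroup.mem_center_iff.1 hvv y]
      exact hvZ (hA v hvW fun w hw => (Subgroup.mem_centralizer_iff.1 hv w hw).symm)
    -- the characters of `W` modulo the centre
    let N : Subgroup W := (center G).subgroupOf W
    haveI : Finite (W ⧸ N) := inferInstance
    haveI := Fintype.ofFinite (W ⧸ N)
    let χ : G → (W →* ℚ) := fun g =>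
      { toFun := fun w => if ⁅(w : G), g⁆ = 1 then 1 else -1
        map_one' := by simp
        map_mul' := fun a b => by
          have e : ⁅((a * b : W) : G), g⁆ = ⁅(a : G), g⁆ * ⁅(b : G), g⁆ := by
            have e1 : ⁅((a * b : W) : G), g⁆ = ((a : G) * ⁅(b : G), g⁆ * (a : G)⁻¹) * ⁅(a : G), g⁆ := by
              simp only [commutatorElement_def, Subgroup.coe_mul]; group
            rw [e1, Subgroup.mem_center_iff.1 (hEZ _ (b.2 g)) (a : G), mul_inv_cancel_right,
              ← Subgroup.mem_center_iff.1 (hEZ _ (b.2 g))]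
          show (if ⁅((a * b : W) : G), g⁆ = 1 then (1 : ℚ) else -1) = _
          rw [e]
          rcases (hE _).1 (a.2 g) with ea | ea <;> rcases (hE _).1 (b.2 g) with eb | eb <;> simp [ea, eb, hε1, hε2] }
    have hχN : ∀ g, N ≤ (χ g).ker := fun g z hz => by
      rw [MonoidHom.mem_ker]
      show (if ⁅(z : G), g⁆ = 1 then (1 : ℚ) else -1) = 1
      exact if_pos (commutatorElement_eq_one_iff_mul_comm.2 (Subgroup.mem_center_iff.1 hz g).symm)
    let ψ : G → (W ⧸ N →* ℚ) := fun g => QuotientGroup.lift N (χ g) (hχN g)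
    obtain ⟨S, hS⟩ : ∃ S : Set (W ⧸ N →* ℚ), S = Set.range ψ := ⟨_, rfl⟩
    have hSf : S.Finite := hS ▸ Set.finite_range ψ
    haveI := hSf.fintype
    have hSc : Fintype.card S ≤ Fintype.card (W ⧸ N) := by
      refine (LinearIndependent.fintype_card_le_finrank (R := ℚ)
        ((linearIndependent_monoidHom (W ⧸ N) ℚ).comp (fun s : S => s.1) Subtype.val_injective)).trans (le_of_eq ?_)
      simp
    have hinj : ∀ a b : W, ψ (a : G) = ψ (b : G) → (QuotientGroup.mk a : W ⧸ N) = QuotientGroup.mk b := by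
      intro a b h
      rw [QuotientGroup.eq, Subgroup.mem_subgroupOf]
      refine hA _ (a⁻¹ * b).2 fun w hw => ?_
      have e := congrArg (fun f : W ⧸ N →* ℚ => f (QuotientGroup.mk ⟨w, hw⟩)) h
      simp only [ψ, QuotientGroup.lift_mk] at e
      change (if ⁅w, (a : G)⁆ = 1 then (1 : ℚ) else -1) = (if ⁅w, (b : G)⁆ = 1 then (1 : ℚ) else -1) at e
      have e' : ⁅w, (a : G)⁆ = ⁅w, (b : G)⁆ := by
        rcases (hE _).1 (hw (a : G)) with ea | ea <;> rcases (hE _).1 (hw (b : G)) with eb | eb <;>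
          rw [ea, eb] <;> simp [ea, eb, hε1] at e <;> norm_num at e
      have e1 : (a : G) * w⁻¹ * (a : G)⁻¹ = (b : G) * w⁻¹ * (b : G)⁻¹ := by
        simp only [commutatorElement_def] at e'
        calc (a : G) * w⁻¹ * (a : G)⁻¹ = w⁻¹ * (w * a * w⁻¹ * (a : G)⁻¹) := by group
          _ = _ := by rw [e']; group
      have e2 : (((a⁻¹ * b : W) : G)) * w⁻¹ = w⁻¹ * ((a⁻¹ * b : W) : G) := by
        push_cast
        calc (a : G)⁻¹ * b * w⁻¹ = (a : G)⁻¹ * ((b : G) * w⁻¹ * (b : G)⁻¹) * b := by group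
          _ = _ := by rw [← e1]; group
      calc ((a⁻¹ * b : W) : G) * w = w * (w⁻¹ * ((a⁻¹ * b : W) : G)) * w := by group
        _ = _ := by rw [← e2]; group
    intro g
    obtain ⟨Φ, hΦ⟩ : ∃ Φ : W ⧸ N → S, ∀ q, (Φ q).1 = ψ (q.out : G) :=
      ⟨fun q => ⟨ψ (q.out : G), hS ▸ ⟨_, rfl⟩⟩, fun q => rfl⟩
    have hΦi : Function.Injective Φ := fun q q' h => by
      have := hinj q.out q'.out (((hΦ q).symm.trans (congrArg Subtype.val h)).trans (hΦ q'))
      rwa [QuotientGroup.out_eq', QuotientGroup.out_eq'] at this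
    have hΦb : Function.Bijective Φ := (Fintype.bijective_iff_injective_and_card _).2
      ⟨hΦi, le_antisymm (Fintype.card_le_of_injective Φ hΦi) hSc⟩
    obtain ⟨q, hq⟩ := hΦb.2 ⟨ψ g, hS ▸ ⟨_, rfl⟩⟩
    have hgw : g * ((q.out : W) : G)⁻¹ ∈ C := by
      rw [Subgroup.mem_centralizer_iff]
      intro w hw
      have e := congrArg (fun f : W ⧸ N →* ℚ => f (QuotientGroup.mk ⟨w, hw⟩)) ((hΦ q).symm.trans (congrArg Subtype.val hq))
      simp only [ψ, QuotientGroup.lift_mk] at e
      change (if ⁅w, ((q.out : W) : G)⁆ = 1 then (1 : ℚ) else -1) = (if ⁅w, g⁆ = 1 then (1 : ℚ) else -1) at e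
      have e' : ⁅w, ((q.out : W) : G)⁆ = ⁅w, g⁆ := by
        rcases (hE _).1 (hw ((q.out : W) : G)) with ea | ea <;> rcases (hE _).1 (hw g) with eb | eb <;>
          rw [ea, eb] <;> simp [ea, eb, hε1] at e <;> norm_num at e
      obtain ⟨b, hb⟩ : ∃ b, b = ((q.out : W) : G) := ⟨_, rfl⟩
      rw [← hb] at e' ⊢
      simp only [commutatorElement_def] at e'
      have e1 : b * w⁻¹ * b⁻¹ = g * w⁻¹ * g⁻¹ := by
        calc b * w⁻¹ * b⁻¹ = w⁻¹ * (w * b * w⁻¹ * b⁻¹) := by group
          _ = _ := by rw [e']; group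
      have hbw : ⁅w, b⁆ ∈ center G := hEZ _ (hw b)
      have e2 : g * b⁻¹ * w * (g * b⁻¹)⁻¹ = w := by
        have e3 : b * w * b⁻¹ = g * w * g⁻¹ := by
          calc b * w * b⁻¹ = (b * w⁻¹ * b⁻¹)⁻¹ := by group
            _ = _ := by rw [e1]; group
        have hm : ⁅b⁻¹, w⁆ = ⁅w, b⁆ := by
          have e5 : ⁅b⁻¹, w⁆ = b⁻¹ * ⁅w, b⁆ * b := by simp only [commutatorElement_def]; group
          rw [e5, mul_assoc, ← Subgroup.mem_center_iff.1 hbw b, inv_mul_cancel_left]
        calc g * b⁻¹ * w * (g * b⁻¹)⁻¹ = g * (⁅b⁻¹, w⁆ * w) * g⁻¹ := by simp only [commutatorElement_def]; group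
          _ = (g * ⁅w, b⁆ * g⁻¹) * (g * w * g⁻¹) := by rw [hm]; group
          _ = ⁅w, b⁆ * (b * w * b⁻¹) := by rw [Subgroup.mem_center_iff.1 hbw g, mul_inv_cancel_right, e3]
          _ = w := by simp only [commutatorElement_def]; group
      exact (mul_inv_eq_iff_eq_mul.1 e2).symm
    have := mul_mem (hZW (hCZ _ hgw)) (q.out : W).2
    rwa [inv_mul_cancel_right] at this
  refine hWtop ?_
  by_cases hA : ∀ a ∈ W, (∀ w ∈ W, a * w = w * a) → a ∈ center G
  · exact caseA hA
  exfalso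
  -- the centre `A` of `W`
  let A : Subgroup G := W ⊓ Subgroup.centralizer (W : Set G)
  haveI hAchar : A.Characteristic := by
    have hW : ∀ (ϕ : G ≃* G), ∀ u ∈ W, ϕ u ∈ W := fun ϕ u hu y => by
      have := hEphi ϕ _ (hu (ϕ.symm y))
      rwa [map_commutatorElement, MulEquiv.apply_symm_apply] at this
    refine char_of fun ϕ x hx => ⟨hW ϕ x hx.1, Subgroup.mem_centralizer_iff.2 fun w hw => ?_⟩
    have := congrArg ϕ (Subgroup.mem_centralizer_iff.1 hx.2 (ϕ.symm w) (hW ϕ.symm w hw))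
    rwa [map_mul, map_mul, MulEquiv.apply_symm_apply] at this
  haveI hAc : IsCyclic A := hchar A inferInstance
    ⟨⟨fun a b => Subtype.ext (Subgroup.mem_centralizer_iff.1 b.2.2 a.1 a.2.1)⟩⟩
  have hZA : center G ≤ A := fun z hz =>
    ⟨hZW hz, Subgroup.mem_centralizer_iff.2 fun w _ => Subgroup.mem_center_iff.1 hz w⟩
  have hA4 := cyclic_card_le A hexp
  have hAne : A ≠ center G := fun h => by
    push Not at hA
    obtain ⟨a, ha, hac, haz⟩ := hA
    exact haz (h ▸ (⟨ha, Subgroup.mem_centralizer_iff.2 fun w hw => (hac w hw).symm⟩ : a ∈ A))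
  have hlt : Nat.card (center G) < Nat.card A := by
    rcases lt_or_ge (Nat.card (center G)) (Nat.card A) with h | h
    · exact h
    · exact absurd (Subgroup.eq_of_le_of_card_ge hZA h).symm hAne
  obtain ⟨k, hk⟩ := Subgroup.card_dvd_of_le hZA
  have hZ2 : Nat.card (center G) = 2 := by
    rcases hZ with h | h
    · exact h
    · rw [h] at hlt; omega
  have hZE : ∀ z ∈ center G, E z := fun z hz => by
    refine hEroot z hz ?_
    have h := pow_card_eq_one' (G := center G) (x := ⟨z, hz⟩)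
    rw [hZ2, pow_two] at h
    exact congrArg Subtype.val h
  have hA4' : Nat.card A = 4 := by rw [hZ2] at hk hlt; omega
  have hG32 : Nat.card G = 32 := by rw [hcard, hZ2]
  obtain ⟨a, ha⟩ := IsCyclic.exists_generator (α := A)
  have hagen : ∀ x ∈ A, ∃ i : ℤ, x = (a : G) ^ i := fun x hx => by
    obtain ⟨i, hi⟩ := Subgroup.mem_zpowers_iff.1 (ha ⟨x, hx⟩)
    exact ⟨i, by rw [← SubgroupClass.coe_zpow, hi]⟩
  -- commutators centralise `A`
  have hcomA : ∀ x y : G, ∀ b ∈ A, ⁅x, y⁆ * b = b * ⁅x, y⁆ := by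
    intro x y b hb
    have hconj : ∀ g : G, g * b * g⁻¹ * b⁻¹ ∈ center G ∧ E (g * b * g⁻¹ * b⁻¹) := fun g => by
      have h := hb.1 g
      have e : g * b * g⁻¹ * b⁻¹ = ⁅b, g⁆⁻¹ := by simp only [commutatorElement_def]; group
      rw [e]
      exact ⟨inv_mem (hEZ _ h), hEinv _ h⟩
    obtain ⟨c, hc⟩ : ∃ c : G → G, ∀ g, g * b * g⁻¹ = c g * b := ⟨fun g => g * b * g⁻¹ * b⁻¹, fun g => by group⟩
    have hcz : ∀ g, c g ∈ center G ∧ E (c g) := fun g => by
      rw [show c g = g * b * g⁻¹ * b⁻¹ by rw [hc g]; group]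
      exact hconj g
    have hcmul : ∀ g h, (g * h) * b * (g * h)⁻¹ = c g * c h * b := fun g h => by
      calc (g * h) * b * (g * h)⁻¹ = g * (h * b * h⁻¹) * g⁻¹ := by group
        _ = (g * c h * g⁻¹) * (g * b * g⁻¹) := by rw [hc]; group
        _ = c h * (c g * b) := by rw [Subgroup.mem_center_iff.1 (hcz h).1 g, mul_inv_cancel_right, hc]
        _ = c g * c h * b := by rw [← mul_assoc, ← Subgroup.mem_center_iff.1 (hcz g).1 (c h)]
    have hcinv : ∀ g, c g⁻¹ = c g := fun g => by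
      have h := hcmul g g⁻¹
      rw [mul_inv_cancel, one_mul, inv_one, mul_one] at h
      have h' : c g * c g⁻¹ = 1 := mul_right_cancel (b := b) (by rw [← h, one_mul])
      rw [eq_inv_of_mul_eq_one_right h']
      rcases (hE _).1 (hcz g).2 with e | e <;> rw [e]
      · simp
      · exact inv_eq_of_mul_eq_one_right hε2
    have h1 : ⁅x, y⁆ * b * ⁅x, y⁆⁻¹ = b := by
      rw [show ⁅x, y⁆ = (x * y) * (x⁻¹ * y⁻¹) by simp only [commutatorElement_def]; group]
      have e1 := hcmul (x * y) (x⁻¹ * y⁻¹)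
      have e2 : c (x * y) = c x * c y := mul_right_cancel (b := b) (by rw [← hc, hcmul])
      have e3 : c (x⁻¹ * y⁻¹) = c x * c y := mul_right_cancel (b := b) (by rw [← hc, hcmul, hcinv, hcinv])
      rw [e1, e2, e3]
      have e4 : E (c x * c y) := hEmul _ _ (hcz x).2 (hcz y).2
      rcases (hE _).1 e4 with e | e <;> rw [e]
      · simp
      · rw [hε2, one_mul]
    exact mul_inv_eq_iff_eq_mul.1 h1
  haveI : A.Normal := inferInstance
  have hQc : Nat.card (G ⧸ A) = 8 := by
    have := Subgroup.card_eq_card_quotient_mul_card_subgroup A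
    rw [hG32, hA4'] at this
    omega
  haveI : Nontrivial (G ⧸ A) := Finite.one_lt_card_iff_nontrivial.1 (by omega)
  haveI := (hp.to_quotient A).center_nontrivial
  obtain ⟨u0, hu0⟩ := exists_prime_orderOf_dvd_card' 2 (G := center (G ⧸ A)) (by
    obtain ⟨j, hj⟩ := (hp.to_quotient A).to_subgroup (center (G ⧸ A)) |>.exists_card_eq
    rw [hj]
    refine dvd_pow_self 2 fun h => ?_
    rw [h, pow_zero] at hj
    have := Finite.one_lt_card (α := center (G ⧸ A))
    omega)
  obtain ⟨u, hu⟩ : ∃ u, u = (u0 : G ⧸ A) := ⟨_, rfl⟩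
  have huu : orderOf u = 2 := by rw [hu, Subgroup.orderOf_coe, hu0]
  let D := Subgroup.zpowers u
  haveI hDn : D.Normal := ⟨fun d hd g => by
    obtain ⟨i, rfl⟩ := Subgroup.mem_zpowers_iff.1 hd
    rw [Subgroup.mem_center_iff.1 (zpow_mem (hu ▸ u0.2) i) g, mul_inv_cancel_right]
    exact Subgroup.zpow_mem_zpowers u i⟩
  have hD4 : Nat.card ((G ⧸ A) ⧸ D) = 2 ^ 2 := by
    have := Subgroup.card_eq_card_quotient_mul_card_subgroup D
    rw [hQc, Nat.card_zpowers, huu] at this
    omega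
  have hcu : ∀ x y : G, (QuotientGroup.mk ⁅x, y⁆ : G ⧸ A) = 1 ∨ (QuotientGroup.mk ⁅x, y⁆ : G ⧸ A) = u := by
    intro x y
    have hab : ∀ p q : (G ⧸ A) ⧸ D, p * q = q * p := (IsPGroup.commGroupOfCardEqPrimeSq hD4).mul_comm
    have h1 : (QuotientGroup.mk' A) ⁅x, y⁆ ∈ D := by
      rw [← QuotientGroup.eq_one_iff]
      show (QuotientGroup.mk' D) ((QuotientGroup.mk' A) ⁅x, y⁆) = 1
      rw [map_commutatorElement, map_commutatorElement, commutatorElement_eq_one_iff_mul_comm]
      exact hab _ _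
    obtain ⟨i, hi⟩ := Subgroup.mem_zpowers_iff.1 h1
    have h2 := zpow_mod_orderOf u i
    rw [huu] at h2
    change u ^ i = (QuotientGroup.mk ⁅x, y⁆ : G ⧸ A) at hi
    rw [← hi, ← h2]
    rcases Int.emod_two_eq_zero_or_one i with e | e <;> simp [e]
  haveI hDab : IsMulCommutative (commutator G) := by
    rw [commutator_eq_closure]
    refine Subgroup.isMulCommutative_closure ?_
    rintro _ ⟨x, y, rfl⟩ _ ⟨x', y', rfl⟩
    have hAcomm : ∀ x y x' y' : G, (QuotientGroup.mk ⁅x, y⁆ : G ⧸ A) = 1 → ⁅x, y⁆ * ⁅x', y'⁆ = ⁅x', y'⁆ * ⁅x, y⁆ :=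
      fun x y x' y' h => (hcomA x' y' _ ((QuotientGroup.eq_one_iff _).1 h)).symm
    rcases hcu x y with h | h
    · exact hAcomm x y x' y' h
    rcases hcu x' y' with h' | h'
    · exact (hAcomm x' y' x y h').symm
    obtain ⟨α, hα, e⟩ : ∃ α ∈ A, ⁅x', y'⁆ = ⁅x, y⁆ * α :=
      ⟨⁅x, y⁆⁻¹ * ⁅x', y'⁆, QuotientGroup.eq.1 (h.trans h'.symm), by group⟩
    rw [e, mul_assoc, ← hcomA x y α hα]
  haveI : IsCyclic (commutator G) := hchar _ inferInstance hDab
  obtain ⟨t0, ht0⟩ := IsCyclic.exists_generator (α := commutator G)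
  obtain ⟨t, ht⟩ : ∃ t, t = (t0 : G) := ⟨_, rfl⟩
  have htgen : ∀ x y : G, ∃ i : ℤ, ⁅x, y⁆ = t ^ i := fun x y => by
    obtain ⟨i, hi⟩ := Subgroup.mem_zpowers_iff.1 (ht0 ⟨⁅x, y⁆, Subgroup.commutator_mem_commutator (Subgroup.mem_top x) (Subgroup.mem_top y)⟩)
    exact ⟨i, by rw [ht, ← SubgroupClass.coe_zpow, hi]⟩
  have hfinal : (∀ x y : G, ⁅x, y⁆ ∈ center G) → False := fun h => hAne (by
    refine le_antisymm (fun b hb => Subgroup.mem_center_iff.2 fun g => ?_) hZA
    exact Subgroup.mem_centralizer_iff.1 hb.2 g (fun y => hZE _ (h g y)))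
  by_cases htc : t ∈ center G
  · exact hfinal fun x y => by obtain ⟨i, hi⟩ := htgen x y; rw [hi]; exact zpow_mem htc i
  have htn : ∀ y, ∃ i : ℤ, y * t * y⁻¹ = t ^ i := fun y => by
    have : y * t * y⁻¹ ∈ commutator G := Subgroup.Normal.conj_mem inferInstance t (ht ▸ t0.2) y
    obtain ⟨i, hi⟩ := Subgroup.mem_zpowers_iff.1 (ht0 ⟨_, this⟩)
    exact ⟨i, by rw [show t ^ i = ((t0 ^ i : commutator G) : G) by rw [ht, SubgroupClass.coe_zpow], hi]⟩
  have ht4 : t ^ 4 = 1 := hexp t
  have ht2 : t * t ≠ 1 := fun h => htc (Subgroup.mem_center_iff.2 fun y => by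
    obtain ⟨i, hi⟩ := htn y
    rcases Int.emod_two_eq_zero_or_one i with e | e
    · exfalso
      have : t ^ i = 1 := by
        rw [show i = 2 * (i / 2) by omega, zpow_mul, zpow_two, h, one_zpow]
      rw [this, mul_inv_eq_one] at hi
      exact htc (by rw [show t = 1 from mul_eq_left.1 hi]; exact one_mem _)
    · have : t ^ i = t := by
        rw [show i = 2 * (i / 2) + 1 by omega, zpow_add, zpow_mul, zpow_two, h, one_zpow, one_mul, zpow_one]
      rw [this] at hi
      exact mul_inv_eq_iff_eq_mul.1 hi)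
  have hconj : ∀ y, y * t * y⁻¹ = t ∨ y * t * y⁻¹ = t * t * t := fun y => by
    obtain ⟨i, hi⟩ := htn y
    rw [hi]
    have hi4 : t ^ i = t ^ (i % 4) := by
      conv_lhs => rw [← Int.emod_add_mul_ediv i 4]
      rw [zpow_add, zpow_mul, show t ^ (4 : ℤ) = 1 by exact_mod_cast ht4, one_zpow, mul_one]
    have hodd : i % 2 = 1 := by
      rcases Int.emod_two_eq_zero_or_one i with e | e
      · exfalso
        apply ht2
        have h2 : (y * t * y⁻¹) ^ 2 = 1 := by
          rw [hi, ← zpow_natCast, ← zpow_mul, show i * ((2 : ℕ) : ℤ) = 4 * (i / 2) by push_cast; omega, zpow_mul,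
            show t ^ (4 : ℤ) = 1 by exact_mod_cast ht4, one_zpow]
        rw [conj_pow, mul_inv_eq_one, mul_eq_left, pow_two] at h2
        exact h2
      · exact e
    rcases (show i % 4 = 1 ∨ i % 4 = 3 by omega) with e | e <;> rw [hi4, e]
    · exact Or.inl (zpow_one t)
    · exact Or.inr (by rw [show (3 : ℤ) = ((3 : ℕ) : ℤ) from rfl, zpow_natCast]; simp [pow_succ])
  have htZ : t * t ∈ center G := Subgroup.mem_center_iff.2 fun y => by
    refine mul_inv_eq_iff_eq_mul.1 ?_
    calc y * (t * t) * y⁻¹ = (y * t * y⁻¹) * (y * t * y⁻¹) := by group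
      _ = t * t := by
        rcases hconj y with e | e <;> rw [e]
        calc t * t * t * (t * t * t) = t ^ 4 * (t * t) := by simp [pow_succ, mul_assoc]
          _ = t * t := by rw [ht4, one_mul]
  have htε : t * t = ε := ((hE _).1 (hZE _ htZ)).resolve_left ht2
  obtain ⟨C, hC⟩ : ∃ C : Subgroup G, C = Subgroup.centralizer (commutator G : Set G) := ⟨_, rfl⟩
  have hCmem : ∀ c, c ∈ C ↔ c * t = t * c := fun c => by
    rw [hC, Subgroup.mem_centralizer_iff]
    refine ⟨fun h => (h t (ht ▸ t0.2)).symm, fun h x hx => ?_⟩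
    obtain ⟨i, hi⟩ := Subgroup.mem_zpowers_iff.1 (ht0 ⟨x, hx⟩)
    have : x = t ^ i := by rw [ht, ← SubgroupClass.coe_zpow, hi]
    rw [this]
    exact ((show Commute c t from h).zpow_right i).symm.eq
  haveI : C.Characteristic := char_of fun ϕ c hc => by
    rw [hC, Subgroup.mem_centralizer_iff] at hc ⊢
    intro x hx
    have hx' : ϕ.symm x ∈ commutator G :=
      (Subgroup.characteristic_iff_map_le.1 (inferInstance : (commutator G).Characteristic) ϕ.symm) ⟨x, hx, rfl⟩
    have := congrArg ϕ (hc _ hx')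
    rwa [map_mul, map_mul, MulEquiv.apply_symm_apply] at this
  have htC : t ∈ C := (hCmem t).2 rfl
  obtain ⟨y0, hy0⟩ : ∃ y, y * t ≠ t * y := by
    by_contra h
    push Not at h
    exact htc (Subgroup.mem_center_iff.2 h)
  have hC16 : Nat.card C = 16 := by
    have hi : C.index = 2 := by
      refine Subgroup.index_eq_two_iff.2 ⟨y0, fun b => ?_⟩
      rw [hCmem, hCmem]
      have ha : y0 * t * y0⁻¹ = t * t * t :=
        (hconj y0).resolve_left fun h => hy0 (mul_inv_eq_iff_eq_mul.1 h)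
      have e : b * y0 * t = (b * (t * t * t) * b⁻¹) * (b * y0) := by rw [← ha]; group
      by_cases hb : b * t = t * b
      · refine Or.inr ⟨hb, fun h => hy0 ?_⟩
        apply mul_left_cancel (a := b)
        rw [← mul_assoc, h, ← mul_assoc, ← hb, mul_assoc]
      · refine Or.inl ⟨?_, hb⟩
        have hb' : b * t * b⁻¹ = t * t * t := (hconj b).resolve_left fun h => hb (mul_inv_eq_iff_eq_mul.1 h)
        rw [e, show b * (t * t * t) * b⁻¹ = (b * t * b⁻¹) * (b * t * b⁻¹) * (b * t * b⁻¹) by group, hb']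
        congr 1
        calc t * t * t * (t * t * t) * (t * t * t) = t ^ 4 * t ^ 4 * t := by simp [pow_succ, mul_assoc]
          _ = t := by rw [ht4, one_mul, one_mul]
    have := C.card_mul_index
    rw [hi, hG32] at this
    omega
  have hCna : ¬ IsMulCommutative C := fun h => by
    haveI : IsCyclic C := hchar C inferInstance h
    have := cyclic_card_le C hexp
    omega
  have ht4o : orderOf t = 4 :=
    orderOf_eq_prime_pow (p := 2) (n := 1) (by simpa [pow_two] using ht2) (by exact ht4)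
  -- squares in `C` are `1` or `ε`
  have hCsq : ∀ c ∈ C, c * c = 1 ∨ c * c = ε := by
    intro c hc
    by_cases hcc : c * c ∈ Subgroup.zpowers t
    · obtain ⟨i, hi⟩ := Subgroup.mem_zpowers_iff.1 hcc
      rw [← htε]
      have hi4 : t ^ i = t ^ (i % 4) := by
        conv_lhs => rw [← Int.emod_add_mul_ediv i 4]
        rw [zpow_add, zpow_mul, show t ^ (4 : ℤ) = 1 by exact_mod_cast ht4, one_zpow, mul_one]
      have h4 : (c * c) * (c * c) = 1 := by rw [← hexp c]; simp [pow_succ, mul_assoc]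
      rw [← hi, hi4] at h4 ⊢
      rcases (show i % 4 = 0 ∨ i % 4 = 1 ∨ i % 4 = 2 ∨ i % 4 = 3 by omega) with e | e | e | e <;> rw [e] at h4 ⊢
      · exact Or.inl (zpow_zero t)
      · rw [zpow_one] at h4; exact absurd h4 ht2
      · exact Or.inr (zpow_two t)
      · exfalso
        apply ht2
        rw [show (3 : ℤ) = ((3 : ℕ) : ℤ) from rfl, zpow_natCast] at h4
        calc t * t = t ^ 2 := (pow_two t).symm
          _ = t ^ 3 * t ^ 3 * (t ^ 4)⁻¹ := by group
          _ = 1 := by rw [h4, ht4]; group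
    exfalso
    apply hCna
    have hct : Commute t c := ((hCmem c).1 hc).symm
    let f : Fin 4 × Fin 4 → C := fun ij => ⟨t ^ (ij.1 : ℕ) * c ^ (ij.2 : ℕ), mul_mem (pow_mem htC _) (pow_mem hc _)⟩
    have hfi : Function.Injective f := by
      rintro ⟨i, j⟩ ⟨k, l⟩ h
      have h' : t ^ (i : ℕ) * c ^ (j : ℕ) = t ^ (k : ℕ) * c ^ (l : ℕ) := congrArg Subtype.val h
      have h1 : c ^ ((j : ℤ) - l) = t ^ ((k : ℤ) - i) := by
        rw [zpow_sub, zpow_sub, zpow_natCast, zpow_natCast, zpow_natCast, zpow_natCast,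
          ((Commute.refl t).pow_pow (k : ℕ) (i : ℕ)).inv_right.eq]
        calc c ^ (j : ℕ) * (c ^ (l : ℕ))⁻¹ = (t ^ (i : ℕ))⁻¹ * (t ^ (i : ℕ) * c ^ (j : ℕ)) * (c ^ (l : ℕ))⁻¹ := by group
          _ = _ := by rw [h']; group
      have hjl : j = l := by
        by_contra hne
        have hd : ((j : ℤ) - l) % 4 ≠ 0 := by
          have := j.isLt; have := l.isLt
          have : (j : ℕ) ≠ l := fun e => hne (Fin.ext e)
          omega
        apply hcc
        have hm : c ^ ((j : ℤ) - l) ∈ Subgroup.zpowers t := h1 ▸ Subgroup.zpow_mem_zpowers t _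
        obtain ⟨d, hd'⟩ : ∃ d, d = (j : ℤ) - l := ⟨_, rfl⟩
        rw [← hd'] at hm hd
        have hc4 : c ^ (4 : ℤ) = 1 := by exact_mod_cast hexp c
        have hm' : c ^ (d % 4) ∈ Subgroup.zpowers t := by
          rwa [← Int.emod_add_mul_ediv d 4, zpow_add, zpow_mul, hc4, one_zpow, mul_one] at hm
        rcases (show d % 4 = 1 ∨ d % 4 = 2 ∨ d % 4 = 3 by omega) with e | e | e <;> rw [e] at hm'
        · rw [zpow_one] at hm'; exact mul_mem hm' hm'
        · rwa [zpow_two] at hm'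
        · have := inv_mem hm'
          rw [show (c ^ (3 : ℤ))⁻¹ = c by rw [← zpow_neg, show (-3 : ℤ) = 1 + 4 * (-1) from rfl, zpow_add, zpow_mul, hc4, one_zpow, mul_one, zpow_one]] at this
          exact mul_mem this this
      subst hjl
      rw [mul_left_inj, pow_inj_mod, ht4o, Nat.mod_eq_of_lt i.isLt, Nat.mod_eq_of_lt k.isLt] at h'
      rw [Fin.ext h']
    haveI := Fintype.ofFinite C
    have hfb : Function.Bijective f := (Fintype.bijective_iff_injective_and_card _).2
      ⟨hfi, by rw [Fintype.card_prod, Fintype.card_fin, ← Nat.card_eq_fintype_card, hC16]⟩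
    refine ⟨⟨fun p q => ?_⟩⟩
    obtain ⟨⟨i, j⟩, rfl⟩ := hfb.2 p
    obtain ⟨⟨k, l⟩, rfl⟩ := hfb.2 q
    refine Subtype.ext ?_
    show t ^ (i : ℕ) * c ^ (j : ℕ) * (t ^ (k : ℕ) * c ^ (l : ℕ)) = t ^ (k : ℕ) * c ^ (l : ℕ) * (t ^ (i : ℕ) * c ^ (j : ℕ))
    rw [(hct.pow_pow _ _).symm.mul_mul_mul_comm, (hct.pow_pow _ _).symm.mul_mul_mul_comm, ← pow_add, ← pow_add, ← pow_add,
      ← pow_add, add_comm (i : ℕ), add_comm (j : ℕ)]
  have hCcen : ∀ c ∈ C, c * c ∈ center G := fun c hc => by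
    rcases hCsq c hc with e | e <;> rw [e]
    exacts [one_mem _, hε]
  -- commutators with an element of `C` are central
  have hcc : ∀ (y : G), ∀ c ∈ C, ⁅y, (c : G)⁆ ∈ center G := by
    intro y c hc
    obtain ⟨i, hi⟩ := htgen y c
    have hti : t ^ i * c = c * t ^ i := ((show Commute c t from (hCmem c).1 hc).zpow_right i).symm.eq
    have e : y * c * y⁻¹ = t ^ i * c := by rw [← hi]; simp only [commutatorElement_def]; group
    have h1 : (t ^ i * c) * (t ^ i * c) = c * c := by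
      calc (t ^ i * c) * (t ^ i * c) = (y * c * y⁻¹) * (y * c * y⁻¹) := by rw [e]
        _ = y * (c * c) * y⁻¹ := by group
        _ = c * c := by rw [Subgroup.mem_center_iff.1 (hCcen c hc) y, mul_inv_cancel_right]
    have h2 : t ^ i * t ^ i = 1 := by
      have : t ^ i * t ^ i * (c * c) = c * c := by
        calc t ^ i * t ^ i * (c * c) = t ^ i * (t ^ i * c) * c := by simp only [mul_assoc]
          _ = (t ^ i * c) * (t ^ i * c) := by
            conv_lhs => rw [hti]
            simp only [mul_assoc]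
          _ = c * c := h1
      exact mul_eq_right.1 this
    rw [hi]
    rcases Int.emod_two_eq_zero_or_one i with e' | e'
    · rw [show i = 2 * (i / 2) by omega, zpow_mul, zpow_two]
      exact zpow_mem htZ _
    · exfalso
      apply ht2
      rw [← zpow_add] at h2
      calc t * t = t ^ (i + i) * ((t ^ (4 : ℤ)) ^ (i / 2))⁻¹ := by
            rw [← zpow_mul, ← zpow_neg, ← zpow_add, show i + i + -(4 * (i / 2)) = 2 by omega, zpow_two]
        _ = 1 := by rw [h2, show t ^ (4 : ℤ) = 1 by exact_mod_cast ht4]; simp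
  refine hfinal fun x y => ?_
  by_cases hx : x ∈ C
  · rw [← commutatorElement_inv]; exact inv_mem (hcc y x hx)
  by_cases hy : y ∈ C
  · exact hcc x y hy
  have hyx : x⁻¹ * y ∈ C := by
    rw [hCmem]
    have hx' := (hconj x).resolve_left fun h => hx ((hCmem x).2 (mul_inv_eq_iff_eq_mul.1 h))
    have hy' := (hconj y).resolve_left fun h => hy ((hCmem y).2 (mul_inv_eq_iff_eq_mul.1 h))
    calc x⁻¹ * y * t = x⁻¹ * (y * t * y⁻¹) * y := by group
      _ = x⁻¹ * (x * t * x⁻¹) * y := by rw [hy', hx']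
      _ = _ := by group
  rw [show ⁅x, y⁆ = x * ⁅x, x⁻¹ * y⁆ * x⁻¹ by simp only [commutatorElement_def]; group,
    Subgroup.mem_center_iff.1 (hcc x _ hyx) x, mul_inv_cancel_right]
  exact hcc x _ hyx

end Cfsg.Agent.LBTwoStruct
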