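/-
Two-groups of symplectic type in dimension four and elements of their normalisers.
-/
import Cfsg.Agent.Lib.LinearBlock.SymplTwoStruct
import Cfsg.Prelude.Def_GeometricClasses

set_option autoImplicit false
set_option linter.all false

namespace Cfsg.Agent.LBTwoFour

open Matrix Subgroup

variable {ι : Type} [Fintype ι] [DecidableEq ι] {F : Type*} [Field F]

structure Hyp (R : Subgroup (GL ι F)) : Prop where
  two : (2 : F) ≠ 0
  card : Fintype.card ι = 4
  comm : ∀ x ∈ R, ∀ y ∈ R, y.1 * x.1 = x.1 * y.1 ∨ y.1 * x.1 = -(x.1 * y.1)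
  sq : ∀ x ∈ R, x.1 * x.1 = 1 ∨ x.1 * x.1 = -1
  cent : ∀ M : Matrix ι ι F, (∀ x ∈ R, M * x.1 = x.1 * M) → ∃ c : F, M = c • 1
  neg : (-1 : GL ι F) ∈ R
  quot : Nat.card (↥R ⧸ center ↥R) = 16

theorem center_scalar {R : Subgroup (GL ι F)} (hc : ∀ M : Matrix ι ι F, (∀ x ∈ R, M * x.1 = x.1 * M) → ∃ c : F, M = c • 1)
    (x : R) : x ∈ center R ↔ ∃ c : F, (x.1).1 = c • (1 : Matrix ι ι F) := by
  refine ⟨fun hx => hc _ fun y hy => ?_, ?_⟩
  · exact (congrArg (fun z : R => (z.1).1) (Subgroup.mem_center_iff.1 hx ⟨y, hy⟩)).symm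
  · rintro ⟨c, hcx⟩
    refine Subgroup.mem_center_iff.2 fun y => Subtype.ext (Units.ext ?_)
    show (y.1).1 * (x.1).1 = (x.1).1 * (y.1).1
    rw [hcx, mul_smul_comm, smul_mul_assoc, mul_one, one_mul]

theorem hyp_of [Finite F] {p : ℕ} [Fact p.Prime] [CharP F p] (hodd : Odd p) (h4 : Fintype.card ι = 4)
    (R : Subgroup (GL ι F)) (hRs : Cfsg.Geo.IsSymplecticTypeGroup 2 R)
    (hRi : Cfsg.Geo.ActsAbsolutelyIrreducibly (Cfsg.Geo.matrixSet R))
    (hcard : Nat.card R = 16 * Nat.card (center R)) (hZ : Nat.card (center R) = 2 ∨ Nat.card (center R) = 4) :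
    Hyp R := by
  classical
  haveI : Nonempty ι := Fintype.card_pos_iff.1 (by omega)
  haveI : Fact (Nat.Prime 2) := ⟨Nat.prime_two⟩
  have h2 : (2 : F) ≠ 0 := by
    intro h
    have hd : p ∣ 2 := (CharP.cast_eq_zero_iff F p 2).1 (by exact_mod_cast h)
    have := (Nat.prime_dvd_prime_iff_eq Fact.out Nat.prime_two).1 hd
    subst this
    exact absurd hodd (by decide)
  have hc : ∀ M : Matrix ι ι F, (∀ x ∈ R, M * x.1 = x.1 * M) → ∃ c : F, M = c • 1 := fun M hM =>
    hRi.2 M (by rintro _ ⟨x, hx, rfl⟩; exact hM x hx)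
  have hexp : ∀ x : R, x ^ 4 = 1 := fun x => by
    have h := Monoid.pow_exponent_eq_one x
    rwa [hRs.exponent_eq] at h
  obtain ⟨ε, hε⟩ := exists_prime_orderOf_dvd_card' 2 (G := center R) (by rcases hZ with h | h <;> norm_num [h])
  have hε2' : ε * ε = 1 := by rw [← pow_two, ← hε, pow_orderOf_eq_one]
  have hε1' : ε ≠ 1 := fun h => by rw [h, orderOf_one] at hε; omega
  obtain ⟨c, hcε⟩ := (center_scalar hc ε.1).1 ε.2
  have hεneg : (ε : R).1 = (-1 : GL ι F) := by
    have hcc : c * c = 1 := by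
      have e := congrArg (fun z : center R => (z.1.1).1) hε2'
      simp only [Subgroup.coe_mul, Units.val_mul, hcε, smul_mul_assoc, one_mul, smul_smul, OneMemClass.coe_one, Units.val_one] at e
      obtain ⟨i⟩ := ‹Nonempty ι›
      simpa using congrFun (congrFun e i) i
    rcases mul_self_eq_one_iff.1 hcc with rfl | rfl
    · exact absurd (Subtype.ext (Subtype.ext (Units.ext (by rw [hcε, one_smul]; rfl)))) hε1'
    · exact Units.ext (by rw [hcε, neg_one_smul]; rfl)
  have hcl := LBTwoStruct.class_two hRs.pGroup hexp hRs.cyclic_of_characteristic hcard hZ ε.2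
    (congrArg Subtype.val hε2') (fun h => hε1' (Subtype.ext h))
  refine ⟨h2, h4, fun x hx y hy => ?_, fun x hx => ?_, hc, hεneg ▸ (ε : R).2, ?_⟩
  · rcases (hcl ⟨y, hy⟩ ⟨x, hx⟩).1 with e | e
    · exact Or.inl (congrArg (fun z : R => (z.1).1) e)
    · refine Or.inr ?_
      have e' := congrArg (fun z : R => z.1) e
      simp only [Subgroup.coe_mul, hεneg, neg_one_mul] at e'
      exact (congrArg Units.val e').trans (Units.val_neg _)
  · obtain ⟨d, hd⟩ := (center_scalar hc _).1 (hcl ⟨x, hx⟩ ⟨x, hx⟩).2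
    have hd' : x.1 * x.1 = d • 1 := hd
    have hdd : d * d = 1 := by
      have e : x.1 ^ 4 = 1 := congrArg (fun z : R => (z.1).1) (hexp ⟨x, hx⟩)
      rw [show (4 : ℕ) = 2 * 2 from rfl, pow_mul, pow_two, pow_two, hd', smul_mul_assoc, one_mul, smul_smul] at e
      obtain ⟨i⟩ := ‹Nonempty ι›
      simpa using congrFun (congrFun e i) i
    rcases mul_self_eq_one_iff.1 hdd with rfl | rfl
    · exact Or.inl (by rw [hd', one_smul])
    · exact Or.inr (by rw [hd', neg_one_smul])
  · have h := Subgroup.card_eq_card_quotient_mul_card_subgroup (center R)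
    rw [hcard] at h
    rcases hZ with e | e <;> rw [e] at h <;> omega

/-- Representatives. -/
noncomputable def rep {R : Subgroup (GL ι F)} (a : ↥R ⧸ center ↥R) : Matrix ι ι F := ((a.out : R) : GL ι F).1

/-- The sign of a commutation. -/
noncomputable def sgn (x y : GL ι F) : ℤ := by classical exact if x.1 * y.1 = y.1 * x.1 then 1 else -1

/-- The commutator form. -/
noncomputable def bf {R : Subgroup (GL ι F)} (a b : ↥R ⧸ center ↥R) : ℤ := sgn ((a.out : R) : GL ι F) ((b.out : R) : GL ι F)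

/-- The squaring form. -/
noncomputable def qf {R : Subgroup (GL ι F)} (a : ↥R ⧸ center ↥R) : ℤ := by
  classical exact if rep a * rep a = 1 then 1 else -1

variable {R : Subgroup (GL ι F)}

theorem sgn_pm (x y : GL ι F) : sgn x y = 1 ∨ sgn x y = -1 := by
  classical
  unfold sgn; split <;> simp

theorem bf_pm (a b : ↥R ⧸ center ↥R) : bf a b = 1 ∨ bf a b = -1 := sgn_pm _ _

theorem qf_pm (a : ↥R ⧸ center ↥R) : qf a = 1 ∨ qf a = -1 := by
  classical
  unfold qf; split <;> simp

theorem pm_cast (h2 : (2 : F) ≠ 0) {a b : ℤ} (ha : a = 1 ∨ a = -1) (hb : b = 1 ∨ b = -1) (h : (a : F) = (b : F)) : a = b := by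
  rcases ha with rfl | rfl <;> rcases hb with rfl | rfl <;> first | rfl | (exfalso; push_cast at h; apply h2)
  · linear_combination h
  · linear_combination -h

namespace Hyp

theorem nonempty (H : Hyp R) : Nonempty ι := Fintype.card_pos_iff.1 (by rw [H.card]; norm_num)

theorem ne_neg (H : Hyp R) (x : GL ι F) : x.1 ≠ -x.1 := by
  intro h
  have h' : (2 : F) • x.1 = 0 := by rw [two_smul]; exact eq_neg_iff_add_eq_zero.1 h
  haveI := H.nonempty
  exact (smul_eq_zero.1 h').elim H.two x.ne_zero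

theorem four_ne (H : Hyp R) : (4 : F) ≠ 0 := by
  rw [show (4 : F) = 2 * 2 by norm_num]; exact mul_ne_zero H.two H.two

theorem mul_sgn (H : Hyp R) {x y : GL ι F} (hx : x ∈ R) (hy : y ∈ R) : x.1 * y.1 = (sgn x y : F) • (y.1 * x.1) := by
  classical
  unfold sgn
  split
  · next h => simpa using h
  · next h =>
    rcases H.comm y hy x hx with e | e
    · exact absurd e h
    · simpa using e

theorem sgn_eq (H : Hyp R) {x y : GL ι F} (hx : x ∈ R) (hy : y ∈ R) {e : ℤ} (he : e = 1 ∨ e = -1)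
    (h : x.1 * y.1 = (e : F) • (y.1 * x.1)) : sgn x y = e := by
  haveI := H.nonempty
  refine pm_cast H.two (sgn_pm x y) he ?_
  have h' := (H.mul_sgn hx hy).symm.trans h
  obtain ⟨i, j, hij⟩ : ∃ i j, ((y * x : GL ι F) : Matrix ι ι F) i j ≠ 0 := by
    by_contra hc
    push Not at hc
    exact (y * x).ne_zero (Matrix.ext hc)
  have := congrFun (congrFun h' i) j
  simp only [← Units.val_mul, Matrix.smul_apply, smul_eq_mul] at this
  exact mul_right_cancel₀ hij this

theorem exists_rep (H : Hyp R) (x : R) : ∃ c : F, c ≠ 0 ∧ (x.1).1 = c • rep (QuotientGroup.mk x : ↥R ⧸ center ↥R) := by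
  haveI := H.nonempty
  obtain ⟨z, hz⟩ := QuotientGroup.mk_out_eq_mul (center R) x
  obtain ⟨c, hc⟩ := (center_scalar H.cent z.1).1 z.2
  have hc0 : c ≠ 0 := fun h => (z.1.1).ne_zero (by rw [hc, h, zero_smul])
  refine ⟨c⁻¹, inv_ne_zero hc0, ?_⟩
  rw [rep, hz, Subgroup.coe_mul, Units.val_mul, hc, mul_smul_comm, mul_one, smul_smul, inv_mul_cancel₀ hc0, one_smul]

theorem bf_mk (H : Hyp R) (x y : R) : bf (QuotientGroup.mk x : ↥R ⧸ center ↥R) (QuotientGroup.mk y) = sgn x.1 y.1 := by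
  classical
  obtain ⟨c, hc, hx⟩ := H.exists_rep x
  obtain ⟨d, hd, hy⟩ := H.exists_rep y
  unfold bf sgn
  refine if_congr ?_ rfl rfl
  show rep _ * rep _ = rep _ * rep _ ↔ _
  rw [hx, hy, smul_mul_smul_comm, smul_mul_smul_comm, mul_comm d c]
  exact ⟨fun h => by rw [h], fun h => smul_right_injective _ (mul_ne_zero hc hd) h⟩

theorem bf_symm (H : Hyp R) (a b : ↥R ⧸ center ↥R) : bf a b = bf b a := by
  classical
  unfold bf sgn
  exact if_congr ⟨Eq.symm, Eq.symm⟩ rfl rfl

theorem bf_self (H : Hyp R) (a : ↥R ⧸ center ↥R) : bf a a = 1 := by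
  classical
  unfold bf sgn; simp

theorem bf_mul (H : Hyp R) (a b c : ↥R ⧸ center ↥R) : bf (a * b) c = bf a c * bf b c := by
  induction a using QuotientGroup.induction_on with | H x =>
  induction b using QuotientGroup.induction_on with | H y =>
  induction c using QuotientGroup.induction_on with | H z =>
  rw [← QuotientGroup.mk_mul, H.bf_mk, H.bf_mk, H.bf_mk]
  refine H.sgn_eq (mul_mem x.2 y.2) z.2 ?_ ?_
  · rcases sgn_pm x.1 z.1 with e | e <;> rcases sgn_pm y.1 z.1 with e' | e' <;> simp [e, e']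
  · push_cast
    rw [mul_assoc, H.mul_sgn y.2 z.2, mul_smul_comm, ← mul_assoc (x.1).1, H.mul_sgn x.2 z.2, smul_mul_assoc,
      smul_smul, mul_assoc (z.1).1, mul_comm]

theorem bf_mul' (H : Hyp R) (a b c : ↥R ⧸ center ↥R) : bf a (b * c) = bf a b * bf a c := by
  rw [H.bf_symm a (b * c), H.bf_mul, H.bf_symm b, H.bf_symm c]

theorem bf_one (H : Hyp R) (a : ↥R ⧸ center ↥R) : bf 1 a = 1 := by
  have h := H.bf_mul 1 1 a
  rw [one_mul] at h
  rcases bf_pm (1 : ↥R ⧸ center ↥R) a with e | e <;> rw [e] at h ⊢ <;> norm_num at h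

theorem bf_nondeg (H : Hyp R) {a : ↥R ⧸ center ↥R} (ha : a ≠ 1) : ∃ b, bf a b = -1 := by
  induction a using QuotientGroup.induction_on with | H x =>
  by_contra h
  push Not at h
  apply ha
  rw [QuotientGroup.eq_one_iff, Subgroup.mem_center_iff]
  intro y
  have hb := (bf_pm (QuotientGroup.mk x : ↥R ⧸ center ↥R) (QuotientGroup.mk y)).resolve_right (h _)
  rw [H.bf_mk] at hb
  have e := H.mul_sgn x.2 y.2
  rw [hb] at e
  exact Subtype.ext (Units.ext (by simpa using e.symm))

theorem quot_comm (H : Hyp R) (a b : ↥R ⧸ center ↥R) : a * b = b * a := by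
  induction a using QuotientGroup.induction_on with | H x =>
  induction b using QuotientGroup.induction_on with | H y =>
  rw [← QuotientGroup.mk_mul, ← QuotientGroup.mk_mul, QuotientGroup.eq, center_scalar H.cent]
  have e := H.mul_sgn y.2 x.2
  refine ⟨(sgn y.1 x.1 : F), ?_⟩
  have e1 : ((y * x : R) : GL ι F).1 = (sgn y.1 x.1 : F) • ((x * y : R) : GL ι F).1 := by simpa using e
  rw [Subgroup.coe_mul, Units.val_mul, e1, mul_smul_comm, ← Units.val_mul, InvMemClass.coe_inv, inv_mul_cancel, Units.val_one]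

theorem quot_sq (H : Hyp R) (a : ↥R ⧸ center ↥R) : a * a = 1 := by
  induction a using QuotientGroup.induction_on with | H x =>
  rw [← QuotientGroup.mk_mul, QuotientGroup.eq_one_iff, center_scalar H.cent]
  rcases H.sq x.1 x.2 with e | e
  · exact ⟨1, by simpa using e⟩
  · exact ⟨-1, by simpa using e⟩

theorem quot_inv (H : Hyp R) (a : ↥R ⧸ center ↥R) : a⁻¹ = a := inv_eq_of_mul_eq_one_right (H.quot_sq a)

variable [Fintype (↥R ⧸ center ↥R)]

theorem card_quot (H : Hyp R) : Fintype.card (↥R ⧸ center ↥R) = 16 := by rw [← Nat.card_eq_fintype_card, H.quot]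

theorem sum_bf (H : Hyp R) {a : ↥R ⧸ center ↥R} (ha : a ≠ 1) : ∑ b, bf b a = 0 := by
  obtain ⟨c, hc⟩ := H.bf_nondeg ha
  have h : ∑ b, bf b a = - ∑ b, bf b a := by
    conv_lhs => rw [← Equiv.sum_comp (Equiv.mulLeft c) fun b => bf b a]
    rw [← Finset.sum_neg_distrib]
    refine Finset.sum_congr rfl fun b _ => ?_
    show bf (c * b) a = _
    rw [H.bf_mul, H.bf_symm c a, hc, neg_one_mul]
  omega

theorem card_perp (H : Hyp R) {a : ↥R ⧸ center ↥R} (ha : a ≠ 1) : Nat.card {b : ↥R ⧸ center ↥R // bf b a = 1} = 8 := by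
  classical
  have h := H.sum_bf ha
  rw [← Finset.sum_filter_add_sum_filter_not Finset.univ (fun b => bf b a = 1)] at h
  rw [Finset.sum_congr rfl (fun b hb => (Finset.mem_filter.1 hb).2),
    Finset.sum_congr rfl (fun b hb => (bf_pm b a).resolve_left (Finset.mem_filter.1 hb).2)] at h
  have h16 := Finset.card_filter_add_card_filter_not (s := (Finset.univ : Finset (↥R ⧸ center ↥R))) (fun b => bf b a = 1)
  rw [Finset.card_univ, H.card_quot] at h16
  simp only [Finset.sum_const, nsmul_eq_mul, mul_one] at h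
  rw [Nat.card_eq_fintype_card, Fintype.card_subtype]
  push_cast at h
  omega

theorem trace_anti (H : Hyp R) (M : Matrix ι ι F) (y : GL ι F) (h : y.1 * M = -(M * y.1)) : M.trace = 0 := by
  have e := Matrix.trace_units_conj y M
  rw [h, neg_mul, mul_assoc, Units.mul_inv, mul_one, Matrix.trace_neg] at e
  exact (mul_eq_zero.1 (show (2 : F) * M.trace = 0 by linear_combination -e)).resolve_left H.two

theorem trace_noncentral (H : Hyp R) (x : R) (hx : x ∉ center R) : (x.1).1.trace = 0 := by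
  have : ¬ ∀ y : R, y * x = x * y := fun h => hx (Subgroup.mem_center_iff.2 h)
  push Not at this
  obtain ⟨y, hy⟩ := this
  refine H.trace_anti _ y.1 ?_
  rcases H.comm x.1 x.2 y.1 y.2 with e | e
  · exact absurd (Subtype.ext (Units.ext e)) hy
  · exact e

theorem lin_indep (H : Hyp R) : LinearIndependent F (rep : ↥R ⧸ center ↥R → Matrix ι ι F) := by
  classical
  rw [Fintype.linearIndependent_iff]
  intro g hg b
  have e := congrArg (fun M : Matrix ι ι F => (M * (((b.out : R) : GL ι F)⁻¹ : GL ι F).1).trace) hg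
  simp only [zero_mul, Matrix.trace_zero, Finset.sum_mul, smul_mul_assoc, Matrix.trace_sum, Matrix.trace_smul] at e
  rw [Finset.sum_eq_single b] at e
  · rw [rep, Units.mul_inv, Matrix.trace_one, smul_eq_mul, H.card] at e
    exact (mul_eq_zero.1 e).resolve_right (by exact_mod_cast H.four_ne)
  · intro a _ hab
    have hn : (a.out : R) * (b.out : R)⁻¹ ∉ center R := fun hm => by
      rw [← QuotientGroup.eq_one_iff, QuotientGroup.mk_mul, QuotientGroup.mk_inv, QuotientGroup.out_eq', QuotientGroup.out_eq',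
        mul_inv_eq_one] at hm
      exact hab hm
    have := H.trace_noncentral _ hn
    rw [Subgroup.coe_mul, Units.val_mul, InvMemClass.coe_inv] at this
    rw [rep, this, smul_zero]
  · simp

/-- The representatives as a basis. -/
theorem exists_basis (H : Hyp R) : ∃ B : Module.Basis (↥R ⧸ center ↥R) F (Matrix ι ι F), ∀ a, B a = rep a := by
  haveI := H.nonempty
  refine ⟨basisOfLinearIndependentOfCardEqFinrank H.lin_indep ?_, fun a => ?_⟩
  · rw [H.card_quot, Module.finrank_matrix, Module.finrank_self, H.card]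
  · rw [coe_basisOfLinearIndependentOfCardEqFinrank]

theorem twirl (H : Hyp R) (X : Matrix ι ι F) :
    ∑ a : ↥R ⧸ center ↥R, rep a * X * (((a.out : R) : GL ι F)⁻¹ : GL ι F).1 = (4 * X.trace) • (1 : Matrix ι ι F) := by
  classical
  haveI := H.nonempty
  obtain ⟨Φ, hΦ⟩ : ∃ Φ : GL ι F → Matrix ι ι F, ∀ g, Φ g = g.1 * X * (g⁻¹ : GL ι F).1 := ⟨_, fun g => rfl⟩
  obtain ⟨S, hS⟩ : ∃ S, S = ∑ a : ↥R ⧸ center ↥R, Φ ((a.out : R) : GL ι F) := ⟨_, rfl⟩
  have hrep : ∀ x : R, Φ x.1 = Φ (((QuotientGroup.mk x : ↥R ⧸ center ↥R).out : R) : GL ι F) := by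
    intro x
    obtain ⟨z, hz⟩ := QuotientGroup.mk_out_eq_mul (center R) x
    obtain ⟨c, hc⟩ := (center_scalar H.cent z.1).1 z.2
    have hc0 : c ≠ 0 := fun h => (z.1.1).ne_zero (by rw [hc, h, zero_smul])
    have hzi : ((z.1.1)⁻¹ : GL ι F).1 = c⁻¹ • 1 := by
      rw [Matrix.coe_units_inv, hc]
      exact Matrix.inv_eq_left_inv (by rw [smul_mul_assoc, one_mul, smul_smul, inv_mul_cancel₀ hc0, one_smul])
    rw [hz, hΦ, hΦ, Subgroup.coe_mul, _root_.mul_inv_rev, Units.val_mul, Units.val_mul, hc, hzi]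
    simp [smul_smul, inv_mul_cancel₀ hc0, mul_inv_cancel₀ hc0]
  have hcomm : ∀ y ∈ R, S * y.1 = y.1 * S := by
    intro y hy
    have hconj : y.1 * S * (y⁻¹ : GL ι F).1 = S := by
      rw [hS, Finset.mul_sum, Finset.sum_mul]
      refine Fintype.sum_equiv (Equiv.mulLeft (QuotientGroup.mk ⟨y, hy⟩)) _ _ fun a => ?_
      show _ = Φ (((QuotientGroup.mk ⟨y, hy⟩ * a : ↥R ⧸ center ↥R).out : R) : GL ι F)
      conv_rhs => rw [← QuotientGroup.out_eq' a, ← QuotientGroup.mk_mul, ← hrep]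
      rw [hΦ, hΦ, Subgroup.coe_mul, _root_.mul_inv_rev, Units.val_mul, Units.val_mul]
      simp only [mul_assoc]
    conv_rhs => rw [← mul_one (y.1 * S), ← Units.inv_mul y, ← mul_assoc, hconj]
  obtain ⟨c, hc⟩ := H.cent S hcomm
  have htr : S.trace = 16 * X.trace := by
    rw [hS, Matrix.trace_sum, Finset.sum_congr rfl fun a _ => show (Φ ((a.out : R) : GL ι F)).trace = X.trace by
      rw [hΦ, Matrix.trace_units_conj], Finset.sum_const, Finset.card_univ, H.card_quot, nsmul_eq_mul]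
    norm_num
  rw [hc, Matrix.trace_smul, Matrix.trace_one, H.card, smul_eq_mul] at htr
  have hc4 : c = 4 * X.trace := mul_right_cancel₀ H.four_ne (by push_cast at htr; linear_combination htr)
  rw [← hc4, ← hc, hS]
  exact Finset.sum_congr rfl fun a _ => (hΦ _).symm

theorem qf_mk (H : Hyp R) (hZ : ∀ z : R, z ∈ center R → (z.1).1 = 1 ∨ (z.1).1 = -1) (x : R) :
    (x.1).1 * (x.1).1 = (qf (QuotientGroup.mk x : ↥R ⧸ center ↥R) : F) • (1 : Matrix ι ι F) := by
  classical
  obtain ⟨z, hz⟩ := QuotientGroup.mk_out_eq_mul (center R) x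
  have e : rep (QuotientGroup.mk x : ↥R ⧸ center ↥R) = (x.1).1 * (z.1.1).1 := by
    rw [rep, hz, Subgroup.coe_mul, Units.val_mul]
  have e2 : rep (QuotientGroup.mk x : ↥R ⧸ center ↥R) * rep (QuotientGroup.mk x) = (x.1).1 * (x.1).1 := by
    rcases hZ z.1 z.2 with h | h <;> rw [e, h] <;> simp
  unfold qf
  rw [e2]
  split
  · next h => simpa using h
  · next h =>
    rcases H.sq x.1 x.2 with h' | h'
    · exact absurd h' h
    · simpa using h'

theorem qf_mul (H : Hyp R) (hZ : ∀ z : R, z ∈ center R → (z.1).1 = 1 ∨ (z.1).1 = -1) (a b : ↥R ⧸ center ↥R) :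
    qf (a * b) = qf a * qf b * bf a b := by
  haveI := H.nonempty
  induction a using QuotientGroup.induction_on with | H x =>
  induction b using QuotientGroup.induction_on with | H y =>
  rw [← QuotientGroup.mk_mul, H.bf_mk]
  refine pm_cast H.two (qf_pm _) ?_ ?_
  · rcases qf_pm (QuotientGroup.mk x : ↥R ⧸ center ↥R) with e | e <;>
      rcases qf_pm (QuotientGroup.mk y : ↥R ⧸ center ↥R) with e' | e' <;> rcases sgn_pm x.1 y.1 with e'' | e'' <;> simp [e, e', e'']
  have e : ((qf (QuotientGroup.mk (x * y) : ↥R ⧸ center ↥R) : F)) • (1 : Matrix ι ι F) =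
      ((qf (QuotientGroup.mk x : ↥R ⧸ center ↥R) * qf (QuotientGroup.mk y : ↥R ⧸ center ↥R) * sgn x.1 y.1 : ℤ) : F) • 1 := by
    rw [← H.qf_mk hZ, Subgroup.coe_mul, Units.val_mul]
    have e1 := H.mul_sgn x.2 y.2
    calc (x.1).1 * (y.1).1 * ((x.1).1 * (y.1).1) = (sgn x.1 y.1 : F) • ((y.1).1 * (x.1).1) * ((x.1).1 * (y.1).1) := by rw [← e1]
      _ = (sgn x.1 y.1 : F) • ((y.1).1 * ((x.1).1 * (x.1).1) * (y.1).1) := by rw [smul_mul_assoc]; simp only [mul_assoc]
      _ = _ := by
        rw [H.qf_mk hZ x, mul_smul_comm, smul_mul_assoc, mul_one, H.qf_mk hZ y, smul_smul, smul_smul]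
        congr 1; push_cast; ring
  obtain ⟨i⟩ := ‹Nonempty ι›
  simpa using congrFun (congrFun e i) i

theorem qf_one (H : Hyp R) (hZ : ∀ z : R, z ∈ center R → (z.1).1 = 1 ∨ (z.1).1 = -1) : qf (1 : ↥R ⧸ center ↥R) = 1 := by
  have h := H.qf_mul hZ 1 1
  rw [one_mul, H.bf_one, mul_one] at h
  rcases qf_pm (1 : ↥R ⧸ center ↥R) with e | e <;> rw [e] at h ⊢ <;> norm_num at h

theorem sum_qf_bf (H : Hyp R) (hZ : ∀ z : R, z ∈ center R → (z.1).1 = 1 ∨ (z.1).1 = -1) (w : ↥R ⧸ center ↥R) :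
    ∑ a, qf a * bf a w = qf w * ∑ a : ↥R ⧸ center ↥R, qf a := by
  rw [Finset.mul_sum]
  refine Fintype.sum_equiv (Equiv.mulRight w) _ _ fun a => ?_
  show _ = qf w * qf (a * w)
  rw [H.qf_mul hZ]
  rcases qf_pm w with e | e <;> rw [e] <;> ring

theorem sum_qf (H : Hyp R) (hZ : ∀ z : R, z ∈ center R → (z.1).1 = 1 ∨ (z.1).1 = -1) {J : GL ι F}
    (hJ : J.1ᵀ = -J.1) (hfix : ∀ x ∈ R, x.1ᵀ * J.1 * x.1 = J.1) : ∑ a : ↥R ⧸ center ↥R, qf a = -4 := by
  classical
  haveI := H.nonempty
  obtain ⟨s, hs⟩ : ∃ s, s = ∑ a : ↥R ⧸ center ↥R, qf a := ⟨_, rfl⟩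
  have hsF : (s : F) • (1 : Matrix ι ι F) = ∑ a : ↥R ⧸ center ↥R, rep a * rep a := by
    rw [hs, Int.cast_sum, Finset.sum_smul]
    refine Finset.sum_congr rfl fun a _ => ?_
    have h := H.qf_mk hZ a.out
    rw [QuotientGroup.out_eq'] at h
    exact h.symm
  have htr : ∀ a : ↥R ⧸ center ↥R, (rep a)ᵀ = J.1 * (((a.out : R) : GL ι F)⁻¹ : GL ι F).1 * (J⁻¹ : GL ι F).1 := by
    intro a
    have h := hfix _ (a.out : R).2
    calc (rep a)ᵀ = (rep a)ᵀ * J.1 * rep a * (((a.out : R) : GL ι F)⁻¹ : GL ι F).1 * (J⁻¹ : GL ι F).1 := by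
          rw [rep, Units.mul_inv_cancel_right, Units.mul_inv_cancel_right]
      _ = _ := by rw [show (rep a)ᵀ * J.1 * rep a = J.1 from h]
  have h4 : ∀ i j k l, ∑ a : ↥R ⧸ center ↥R, rep a i j * (((a.out : R) : GL ι F)⁻¹ : GL ι F).1 k l =
      if j = k ∧ i = l then 4 else 0 := by
    intro i j k l
    have e := congrFun (congrFun (H.twirl (Matrix.single j k 1)) i) l
    rw [Matrix.sum_apply] at e
    rw [Finset.sum_congr rfl fun a _ => show rep a i j * (((a.out : R) : GL ι F)⁻¹ : GL ι F).1 k l =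
        (rep a * Matrix.single j k (1 : F) * (((a.out : R) : GL ι F)⁻¹ : GL ι F).1 : Matrix ι ι F) i l by
      simp [Matrix.mul_apply, Matrix.single_apply, Finset.sum_ite_eq, ite_and, Finset.sum_mul], e]
    by_cases hjk : j = k
    · subst hjk
      by_cases hil : i = l <;> simp [hil, Matrix.trace_single_eq_same, Matrix.one_apply]
    · simp [hjk, Matrix.trace_single_eq_of_ne j k (1 : F) hjk]
  have hneg : (s : F) • (1 : Matrix ι ι F) = (-4 : F) • 1 := by
    rw [hsF]
    ext i m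
    rw [Matrix.sum_apply]
    simp only [Matrix.mul_apply]
    rw [Finset.sum_comm]
    have hj : ∀ j, ∑ a : ↥R ⧸ center ↥R, rep a i j * rep a j m = 4 * (J.1 m j * (J⁻¹ : GL ι F).1 i j) := by
      intro j
      have e : ∀ a : ↥R ⧸ center ↥R, rep a j m =
          ∑ l, ∑ k, J.1 m k * (((a.out : R) : GL ι F)⁻¹ : GL ι F).1 k l * (J⁻¹ : GL ι F).1 l j := fun a => by
        have := congrFun (congrFun (htr a) m) j
        rw [Matrix.transpose_apply] at this
        rw [this, Matrix.mul_apply]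
        refine Finset.sum_congr rfl fun l _ => ?_
        rw [Matrix.mul_apply, Finset.sum_mul]
      simp only [e, Finset.mul_sum]
      rw [Finset.sum_comm]
      simp only [fun l => Finset.sum_comm (s := (Finset.univ : Finset (↥R ⧸ center ↥R)))
        (t := (Finset.univ : Finset ι)) (f := fun a k => rep a i j * (J.1 m k * (((a.out : R) : GL ι F)⁻¹ : GL ι F).1 k l * (J⁻¹ : GL ι F).1 l j))]
      have e2 : ∀ l k, ∑ a : ↥R ⧸ center ↥R, rep a i j * (J.1 m k * (((a.out : R) : GL ι F)⁻¹ : GL ι F).1 k l * (J⁻¹ : GL ι F).1 l j) =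
          J.1 m k * (J⁻¹ : GL ι F).1 l j * (if j = k ∧ i = l then 4 else 0) := fun l k => by
        rw [← h4 i j k l, Finset.mul_sum]
        exact Finset.sum_congr rfl fun a _ => by ring
      simp only [e2, ite_and, mul_ite, mul_zero, Finset.sum_ite_eq, Finset.mem_univ, if_true]
      ring
    simp only [hj, ← Finset.mul_sum]
    have e3 : ∑ j, J.1 m j * (J⁻¹ : GL ι F).1 i j = ((J⁻¹ : GL ι F).1 * J.1ᵀ) i m := by
      rw [Matrix.mul_apply]
      exact Finset.sum_congr rfl fun j _ => by rw [Matrix.transpose_apply]; ring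
    rw [e3, hJ, mul_neg, Units.inv_mul]
    by_cases him : i = m <;> simp [him, Matrix.one_apply]
  have hsF' : (s : F) = -4 := by
    obtain ⟨i⟩ := ‹Nonempty ι›
    simpa using congrFun (congrFun hneg i) i
  have hss : s * s = 16 := by
    calc s * s = ∑ u : ↥R ⧸ center ↥R, ∑ w : ↥R ⧸ center ↥R, qf u * qf (u * w) := by
          rw [hs, Finset.sum_mul_sum]
          exact Finset.sum_congr rfl fun u _ => (Equiv.sum_comp (Equiv.mulLeft u) fun v => qf u * qf v).symm
      _ = ∑ w : ↥R ⧸ center ↥R, qf w * ∑ u : ↥R ⧸ center ↥R, bf u w := by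
          rw [Finset.sum_comm]
          refine Finset.sum_congr rfl fun w _ => ?_
          rw [Finset.mul_sum]
          refine Finset.sum_congr rfl fun u _ => ?_
          rw [H.qf_mul hZ]
          rcases qf_pm u with e | e <;> rw [e] <;> ring
      _ = 16 := by
          rw [Finset.sum_eq_single (1 : ↥R ⧸ center ↥R)]
          · rw [H.qf_one hZ, one_mul, Finset.sum_congr rfl fun u _ => show bf u 1 = 1 by rw [H.bf_symm, H.bf_one],
              Finset.sum_const, Finset.card_univ, H.card_quot]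
            norm_num
          · intro w _ hw; rw [H.sum_bf hw, mul_zero]
          · simp
  rw [← hs]
  rcases mul_self_eq_mul_self_iff.1 (show s * s = 4 * 4 by rw [hss]; norm_num) with e | e
  · exfalso
    rw [e] at hsF'
    push_cast at hsF'
    exact mul_ne_zero H.two H.four_ne (by linear_combination hsF')
  · exact e

end Hyp

end Cfsg.Agent.LBTwoFour
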