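/-
Elements of the normaliser of a two-group of symplectic type in dimension four.
-/
import Cfsg.Agent.Lib.LinearBlock.SymplTwoFour

set_option autoImplicit false
set_option linter.all false

namespace Cfsg.Agent.LBTwoFour

open Matrix Subgroup

variable {ι : Type} [Fintype ι] [DecidableEq ι] {F : Type*} [Field F] {R : Subgroup (GL ι F)}

theorem mem_norm_conj {y : GL ι F} (hy : y ∈ Cfsg.Geo.subgroupNormalizer R) {x : GL ι F} (hx : x ∈ R) : y * x * y⁻¹ ∈ R :=
  (Subgroup.mem_normalizer_iff.1 hy x).1 hx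

theorem mem_norm_of [Finite F] {y : GL ι F} (h : ∀ x ∈ R, y * x * y⁻¹ ∈ R) : y ∈ Cfsg.Geo.subgroupNormalizer R := by
  haveI : Finite R := inferInstance
  refine Subgroup.mem_normalizer_iff.2 fun x => ⟨h x, fun hx => ?_⟩
  let f : R → R := fun z => ⟨y * z.1 * y⁻¹, h z.1 z.2⟩
  have hi : Function.Injective f := fun a b e => Subtype.ext (by
    have e' := congrArg Subtype.val e
    simpa [f] using e')
  obtain ⟨z, hz⟩ := (Finite.injective_iff_surjective.1 hi) ⟨_, hx⟩
  have e : y * z.1 * y⁻¹ = y * x * y⁻¹ := congrArg Subtype.val hz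
  have : z.1 = x := by simpa using e
  exact this ▸ z.2

theorem scalar_mem_norm {y : GL ι F} {c : F} (hc : y.1 = c • (1 : Matrix ι ι F)) : y ∈ Cfsg.Geo.subgroupNormalizer R := by
  refine Subgroup.mem_normalizer_iff.2 fun x => ?_
  have : y * x * y⁻¹ = x := by
    rw [mul_inv_eq_iff_eq_mul]
    exact Units.ext (by rw [Units.val_mul, Units.val_mul, hc, smul_mul_assoc, mul_smul_comm, one_mul, mul_one])
  rw [this]

/-- A sub-count of fixed points. -/
theorem fix_modEq {α : Type*} [Fintype α] {r : ℕ} [Fact r.Prime] (σ : Equiv.Perm α) (hσ : σ ^ r = 1) (S : α → Prop)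
    (hS : ∀ a, S (σ a) ↔ S a) : Nat.card {a : α // S a ∧ σ a = a} ≡ Nat.card {a : α // S a} [MOD r] := by
  classical
  obtain ⟨τ, hτ⟩ : ∃ τ : Equiv.Perm {a : α // S a}, τ = σ.subtypePerm hS := ⟨_, rfl⟩
  have hpow : ∀ (n : ℕ) (a : {a : α // S a}), ((τ ^ n) a).1 = (σ ^ n) a.1 := by
    intro n
    induction n with
    | zero => simp
    | succ n ih =>
      intro a
      rw [pow_succ', pow_succ', Equiv.Perm.mul_apply, Equiv.Perm.mul_apply, ← ih a, hτ]
      rfl
  have h := Equiv.Perm.card_compl_support_modEq (p := r) (n := 1) (σ := τ)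
    (by rw [pow_one]; exact Equiv.Perm.ext fun a => Subtype.ext (by rw [hpow, hσ]; rfl))
  rw [← Nat.card_eq_fintype_card] at h
  refine Nat.ModEq.trans (congrArg (· % r) (?_ : _ = _)) h
  rw [← Fintype.card_coe, ← Nat.card_eq_fintype_card]
  refine Nat.card_congr
    { toFun := fun a => ⟨⟨a.1, a.2.1⟩, by rw [Finset.mem_compl, Equiv.Perm.notMem_support, hτ]; exact Subtype.ext a.2.2⟩
      invFun := fun a => ⟨a.1.1, a.1.2, by
        have := Equiv.Perm.notMem_support.1 (Finset.mem_compl.1 a.2)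
        exact congrArg Subtype.val ((congrArg (fun e : Equiv.Perm _ => e a.1) hτ).symm.trans this)⟩
      left_inv := fun a => rfl
      right_inv := fun a => rfl }

/-- The action on the quotient. -/
noncomputable def act (y : GL ι F) (hy : y ∈ Cfsg.Geo.subgroupNormalizer R) (a : ↥R ⧸ center ↥R) : ↥R ⧸ center ↥R :=
  QuotientGroup.mk ⟨y * ((a.out : R) : GL ι F) * y⁻¹, mem_norm_conj hy (a.out : R).2⟩

namespace Hyp

variable [Fintype (↥R ⧸ center ↥R)]

theorem act_mk (H : Hyp R) {y : GL ι F} (hy : y ∈ Cfsg.Geo.subgroupNormalizer R) (x : R) :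
    act y hy (QuotientGroup.mk x) = QuotientGroup.mk ⟨y * x.1 * y⁻¹, mem_norm_conj hy x.2⟩ := by
  obtain ⟨z, hz⟩ := QuotientGroup.mk_out_eq_mul (center R) x
  obtain ⟨c, hc⟩ := (center_scalar H.cent z.1).1 z.2
  have hcz : y * z.1.1 = z.1.1 * y :=
    Units.ext (by rw [Units.val_mul, Units.val_mul, hc, smul_mul_assoc, mul_smul_comm, one_mul, mul_one])
  unfold act
  rw [QuotientGroup.eq]
  have e : (⟨y * ((QuotientGroup.mk x : ↥R ⧸ center ↥R).out : R).1 * y⁻¹, mem_norm_conj hy ((QuotientGroup.mk x : ↥R ⧸ center ↥R).out : R).2⟩ : R)⁻¹ *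
      ⟨y * x.1 * y⁻¹, mem_norm_conj hy x.2⟩ = z.1⁻¹ := Subtype.ext (by
    rw [Subgroup.coe_mul, InvMemClass.coe_inv]
    show (y * ((QuotientGroup.mk x : ↥R ⧸ center ↥R).out : R).1 * y⁻¹)⁻¹ * (y * x.1 * y⁻¹) = (z.1⁻¹ : R).1
    rw [hz, Subgroup.coe_mul, InvMemClass.coe_inv]
    calc (y * (x.1 * z.1.1) * y⁻¹)⁻¹ * (y * x.1 * y⁻¹) = y * z.1.1⁻¹ * y⁻¹ := by group
      _ = (y * z.1.1 * y⁻¹)⁻¹ := by group
      _ = _ := by rw [hcz, mul_inv_cancel_right])
  rw [e]
  exact inv_mem z.2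

theorem act_hom (H : Hyp R) {y : GL ι F} (hy : y ∈ Cfsg.Geo.subgroupNormalizer R) (a b : ↥R ⧸ center ↥R) :
    act y hy (a * b) = act y hy a * act y hy b := by
  induction a using QuotientGroup.induction_on with | H x =>
  induction b using QuotientGroup.induction_on with | H z =>
  rw [← QuotientGroup.mk_mul, H.act_mk, H.act_mk, H.act_mk, ← QuotientGroup.mk_mul]
  congr 1
  exact Subtype.ext (by simp [mul_assoc])

theorem act_comp (H : Hyp R) {y z : GL ι F} (hy : y ∈ Cfsg.Geo.subgroupNormalizer R) (hz : z ∈ Cfsg.Geo.subgroupNormalizer R)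
    (a : ↥R ⧸ center ↥R) : act (y * z) (mul_mem hy hz) a = act y hy (act z hz a) := by
  induction a using QuotientGroup.induction_on with | H x =>
  rw [H.act_mk, H.act_mk, H.act_mk]
  congr 1
  exact Subtype.ext (by simp [mul_assoc, _root_.mul_inv_rev])

theorem act_bf (H : Hyp R) {y : GL ι F} (hy : y ∈ Cfsg.Geo.subgroupNormalizer R) (a b : ↥R ⧸ center ↥R) :
    bf (act y hy a) (act y hy b) = bf a b := by
  classical
  induction a using QuotientGroup.induction_on with | H x =>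
  induction b using QuotientGroup.induction_on with | H z =>
  rw [H.act_mk, H.act_mk, H.bf_mk, H.bf_mk]
  unfold sgn
  refine if_congr ?_ rfl rfl
  rw [← Units.val_mul, ← Units.val_mul, ← Units.val_mul x.1, ← Units.val_mul z.1, Units.val_inj, Units.val_inj,
    show y * x.1 * y⁻¹ * (y * z.1 * y⁻¹) = y * (x.1 * z.1) * y⁻¹ by group,
    show y * z.1 * y⁻¹ * (y * x.1 * y⁻¹) = y * (z.1 * x.1) * y⁻¹ by group]
  simp

theorem act_qf (H : Hyp R) (hZ : ∀ z : R, z ∈ center R → (z.1).1 = 1 ∨ (z.1).1 = -1) {y : GL ι F}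
    (hy : y ∈ Cfsg.Geo.subgroupNormalizer R) (a : ↥R ⧸ center ↥R) : qf (act y hy a) = qf a := by
  haveI := H.nonempty
  induction a using QuotientGroup.induction_on with | H x =>
  rw [H.act_mk]
  refine pm_cast H.two (qf_pm _) (qf_pm _) ?_
  have e1 := H.qf_mk hZ ⟨y * x.1 * y⁻¹, mem_norm_conj hy x.2⟩
  have e2 := H.qf_mk hZ x
  have e3 : (y * x.1 * y⁻¹).1 * (y * x.1 * y⁻¹).1 = y.1 * ((x.1).1 * (x.1).1) * (y⁻¹ : GL ι F).1 := by
    rw [← Units.val_mul, show y * x.1 * y⁻¹ * (y * x.1 * y⁻¹) = y * (x.1 * x.1) * y⁻¹ by group]; simp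
  change (y * x.1 * y⁻¹).1 * (y * x.1 * y⁻¹).1 = _ at e1
  rw [e3, e2, mul_smul_comm, mul_one, smul_mul_assoc, Units.mul_inv] at e1
  obtain ⟨i⟩ := ‹Nonempty ι›
  simpa using (congrFun (congrFun e1 i) i).symm

theorem fixed_comm (H : Hyp R) {y : GL ι F} (hy : y ∈ Cfsg.Geo.subgroupNormalizer R) {r : ℕ} (hr : Odd r) {z : F}
    (hz : (y ^ r).1 = z • (1 : Matrix ι ι F)) {a : ↥R ⧸ center ↥R} (ha : act y hy a = a) :
    y * ((a.out : R) : GL ι F) = ((a.out : R) : GL ι F) * y := by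
  haveI := H.nonempty
  obtain ⟨t, ht⟩ : ∃ t, t = ((a.out : R) : GL ι F) := ⟨_, rfl⟩
  obtain ⟨c, hc0, hc⟩ := H.exists_rep ⟨y * t * y⁻¹, mem_norm_conj hy (ht ▸ (a.out : R).2)⟩
  have hmk : (QuotientGroup.mk (⟨y * t * y⁻¹, mem_norm_conj hy (ht ▸ (a.out : R).2)⟩ : R) : ↥R ⧸ center ↥R) = a := by
    subst ht; exact ha
  change (y * t * y⁻¹).1 = c • rep _ at hc
  rw [hmk, rep, ← ht] at hc
  have hpow : ∀ n : ℕ, (y ^ n * t * (y ^ n)⁻¹).1 = c ^ n • t.1 := by
    intro n
    induction n with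
    | zero => simp
    | succ n ih =>
      rw [show y ^ (n + 1) * t * (y ^ (n + 1))⁻¹ = y * (y ^ n * t * (y ^ n)⁻¹) * y⁻¹ by rw [pow_succ']; group,
        Units.val_mul, Units.val_mul, ih, mul_smul_comm, smul_mul_assoc, ← Units.val_mul, ← Units.val_mul, hc, smul_smul, pow_succ]
  have hcr : c ^ r = 1 := by
    have h := hpow r
    have e : y ^ r * t * (y ^ r)⁻¹ = t := by
      rw [mul_inv_eq_iff_eq_mul]
      exact Units.ext (by rw [Units.val_mul, Units.val_mul, hz, smul_mul_assoc, mul_smul_comm, one_mul, mul_one])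
    rw [e] at h
    exact smul_left_injective F t.ne_zero (by simpa using h.symm)
  have hc2 : c * c = 1 := by
    have e : (y * t * y⁻¹).1 * (y * t * y⁻¹).1 = y.1 * (t.1 * t.1) * (y⁻¹ : GL ι F).1 := by
      rw [← Units.val_mul, show y * t * y⁻¹ * (y * t * y⁻¹) = y * (t * t) * y⁻¹ by group]; simp
    rw [hc, smul_mul_smul_comm] at e
    obtain ⟨i⟩ := ‹Nonempty ι›
    rcases H.sq t (ht ▸ (a.out : R).2) with h | h <;> rw [h] at e
    · simpa using congrFun (congrFun e i) i
    · simpa using congrFun (congrFun e i) i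
  obtain ⟨k, rfl⟩ := hr
  have hc1 : c = 1 := by rw [pow_succ, pow_mul, pow_two, hc2, one_pow, one_mul] at hcr; exact hcr
  rw [hc1, one_smul] at hc
  rw [← ht]
  exact mul_inv_eq_iff_eq_mul.1 (Units.ext hc)

theorem scalar_of_comm (H : Hyp R) {M : Matrix ι ι F} (h : ∀ a : ↥R ⧸ center ↥R, M * rep a = rep a * M) :
    ∃ c : F, M = c • 1 := by
  refine H.cent M fun x hx => ?_
  obtain ⟨c, -, hc⟩ := H.exists_rep ⟨x, hx⟩
  change x.1 = _ at hc
  rw [hc, mul_smul_comm, smul_mul_assoc, h]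

theorem trace_conj_eq (H : Hyp R) {y : GL ι F} (hy : y ∈ Cfsg.Geo.subgroupNormalizer R) {r : ℕ} (hr : Odd r) {z : F}
    (hz : (y ^ r).1 = z • (1 : Matrix ι ι F)) :
    y.1.trace * (y⁻¹ : GL ι F).1.trace = (Nat.card {a : ↥R ⧸ center ↥R // act y hy a = a} : F) := by
  classical
  obtain ⟨B, hB⟩ := H.exists_basis
  obtain ⟨L, hL⟩ : ∃ L, L = LinearMap.mulLeftRight F (A := Matrix ι ι F) (y.1, (y⁻¹ : GL ι F).1) := ⟨_, rfl⟩
  have h1 : LinearMap.trace F _ L = y.1.trace * (y⁻¹ : GL ι F).1.trace := by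
    rw [LinearMap.trace_eq_matrix_trace F (Matrix.stdBasis F ι ι), Matrix.trace, Fintype.sum_prod_type, Matrix.trace, Matrix.trace,
      Finset.sum_mul_sum]
    refine Finset.sum_congr rfl fun i _ => Finset.sum_congr rfl fun j _ => ?_
    rw [Matrix.diag_apply, LinearMap.toMatrix_apply, hL, LinearMap.mulLeftRight_apply]
    rw [Matrix.stdBasis_eq_single]
    simp [Matrix.stdBasis, Matrix.mul_apply, Matrix.single_apply, Finset.sum_ite_eq, ite_and]
  rw [← h1, LinearMap.trace_eq_matrix_trace F B, Matrix.trace, Nat.card_eq_fintype_card, Fintype.card_subtype]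
  rw [Finset.card_filter, Nat.cast_sum]
  simp only [Nat.cast_ite, Nat.cast_one, Nat.cast_zero]
  refine Finset.sum_congr rfl fun a _ => ?_
  rw [Matrix.diag_apply, LinearMap.toMatrix_apply, hB, hL, LinearMap.mulLeftRight_apply]
  by_cases ha : act y hy a = a
  · have e := congrArg Units.val (H.fixed_comm hy hr hz ha)
    rw [Units.val_mul, Units.val_mul] at e
    rw [if_pos ha, show y.1 * rep a * (y⁻¹ : GL ι F).1 = rep a by
      rw [show y.1 * rep a = rep a * y.1 from e, mul_assoc, Units.mul_inv, mul_one], ← hB a, B.repr_self]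
    simp
  · obtain ⟨c, hc0, hc⟩ := H.exists_rep ⟨y * ((a.out : R) : GL ι F) * y⁻¹, mem_norm_conj hy (a.out : R).2⟩
    change (y * ((a.out : R) : GL ι F) * y⁻¹).1 = c • rep (act y hy a) at hc
    rw [if_neg ha, show y.1 * rep a * (y⁻¹ : GL ι F).1 = c • B (act y hy a) by rw [hB, ← hc]; simp [rep], map_smul, B.repr_self]
    simp [ha]

/-- The possible numbers of fixed points of an element of odd prime order. -/
theorem fixed_cases (H : Hyp R) {y : GL ι F} (hy : y ∈ Cfsg.Geo.subgroupNormalizer R) {r : ℕ} [Fact r.Prime] (hr2 : r ≠ 2)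
    {z : F} (hz : (y ^ r).1 = z • (1 : Matrix ι ι F)) (hns : ∀ c : F, y.1 ≠ c • (1 : Matrix ι ι F)) :
    ∃ n : ℕ, Nat.card {a : ↥R ⧸ center ↥R // act y hy a = a} = n ∧ y.1.trace * (y⁻¹ : GL ι F).1.trace = (n : F) ∧
      ((r = 3 ∧ (n = 1 ∨ n = 4)) ∨ (r = 5 ∧ n = 1)) := by
  classical
  have hrp : r.Prime := Fact.out
  have hodd : Odd r := hrp.odd_of_ne_two hr2
  refine ⟨_, rfl, H.trace_conj_eq hy hodd hz, ?_⟩
  have hy' : ∀ n : ℕ, y ^ n ∈ Cfsg.Geo.subgroupNormalizer R := fun n => pow_mem hy n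
  have hinj : Function.Injective (act y hy) := by
    intro a b h
    induction a using QuotientGroup.induction_on with | H x =>
    induction b using QuotientGroup.induction_on with | H w =>
    have h' := congrArg (act y⁻¹ (inv_mem hy)) h
    rw [H.act_mk hy, H.act_mk hy, H.act_mk, H.act_mk] at h'
    simpa [mul_assoc] using h'
  obtain ⟨σ, hσ⟩ : ∃ σ : Equiv.Perm (↥R ⧸ center ↥R), ∀ a, σ a = act y hy a :=
    ⟨Equiv.ofBijective _ (Finite.injective_iff_bijective.1 hinj), fun a => rfl⟩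
  have hσn : ∀ (n : ℕ) (a : ↥R ⧸ center ↥R), (σ ^ n) a = act (y ^ n) (hy' n) a := by
    intro n
    induction n with
    | zero =>
      intro a
      induction a using QuotientGroup.induction_on with | H x =>
      rw [pow_zero, Equiv.Perm.one_apply, H.act_mk]
      congr 1
      exact Subtype.ext (by simp)
    | succ n ih =>
      intro a
      rw [pow_succ', Equiv.Perm.mul_apply, ih, hσ, ← H.act_comp hy (hy' n)]
      congr 1
      exact (pow_succ' y n).symm
  have hσr : σ ^ r = 1 := Equiv.Perm.ext fun a => by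
    rw [hσn, Equiv.Perm.one_apply]
    induction a using QuotientGroup.induction_on with | H x =>
    rw [H.act_mk]
    congr 1
    refine Subtype.ext ?_
    show y ^ r * x.1 * (y ^ r)⁻¹ = x.1
    rw [mul_inv_eq_iff_eq_mul]
    exact Units.ext (by rw [Units.val_mul, Units.val_mul, hz, smul_mul_assoc, mul_smul_comm, one_mul, mul_one])
  have h16 : Nat.card (↥R ⧸ center ↥R) = 16 := H.quot
  have hone : act y hy 1 = 1 := by
    have h := H.act_hom hy 1 1
    rw [one_mul] at h
    exact (mul_eq_left.1 h.symm)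
  let K : Subgroup (↥R ⧸ center ↥R) :=
    { carrier := {a | act y hy a = a}
      mul_mem' := fun {a b} (ha : act y hy a = a) (hb : act y hy b = b) => by
        show act y hy (a * b) = a * b; rw [H.act_hom, ha, hb]
      one_mem' := hone
      inv_mem' := fun {a} (ha : act y hy a = a) => by show act y hy a⁻¹ = a⁻¹; rw [H.quot_inv, ha] }
  obtain ⟨n, hn⟩ : ∃ n, n = Nat.card {a : ↥R ⧸ center ↥R // act y hy a = a} := ⟨_, rfl⟩
  rw [← hn]
  have hK : Nat.card K = n := hn.symm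
  have hmod : n ≡ 16 [MOD r] := by
    have h := fix_modEq σ hσr (fun _ => True) (fun _ => Iff.rfl)
    rw [Nat.card_congr (Equiv.subtypeUnivEquiv fun _ => trivial), h16] at h
    refine Nat.ModEq.trans (congrArg (· % r) (?_ : _ = _)) h
    rw [hn]
    exact Nat.card_congr (Equiv.subtypeEquivRight fun a => by simp [hσ])
  have hdvd : n ∣ 2 ^ 4 := by
    rw [← hK, show (2 : ℕ) ^ 4 = 16 by norm_num, ← h16]; exact Subgroup.card_subgroup_dvd_card K
  obtain ⟨k, hk, hk'⟩ := (Nat.dvd_prime_pow Nat.prime_two).1 hdvd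
  have hd := (Nat.modEq_iff_dvd' (show n ≤ 16 by rw [hk']; exact (Nat.pow_le_pow_right (by norm_num) hk).trans (by norm_num))).1 hmod
  have hne16 : k ≠ 4 := by
    intro h
    subst h
    have htop : K = ⊤ := Subgroup.eq_top_of_card_eq K (by rw [hK, hk', h16]; norm_num)
    obtain ⟨c, hc⟩ := H.scalar_of_comm (M := y.1) fun a => by
      have ha : act y hy a = a := (htop.ge (Subgroup.mem_top a) : _)
      exact congrArg Units.val (H.fixed_comm hy hodd hz ha)
    exact hns c hc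
  interval_cases k
  · norm_num at hk'
    subst hk'
    norm_num at hd
    rcases (Nat.Prime.dvd_mul hrp).1 (show r ∣ 3 * 5 by norm_num; exact hd) with h | h
    · exact Or.inl ⟨(Nat.prime_dvd_prime_iff_eq hrp Nat.prime_three).1 h, Or.inl rfl⟩
    · exact Or.inr ⟨(Nat.prime_dvd_prime_iff_eq hrp Nat.prime_five).1 h, rfl⟩
  · norm_num at hk'
    exfalso
    subst hk'
    norm_num at hd
    have hr7 : r = 7 := by
      rcases (Nat.Prime.dvd_mul hrp).1 (show r ∣ 2 * 7 by norm_num; exact hd) with h | h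
      · exact absurd ((Nat.prime_dvd_prime_iff_eq hrp Nat.prime_two).1 h) hr2
      · exact (Nat.prime_dvd_prime_iff_eq hrp (by norm_num)).1 h
    obtain ⟨v, hv, hv1⟩ : ∃ v, act y hy v = v ∧ v ≠ 1 := by
      by_contra hc
      push Not at hc
      have : K = ⊥ := (Subgroup.eq_bot_iff_forall K).2 hc
      rw [this, Subgroup.card_bot] at hK
      omega
    have hperp : ∀ a, act y hy a = a → bf a v = 1 := by
      intro a ha
      have h2 : ∀ b : K, b.1 = 1 ∨ b.1 = v := by
        intro b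
        by_contra hb
        push Not at hb
        have hs : ({1, v, b.1} : Finset (↥R ⧸ center ↥R)).card ≤ 2 := by
          rw [← hK, ← Nat.card_eq_finsetCard]
          refine Nat.card_le_card_of_injective (fun w => (⟨w.1, ?_⟩ : K)) fun p q e => Subtype.ext (Subtype.mk.inj e)
          have := w.2
          simp only [Finset.mem_insert, Finset.mem_singleton] at this
          rcases this with e | e | e <;> rw [e]
          exacts [one_mem K, hv, b.2]
        rw [Finset.card_insert_of_notMem, Finset.card_pair hb.2.symm] at hs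
        · omega
        · simp [hv1.symm, hb.1.symm]
      rcases h2 ⟨a, ha⟩ with e | e
      · change a = 1 at e; rw [e, H.bf_one]
      · change a = v at e; rw [e, H.bf_self]
    have h := fix_modEq σ hσr (fun a => bf a v = 1) (fun a => by rw [hσ]; conv_lhs => rw [← hv, H.act_bf hy])
    rw [H.card_perp hv1, Nat.card_congr (β := {a : ↥R ⧸ center ↥R // act y hy a = a})
      (Equiv.subtypeEquivRight fun a => ⟨fun ⟨_, h⟩ => (hσ a).symm.trans h, fun ha => ⟨hperp a ha, (hσ a).trans ha⟩⟩), ← hn, hr7] at h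
    exact absurd h (by decide)
  · norm_num at hk'
    subst hk'
    norm_num at hd
    rcases (Nat.Prime.dvd_mul hrp).1 (show r ∣ 4 * 3 by norm_num; exact hd) with h | h
    · exact absurd ((Nat.prime_dvd_prime_iff_eq hrp Nat.prime_two).1 (hrp.dvd_of_dvd_pow (show r ∣ 2 ^ 2 by norm_num; exact h))) hr2
    · exact Or.inl ⟨(Nat.prime_dvd_prime_iff_eq hrp Nat.prime_three).1 h, Or.inr rfl⟩
  · norm_num at hk'
    subst hk'
    norm_num at hd
    exact absurd ((Nat.prime_dvd_prime_iff_eq hrp Nat.prime_two).1 (hrp.dvd_of_dvd_pow (show r ∣ 2 ^ 3 by norm_num; exact hd))) hr2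
  · exact absurd rfl hne16

/-- With a symplectic form there is no fixed point free element of order three. -/
theorem fixed_three (H : Hyp R) (hZ : ∀ z : R, z ∈ center R → (z.1).1 = 1 ∨ (z.1).1 = -1) {J : GL ι F}
    (hJ : J.1ᵀ = -J.1) (hfix : ∀ x ∈ R, x.1ᵀ * J.1 * x.1 = J.1) {y : GL ι F} (hy : y ∈ Cfsg.Geo.subgroupNormalizer R)
    {z : F} (hz : (y ^ 3).1 = z • (1 : Matrix ι ι F)) (hns : ∀ c : F, y.1 ≠ c • (1 : Matrix ι ι F)) :
    y.1.trace * (y⁻¹ : GL ι F).1.trace = 4 := by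
  classical
  haveI : Fact (Nat.Prime 3) := ⟨Nat.prime_three⟩
  obtain ⟨n, hn, ht, h⟩ := H.fixed_cases hy (r := 3) (by norm_num) hz hns
  rcases h with ⟨-, rfl | rfl⟩ | ⟨h, -⟩
  · exfalso
    have hs := H.sum_qf hZ hJ hfix
    rw [← Finset.sum_filter_add_sum_filter_not Finset.univ (fun a => qf a = 1)] at hs
    rw [Finset.sum_congr rfl (fun b hb => (Finset.mem_filter.1 hb).2),
      Finset.sum_congr rfl (fun b hb => (qf_pm b).resolve_left (Finset.mem_filter.1 hb).2)] at hs
    have h16 := Finset.card_filter_add_card_filter_not (s := (Finset.univ : Finset (↥R ⧸ center ↥R))) (fun b => qf b = 1)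
    rw [Finset.card_univ, H.card_quot] at h16
    simp only [Finset.sum_const, nsmul_eq_mul, mul_one] at hs
    push_cast at hs
    have h6 : Nat.card {a : ↥R ⧸ center ↥R // qf a = 1} = 6 := by
      rw [Nat.card_eq_fintype_card, Fintype.card_subtype]; omega
    have hinj : Function.Injective (act y hy) := by
      intro a b h
      induction a using QuotientGroup.induction_on with | H x =>
      induction b using QuotientGroup.induction_on with | H w =>
      have h' := congrArg (act y⁻¹ (inv_mem hy)) h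
      rw [H.act_mk hy, H.act_mk hy, H.act_mk, H.act_mk] at h'
      simpa [mul_assoc] using h'
    obtain ⟨σ, hσ⟩ : ∃ σ : Equiv.Perm (↥R ⧸ center ↥R), ∀ a, σ a = act y hy a :=
      ⟨Equiv.ofBijective _ (Finite.injective_iff_bijective.1 hinj), fun a => rfl⟩
    have hσr : σ ^ 3 = 1 := Equiv.Perm.ext fun a => by
      rw [pow_three, Equiv.Perm.mul_apply, Equiv.Perm.mul_apply, Equiv.Perm.one_apply, hσ, hσ, hσ, ← H.act_comp hy hy,
        ← H.act_comp (mul_mem hy hy) hy]
      induction a using QuotientGroup.induction_on with | H x =>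
      rw [H.act_mk]
      congr 1
      refine Subtype.ext ?_
      show y * y * y * x.1 * (y * y * y)⁻¹ = x.1
      rw [← pow_three', mul_inv_eq_iff_eq_mul]
      exact Units.ext (by rw [Units.val_mul, Units.val_mul, hz, smul_mul_assoc, mul_smul_comm, one_mul, mul_one])
    have h := fix_modEq σ hσr (fun a => qf a = 1) (fun a => by rw [hσ, H.act_qf hZ hy])
    rw [h6] at h
    have hsub : Subsingleton {a : ↥R ⧸ center ↥R // act y hy a = a} := (Nat.card_eq_one_iff_unique.1 hn).1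
    have h1 : Nat.card {a : ↥R ⧸ center ↥R // qf a = 1 ∧ σ a = a} = 1 := by
      haveI : Subsingleton {a : ↥R ⧸ center ↥R // qf a = 1 ∧ σ a = a} := ⟨fun p q => Subtype.ext (Subtype.mk.inj
        (hsub.elim (⟨p.1, (hσ _).symm.trans p.2.2⟩ : {a : ↥R ⧸ center ↥R // act y hy a = a}) ⟨q.1, (hσ _).symm.trans q.2.2⟩))⟩
      haveI : Nonempty {a : ↥R ⧸ center ↥R // qf a = 1 ∧ σ a = a} := ⟨⟨1, H.qf_one hZ, by
        rw [hσ]
        have h := H.act_hom hy 1 1
        rw [one_mul] at h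
        exact (mul_eq_left.1 h.symm)⟩⟩
      exact Nat.card_of_subsingleton (Classical.arbitrary _)
    rw [h1] at h
    exact absurd h (by decide)
  · exact_mod_cast ht
  · omega

end Hyp

/-- No element of the form scalar times a pseudo-reflection other than reflections normalises. -/
theorem Hyp.not_rankone [Fintype (↥R ⧸ center ↥R)] (H : Hyp R) {y : GL ι F} (hy : y ∈ Cfsg.Geo.subgroupNormalizer R) {lam : F} {v f : ι → F}
    (hyv : y.1 = lam • (1 + Matrix.vecMulVec v f)) (hvf : Matrix.vecMulVec v f ≠ 0) (he : 2 + f ⬝ᵥ v ≠ 0) : False := by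
  classical
  haveI := H.nonempty
  have hv : v ≠ 0 := fun h => hvf (by rw [h]; simp)
  have hlam : lam ≠ 0 := fun h => y.ne_zero (by rw [hyv, h, zero_smul])
  obtain ⟨e, he'⟩ : ∃ e, e = f ⬝ᵥ v := ⟨_, rfl⟩
  rw [← he'] at he
  have hNv : ∀ x, Matrix.vecMulVec v f *ᵥ x = (f ⬝ᵥ x) • v := fun x => by
    rw [Matrix.vecMulVec_mulVec]; simp
  have he1 : 1 + e ≠ 0 := fun h => by
    have h0 : y.1 *ᵥ v = y.1 *ᵥ 0 := by
      rw [Matrix.mulVec_zero, hyv, Matrix.smul_mulVec, Matrix.add_mulVec, Matrix.one_mulVec, hNv, ← he',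
        show v + e • v = (1 + e) • v by rw [add_smul, one_smul], h, zero_smul, smul_zero]
    exact hv (Matrix.mulVec_injective_of_isUnit y.isUnit h0)
  -- a moved element
  obtain ⟨t, htR, hty⟩ : ∃ t ∈ R, y.1 * t.1 ≠ t.1 * y.1 := by
    by_contra hc
    push Not at hc
    obtain ⟨c, hc'⟩ := H.cent y.1 hc
    obtain ⟨z, hz, hz0⟩ : ∃ z : ι → F, f ⬝ᵥ z = 0 ∧ z ≠ 0 := by
      obtain ⟨L, hL⟩ : ∃ L : (ι → F) →ₗ[F] F, ∀ z, L z = f ⬝ᵥ z :=
        ⟨{ toFun := fun z => f ⬝ᵥ z, map_add' := fun a b => dotProduct_add _ _ _,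
           map_smul' := fun a b => dotProduct_smul _ _ _ }, fun z => rfl⟩
      obtain ⟨z, hz, hz0⟩ := (Submodule.ne_bot_iff _).1 (LinearMap.ker_ne_bot_of_finrank_lt (f := L)
        (by simp [H.card]))
      exact ⟨z, by rw [← hL]; exact hz, hz0⟩
    have e1 := congrArg (· *ᵥ z) (hc'.symm.trans hyv)
    simp only [Matrix.smul_mulVec, Matrix.add_mulVec, Matrix.one_mulVec, hNv, hz, zero_smul, add_zero] at e1
    have hcl : c = lam := smul_left_injective F hz0 e1
    rw [hcl] at hc'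
    have e2 := smul_right_injective _ hlam (hyv.symm.trans hc')
    exact hvf (by simpa using e2)
  obtain ⟨u, hu⟩ : ∃ u, u = y * t * y⁻¹ * t⁻¹ := ⟨_, rfl⟩
  have huR : u ∈ R := hu ▸ mul_mem (mem_norm_conj hy htR) (inv_mem htR)
  obtain ⟨d, hd⟩ : ∃ d, d = (1 + e)⁻¹ := ⟨_, rfl⟩
  have hde : 1 - d * e = d := by rw [hd]; field_simp; ring
  obtain ⟨w, hw⟩ : ∃ w, w = t.1 *ᵥ v := ⟨_, rfl⟩
  obtain ⟨g, hg⟩ : ∃ g, g = f ᵥ* (t⁻¹ : GL ι F).1 := ⟨_, rfl⟩
  have hNN : Matrix.vecMulVec v f * Matrix.vecMulVec v f = e • Matrix.vecMulVec v f := by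
    rw [Matrix.vecMulVec_mul_vecMulVec, he', Matrix.vecMulVec_smul]
  have hyinv : (y⁻¹ : GL ι F).1 = lam⁻¹ • (1 - d • Matrix.vecMulVec v f) := by
    rw [Matrix.coe_units_inv]
    refine Matrix.inv_eq_right_inv ?_
    rw [hyv, smul_mul_smul_comm, mul_inv_cancel₀ hlam, one_smul, mul_sub, mul_one, mul_smul_comm, add_mul, one_mul, hNN,
      show Matrix.vecMulVec v f + e • Matrix.vecMulVec v f = (1 + e) • Matrix.vecMulVec v f by rw [add_smul, one_smul],
      smul_smul, hd, inv_mul_cancel₀ he1, one_smul, add_sub_cancel_right]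
  have hu1 : u.1 = (1 + Matrix.vecMulVec v f) * (1 - d • Matrix.vecMulVec w g) := by
    rw [hu, Units.val_mul, Units.val_mul, Units.val_mul, hyv, hyinv]
    rw [smul_mul_assoc, smul_mul_assoc, mul_smul_comm, smul_mul_assoc, smul_mul_assoc, smul_smul, mul_inv_cancel₀ hlam, one_smul,
      mul_assoc (1 + Matrix.vecMulVec v f), mul_assoc]
    congr 1
    rw [mul_sub, mul_one, sub_mul, Units.mul_inv, mul_smul_comm, smul_mul_assoc, Matrix.mul_vecMulVec,
      Matrix.vecMulVec_mul, ← hw, ← hg]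
  have hum : ∀ x, u.1 *ᵥ x = (x - (d * (g ⬝ᵥ x)) • w) + (f ⬝ᵥ x - d * (g ⬝ᵥ x) * (f ⬝ᵥ w)) • v := by
    intro x
    rw [hu1, ← Matrix.mulVec_mulVec, Matrix.sub_mulVec, Matrix.one_mulVec, Matrix.smul_mulVec, Matrix.vecMulVec_mulVec,
      Matrix.add_mulVec, Matrix.one_mulVec, hNv, dotProduct_sub, dotProduct_smul]
    simp [smul_smul, smul_eq_mul, dotProduct_smul, mul_assoc]
  have hgw : g ⬝ᵥ w = e := by
    rw [hw, hg, Matrix.dotProduct_mulVec, Matrix.vecMul_vecMul, Units.inv_mul, Matrix.vecMul_one, he']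
  obtain ⟨A, hA⟩ : ∃ A, A = f ⬝ᵥ w := ⟨_, rfl⟩
  obtain ⟨Bv, hBv⟩ : ∃ Bv, Bv = g ⬝ᵥ v := ⟨_, rfl⟩
  obtain ⟨z, hfz, hgz, hz0⟩ : ∃ z : ι → F, f ⬝ᵥ z = 0 ∧ g ⬝ᵥ z = 0 ∧ z ≠ 0 := by
    obtain ⟨L, hL⟩ : ∃ L : (ι → F) →ₗ[F] F × F, ∀ z, L z = (f ⬝ᵥ z, g ⬝ᵥ z) :=
      ⟨{ toFun := fun z => (f ⬝ᵥ z, g ⬝ᵥ z), map_add' := fun a b => by simp [dotProduct_add],
         map_smul' := fun a b => by simp [dotProduct_smul] }, fun z => rfl⟩
    obtain ⟨z, hz, hz0⟩ := (Submodule.ne_bot_iff _).1 (LinearMap.ker_ne_bot_of_finrank_lt (f := L)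
      (by simp [H.card]))
    have := hL z ▸ (LinearMap.mem_ker.1 hz)
    exact ⟨z, (Prod.mk.injEq _ _ _ _ ▸ this).1, (Prod.mk.injEq _ _ _ _ ▸ this).2, hz0⟩
  have huz : u.1 *ᵥ z = z := by rw [hum, hfz, hgz]; simp
  have htr : u.1.trace = 4 + e - d * e - d * A * Bv := by
    rw [hu1, add_mul, one_mul, mul_sub, mul_one, mul_smul_comm, Matrix.vecMulVec_mul_vecMulVec, Matrix.vecMulVec_smul, smul_smul]
    simp only [Matrix.trace_add, Matrix.trace_sub, Matrix.trace_one, Matrix.trace_smul, Matrix.trace_vecMulVec,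
      H.card, smul_eq_mul]
    rw [dotProduct_comm w g, hgw, dotProduct_comm v g, ← hBv, dotProduct_comm v f, ← he', ← hA]
    push_cast; ring
  by_cases hucen : (⟨u, huR⟩ : R) ∈ center R
  · -- then `t` is inverted into its negative
    obtain ⟨c, hc⟩ := (center_scalar H.cent _).1 hucen
    change u.1 = c • 1 at hc
    have hc1 : c = 1 := by
      rw [hc, Matrix.smul_mulVec, Matrix.one_mulVec] at huz
      exact smul_left_injective F hz0 (huz.trans (one_smul F z).symm)
    apply hty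
    rw [hc1, one_smul] at hc
    have e : y * t = t * y := by
      have : u = 1 := Units.ext hc
      rw [hu, mul_inv_eq_one, mul_inv_eq_iff_eq_mul] at this
      exact this
    exact congrArg Units.val e
  have htr0 : u.1.trace = 0 := H.trace_noncentral ⟨u, huR⟩ hucen
  have hsq : u.1 * u.1 = 1 := by
    rcases H.sq u huR with h | h
    · exact h
    · exfalso
      have e1 := congrArg (· *ᵥ z) h
      simp only [← Matrix.mulVec_mulVec, huz, Matrix.neg_mulVec, Matrix.one_mulVec] at e1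
      exact hz0 ((smul_eq_zero.1 (show (2 : F) • z = 0 by rw [two_smul]; exact eq_neg_iff_add_eq_zero.1 e1)).resolve_left H.two)
  have huw : u.1 *ᵥ w = d • w + (d * A) • v := by
    rw [hum, hgw, ← hA]
    funext i
    simp
    linear_combination w i * hde + A * v i * hde
  have huv : u.1 *ᵥ v = (1 + e - d * A * Bv) • v - (d * Bv) • w := by
    rw [hum, ← hBv, ← he', ← hA]
    funext i
    simp
    ring
  have huu : u.1 *ᵥ (u.1 *ᵥ w) = w := by rw [Matrix.mulVec_mulVec, hsq, Matrix.one_mulVec]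
  rw [huw, Matrix.mulVec_add, Matrix.mulVec_smul, Matrix.mulVec_smul, huw, huv] at huu
  rw [htr] at htr0
  have hexp : d + 1 + e - d * A * Bv = -2 := by linear_combination htr0 - hde
  by_cases hA0 : A = 0
  · rw [hA0] at htr0
    apply he
    have h4 : (2 + e) * (2 + e) = 0 := by
      have hd1 : d * (1 + e) = 1 := by rw [hd, inv_mul_cancel₀ he1]
      linear_combination (1 + e) * htr0 + e * hd1
    exact mul_self_eq_zero.1 h4
  have hd0 : d ≠ 0 := hd ▸ inv_ne_zero he1
  obtain ⟨μ, hμ⟩ : ∃ μ : F, v = μ • w := by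
    refine ⟨(d * d - d * d * A * Bv - 1) / (2 * (d * A)), ?_⟩
    funext i
    have h := congrFun huu i
    simp at h
    rw [Pi.smul_apply, smul_eq_mul, div_mul_eq_mul_div, eq_div_iff (mul_ne_zero H.two (mul_ne_zero hd0 hA0))]
    linear_combination -h + d * A * v i * hexp
  have hμ0 : μ ≠ 0 := fun h => hv (by rw [hμ, h, zero_smul])
  have hB' : Bv = μ * e := by rw [hBv, hμ, dotProduct_smul, hgw, smul_eq_mul]
  have hA' : μ * A = e := by rw [hA, he', hμ, dotProduct_smul, smul_eq_mul]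
  apply H.four_ne
  have hd1 : d * (1 + e) = 1 := by rw [hd, inv_mul_cancel₀ he1]
  linear_combination htr0 + (d * A) * hB' + d * e * hA' + e * hd1

end Cfsg.Agent.LBTwoFour
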