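/-
Explicit elements of the normaliser of a two-group of symplectic type in dimension four.
-/
import Cfsg.Agent.Lib.LinearBlock.SymplTwoNorm

set_option autoImplicit false
set_option linter.all false

namespace Cfsg.Agent.LBTwoFour

open Matrix Subgroup

variable {ι : Type} [Fintype ι] [DecidableEq ι] {F : Type*} [Field F] {R : Subgroup (GL ι F)}

/-- `1 + u` for `u² = -1`. -/
noncomputable def cl (h2 : (2 : F) ≠ 0) (u : GL ι F) (hu : u.1 * u.1 = -1) : GL ι F where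
  val := 1 + u.1
  inv := (2 : F)⁻¹ • (1 - u.1)
  val_inv := by
    rw [mul_smul_comm, show (1 + u.1) * (1 - u.1) = 1 - u.1 * u.1 by noncomm_ring, hu, sub_neg_eq_add,
      show (1 : Matrix ι ι F) + 1 = (2 : F) • 1 by rw [two_smul], smul_smul, inv_mul_cancel₀ h2, one_smul]
  inv_val := by
    rw [smul_mul_assoc, show (1 - u.1) * (1 + u.1) = 1 - u.1 * u.1 by noncomm_ring, hu, sub_neg_eq_add,
      show (1 : Matrix ι ι F) + 1 = (2 : F) • 1 by rw [two_smul], smul_smul, inv_mul_cancel₀ h2, one_smul]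

theorem cl_conj_comm (h2 : (2 : F) ≠ 0) {u t : GL ι F} (hu : u.1 * u.1 = -1) (h : u.1 * t.1 = t.1 * u.1) :
    cl h2 u hu * t * (cl h2 u hu)⁻¹ = t := by
  rw [mul_inv_eq_iff_eq_mul]
  refine Units.ext ?_
  show (1 + u.1) * t.1 = t.1 * (1 + u.1)
  rw [add_mul, mul_add, one_mul, mul_one, h]

theorem cl_conj_anti (h2 : (2 : F) ≠ 0) {u t : GL ι F} (hu : u.1 * u.1 = -1) (h : u.1 * t.1 = -(t.1 * u.1)) :
    cl h2 u hu * t * (cl h2 u hu)⁻¹ = u * t := by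
  rw [mul_inv_eq_iff_eq_mul]
  refine Units.ext ?_
  show (1 + u.1) * t.1 = u.1 * t.1 * (1 + u.1)
  have e : u.1 * (t.1 * u.1) = t.1 := by
    rw [show t.1 * u.1 = -(u.1 * t.1) by rw [h, neg_neg], mul_neg, ← mul_assoc, hu, neg_one_mul, neg_neg]
  rw [add_mul, mul_add, one_mul, mul_one, mul_assoc u.1, e, add_comm]

/-- Transport of commutation through a conjugation. -/
theorem comm_conj {M : Matrix ι ι F} {g x : GL ι F} (hg : M * g.1 = g.1 * M) (hx : M * x.1 = x.1 * M) :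
    M * (g * x * g⁻¹).1 = (g * x * g⁻¹).1 * M := by
  have hg' : M * (g⁻¹ : GL ι F).1 = (g⁻¹ : GL ι F).1 * M := (show Commute M g.1 from hg).units_inv_right.eq
  rw [Units.val_mul, Units.val_mul, mul_assoc, ← mul_assoc M, hg, mul_assoc g.1, ← mul_assoc M, hx, mul_assoc x.1, hg']
  simp only [mul_assoc]

/-- An anti-multiplicative map making every element of `R` unitary. -/
structure AdFix (R : Subgroup (GL ι F)) (ad : Matrix ι ι F → Matrix ι ι F) : Prop where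
  add : ∀ a b, ad (a + b) = ad a + ad b
  mul : ∀ a b, ad (a * b) = ad b * ad a
  one : ad 1 = 1
  fix : ∀ x ∈ R, ad x.1 * x.1 = 1

namespace AdFix

variable {ad : Matrix ι ι F → Matrix ι ι F}

theorem zero (A : AdFix R ad) : ad 0 = 0 := by
  have h := A.add 0 0
  rw [add_zero] at h
  exact left_eq_add.1 h

theorem neg (A : AdFix R ad) (a : Matrix ι ι F) : ad (-a) = -ad a := by
  refine eq_neg_of_add_eq_zero_left ?_
  rw [← A.add, neg_add_cancel, A.zero]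

theorem of_sq (A : AdFix R ad) {u : GL ι F} (hu : u ∈ R) (h : u.1 * u.1 = -1) : ad u.1 = -u.1 := by
  calc ad u.1 = ad u.1 * u.1 * -u.1 := by rw [mul_assoc, mul_neg, h, neg_neg, mul_one]
    _ = -u.1 := by rw [A.fix u hu, one_mul]

theorem of_one (A : AdFix R ad) {u : GL ι F} (hu : u ∈ R) (h : u.1 * u.1 = 1) : ad u.1 = u.1 := by
  calc ad u.1 = ad u.1 * u.1 * u.1 := by rw [mul_assoc, h, mul_one]
    _ = u.1 := by rw [A.fix u hu, one_mul]

end AdFix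

namespace Hyp

theorem cl_mem [Finite F] (H : Hyp R) {u : GL ι F} (huR : u ∈ R) (hu : u.1 * u.1 = -1) :
    cl H.two u hu ∈ Cfsg.Geo.subgroupNormalizer R := by
  refine mem_norm_of fun t ht => ?_
  rcases H.comm t ht u huR with h | h
  · rw [cl_conj_comm H.two hu h]; exact ht
  · rw [cl_conj_anti H.two hu h]; exact mul_mem huR ht

theorem cl_ad (H : Hyp R) {ad : Matrix ι ι F → Matrix ι ι F} (A : AdFix R ad) {u : GL ι F} (huR : u ∈ R)
    (hu : u.1 * u.1 = -1) : ad (cl H.two u hu).1 * (cl H.two u hu).1 = (2 : F) • 1 := by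
  show ad (1 + u.1) * (1 + u.1) = _
  rw [A.add, A.one, A.of_sq huR hu, show (1 + -u.1) * (1 + u.1) = 1 - u.1 * u.1 by noncomm_ring, hu, sub_neg_eq_add,
    two_smul]

end Hyp

/-- A chain of four square roots of minus one. -/
structure Chain (R : Subgroup (GL ι F)) (u₁ u₂ u₃ u₄ : GL ι F) : Prop where
  m1 : u₁ ∈ R
  m2 : u₂ ∈ R
  m3 : u₃ ∈ R
  m4 : u₄ ∈ R
  s1 : u₁.1 * u₁.1 = -1
  s2 : u₂.1 * u₂.1 = -1
  s3 : u₃.1 * u₃.1 = -1
  s4 : u₄.1 * u₄.1 = -1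
  a12 : u₁.1 * u₂.1 = -(u₂.1 * u₁.1)
  c13 : u₁.1 * u₃.1 = u₃.1 * u₁.1
  c14 : u₁.1 * u₄.1 = u₄.1 * u₁.1
  a23 : u₂.1 * u₃.1 = -(u₃.1 * u₂.1)
  c24 : u₂.1 * u₄.1 = u₄.1 * u₂.1
  a34 : u₃.1 * u₄.1 = -(u₄.1 * u₃.1)

namespace Hyp

variable [Fintype (↥R ⧸ center ↥R)]

theorem bf_of_anti (H : Hyp R) {x y : R} (h : (x.1).1 * (y.1).1 = -((y.1).1 * (x.1).1)) :
    bf (QuotientGroup.mk x : ↥R ⧸ center ↥R) (QuotientGroup.mk y) = -1 := by
  rw [H.bf_mk]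
  exact H.sgn_eq x.2 y.2 (Or.inr rfl) (by simpa using h)

theorem bf_of_comm (H : Hyp R) {x y : R} (h : (x.1).1 * (y.1).1 = (y.1).1 * (x.1).1) :
    bf (QuotientGroup.mk x : ↥R ⧸ center ↥R) (QuotientGroup.mk y) = 1 := by
  rw [H.bf_mk]
  exact H.sgn_eq x.2 y.2 (Or.inl rfl) (by simpa using h)

theorem chain_scalar (H : Hyp R) {u₁ u₂ u₃ u₄ : GL ι F} (C : Chain R u₁ u₂ u₃ u₄) {M : Matrix ι ι F}
    (h1 : M * u₁.1 = u₁.1 * M) (h2 : M * u₂.1 = u₂.1 * M) (h3 : M * u₃.1 = u₃.1 * M) (h4 : M * u₄.1 = u₄.1 * M) :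
    ∃ c : F, M = c • 1 := by
  classical
  obtain ⟨a1, ha1⟩ : ∃ a : ↥R ⧸ center ↥R, a = QuotientGroup.mk ⟨u₁, C.m1⟩ := ⟨_, rfl⟩
  obtain ⟨a2, ha2⟩ : ∃ a : ↥R ⧸ center ↥R, a = QuotientGroup.mk ⟨u₂, C.m2⟩ := ⟨_, rfl⟩
  obtain ⟨a3, ha3⟩ : ∃ a : ↥R ⧸ center ↥R, a = QuotientGroup.mk ⟨u₃, C.m3⟩ := ⟨_, rfl⟩
  obtain ⟨a4, ha4⟩ : ∃ a : ↥R ⧸ center ↥R, a = QuotientGroup.mk ⟨u₄, C.m4⟩ := ⟨_, rfl⟩
  have b12 : bf a1 a2 = -1 := ha1 ▸ ha2 ▸ H.bf_of_anti C.a12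
  have b13 : bf a1 a3 = 1 := ha1 ▸ ha3 ▸ H.bf_of_comm C.c13
  have b14 : bf a1 a4 = 1 := ha1 ▸ ha4 ▸ H.bf_of_comm C.c14
  have b23 : bf a2 a3 = -1 := ha2 ▸ ha3 ▸ H.bf_of_anti C.a23
  have b24 : bf a2 a4 = 1 := ha2 ▸ ha4 ▸ H.bf_of_comm C.c24
  have b34 : bf a3 a4 = -1 := ha3 ▸ ha4 ▸ H.bf_of_anti C.a34
  obtain ⟨P, hP⟩ : ∃ P : Bool × Bool × Bool × Bool → ↥R ⧸ center ↥R,
      ∀ e, P e = cond e.1 a1 1 * cond e.2.1 a2 1 * cond e.2.2.1 a3 1 * cond e.2.2.2 a4 1 := ⟨_, fun e => rfl⟩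
  have hinj : Function.Injective P := by
    intro e e' h
    have k1 := congrArg (fun a => bf a a1) h
    have k2 := congrArg (fun a => bf a a2) h
    have k3 := congrArg (fun a => bf a a3) h
    have k4 := congrArg (fun a => bf a a4) h
    obtain ⟨e1, e2, e3, e4⟩ := e
    obtain ⟨f1, f2, f3, f4⟩ := e'
    simp only [hP] at k1 k2 k3 k4
    rcases e1 <;> rcases e2 <;> rcases e3 <;> rcases e4 <;> rcases f1 <;> rcases f2 <;> rcases f3 <;> rcases f4 <;>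
      simp [H.bf_mul, H.bf_one, H.bf_self, H.bf_symm a2 a1, H.bf_symm a3 a1, H.bf_symm a4 a1, H.bf_symm a3 a2,
        H.bf_symm a4 a2, H.bf_symm a4 a3, b12, b13, b14, b23, b24, b34] at k1 k2 k3 k4 ⊢
  have hbij := (Fintype.bijective_iff_injective_and_card P).2 ⟨hinj, by rw [H.card_quot]; rfl⟩
  refine H.cent M fun x hx => ?_
  obtain ⟨⟨e1, e2, e3, e4⟩, he⟩ := hbij.2 (QuotientGroup.mk ⟨x, hx⟩)
  obtain ⟨z, hz⟩ : ∃ z, z ∈ center R ∧ (⟨x, hx⟩ : R) =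
      cond e1 ⟨u₁, C.m1⟩ 1 * cond e2 ⟨u₂, C.m2⟩ 1 * cond e3 ⟨u₃, C.m3⟩ 1 * cond e4 ⟨u₄, C.m4⟩ 1 * z := by
    refine ⟨(cond e1 ⟨u₁, C.m1⟩ 1 * cond e2 ⟨u₂, C.m2⟩ 1 * cond e3 ⟨u₃, C.m3⟩ 1 * cond e4 ⟨u₄, C.m4⟩ 1)⁻¹ * ⟨x, hx⟩, ?_, by group⟩
    rw [← QuotientGroup.eq]
    rw [← he, hP, ha1, ha2, ha3, ha4]
    rcases e1 <;> rcases e2 <;> rcases e3 <;> rcases e4 <;> rfl
  obtain ⟨c, hc⟩ := (center_scalar H.cent z).1 hz.1
  have hS : ∀ (b : Bool) (u : R), M * (u.1).1 = (u.1).1 * M → Commute M ((cond b u 1 : R).1).1 := fun b u hu => by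
    cases b
    · exact Commute.one_right M
    · exact hu
  have hx' : x.1 = ((cond e1 (⟨u₁, C.m1⟩ : R) 1).1).1 * ((cond e2 (⟨u₂, C.m2⟩ : R) 1).1).1 *
      ((cond e3 (⟨u₃, C.m3⟩ : R) 1).1).1 * ((cond e4 (⟨u₄, C.m4⟩ : R) 1).1).1 * (z.1).1 :=
    congrArg (fun w : R => (w.1).1) hz.2
  rw [hx']
  refine (((((hS e1 ⟨u₁, C.m1⟩ h1).mul_right (hS e2 ⟨u₂, C.m2⟩ h2)).mul_right (hS e3 ⟨u₃, C.m3⟩ h3)).mul_right
    (hS e4 ⟨u₄, C.m4⟩ h4)).mul_right ?_).eq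
  rw [hc]
  exact (Commute.one_right M).smul_right c

/-- An element of order five modulo scalars. -/
theorem five [Finite F] (H : Hyp R) {u₁ u₂ u₃ u₄ : GL ι F} (C : Chain R u₁ u₂ u₃ u₄) :
    ∃ h ∈ Cfsg.Geo.subgroupNormalizer R, (∃ c : F, (h ^ 5).1 = c • (1 : Matrix ι ι F)) ∧
      (∀ c : F, h.1 ≠ c • (1 : Matrix ι ι F)) ∧ ∀ ad, AdFix R ad → ad h.1 * h.1 = 1 := by
  haveI := H.nonempty
  obtain ⟨g, hg⟩ : ∃ g, g = cl H.two u₁ C.s1 * cl H.two u₂ C.s2 * cl H.two u₃ C.s3 * cl H.two u₄ C.s4 := ⟨_, rfl⟩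
  have hgN : g ∈ Cfsg.Geo.subgroupNormalizer R :=
    hg ▸ mul_mem (mul_mem (mul_mem (H.cl_mem C.m1 C.s1) (H.cl_mem C.m2 C.s2)) (H.cl_mem C.m3 C.s3)) (H.cl_mem C.m4 C.s4)
  obtain ⟨m1, hm1⟩ : ∃ m, m = cl H.two u₁ C.s1 := ⟨_, rfl⟩
  obtain ⟨m2, hm2⟩ : ∃ m, m = cl H.two u₂ C.s2 := ⟨_, rfl⟩
  obtain ⟨m3, hm3⟩ : ∃ m, m = cl H.two u₃ C.s3 := ⟨_, rfl⟩
  obtain ⟨m4, hm4⟩ : ∃ m, m = cl H.two u₄ C.s4 := ⟨_, rfl⟩
  have key : ∀ x : GL ι F, g * x * g⁻¹ = m1 * (m2 * (m3 * (m4 * x * m4⁻¹) * m3⁻¹) * m2⁻¹) * m1⁻¹ := fun x => by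
    rw [hg, ← hm1, ← hm2, ← hm3, ← hm4]; group
  have c1 : g * u₁ * g⁻¹ = u₂ := by
    rw [key, hm4, cl_conj_comm H.two C.s4 C.c14.symm, hm3, cl_conj_comm H.two C.s3 C.c13.symm, hm2,
      cl_conj_anti H.two C.s2 (by rw [C.a12, neg_neg]), hm1,
      cl_conj_anti H.two C.s1 (t := u₂ * u₁) (by rw [Units.val_mul, ← mul_assoc, C.a12, neg_mul])]
    refine Units.ext ?_
    rw [Units.val_mul, Units.val_mul, ← mul_assoc, C.a12, neg_mul, mul_assoc, C.s1]; simp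
  have c2 : g * u₂ * g⁻¹ = u₃ := by
    rw [key, hm4, cl_conj_comm H.two C.s4 C.c24.symm, hm3,
      cl_conj_anti H.two C.s3 (by rw [C.a23, neg_neg]), hm2,
      cl_conj_anti H.two C.s2 (t := u₃ * u₂) (by rw [Units.val_mul, ← mul_assoc, C.a23, neg_mul]), hm1]
    rw [show u₂ * (u₃ * u₂) = u₃ from Units.ext (by
      rw [Units.val_mul, Units.val_mul, ← mul_assoc, C.a23, neg_mul, mul_assoc, C.s2]; simp),
      cl_conj_comm H.two C.s1 C.c13]
  have c3 : g * u₃ * g⁻¹ = u₄ := by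
    rw [key, hm4, cl_conj_anti H.two C.s4 (by rw [C.a34, neg_neg]), hm3,
      cl_conj_anti H.two C.s3 (t := u₄ * u₃) (by rw [Units.val_mul, ← mul_assoc, C.a34, neg_mul]), hm2]
    rw [show u₃ * (u₄ * u₃) = u₄ from Units.ext (by
      rw [Units.val_mul, Units.val_mul, ← mul_assoc, C.a34, neg_mul, mul_assoc, C.s3]; simp),
      cl_conj_comm H.two C.s2 C.c24, hm1, cl_conj_comm H.two C.s1 C.c14]
  obtain ⟨P, hP⟩ : ∃ P, P = u₁ * (u₂ * (u₃ * u₄)) := ⟨_, rfl⟩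
  have c4 : g * u₄ * g⁻¹ = P := by
    rw [key, hm4, cl_conj_comm H.two C.s4 rfl, hm3, cl_conj_anti H.two C.s3 C.a34, hm2,
      cl_conj_anti H.two C.s2 (t := u₃ * u₄) (by
        rw [Units.val_mul, ← mul_assoc, C.a23, neg_mul, mul_assoc, C.c24, ← mul_assoc]), hm1,
      cl_conj_anti H.two C.s1 (t := u₂ * (u₃ * u₄)) (by
        rw [Units.val_mul, Units.val_mul, ← mul_assoc, C.a12, neg_mul, mul_assoc, ← mul_assoc u₁.1, C.c13, mul_assoc, C.c14]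
        simp only [mul_assoc]), hP]
  have c5 : g * P * g⁻¹ = u₁ := by
    calc g * P * g⁻¹ = (g * u₁ * g⁻¹) * ((g * u₂ * g⁻¹) * ((g * u₃ * g⁻¹) * (g * u₄ * g⁻¹))) := by rw [hP]; group
      _ = u₂ * (u₃ * (u₄ * P)) := by rw [c1, c2, c3, c4]
      _ = u₁ := by
        refine Units.ext ?_
        have r21 : ∀ X : Matrix ι ι F, u₂.1 * (u₁.1 * X) = -(u₁.1 * (u₂.1 * X)) := fun X => by
          rw [← mul_assoc, ← mul_assoc, ← neg_mul, C.a12, neg_neg]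
        have r31 : ∀ X : Matrix ι ι F, u₃.1 * (u₁.1 * X) = u₁.1 * (u₃.1 * X) := fun X => by
          rw [← mul_assoc, ← mul_assoc, C.c13]
        have r41 : ∀ X : Matrix ι ι F, u₄.1 * (u₁.1 * X) = u₁.1 * (u₄.1 * X) := fun X => by
          rw [← mul_assoc, ← mul_assoc, C.c14]
        have r32 : ∀ X : Matrix ι ι F, u₃.1 * (u₂.1 * X) = -(u₂.1 * (u₃.1 * X)) := fun X => by
          rw [← mul_assoc, ← mul_assoc, ← neg_mul, C.a23, neg_neg]
        have r42 : ∀ X : Matrix ι ι F, u₄.1 * (u₂.1 * X) = u₂.1 * (u₄.1 * X) := fun X => by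
          rw [← mul_assoc, ← mul_assoc, C.c24]
        have r43 : ∀ X : Matrix ι ι F, u₄.1 * (u₃.1 * X) = -(u₃.1 * (u₄.1 * X)) := fun X => by
          rw [← mul_assoc, ← mul_assoc, ← neg_mul, C.a34, neg_neg]
        have r22 : ∀ X : Matrix ι ι F, u₂.1 * (u₂.1 * X) = -X := fun X => by rw [← mul_assoc, C.s2, neg_one_mul]
        have r33 : ∀ X : Matrix ι ι F, u₃.1 * (u₃.1 * X) = -X := fun X => by rw [← mul_assoc, C.s3, neg_one_mul]
        simp only [hP, Units.val_mul, r21, r31, r41, r32, r42, r43, r22, r33, C.s2, C.s3, C.s4, mul_neg, neg_neg, mul_one]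
  have h5 : ∀ x : GL ι F, g ^ 5 * x * (g ^ 5)⁻¹ = g * (g * (g * (g * (g * x * g⁻¹) * g⁻¹) * g⁻¹) * g⁻¹) * g⁻¹ := fun x => by
    simp only [pow_succ, pow_zero, one_mul, _root_.mul_inv_rev, mul_assoc]
  obtain ⟨M, hM⟩ : ∃ M, M = (g ^ 5).1 := ⟨_, rfl⟩
  have k1 : M * u₁.1 = u₁.1 * M := by
    have e := h5 u₁
    rw [c1, c2, c3, c4, c5, mul_inv_eq_iff_eq_mul] at e
    rw [hM, ← Units.val_mul, ← Units.val_mul, e]
  have kg : M * g.1 = g.1 * M := by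
    rw [hM, ← Units.val_mul, ← Units.val_mul, ← pow_succ, ← pow_succ']
  have k2 : M * u₂.1 = u₂.1 * M := c1 ▸ comm_conj kg k1
  have k3 : M * u₃.1 = u₃.1 * M := c2 ▸ comm_conj kg k2
  have k4 : M * u₄.1 = u₄.1 * M := c3 ▸ comm_conj kg k3
  obtain ⟨c, hc⟩ := H.chain_scalar C k1 k2 k3 k4
  have h44 : ((4 : F)⁻¹ * 4) = 1 := inv_mul_cancel₀ H.four_ne
  let h : GL ι F :=
    ⟨(4 : F)⁻¹ • g.1, (4 : F) • (g⁻¹ : GL ι F).1,
      by rw [smul_mul_smul_comm, Units.mul_inv, h44, one_smul],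
      by rw [smul_mul_smul_comm, Units.inv_mul, mul_inv_cancel₀ H.four_ne, one_smul]⟩
  refine ⟨h, ?_, ⟨((4 : F)⁻¹) ^ 5 * c, ?_⟩, fun d hd => ?_, fun ad A => ?_⟩
  · let s : GL ι F :=
      ⟨(4 : F)⁻¹ • 1, (4 : F) • 1, by rw [smul_mul_smul_comm, mul_one, h44, one_smul],
        by rw [smul_mul_smul_comm, mul_one, mul_inv_cancel₀ H.four_ne, one_smul]⟩
    rw [show h = s * g from Units.ext (by show _ = ((4 : F)⁻¹ • 1) * g.1; rw [smul_mul_assoc, one_mul])]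
    exact mul_mem (scalar_mem_norm (c := (4 : F)⁻¹) rfl) hgN
  · show ((4 : F)⁻¹ • g.1) ^ 5 = _
    rw [smul_pow, ← Units.val_pow_eq_pow_val, ← hM, hc, smul_smul]
  · have hgd : g.1 = (4 * d) • (1 : Matrix ι ι F) := by
      change (4 : F)⁻¹ • g.1 = d • 1 at hd
      rw [mul_smul, ← hd, smul_smul, mul_inv_cancel₀ H.four_ne, one_smul]
    have e : u₂ = u₁ := by
      rw [← c1, mul_inv_eq_iff_eq_mul]
      exact Units.ext (by rw [Units.val_mul, Units.val_mul, hgd, smul_mul_assoc, mul_smul_comm, one_mul, mul_one])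
    have h' := C.a12
    rw [e] at h'
    exact H.ne_neg (u₁ * u₁) (by rw [Units.val_mul]; exact h')
  · have hgg : ad g.1 * g.1 = (16 : F) • 1 := by
      rw [hg, Units.val_mul, Units.val_mul, Units.val_mul, A.mul, A.mul, A.mul]
      simp only [← hm1, ← hm2, ← hm3, ← hm4]
      calc ad m4.1 * (ad m3.1 * (ad m2.1 * ad m1.1)) * (m1.1 * m2.1 * m3.1 * m4.1)
          = ad m4.1 * (ad m3.1 * (ad m2.1 * (ad m1.1 * m1.1) * m2.1) * m3.1) * m4.1 := by simp only [mul_assoc]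
        _ = _ := by
          rw [hm1, H.cl_ad A C.m1 C.s1, mul_smul_comm, mul_one, smul_mul_assoc, hm2, H.cl_ad A C.m2 C.s2, mul_smul_comm,
            mul_smul_comm, mul_one, smul_mul_assoc, smul_mul_assoc, hm3, H.cl_ad A C.m3 C.s3, smul_smul, smul_smul, mul_smul_comm,
            mul_one, smul_mul_assoc, hm4, H.cl_ad A C.m4 C.s4, smul_smul]
          norm_num
    have had : (4 : F) • ad h.1 = ad g.1 := by
      rw [show g.1 = (h.1 + h.1) + (h.1 + h.1) by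
        show _ = ((4 : F)⁻¹ • g.1 + (4 : F)⁻¹ • g.1) + ((4 : F)⁻¹ • g.1 + (4 : F)⁻¹ • g.1)
        rw [← add_smul, ← add_smul]
        conv_lhs => rw [← one_smul F g.1, ← h44]
        congr 1; ring, A.add, A.add]
      rw [show (4 : F) = (1 + 1) + (1 + 1) by norm_num, add_smul, add_smul, one_smul]
    refine smul_right_injective _ H.four_ne ?_
    show (4 : F) • (ad h.1 * ((4 : F)⁻¹ • g.1)) = (4 : F) • 1
    rw [← smul_mul_assoc, had, mul_smul_comm, hgg, smul_smul]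
    congr 1
    rw [eq_comm, ← div_eq_inv_mul, eq_div_iff H.four_ne]; norm_num

theorem exists_lift (H : Hyp R) (hZ : ∀ z : R, z ∈ center R → (z.1).1 = 1 ∨ (z.1).1 = -1) {a : ↥R ⧸ center ↥R}
    (ha : qf a = -1) : ∃ u : R, QuotientGroup.mk u = a ∧ (u.1).1 * (u.1).1 = -1 := by
  refine ⟨a.out, QuotientGroup.out_eq' a, ?_⟩
  have h := H.qf_mk hZ a.out
  rw [QuotientGroup.out_eq', ha] at h
  simpa using h

theorem comm_of_bf (H : Hyp R) {x y : R} (h : bf (QuotientGroup.mk x : ↥R ⧸ center ↥R) (QuotientGroup.mk y) = 1) :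
    (x.1).1 * (y.1).1 = (y.1).1 * (x.1).1 := by
  rw [H.bf_mk] at h
  simpa [h] using H.mul_sgn x.2 y.2

theorem anti_of_bf (H : Hyp R) {x y : R} (h : bf (QuotientGroup.mk x : ↥R ⧸ center ↥R) (QuotientGroup.mk y) = -1) :
    (x.1).1 * (y.1).1 = -((y.1).1 * (x.1).1) := by
  rw [H.bf_mk] at h
  simpa [h] using H.mul_sgn x.2 y.2

theorem ne_one_of_bf (H : Hyp R) {a b : ↥R ⧸ center ↥R} (h : bf a b = -1) : a ≠ 1 := fun e => by
  rw [e, H.bf_one] at h; norm_num at h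

/-- A chain in the case of a small centre. -/
theorem chain_small (H : Hyp R) (hZ : ∀ z : R, z ∈ center R → (z.1).1 = 1 ∨ (z.1).1 = -1) {J : GL ι F}
    (hJ : J.1ᵀ = -J.1) (hfix : ∀ x ∈ R, x.1ᵀ * J.1 * x.1 = J.1) :
    ∃ u₁ u₂ u₃ u₄, Chain R u₁ u₂ u₃ u₄ := by
  classical
  have hs := H.sum_qf hZ hJ hfix
  have hqb : ∀ w : ↥R ⧸ center ↥R, ∑ a, qf a * bf a w = -4 * qf w := fun w => by rw [H.sum_qf_bf hZ, hs, mul_comm]
  have hcardZ : (∑ _a : ↥R ⧸ center ↥R, (1 : ℤ)) = 16 := by simp [H.card_quot]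
  obtain ⟨a1, hq1⟩ : ∃ a : ↥R ⧸ center ↥R, qf a = -1 := by
    by_contra hc
    push Not at hc
    rw [Finset.sum_congr rfl fun a _ => (qf_pm a).resolve_right (hc a), hcardZ] at hs
    norm_num at hs
  have n1 : a1 ≠ 1 := fun e => by rw [e, H.qf_one hZ] at hq1; norm_num at hq1
  obtain ⟨a2, hq2, b21⟩ : ∃ a : ↥R ⧸ center ↥R, qf a = -1 ∧ bf a a1 = -1 := by
    by_contra hc
    push Not at hc
    have h0 : ∑ a : ↥R ⧸ center ↥R, (1 - qf a) * (1 - bf a a1) = 0 := Finset.sum_eq_zero fun a _ => by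
      rcases qf_pm a with e | e <;> rcases bf_pm a a1 with e' | e' <;> simp [e, e']
      exact hc a e e'
    have h1 : ∑ a : ↥R ⧸ center ↥R, (1 - qf a) * (1 - bf a a1) =
        ∑ a : ↥R ⧸ center ↥R, ((1 : ℤ) - bf a a1 - qf a + qf a * bf a a1) := Finset.sum_congr rfl fun a _ => by ring
    rw [h0, Finset.sum_add_distrib, Finset.sum_sub_distrib, Finset.sum_sub_distrib, hcardZ, H.sum_bf n1, hs, hqb, hq1] at h1
    norm_num at h1
  have n2 : a2 ≠ 1 := H.ne_one_of_bf b21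
  have n12 : a1 * a2 ≠ 1 := H.ne_one_of_bf (b := a1) (by rw [H.bf_mul, H.bf_self, b21, one_mul])
  have q12 : qf (a1 * a2) = -1 := by rw [H.qf_mul hZ, hq1, hq2, H.bf_symm, b21]; norm_num
  obtain ⟨a3, hq3, b31, b32, hne3⟩ : ∃ a : ↥R ⧸ center ↥R, qf a = -1 ∧ bf a a1 = 1 ∧ bf a a2 = -1 ∧ a ≠ a1 := by
    by_contra hc
    push Not at hc
    have h0 : ∑ a : ↥R ⧸ center ↥R, (1 - qf a) * (1 + bf a a1) * (1 - bf a a2) = 8 := by
      rw [Finset.sum_eq_single a1 (fun a _ hne => ?_) (fun h => absurd (Finset.mem_univ a1) h), hq1, H.bf_self, H.bf_symm, b21]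
      · norm_num
      rcases qf_pm a with e | e <;> rcases bf_pm a a1 with e' | e' <;> rcases bf_pm a a2 with e'' | e'' <;> simp [e, e', e'']
      exact hne (hc a e e' e'')
    have h1 : ∑ a : ↥R ⧸ center ↥R, (1 - qf a) * (1 + bf a a1) * (1 - bf a a2) =
        ∑ a : ↥R ⧸ center ↥R, ((1 : ℤ) + bf a a1 - bf a a2 - bf a (a1 * a2) - qf a - qf a * bf a a1 + qf a * bf a a2
          + qf a * bf a (a1 * a2)) := Finset.sum_congr rfl fun a _ => by rw [H.bf_mul']; ring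
    rw [h0] at h1
    simp only [Finset.sum_add_distrib, Finset.sum_sub_distrib, hcardZ, H.sum_bf n1, H.sum_bf n2, H.sum_bf n12, hs, hqb, hq1,
      hq2, q12] at h1
    norm_num at h1
  have n3 : a3 ≠ 1 := H.ne_one_of_bf b32
  have n13 : a1 * a3 ≠ 1 := fun e => hne3 (by rw [← inv_eq_of_mul_eq_one_right e, H.quot_inv])
  have n23 : a2 * a3 ≠ 1 := H.ne_one_of_bf (b := a1) (by rw [H.bf_mul, b21, b31]; norm_num)
  have n123 : a1 * a2 * a3 ≠ 1 := H.ne_one_of_bf (b := a1) (by rw [H.bf_mul, H.bf_mul, H.bf_self, b21, b31]; norm_num)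
  have q13 : qf (a1 * a3) = 1 := by rw [H.qf_mul hZ, hq1, hq3, H.bf_symm, b31]; norm_num
  have q23 : qf (a2 * a3) = -1 := by rw [H.qf_mul hZ, hq2, hq3, H.bf_symm, b32]; norm_num
  have q123 : qf (a1 * a2 * a3) = -1 := by
    rw [H.qf_mul hZ, q12, hq3, H.bf_mul, H.bf_symm a1, b31, H.bf_symm a2, b32]; norm_num
  obtain ⟨a4, hq4, b41, b42, b43⟩ : ∃ a : ↥R ⧸ center ↥R, qf a = -1 ∧ bf a a1 = 1 ∧ bf a a2 = 1 ∧ bf a a3 = -1 := by
    by_contra hc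
    push Not at hc
    have h0 : ∑ a : ↥R ⧸ center ↥R, (1 - qf a) * (1 + bf a a1) * (1 + bf a a2) * (1 - bf a a3) = 0 :=
      Finset.sum_eq_zero fun a _ => by
        rcases qf_pm a with e | e <;> rcases bf_pm a a1 with e' | e' <;> rcases bf_pm a a2 with e'' | e'' <;>
          rcases bf_pm a a3 with e3 | e3 <;> simp [e, e', e'', e3]
        exact hc a e e' e'' e3
    have h1 : ∑ a : ↥R ⧸ center ↥R, (1 - qf a) * (1 + bf a a1) * (1 + bf a a2) * (1 - bf a a3) =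
        ∑ a : ↥R ⧸ center ↥R, ((1 : ℤ) + bf a a1 + bf a a2 + bf a (a1 * a2) - bf a a3 - bf a (a1 * a3) - bf a (a2 * a3)
          - bf a (a1 * a2 * a3) - qf a - qf a * bf a a1 - qf a * bf a a2 - qf a * bf a (a1 * a2) + qf a * bf a a3
          + qf a * bf a (a1 * a3) + qf a * bf a (a2 * a3) + qf a * bf a (a1 * a2 * a3)) :=
      Finset.sum_congr rfl fun a _ => by simp only [H.bf_mul']; ring
    rw [h0] at h1
    simp only [Finset.sum_add_distrib, Finset.sum_sub_distrib, hcardZ, H.sum_bf n1, H.sum_bf n2, H.sum_bf n12, H.sum_bf n3,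
      H.sum_bf n13, H.sum_bf n23, H.sum_bf n123, hs, hqb, hq1, hq2, hq3, q12, q13, q23, q123] at h1
    norm_num at h1
  obtain ⟨u1, hu1, s1⟩ := H.exists_lift hZ hq1
  obtain ⟨u2, hu2, s2⟩ := H.exists_lift hZ hq2
  obtain ⟨u3, hu3, s3⟩ := H.exists_lift hZ hq3
  obtain ⟨u4, hu4, s4⟩ := H.exists_lift hZ hq4
  exact ⟨u1.1, u2.1, u3.1, u4.1, u1.2, u2.2, u3.2, u4.2, s1, s2, s3, s4,
    H.anti_of_bf (by rw [hu1, hu2, H.bf_symm, b21]), H.comm_of_bf (by rw [hu1, hu3, H.bf_symm, b31]),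
    H.comm_of_bf (by rw [hu1, hu4, H.bf_symm, b41]), H.anti_of_bf (by rw [hu2, hu3, H.bf_symm, b32]),
    H.comm_of_bf (by rw [hu2, hu4, H.bf_symm, b42]), H.anti_of_bf (by rw [hu3, hu4, H.bf_symm, b43])⟩

/-- A chain when the group has a scalar square root of minus one. -/
theorem chain_big (H : Hyp R) {c : F} (hc : c * c = -1) {sc : GL ι F} (hsc : sc ∈ R) (hscv : sc.1 = c • (1 : Matrix ι ι F)) :
    ∃ u₁ u₂ u₃ u₄, Chain R u₁ u₂ u₃ u₄ := by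
  classical
  have hlift : ∀ a : ↥R ⧸ center ↥R, ∃ u : R, QuotientGroup.mk u = a ∧ (u.1).1 * (u.1).1 = -1 := by
    intro a
    rcases H.sq _ (a.out : R).2 with h | h
    · refine ⟨⟨sc, hsc⟩ * a.out, ?_, ?_⟩
      · rw [QuotientGroup.mk_mul, QuotientGroup.out_eq', (QuotientGroup.eq_one_iff _).2 ((center_scalar H.cent _).2 ⟨c, hscv⟩),
          one_mul]
      · rw [Subgroup.coe_mul, Units.val_mul, hscv, smul_mul_assoc, one_mul, smul_mul_smul_comm, h, hc, neg_one_smul]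
    · exact ⟨a.out, QuotientGroup.out_eq' a, h⟩
  have hcardZ : (∑ _a : ↥R ⧸ center ↥R, (1 : ℤ)) = 16 := by simp [H.card_quot]
  obtain ⟨a1, n1⟩ : ∃ a : ↥R ⧸ center ↥R, a ≠ 1 := by
    by_contra h
    push Not at h
    have := Fintype.card_le_one_iff.2 fun a b : ↥R ⧸ center ↥R => (h a).trans (h b).symm
    rw [H.card_quot] at this
    norm_num at this
  obtain ⟨a2, b21'⟩ := H.bf_nondeg n1
  have b21 : bf a2 a1 = -1 := by rw [H.bf_symm, b21']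
  have n2 : a2 ≠ 1 := H.ne_one_of_bf b21
  have n12 : a1 * a2 ≠ 1 := H.ne_one_of_bf (b := a1) (by rw [H.bf_mul, H.bf_self, b21, one_mul])
  obtain ⟨a3, b31, b32, hne3⟩ : ∃ a : ↥R ⧸ center ↥R, bf a a1 = 1 ∧ bf a a2 = -1 ∧ a ≠ a1 := by
    by_contra hc
    push Not at hc
    have h0 : ∑ a : ↥R ⧸ center ↥R, (1 + bf a a1) * (1 - bf a a2) = 4 := by
      rw [Finset.sum_eq_single a1 (fun a _ hne => ?_) (fun h => absurd (Finset.mem_univ a1) h), H.bf_self, H.bf_symm, b21]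
      · norm_num
      rcases bf_pm a a1 with e' | e' <;> rcases bf_pm a a2 with e'' | e'' <;> simp [e', e'']
      exact hne (hc a e' e'')
    have h1 : ∑ a : ↥R ⧸ center ↥R, (1 + bf a a1) * (1 - bf a a2) =
        ∑ a : ↥R ⧸ center ↥R, ((1 : ℤ) + bf a a1 - bf a a2 - bf a (a1 * a2)) :=
      Finset.sum_congr rfl fun a _ => by rw [H.bf_mul']; ring
    rw [h0] at h1
    simp only [Finset.sum_add_distrib, Finset.sum_sub_distrib, hcardZ, H.sum_bf n1, H.sum_bf n2, H.sum_bf n12] at h1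
    norm_num at h1
  have n3 : a3 ≠ 1 := H.ne_one_of_bf b32
  have n13 : a1 * a3 ≠ 1 := fun e => hne3 (by rw [← inv_eq_of_mul_eq_one_right e, H.quot_inv])
  have n23 : a2 * a3 ≠ 1 := H.ne_one_of_bf (b := a1) (by rw [H.bf_mul, b21, b31]; norm_num)
  have n123 : a1 * a2 * a3 ≠ 1 := H.ne_one_of_bf (b := a1) (by rw [H.bf_mul, H.bf_mul, H.bf_self, b21, b31]; norm_num)
  obtain ⟨a4, b41, b42, b43⟩ : ∃ a : ↥R ⧸ center ↥R, bf a a1 = 1 ∧ bf a a2 = 1 ∧ bf a a3 = -1 := by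
    by_contra hc
    push Not at hc
    have h0 : ∑ a : ↥R ⧸ center ↥R, (1 + bf a a1) * (1 + bf a a2) * (1 - bf a a3) = 0 :=
      Finset.sum_eq_zero fun a _ => by
        rcases bf_pm a a1 with e' | e' <;> rcases bf_pm a a2 with e'' | e'' <;> rcases bf_pm a a3 with e3 | e3 <;>
          simp [e', e'', e3]
        exact hc a e' e'' e3
    have h1 : ∑ a : ↥R ⧸ center ↥R, (1 + bf a a1) * (1 + bf a a2) * (1 - bf a a3) =
        ∑ a : ↥R ⧸ center ↥R, ((1 : ℤ) + bf a a1 + bf a a2 + bf a (a1 * a2) - bf a a3 - bf a (a1 * a3) - bf a (a2 * a3)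
          - bf a (a1 * a2 * a3)) := Finset.sum_congr rfl fun a _ => by simp only [H.bf_mul']; ring
    rw [h0] at h1
    simp only [Finset.sum_add_distrib, Finset.sum_sub_distrib, hcardZ, H.sum_bf n1, H.sum_bf n2, H.sum_bf n12, H.sum_bf n3,
      H.sum_bf n13, H.sum_bf n23, H.sum_bf n123] at h1
    norm_num at h1
  obtain ⟨u1, hu1, s1⟩ := hlift a1
  obtain ⟨u2, hu2, s2⟩ := hlift a2
  obtain ⟨u3, hu3, s3⟩ := hlift a3
  obtain ⟨u4, hu4, s4⟩ := hlift a4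
  exact ⟨u1.1, u2.1, u3.1, u4.1, u1.2, u2.2, u3.2, u4.2, s1, s2, s3, s4,
    H.anti_of_bf (by rw [hu1, hu2, H.bf_symm, b21]), H.comm_of_bf (by rw [hu1, hu3, H.bf_symm, b31]),
    H.comm_of_bf (by rw [hu1, hu4, H.bf_symm, b41]), H.anti_of_bf (by rw [hu2, hu3, H.bf_symm, b32]),
    H.comm_of_bf (by rw [hu2, hu4, H.bf_symm, b42]), H.anti_of_bf (by rw [hu3, hu4, H.bf_symm, b43])⟩

/-- The element of order three attached to a quaternion pair. -/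
theorem quat [Finite F] (H : Hyp R) {u v : GL ι F} (huR : u ∈ R) (hvR : v ∈ R) (hu : u.1 * u.1 = -1) (hv : v.1 * v.1 = -1)
    (huv : u.1 * v.1 = -(v.1 * u.1)) :
    ∃ g ∈ Cfsg.Geo.subgroupNormalizer R, g ^ 3 = 1 ∧ g.1 * v.1 ≠ v.1 * g.1 ∧ g.1.trace = -2 ∧
      (∀ M : Matrix ι ι F, M * u.1 = u.1 * M → M * v.1 = v.1 * M → M * g.1 = g.1 * M) ∧
      (∀ X : Matrix ι ι F, u.1 * X = X * u.1 → v.1 * X = X * v.1 → 2 * (g.1 * X).trace = -X.trace) ∧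
      ∀ ad, AdFix R ad → ad g.1 * g.1 = 1 := by
  haveI := H.nonempty
  obtain ⟨W, hW⟩ : ∃ W, W = u.1 * v.1 := ⟨_, rfl⟩
  have hvu : v.1 * u.1 = -(u.1 * v.1) := by rw [huv, neg_neg]
  have r1 : ∀ X : Matrix ι ι F, v.1 * (u.1 * X) = -(u.1 * (v.1 * X)) := fun X => by
    rw [← mul_assoc, hvu, neg_mul, mul_assoc]
  have r2 : ∀ X : Matrix ι ι F, u.1 * (u.1 * X) = -X := fun X => by rw [← mul_assoc, hu, neg_one_mul]
  have r3 : ∀ X : Matrix ι ι F, v.1 * (v.1 * X) = -X := fun X => by rw [← mul_assoc, hv, neg_one_mul]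
  obtain ⟨G, hG⟩ : ∃ G, G = -1 + u.1 + v.1 + u.1 * v.1 := ⟨_, rfl⟩
  obtain ⟨G', hG'⟩ : ∃ G', G' = -1 - u.1 - v.1 - u.1 * v.1 := ⟨_, rfl⟩
  have hGG' : G * G' = (4 : F) • 1 := by
    rw [hG, hG', show (4 : F) = (1 + 1) + (1 + 1) by norm_num, add_smul, add_smul, one_smul]
    simp only [mul_add, add_mul, mul_sub, sub_mul, mul_assoc, r1, r2, r3, hvu, hu, hv, mul_neg, neg_mul, neg_neg, one_mul, mul_one]
    abel
  have hG'G : G' * G = (4 : F) • 1 := by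
    rw [hG, hG', show (4 : F) = (1 + 1) + (1 + 1) by norm_num, add_smul, add_smul, one_smul]
    simp only [mul_add, add_mul, mul_sub, sub_mul, mul_assoc, r1, r2, r3, hvu, hu, hv, mul_neg, neg_mul, neg_neg, one_mul, mul_one]
    abel
  have hG2 : G * G = (2 : F) • G' := by
    rw [hG, hG', two_smul]
    simp only [mul_add, add_mul, mul_sub, sub_mul, mul_assoc, r1, r2, r3, hvu, hu, hv, mul_neg, neg_mul, neg_neg, one_mul, mul_one]
    abel
  have h22 : (2 : F)⁻¹ * (2 : F)⁻¹ * 4 = 1 := by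
    rw [show (4 : F) = 2 * 2 by norm_num]; field_simp [H.two]
  let g : GL ι F :=
    ⟨(2 : F)⁻¹ • G, (2 : F)⁻¹ • G',
      by rw [smul_mul_smul_comm, hGG', smul_smul, h22, one_smul],
      by rw [smul_mul_smul_comm, hG'G, smul_smul, h22, one_smul]⟩
  have hg2 : g * g = g⁻¹ := Units.ext (by
    show ((2 : F)⁻¹ • G) * ((2 : F)⁻¹ • G) = (2 : F)⁻¹ • G'
    rw [smul_mul_smul_comm, hG2, smul_smul, mul_assoc, inv_mul_cancel₀ H.two, mul_one])
  have hg3 : g ^ 3 = 1 := by rw [pow_three, hg2, mul_inv_cancel]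
  refine ⟨g, ?_, hg3, ?_, ?_, fun M hMu hMv => ?_, fun X hXu hXv => ?_, fun ad A => ?_⟩
  · let s : GL ι F :=
      ⟨(-2 : F) • 1, (-2 : F)⁻¹ • 1,
        by rw [smul_mul_smul_comm, mul_one, mul_inv_cancel₀ (neg_ne_zero.2 H.two), one_smul],
        by rw [smul_mul_smul_comm, mul_one, inv_mul_cancel₀ (neg_ne_zero.2 H.two), one_smul]⟩
    have hcl : cl H.two u hu * cl H.two v hv = s * g⁻¹ := Units.ext (by
      show (1 + u.1) * (1 + v.1) = ((-2 : F) • 1) * ((2 : F)⁻¹ • G')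
      rw [smul_mul_smul_comm, one_mul, neg_mul, mul_inv_cancel₀ H.two, neg_one_smul, hG']
      noncomm_ring)
    have := mul_mem (inv_mem (scalar_mem_norm (R := R) (y := s) (c := (-2 : F)) rfl))
      (mul_mem (H.cl_mem huR hu) (H.cl_mem hvR hv))
    rw [hcl, inv_mul_cancel_left] at this
    exact inv_inv g ▸ inv_mem this
  · intro h
    change ((2 : F)⁻¹ • G) * v.1 = v.1 * ((2 : F)⁻¹ • G) at h
    rw [smul_mul_assoc, mul_smul_comm] at h
    have h' := smul_right_injective _ (inv_ne_zero H.two) h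
    rw [hG] at h'
    simp only [mul_add, add_mul, mul_assoc, r1, hvu, hv, mul_neg, neg_mul, neg_neg, one_mul, mul_one] at h'
    have e : (2 : F) • (u.1 * v.1) = (2 : F) • u.1 := by
      rw [two_smul, two_smul]
      linear_combination (norm := abel) h'
    have e' : u * v = u := Units.ext (by rw [Units.val_mul]; exact smul_right_injective _ H.two e)
    rw [mul_eq_left.1 e', Units.val_one, mul_one] at hv
    exact H.ne_neg 1 (by rw [Units.val_one]; exact hv)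
  · show ((2 : F)⁻¹ • G).trace = -2
    rw [Matrix.trace_smul, hG, Matrix.trace_add, Matrix.trace_add, Matrix.trace_add, Matrix.trace_neg, Matrix.trace_one,
      H.card, H.trace_anti u.1 v hvu, H.trace_anti v.1 u huv,
      H.trace_anti (u.1 * v.1) v (by rw [r1, mul_assoc])]
    push_cast
    simp only [add_zero, smul_eq_mul]
    rw [inv_mul_eq_iff_eq_mul₀ H.two]; norm_num
  · show M * ((2 : F)⁻¹ • G) = ((2 : F)⁻¹ • G) * M
    rw [mul_smul_comm, smul_mul_assoc, hG]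
    congr 1
    simp only [mul_add, add_mul, mul_neg, neg_mul, one_mul, mul_one, hMu, hMv]
    rw [← mul_assoc M, hMu, mul_assoc, hMv, mul_assoc]
  · show 2 * ((((2 : F)⁻¹ • G) * X).trace) = -X.trace
    rw [smul_mul_assoc, Matrix.trace_smul, smul_eq_mul, ← mul_assoc, mul_inv_cancel₀ H.two, one_mul, hG]
    simp only [add_mul, neg_mul, one_mul, Matrix.trace_add, Matrix.trace_neg]
    rw [H.trace_anti (u.1 * X) v (by rw [r1, hXv, mul_assoc]),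
      H.trace_anti (v.1 * X) u (by rw [← mul_assoc, huv, neg_mul, mul_assoc, hXu, mul_assoc]),
      H.trace_anti (u.1 * v.1 * X) v (by simp only [mul_assoc, r1, r3, ← hXv])]
    ring
  · have e : (2 : F) • ad g.1 = G' := by
      rw [two_smul, ← A.add]
      show ad ((2 : F)⁻¹ • G + (2 : F)⁻¹ • G) = G'
      rw [← two_smul F, smul_smul, mul_inv_cancel₀ H.two, one_smul, hG, A.add, A.add, A.add, A.neg, A.one, A.mul,
        A.of_sq huR hu, A.of_sq hvR hv, neg_mul_neg, hvu, hG']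
      abel
    refine smul_right_injective _ H.two ?_
    show (2 : F) • (ad g.1 * ((2 : F)⁻¹ • G)) = (2 : F) • 1
    rw [← smul_mul_assoc, e, mul_smul_comm, hG'G, smul_smul]
    congr 1
    rw [inv_mul_eq_iff_eq_mul₀ H.two]; norm_num

/-- Elements of order three. -/
theorem three_pair [Finite F] (H : Hyp R) {c : F} (hc : c * c = -1) {sc : GL ι F} (hsc : sc ∈ R)
    (hscv : sc.1 = c • (1 : Matrix ι ι F)) {u₁ u₂ u₃ u₄ : GL ι F} (C : Chain R u₁ u₂ u₃ u₄) :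
    ∃ h ∈ Cfsg.Geo.subgroupNormalizer R, h ^ 3 = 1 ∧ (∀ d : F, h.1 ≠ d • (1 : Matrix ι ι F)) ∧ h.1.trace = 1 ∧
      ∀ ad, AdFix R ad → ad h.1 * h.1 = 1 := by
  obtain ⟨w, hw⟩ : ∃ w, w = sc * (u₁ * u₃) := ⟨_, rfl⟩
  have hwR : w ∈ R := hw ▸ mul_mem hsc (mul_mem C.m1 C.m3)
  have hwv : w.1 = c • (u₁.1 * u₃.1) := by rw [hw, Units.val_mul, hscv, smul_mul_assoc, one_mul, Units.val_mul]
  have hww : w.1 * w.1 = -1 := by
    rw [hwv, smul_mul_smul_comm, hc, neg_one_smul, mul_assoc, ← mul_assoc u₃.1, ← C.c13, mul_assoc u₁.1, C.s3]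
    simp [C.s1]
  have hw1 : w.1 * u₁.1 = u₁.1 * w.1 := by
    rw [hwv, smul_mul_assoc, mul_smul_comm, mul_assoc, ← C.c13]
  have hw2 : w.1 * u₂.1 = u₂.1 * w.1 := by
    rw [hwv, smul_mul_assoc, mul_smul_comm]
    congr 1
    rw [mul_assoc, show u₃.1 * u₂.1 = -(u₂.1 * u₃.1) by rw [C.a23, neg_neg], mul_neg, ← mul_assoc, C.a12, neg_mul, neg_neg,
      mul_assoc]
  have hw4 : u₄.1 * w.1 = -(w.1 * u₄.1) := by
    rw [hwv, smul_mul_assoc, mul_smul_comm, ← smul_neg]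
    congr 1
    rw [mul_assoc u₁.1, C.a34, mul_neg, neg_neg, ← mul_assoc, ← mul_assoc, C.c14]
  obtain ⟨g₁, hg₁N, hg₁3, hg₁v, hg₁t, hg₁c, hg₁X, hg₁a⟩ := H.quat C.m1 C.m2 C.s1 C.s2 C.a12
  obtain ⟨g₂, hg₂N, hg₂3, hg₂v, hg₂t, hg₂c, hg₂X, hg₂a⟩ := H.quat C.m4 hwR C.s4 hww hw4
  have hcu1 : g₂.1 * u₁.1 = u₁.1 * g₂.1 := (hg₂c u₁.1 C.c14 hw1.symm).symm
  have hcu2 : g₂.1 * u₂.1 = u₂.1 * g₂.1 := (hg₂c u₂.1 C.c24 hw2.symm).symm
  have hcomm : g₂ * g₁ = g₁ * g₂ := Units.ext (hg₁c g₂.1 hcu1 hcu2)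
  refine ⟨g₁ * g₂, mul_mem hg₁N hg₂N, ?_, fun d hd => ?_, ?_, fun ad A => ?_⟩
  · rw [(show Commute g₁ g₂ from hcomm.symm).mul_pow, hg₁3, hg₂3, one_mul]
  · apply hg₁v
    have e : (g₁ * g₂).1 * u₂.1 = u₂.1 * (g₁ * g₂).1 := by rw [hd, smul_mul_assoc, mul_smul_comm, one_mul, mul_one]
    rw [Units.val_mul, mul_assoc, hcu2, ← mul_assoc, ← mul_assoc] at e
    exact (Units.mul_left_inj g₂).1 e
  · have h := hg₁X g₂.1 hcu1.symm hcu2.symm
    rw [hg₂t, neg_neg] at h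
    rw [Units.val_mul]
    exact mul_left_cancel₀ H.two (h.trans (mul_one _).symm)
  · rw [Units.val_mul, A.mul, mul_assoc, ← mul_assoc (ad g₁.1), hg₁a ad A, one_mul, hg₂a ad A]

/-- A reflection in the normaliser. -/
theorem reflection [Finite F] (H : Hyp R) {c : F} (hc : c * c = -1) {sc : GL ι F} (hsc : sc ∈ R)
    (hscv : sc.1 = c • (1 : Matrix ι ι F)) {u₁ u₂ u₃ u₄ : GL ι F} (C : Chain R u₁ u₂ u₃ u₄) :
    ∃ s ∈ Cfsg.Geo.subgroupNormalizer R, s.1 * s.1 = 1 ∧ s.1.trace = 2 ∧ ∀ ad, AdFix R ad → ad s.1 * s.1 = 1 := by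
  obtain ⟨u, hu⟩ : ∃ u, u = sc * u₁ := ⟨_, rfl⟩
  obtain ⟨v, hv⟩ : ∃ v, v = sc * u₄ := ⟨_, rfl⟩
  have huR : u ∈ R := hu ▸ mul_mem hsc C.m1
  have hvR : v ∈ R := hv ▸ mul_mem hsc C.m4
  have huv' : u.1 = c • u₁.1 := by rw [hu, Units.val_mul, hscv, smul_mul_assoc, one_mul]
  have hvv' : v.1 = c • u₄.1 := by rw [hv, Units.val_mul, hscv, smul_mul_assoc, one_mul]
  have huu : u.1 * u.1 = 1 := by rw [huv', smul_mul_smul_comm, hc, C.s1, smul_neg, neg_one_smul, neg_neg]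
  have hvv : v.1 * v.1 = 1 := by rw [hvv', smul_mul_smul_comm, hc, C.s4, smul_neg, neg_one_smul, neg_neg]
  have hvu : v.1 * u.1 = u.1 * v.1 := by rw [huv', hvv', smul_mul_smul_comm, smul_mul_smul_comm, C.c14]
  obtain ⟨S, hS⟩ : ∃ S, S = 1 + u.1 + v.1 - u.1 * v.1 := ⟨_, rfl⟩
  have r1 : ∀ X : Matrix ι ι F, v.1 * (u.1 * X) = u.1 * (v.1 * X) := fun X => by rw [← mul_assoc, hvu, mul_assoc]
  have r2 : ∀ X : Matrix ι ι F, u.1 * (u.1 * X) = X := fun X => by rw [← mul_assoc, huu, one_mul]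
  have r3 : ∀ X : Matrix ι ι F, v.1 * (v.1 * X) = X := fun X => by rw [← mul_assoc, hvv, one_mul]
  have hSS : S * S = (4 : F) • 1 := by
    rw [hS, show (4 : F) = (1 + 1) + (1 + 1) by norm_num, add_smul, add_smul, one_smul]
    simp only [mul_add, add_mul, mul_sub, sub_mul, mul_assoc, r1, r2, r3, hvu, huu, hvv, one_mul, mul_one]
    abel
  have h22 : (2 : F)⁻¹ * (2 : F)⁻¹ * 4 = 1 := by
    rw [show (4 : F) = 2 * 2 by norm_num]; field_simp [H.two]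
  let s : GL ι F :=
    ⟨(2 : F)⁻¹ • S, (2 : F)⁻¹ • S, by rw [smul_mul_smul_comm, hSS, smul_smul, h22, one_smul],
      by rw [smul_mul_smul_comm, hSS, smul_smul, h22, one_smul]⟩
  refine ⟨s, mem_norm_of fun t ht => ?_, ?_, ?_, fun ad A => ?_⟩
  · have hSmul : ∀ Y : Matrix ι ι F, S * t.1 * S = (4 : F) • (t.1 * Y) → ∀ y : GL ι F, y.1 = Y → y ∈ R → s * t * s⁻¹ ∈ R := by
      intro Y hY y hy hyR
      have : s * t * s⁻¹ = t * y := Units.ext (by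
        show ((2 : F)⁻¹ • S) * t.1 * ((2 : F)⁻¹ • S) = _
        rw [smul_mul_assoc, smul_mul_smul_comm, hY, smul_smul, h22, one_smul, Units.val_mul, hy])
      rw [this]
      exact mul_mem ht hyR
    have four : ∀ Z : Matrix ι ι F, (4 : F) • Z = (Z + Z) + (Z + Z) := fun Z => by
      rw [show (4 : F) = (1 + 1) + (1 + 1) by norm_num, add_smul, add_smul, one_smul]
    rcases H.comm t ht u huR with a | a <;> rcases H.comm t ht v hvR with b | b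
    · refine hSmul 1 ?_ 1 rfl (one_mem R)
      have ta : ∀ X : Matrix ι ι F, u.1 * (t.1 * X) = t.1 * (u.1 * X) := fun X => by rw [← mul_assoc, a, mul_assoc]
      have tb : ∀ X : Matrix ι ι F, v.1 * (t.1 * X) = t.1 * (v.1 * X) := fun X => by rw [← mul_assoc, b, mul_assoc]
      rw [four, hS]
      simp only [mul_add, add_mul, mul_sub, sub_mul, mul_assoc, ta, tb, a, b, mul_neg, neg_mul, neg_neg, r1, r2, r3, hvu, huu,
        hvv, one_mul, mul_one]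
      abel
    · refine hSmul u.1 ?_ u rfl huR
      have ta : ∀ X : Matrix ι ι F, u.1 * (t.1 * X) = t.1 * (u.1 * X) := fun X => by rw [← mul_assoc, a, mul_assoc]
      have tb : ∀ X : Matrix ι ι F, v.1 * (t.1 * X) = -(t.1 * (v.1 * X)) := fun X => by rw [← mul_assoc, b, neg_mul, mul_assoc]
      rw [four, hS]
      simp only [mul_add, add_mul, mul_sub, sub_mul, mul_assoc, ta, tb, a, b, mul_neg, neg_mul, neg_neg, r1, r2, r3, hvu, huu,
        hvv, one_mul, mul_one]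
      abel
    · refine hSmul v.1 ?_ v rfl hvR
      have ta : ∀ X : Matrix ι ι F, u.1 * (t.1 * X) = -(t.1 * (u.1 * X)) := fun X => by rw [← mul_assoc, a, neg_mul, mul_assoc]
      have tb : ∀ X : Matrix ι ι F, v.1 * (t.1 * X) = t.1 * (v.1 * X) := fun X => by rw [← mul_assoc, b, mul_assoc]
      rw [four, hS]
      simp only [mul_add, add_mul, mul_sub, sub_mul, mul_assoc, ta, tb, a, b, mul_neg, neg_mul, neg_neg, r1, r2, r3, hvu, huu,
        hvv, one_mul, mul_one]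
      abel
    · refine hSmul (-(u.1 * v.1)) ?_ (-1 * (u * v)) (by simp) (mul_mem H.neg (mul_mem huR hvR))
      have ta : ∀ X : Matrix ι ι F, u.1 * (t.1 * X) = -(t.1 * (u.1 * X)) := fun X => by rw [← mul_assoc, a, neg_mul, mul_assoc]
      have tb : ∀ X : Matrix ι ι F, v.1 * (t.1 * X) = -(t.1 * (v.1 * X)) := fun X => by rw [← mul_assoc, b, neg_mul, mul_assoc]
      rw [four, hS]
      simp only [mul_add, add_mul, mul_sub, sub_mul, mul_assoc, ta, tb, a, b, mul_neg, neg_mul, neg_neg, r1, r2, r3, hvu, huu,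
        hvv, one_mul, mul_one]
      abel
  · show ((2 : F)⁻¹ • S) * ((2 : F)⁻¹ • S) = 1
    rw [smul_mul_smul_comm, hSS, smul_smul, h22, one_smul]
  · show ((2 : F)⁻¹ • S).trace = 2
    have t1 : u₁.1.trace = 0 := H.trace_anti u₁.1 u₂ (by rw [C.a12, neg_neg])
    have t4 : u₄.1.trace = 0 := H.trace_anti u₄.1 u₃ C.a34
    have t14 : (u₁.1 * u₄.1).trace = 0 := H.trace_anti _ u₂
      (by rw [← mul_assoc, show u₂.1 * u₁.1 = -(u₁.1 * u₂.1) by rw [C.a12, neg_neg], neg_mul, mul_assoc, C.c24, mul_assoc])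
    rw [hS, huv', hvv', smul_mul_smul_comm, Matrix.trace_smul, Matrix.trace_sub, Matrix.trace_add, Matrix.trace_add,
      Matrix.trace_smul, Matrix.trace_smul, Matrix.trace_smul, t1, t4, t14, Matrix.trace_one, H.card]
    push_cast
    simp only [smul_eq_mul, mul_zero, add_zero, sub_zero]
    rw [inv_mul_eq_iff_eq_mul₀ H.two]; norm_num
  · have e : (2 : F) • ad s.1 = S := by
      rw [two_smul, ← A.add]
      show ad ((2 : F)⁻¹ • S + (2 : F)⁻¹ • S) = S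
      rw [← two_smul F, smul_smul, mul_inv_cancel₀ H.two, one_smul, hS, sub_eq_add_neg, A.add, A.add, A.add, A.neg, A.one,
        A.mul, A.of_one huR huu, A.of_one hvR hvv, hvu]
    refine smul_right_injective _ H.two ?_
    show (2 : F) • (ad s.1 * ((2 : F)⁻¹ • S)) = (2 : F) • 1
    rw [← smul_mul_assoc, e, mul_smul_comm, hSS, smul_smul]
    congr 1
    rw [inv_mul_eq_iff_eq_mul₀ H.two]; norm_num

end Hyp

end Cfsg.Agent.LBTwoFour
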