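/-
Witness matrices and charpolys in dimension four.
-/
import Cfsg.Agent.Lib.LinearBlock.SymplTwoElem
import Cfsg.Agent.Lib.LinearBlock.InvolutionClasses
import Cfsg.Agent.Lib.LinearBlock.RootUnityPolys

set_option autoImplicit false
set_option linter.all false

namespace Cfsg.Agent.LBTwoWit

open Matrix Polynomial

variable {ι : Type} [Fintype ι] [DecidableEq ι] {F : Type*} [Field F]

/-- A two by two block next to an identity block. -/
def blk (α β γ δ : F) : Matrix (Fin 4) (Fin 4) F := !![α, β, 0, 0; γ, δ, 0, 0; 0, 0, 1, 0; 0, 0, 0, 1]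

theorem blk_mul_adj {α β γ δ : F} (h : α * δ - β * γ = 1) : blk α β γ δ * blk δ (-β) (-γ) α = 1 := by
  ext i j
  fin_cases i <;> fin_cases j <;> simp [blk, Matrix.mul_apply, Fin.sum_univ_four] <;> first | linear_combination h | ring

/-- The witness as an element of the general linear group. -/
def blkU (α β γ δ : F) (h : α * δ - β * γ = 1) : GL (Fin 4) F :=
  ⟨blk α β γ δ, blk δ (-β) (-γ) α, blk_mul_adj h, by
    have := blk_mul_adj (α := δ) (β := -β) (γ := -γ) (δ := α) (by linear_combination h)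
    simpa using this⟩

theorem blk_trace (α β γ δ : F) : (blk α β γ δ).trace = α + δ + 2 := by
  simp [blk, Matrix.trace, Fin.sum_univ_four]; ring

theorem blk_cubic {α β γ δ : F} (h : α * δ - β * γ = 1) :
    (blk α β γ δ - 1) * (blk α β γ δ * blk α β γ δ - (α + δ) • blk α β γ δ + 1) = 0 := by
  ext i j
  fin_cases i <;> fin_cases j <;> simp [blk, Matrix.mul_apply, Fin.sum_univ_four] <;> grind

theorem blk_not_scalar {α β γ δ : F} (ha : ¬ (α = 1 ∧ β = 0 ∧ γ = 0 ∧ δ = 1)) (z : F) :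
    blk α β γ δ ≠ z • (1 : Matrix (Fin 4) (Fin 4) F) := by
  intro hz
  apply ha
  have e := fun i j => congrFun (congrFun hz i) j
  have h00 := e 0 0
  have h01 := e 0 1
  have h10 := e 1 0
  have h11 := e 1 1
  have h22 := e 2 2
  simp [blk] at h00 h01 h10 h11 h22
  exact ⟨h00.trans h22.symm, h01, h10, h11.trans h22.symm⟩

theorem pow_three_eq {M : Matrix ι ι F} (h : (M - 1) * (M * M - (-1 : F) • M + 1) = 0) : M ^ 3 = 1 := by
  rw [← sub_eq_zero, ← h, neg_one_smul, pow_three]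
  noncomm_ring

theorem pow_five_eq {M : Matrix ι ι F} {a : F} (ha : a * a + a = 1) (h : (M - 1) * (M * M - a • M + 1) = 0) : M ^ 5 = 1 := by
  have key : (Polynomial.X : F[X]) ^ 5 - 1 =
      ((Polynomial.X - 1) * (Polynomial.X * Polynomial.X - Polynomial.C a * Polynomial.X + 1)) *
        (Polynomial.X * Polynomial.X + Polynomial.C (1 + a) * Polynomial.X + 1) := by
    have hC : (Polynomial.C a * Polynomial.C a + Polynomial.C a : F[X]) = 1 := by rw [← C_mul, ← C_add, ha, C_1]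
    rw [C_add, C_1]
    linear_combination (Polynomial.X - 1) * Polynomial.X ^ 2 * hC
  have e := congrArg (Polynomial.aeval M) key
  simp only [map_mul, map_sub, map_add, map_pow, map_one, aeval_X, aeval_C, ← Algebra.smul_def] at e
  rw [h, zero_mul, sub_eq_zero] at e
  exact e

/-- Root of `a² + a = 1`. -/
theorem exists_gold (p : ℕ) [Fact p.Prime] [CharP F p] (hp2 : p ≠ 2) (hp5 : p % 5 = 1 ∨ p % 5 = 4) :
    ∃ a : F, a * a + a = 1 ∧ a ^ p = a := by
  haveI : Fact (Nat.Prime 5) := ⟨Nat.prime_five⟩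
  have hsq : IsSquare ((5 : ℕ) : ZMod p) := by
    rw [← ZMod.exists_sq_eq_prime_iff_of_mod_four_eq_one (p := 5) (by norm_num) hp2]
    rcases hp5 with h | h
    · exact ⟨1, by rw [← ZMod.natCast_mod, h]; norm_num⟩
    · exact ⟨2, by rw [← ZMod.natCast_mod, h]; norm_num⟩
  obtain ⟨s, hs⟩ := hsq
  have h2 : (2 : ZMod p) ≠ 0 := fun e => hp2 ((Nat.prime_dvd_prime_iff_eq Fact.out Nat.prime_two).1
    ((CharP.cast_eq_zero_iff (ZMod p) p 2).1 (by exact_mod_cast e)))
  refine ⟨ZMod.castHom (dvd_refl p) F ((s - 1) / 2), ?_, by rw [← map_pow, ZMod.pow_card]⟩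
  rw [← map_mul, ← map_add, ← map_one (ZMod.castHom (dvd_refl p) F)]
  congr 1
  push_cast at hs
  field_simp
  linear_combination -hs

theorem gold_ne {a : F} (ha : a * a + a = 1) (h5 : (5 : F) ≠ 0) : (a + 2) * (a + 2) ≠ 1 := fun h => by
  have h3 : 3 * a + 4 = 0 := by linear_combination h - ha
  exact h5 (by linear_combination (-9 : F) * ha + (3 * a - 1) * h3)

/-- Charpoly of an element of order five without eigenvalues. -/
theorem charpoly_five {n : ℕ} [Fintype F] (p : ℕ) [Fact p.Prime] [CharP F p] (hp5 : p ≠ 5)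
    (hord : orderOf (Fintype.card F : ZMod 5) = 4) {M : Matrix (Fin n) (Fin n) F} (hn : n = 4)
    (hM : M ^ 5 = 1) (hM1 : M ≠ 1) : M.charpoly = Polynomial.cyclotomic 5 F := by
  classical
  subst hn
  haveI : Fact (Nat.Prime 5) := ⟨Nat.prime_five⟩
  have hss : Module.End.IsSemisimple (Matrix.toLin' M) :=
    SemisimpleCl.isSemisimple_of_pow p (m := 5) hM ((Nat.coprime_primes Nat.prime_five Fact.out).2 (Ne.symm hp5))
  by_cases h : ∀ g : F[X], g.Monic → Irreducible g → g ∣ M.charpoly → g = Polynomial.X - Polynomial.C 1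
  · exfalso
    obtain ⟨k, hk⟩ := LBInvCl.eq_pow_of_factors (Matrix.charpoly_monic M) (monic_X_sub_C (1 : F)) h
    have hk4 : k = 4 := by
      have e := congrArg Polynomial.natDegree hk
      rw [Matrix.charpoly_natDegree_eq_dim, natDegree_pow, natDegree_X_sub_C, Fintype.card_fin, mul_one] at e
      exact e.symm
    obtain ⟨P, hP⟩ := SemisimpleCl.exists_conjugator hss
      (SemisimpleCl.isSemisimple_of_pow p (m := 1) (M := (1 : Matrix (Fin 4) (Fin 4) F)) (by simp) (Nat.coprime_one_left p))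
      (by rw [hk, hk4, Matrix.charpoly_one, C_1, Fintype.card_fin])
    rw [one_mul] at hP
    exact hM1 ((Units.mul_right_inj P).1 (hP.trans (mul_one _).symm))
  push Not at h
  obtain ⟨g, hgm, hgi, hgd, hg1⟩ := h
  have hgX : g ∣ Polynomial.X ^ 5 - 1 := (LBRootPoly.good_charpoly (r := 5) hM).2 g hgm hgi hgd
  have hdeg : g.natDegree = 4 := by rw [LBRootPoly.natDegree_factor Nat.prime_five hgm hgi hgX hg1, hord]
  have hgc : g = M.charpoly := (Polynomial.eq_of_monic_of_dvd_of_natDegree_le hgm (Matrix.charpoly_monic M) hgd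
    (by rw [Matrix.charpoly_natDegree_eq_dim, hdeg, Fintype.card_fin])).symm
  rw [← hgc]
  have h5 : g ∣ (Polynomial.X - Polynomial.C 1) * Polynomial.cyclotomic 5 F := by
    rw [C_1, mul_comm, Polynomial.cyclotomic_prime_mul_X_sub_one]; exact hgX
  have hgc' : g ∣ Polynomial.cyclotomic 5 F := by
    rcases hgi.prime.dvd_mul.1 h5 with e | e
    · exfalso
      have := Polynomial.natDegree_le_of_dvd e (X_sub_C_ne_zero 1)
      rw [hdeg, natDegree_X_sub_C] at this
      omega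
    · exact e
  refine (Polynomial.eq_of_monic_of_dvd_of_natDegree_le hgm (Polynomial.cyclotomic.monic 5 F) hgc' ?_).symm
  rw [Polynomial.natDegree_cyclotomic, Nat.totient_prime Nat.prime_five, hdeg]

/-- Charpolys of non-central involutions. -/
theorem invol_cases [Fintype F] (p : ℕ) [Fact p.Prime] [CharP F p] (hp : p ≠ 2) {x : Matrix (Fin 4) (Fin 4) F}
    (hx : x * x = 1) (h1 : x ≠ 1) (h1' : x ≠ -1) :
    ∃ k : ℕ, 1 ≤ k ∧ k ≤ 3 ∧ x.det = (-1) ^ k ∧ x.trace = 2 * (k : F) - 4 ∧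
      x.charpoly = (Polynomial.X - Polynomial.C 1) ^ k * (Polynomial.X - Polynomial.C (-1)) ^ (4 - k) := by
  classical
  obtain ⟨k, hk, hc⟩ := LBInvCl.charpoly_square (a := (1 : F)) (x := x) (by rw [hx, one_mul, one_smul])
  have hss : ∀ y : Matrix (Fin 4) (Fin 4) F, y * y = 1 → Module.End.IsSemisimple (Matrix.toLin' y) := fun y hy =>
    LBInvCl.semisimple_of_sq p hp one_ne_zero (by rw [hy, one_smul])
  obtain ⟨d, hd⟩ : ∃ d : Fin 4 → F, d = fun i : Fin 4 => if i.1 < k then 1 else -1 := ⟨_, rfl⟩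
  have hdc : (Matrix.diagonal d).charpoly = x.charpoly := by
    rw [hc, Matrix.charpoly_diagonal, Fin.prod_univ_four, hd]
    interval_cases k <;> norm_num
    all_goals (try ring_nf)
    all_goals (try simp)
  have hdd : Matrix.diagonal d * Matrix.diagonal d = 1 := by
    rw [Matrix.diagonal_mul_diagonal, ← Matrix.diagonal_one]
    congr 1; funext i; rw [hd]; dsimp only; split <;> simp
  obtain ⟨P, hP⟩ := SemisimpleCl.exists_conjugator (hss x hx) (hss _ hdd) hdc.symm
  have hxd : x = (P⁻¹ : GL (Fin 4) F).1 * Matrix.diagonal d * P.1 := by rw [mul_assoc, ← hP, ← mul_assoc, Units.inv_mul, one_mul]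
  have hk0 : k ≠ 0 := fun h => h1' (by
    rw [hxd, show d = fun _ => -1 by rw [hd, h]; simp, ← smul_one_eq_diagonal, mul_smul_comm, smul_mul_assoc, mul_one, Units.inv_mul]
    simp)
  have hk4 : k ≠ 4 := fun h => h1 (by
    rw [hxd, show d = fun _ => 1 by rw [hd, h]; funext i; exact if_pos i.isLt, Matrix.diagonal_one, mul_one, Units.inv_mul])
  refine ⟨k, by omega, by omega, ?_, ?_, hc⟩
  · rw [LBInvCl.det_eq_of_charpoly hdc.symm, Matrix.det_diagonal, Fin.prod_univ_four, hd]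
    interval_cases k <;> simp at hk0 hk4 ⊢ <;> norm_num
  · rw [hxd, Matrix.trace_units_conj', Matrix.trace_diagonal, Fin.sum_univ_four, hd]
    interval_cases k <;> simp at hk0 hk4 ⊢ <;> ring

/-- Rank one perturbations are preserved by conjugation. -/
theorem conj_rankone {g x : GL ι F} {lam : F} {v f : ι → F} (hx : x.1 = lam • (1 + Matrix.vecMulVec v f)) :
    (g⁻¹ * x * g).1 = lam • (1 + Matrix.vecMulVec ((g⁻¹ : GL ι F).1 *ᵥ v) (f ᵥ* g.1)) ∧
      (f ᵥ* g.1) ⬝ᵥ ((g⁻¹ : GL ι F).1 *ᵥ v) = f ⬝ᵥ v := by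
  refine ⟨?_, by rw [Matrix.dotProduct_mulVec, Matrix.vecMul_vecMul, Units.mul_inv, Matrix.vecMul_one]⟩
  rw [Units.val_mul, Units.val_mul, hx, mul_smul_comm, smul_mul_assoc, mul_add, mul_one, add_mul, Units.inv_mul,
    Matrix.mul_vecMulVec, Matrix.vecMulVec_mul]

/-- No conjugate of a pseudo-reflection normalises. -/
theorem no_rankone [Finite F] {R : Subgroup (GL ι F)} (H : LBTwoFour.Hyp R) {g x : GL ι F} {lam : F} {v f : ι → F}
    (hx : x.1 = lam • (1 + Matrix.vecMulVec v f)) (hv : Matrix.vecMulVec v f ≠ 0) (he : 2 + f ⬝ᵥ v ≠ 0) :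
    g⁻¹ * x * g ∉ Cfsg.Geo.subgroupNormalizer R := fun hN => by
  classical
  haveI := Fintype.ofFinite (↥R ⧸ Subgroup.center ↥R)
  obtain ⟨h1, h2⟩ := conj_rankone (g := g) hx
  refine H.not_rankone hN h1 ?_ (by rw [h2]; exact he)
  intro h0
  apply hv
  have e := congrArg (fun M => g.1 * M * (g⁻¹ : GL ι F).1) h0
  simpa [Matrix.mul_vecMulVec, Matrix.vecMulVec_mul, Matrix.mulVec_mulVec, Matrix.vecMul_vecMul] using e

/-- Trace criterion against normalising elements of odd prime order. -/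
theorem no_trace [Finite F] {R : Subgroup (GL ι F)} (H : LBTwoFour.Hyp R) {g x : GL ι F} {r : ℕ} [Fact r.Prime] (hr : r ≠ 2)
    (hxr : x ^ r = 1) (hns : ∀ c : F, x.1 ≠ c • (1 : Matrix ι ι F))
    (hN : g⁻¹ * x * g ∈ Cfsg.Geo.subgroupNormalizer R) :
    (r = 3 ∧ (x.1.trace * (x⁻¹ : GL ι F).1.trace = 1 ∨ x.1.trace * (x⁻¹ : GL ι F).1.trace = 4)) ∨
      (r = 5 ∧ x.1.trace * (x⁻¹ : GL ι F).1.trace = 1) := by
  classical
  haveI := Fintype.ofFinite (↥R ⧸ Subgroup.center ↥R)
  have hp : ((g⁻¹ * x * g) ^ r).1 = (1 : F) • (1 : Matrix ι ι F) := by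
    rw [show g⁻¹ * x * g = g⁻¹ * x * g⁻¹⁻¹ by group, conj_pow, hxr]; simp
  obtain ⟨n, -, ht, hcs⟩ := H.fixed_cases hN (r := r) hr hp (fun c hc => hns c (by
    have e := congrArg (fun M => g.1 * M * (g⁻¹ : GL ι F).1) hc
    simpa [mul_assoc] using e))
  have e1 : (g⁻¹ * x * g).1.trace = x.1.trace := by rw [Units.val_mul, Units.val_mul, Matrix.trace_units_conj']
  have e2 : ((g⁻¹ * x * g)⁻¹ : GL ι F).1.trace = (x⁻¹ : GL ι F).1.trace := by
    rw [show (g⁻¹ * x * g)⁻¹ = g⁻¹ * x⁻¹ * g by group, Units.val_mul, Units.val_mul, Matrix.trace_units_conj']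
  rw [e1, e2] at ht
  rcases hcs with ⟨h3, rfl | rfl⟩ | ⟨h5, rfl⟩
  · exact Or.inl ⟨h3, Or.inl (by simpa using ht)⟩
  · exact Or.inl ⟨h3, Or.inr (by simpa using ht)⟩
  · exact Or.inr ⟨h5, by simpa using ht⟩

/-- Residue classes. -/
theorem ord_five (p : ℕ) : orderOf (p : ZMod 5) = 4 ↔ (p % 5 = 2 ∨ p % 5 = 3) := by
  rw [← ZMod.natCast_mod p 5]
  have hlt : p % 5 < 5 := Nat.mod_lt _ (by norm_num)
  generalize p % 5 = m at hlt ⊢
  rw [orderOf_eq_iff (show 0 < 4 by norm_num)]
  constructor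
  · rintro ⟨h, h'⟩
    interval_cases m
    · exact absurd h (by decide)
    · exact absurd (by decide) (h' 1 (by norm_num) (by norm_num))
    · exact Or.inl rfl
    · exact Or.inr rfl
    · exact absurd (by decide) (h' 2 (by norm_num) (by norm_num))
  · rintro (rfl | rfl) <;> exact ⟨by decide, fun j h1 h2 => by interval_cases j <;> decide⟩

end Cfsg.Agent.LBTwoWit
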