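/-
Class separation in dimension four for elements of order two, three and five.
-/
import Cfsg.Agent.Lib.LinearBlock.SymplTwoWit

set_option autoImplicit false
set_option linter.all false

namespace Cfsg.Agent.LBTwoGen

open Matrix Polynomial

variable {F : Type*} [Field F]

theorem two_factors {g₁ g₂ : F[X]} (h1 : g₁.Monic) (h2 : g₂.Monic) (f : F[X]) (hf : f.Monic)
    (h : ∀ u : F[X], u.Monic → Irreducible u → u ∣ f → u = g₁ ∨ u = g₂) : ∃ a b : ℕ, f = g₁ ^ a * g₂ ^ b := by
  classical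
  have hprod := LBRootPoly.prod_of_monic hf
  have hmem : ∀ u ∈ UniqueFactorizationMonoid.normalizedFactors f, u = g₁ ∨ u = g₂ := fun u hu =>
    h u (LBRootPoly.monic_of_mem hu) (UniqueFactorizationMonoid.irreducible_of_normalized_factor u hu)
      (UniqueFactorizationMonoid.dvd_of_mem_normalizedFactors hu)
  rw [← hprod]
  generalize UniqueFactorizationMonoid.normalizedFactors f = S at hmem
  induction S using Multiset.induction_on with
  | empty => exact ⟨0, 0, by simp⟩
  | cons u S ih =>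
    obtain ⟨a, b, hab⟩ := ih fun v hv => hmem v (Multiset.mem_cons_of_mem hv)
    rw [Multiset.prod_cons, hab]
    rcases hmem u (Multiset.mem_cons_self u S) with rfl | rfl
    · exact ⟨a + 1, b, by ring⟩
    · exact ⟨a, b + 1, by ring⟩

theorem trace_eq_of_charpoly {x : Matrix (Fin 4) (Fin 4) F} : x.trace = -x.charpoly.coeff 3 := by
  rw [Matrix.trace_eq_neg_charpoly_coeff]; simp

/-- Elements of order three without eigenvalue other than one in the field. -/
theorem charpoly_three [Fintype F] (p : ℕ) [Fact p.Prime] [CharP F p] (hp3 : p ≠ 3)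
    (hord : orderOf (Fintype.card F : ZMod 3) = 2) {M : Matrix (Fin 4) (Fin 4) F} (hM : M ^ 3 = 1) (hM1 : M ≠ 1) :
    (M.trace = 1 ∧ M.charpoly = (Polynomial.X - Polynomial.C 1) ^ 2 * (Polynomial.X ^ 2 + Polynomial.X + 1)) ∨
      (M.trace = -2 ∧ M.charpoly = (Polynomial.X ^ 2 + Polynomial.X + 1) ^ 2) := by
  classical
  haveI : Fact (Nat.Prime 3) := ⟨Nat.prime_three⟩
  obtain ⟨q, hq⟩ : ∃ q : F[X], q = Polynomial.X ^ 2 + Polynomial.X + 1 := ⟨_, rfl⟩
  rw [← hq]
  have hqm : q.Monic := by rw [hq]; monicity!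
  have hqd : q.natDegree = 2 := by rw [hq]; compute_degree!
  obtain ⟨a, b, hab⟩ := two_factors (monic_X_sub_C (1 : F)) hqm M.charpoly (Matrix.charpoly_monic M) fun u hum hui hud => by
    by_cases h1 : u = Polynomial.X - Polynomial.C 1
    · exact Or.inl h1
    refine Or.inr ?_
    have huX : u ∣ Polynomial.X ^ 3 - 1 := (LBRootPoly.good_charpoly (r := 3) hM).2 u hum hui hud
    have hdeg : u.natDegree = 2 := by rw [LBRootPoly.natDegree_factor Nat.prime_three hum hui huX h1, hord]
    rw [show (Polynomial.X : F[X]) ^ 3 - 1 = (Polynomial.X - Polynomial.C 1) * q by rw [hq, C_1]; ring] at huX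
    rcases hui.prime.dvd_mul.1 huX with e | e
    · exfalso
      have := Polynomial.natDegree_le_of_dvd e (X_sub_C_ne_zero 1)
      rw [hdeg, natDegree_X_sub_C] at this
      omega
    · exact (Polynomial.eq_of_monic_of_dvd_of_natDegree_le hum hqm e (by rw [hdeg, hqd])).symm
  have hdeg : a + 2 * b = 4 := by
    have e := congrArg Polynomial.natDegree hab
    rw [Matrix.charpoly_natDegree_eq_dim, Fintype.card_fin, ((monic_X_sub_C (1 : F)).pow a).natDegree_mul (hqm.pow b),
      natDegree_pow, natDegree_pow, hqd, natDegree_X_sub_C] at e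
    omega
  have hb : b = 0 ∨ b = 1 ∨ b = 2 := by omega
  rcases hb with rfl | rfl | rfl
  · exfalso
    have hss : ∀ y : Matrix (Fin 4) (Fin 4) F, y ^ 3 = 1 → Module.End.IsSemisimple (Matrix.toLin' y) := fun y hy =>
      SemisimpleCl.isSemisimple_of_pow p (m := 3) hy ((Nat.coprime_primes Nat.prime_three Fact.out).2 (Ne.symm hp3))
    obtain ⟨P, hP⟩ := SemisimpleCl.exists_conjugator (hss M hM) (hss 1 (one_pow 3))
      (by rw [hab, show a = 4 by omega, Matrix.charpoly_one, C_1, Fintype.card_fin, pow_zero, mul_one])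
    rw [one_mul] at hP
    exact hM1 ((Units.mul_right_inj P).1 (hP.trans (mul_one _).symm))
  · refine Or.inl ⟨?_, by rw [hab, show a = 2 by omega, pow_one]⟩
    rw [trace_eq_of_charpoly, hab, show a = 2 by omega, pow_one, hq, C_1,
      show ((Polynomial.X : F[X]) - 1) ^ 2 * (Polynomial.X ^ 2 + Polynomial.X + 1) =
        Polynomial.X ^ 4 - Polynomial.X ^ 3 - Polynomial.X + 1 by ring]
    simp [coeff_X_pow, coeff_X, coeff_one]
  · refine Or.inr ⟨?_, by rw [hab, show a = 0 by omega, pow_zero, one_mul]⟩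
    rw [trace_eq_of_charpoly, hab, show a = 0 by omega, pow_zero, one_mul, hq,
      show ((Polynomial.X : F[X]) ^ 2 + Polynomial.X + 1) ^ 2 = Polynomial.X ^ 4 + 2 • Polynomial.X ^ 3 + 3 • Polynomial.X ^ 2 + 2 • Polynomial.X + 1 by
        simp only [nsmul_eq_mul]; push_cast; ring]
    simp [coeff_X_pow, coeff_X, coeff_one]

theorem same_class_three [Fintype F] (p : ℕ) [Fact p.Prime] [CharP F p] (hp3 : p ≠ 3)
    (hord : orderOf (Fintype.card F : ZMod 3) = 2) {M N : Matrix (Fin 4) (Fin 4) F} (hM : M ^ 3 = 1) (hM1 : M ≠ 1)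
    (hN : N ^ 3 = 1) (hN1 : N ≠ 1) (ht : M.trace = N.trace) : M.charpoly = N.charpoly := by
  have h3 : (3 : F) ≠ 0 := fun h => hp3 ((Nat.prime_dvd_prime_iff_eq Fact.out Nat.prime_three).1
    ((CharP.cast_eq_zero_iff F p 3).1 (by exact_mod_cast h)))
  rcases charpoly_three p hp3 hord hM hM1 with ⟨a, b⟩ | ⟨a, b⟩ <;>
    rcases charpoly_three p hp3 hord hN hN1 with ⟨c, d⟩ | ⟨c, d⟩ <;>
    first | exact b.trans d.symm | (exfalso; rw [a, c] at ht; apply h3)
  · linear_combination ht
  · linear_combination -ht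

theorem same_class_two [Fintype F] (p : ℕ) [Fact p.Prime] [CharP F p] (hp : 5 ≤ p) {M N : Matrix (Fin 4) (Fin 4) F}
    (hM : M * M = 1) (hM1 : M ≠ 1) (hM2 : M ≠ -1) (hN : N * N = 1) (hN1 : N ≠ 1) (hN2 : N ≠ -1) (ht : M.trace = N.trace) :
    M.charpoly = N.charpoly := by
  have hp2 : p ≠ 2 := by omega
  obtain ⟨k, hk1, hk3, -, hkt, hkc⟩ := LBTwoWit.invol_cases p hp2 hM hM1 hM2
  obtain ⟨l, hl1, hl3, -, hlt, hlc⟩ := LBTwoWit.invol_cases p hp2 hN hN1 hN2
  have h2 : (2 : F) ≠ 0 := fun h => hp2 ((Nat.prime_dvd_prime_iff_eq Fact.out Nat.prime_two).1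
    ((CharP.cast_eq_zero_iff F p 2).1 (by exact_mod_cast h)))
  have e : (k : F) = (l : F) := mul_left_cancel₀ h2 (by linear_combination hkt.symm.trans (ht.trans hlt))
  rw [CharP.natCast_eq_natCast F p, Nat.ModEq, Nat.mod_eq_of_lt (by omega), Nat.mod_eq_of_lt (by omega)] at e
  subst e
  exact hkc.trans hlc.symm

theorem exists_root {G : Type*} [Group G] {r : ℕ} (hc : (Nat.card G).Coprime r) (z : G) : ∃ t : G, t ^ r = z :=
  ⟨(powCoprime hc).symm z, (powCoprime hc).apply_symm_apply z⟩

/-- The centre contains a scalar square root of minus one. -/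
theorem exists_i [Finite F] {ι : Type} [Fintype ι] [DecidableEq ι] {R : Subgroup (GL ι F)} (H : LBTwoFour.Hyp R)
    (hRZ : Nat.card (Subgroup.center R) = 4) :
    ∃ c : F, ∃ sc : GL ι F, c * c = -1 ∧ sc ∈ R ∧ sc.1 = c • (1 : Matrix ι ι F) := by
  classical
  by_contra h
  push Not at h
  have hval : ∀ z : Subgroup.center R, (z.1.1).1 = 1 ∨ (z.1.1).1 = -1 := by
    intro z
    obtain ⟨c, hc⟩ := (LBTwoFour.center_scalar H.cent z.1).1 z.2
    haveI := H.nonempty
    have hsq : (z.1.1).1 * (z.1.1).1 = (c * c) • 1 := by rw [hc, smul_mul_smul_comm, one_mul]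
    have hcc : c * c = 1 := by
      obtain ⟨i⟩ := H.nonempty
      rcases H.sq z.1.1 z.1.2 with e | e
      · simpa using (congrFun (congrFun (e.symm.trans hsq) i) i).symm
      · exact absurd hc (h c z.1.1 (by simpa using (congrFun (congrFun (e.symm.trans hsq) i) i).symm) z.1.2)
    rcases mul_self_eq_one_iff.1 hcc with rfl | rfl
    · exact Or.inl (by rw [hc, one_smul])
    · exact Or.inr (by rw [hc, neg_one_smul])
  have := Nat.card_le_card_of_injective (α := Subgroup.center R) (β := Fin 2)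
    (fun z => if (z.1.1).1 = 1 then 0 else 1) (fun a b e => Subtype.ext (Subtype.ext (Units.ext (by
      rcases hval a with ha | ha <;> rcases hval b with hb | hb <;> rw [ha, hb] <;> simp [ha, hb] at e
      · exact e.symm
      · exact e))))
  rw [hRZ, Nat.card_eq_fintype_card, Fintype.card_fin] at this
  omega

end Cfsg.Agent.LBTwoGen
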