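/-
Prime order elements of the linear group of dimension four and the normaliser of a symplectic-type group.
-/
import Cfsg.Agent.Lib.LinearBlock.SymplTwoGen

set_option autoImplicit false
set_option linter.all false

namespace Cfsg.Agent.LBTwoLin

open Matrix Subgroup

variable {F : Type*} [Field F]

local notation "M4" => Matrix (Fin 4) (Fin 4) F
local notation "S4" => Cfsg.Geo.specialLinear (Fin 4) F

theorem blk_det (α β γ δ : F) : (LBTwoWit.blk α β γ δ).det = α * δ - β * γ := by
  simp [LBTwoWit.blk, Matrix.det_succ_row_zero, Fin.sum_univ_succ, Fin.succAbove]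
  ring

theorem mem_sl {x : GL (Fin 4) F} : x ∈ S4 ↔ x.1.det = 1 := by
  constructor
  · intro h; exact congrArg Units.val (h : GeneralLinearGroup.det x = 1)
  · intro h; exact (Units.ext h : GeneralLinearGroup.det x = 1)

theorem ord_three : orderOf ((2 : ℕ) : ZMod 3) = 2 := orderOf_eq_prime (by decide) (by decide)

/-- An element which is a scalar times a conjugate of a normalising element. -/
theorem finish [Fintype F] (p : ℕ) [Fact p.Prime] [CharP F p] {R : Subgroup (GL (Fin 4) F)} {x T : GL (Fin 4) F}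
    {y : M4} {t : F} {m : ℕ} (hm : m.Coprime p) (hxy : x.1 = t • y) (ht : t ≠ 0) (hy : y ^ m = 1) (hT : T.1 ^ m = 1)
    (hTN : T ∈ Cfsg.Geo.subgroupNormalizer R) (hc : y.charpoly = T.1.charpoly) :
    ∃ g ∈ S4, g⁻¹ * x * g ∈ Cfsg.Geo.subgroupNormalizer R := by
  obtain ⟨P, hP⟩ := LBInvCl.sl_conj_semisimple (by norm_num) (SemisimpleCl.isSemisimple_of_pow p hy hm)
    (SemisimpleCl.isSemisimple_of_pow p hT hm) hc
  refine ⟨Matrix.SpecialLinearGroup.toGL P, mem_sl.2 P.2, ?_⟩
  let s : GL (Fin 4) F := ⟨t • 1, t⁻¹ • 1, by rw [smul_mul_smul_comm, mul_inv_cancel₀ ht, mul_one, one_smul],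
    by rw [smul_mul_smul_comm, inv_mul_cancel₀ ht, mul_one, one_smul]⟩
  rw [show (Matrix.SpecialLinearGroup.toGL P)⁻¹ * x * Matrix.SpecialLinearGroup.toGL P = s * T from Units.ext (by
    rw [← map_inv, Units.val_mul, Units.val_mul, Units.val_mul, hxy]
    show (P⁻¹).1 * (t • y) * P.1 = (t • 1) * T.1
    rw [mul_smul_comm, smul_mul_assoc, hP, smul_mul_assoc, one_mul])]
  exact mul_mem (LBTwoFour.scalar_mem_norm (c := t) rfl) hTN

theorem main [Fintype F] {p : ℕ} [Fact p.Prime] [CharP F p] (hF : Fintype.card F = p) (hp4 : p % 4 = 1)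
    (R : Subgroup (GL (Fin 4) F)) (hR : Cfsg.Geo.IsLinearSymplecticTypeData 2 R) (hR6 : Nat.card R = 2 ^ 6)
    (r : ℕ) [Fact r.Prime]
    (hΩ : r ∣ (Cfsg.Geo.subgroupNormalizer R).relIndex S4) :
    (∀ x ∈ S4, (∃ z : F, ((x ^ r : GL (Fin 4) F) : M4) = z • (1 : M4)) →
      (∀ z : F, (x : M4) ≠ z • (1 : M4)) →
      ∃ g ∈ S4, g⁻¹ * x * g ∈ Cfsg.Geo.subgroupNormalizer R) ↔
      (r = 2 ∨ (r = 3 ∧ p % 3 = 2) ∨ (r = 5 ∧ orderOf (p : ZMod 5) = 4)) := by
  classical
  have hr : r.Prime := Fact.out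
  have hp : p.Prime := Fact.out
  have hp2 : p ≠ 2 := by omega
  have hp5' : 5 ≤ p := by have := hp.two_le; omega
  have hodd : Odd p := hp.odd_of_ne_two hp2
  have hcF : ∀ n : ℕ, n.Prime → p ≠ n → (n : F) ≠ 0 := fun n hn hpn h =>
    hpn ((Nat.prime_dvd_prime_iff_eq hp hn).1 ((CharP.cast_eq_zero_iff F p n).1 h))
  have hRZ : Nat.card (center R) = 4 := by
    obtain ⟨-, -, -, -, ⟨ho, -⟩ | ⟨-, -, h, -⟩ | ⟨-, -, h, -⟩⟩ := hR.field
    · exact absurd ho (by decide)
    · exact h
    · simp at h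
  have H : LBTwoFour.Hyp R :=
    LBTwoFour.hyp_of hodd (by simp) R hR.symplecticType hR.absIrred (by rw [hR6, hRZ]; norm_num) (Or.inr hRZ)
  haveI := Fintype.ofFinite (↥R ⧸ center ↥R)
  obtain ⟨i, sc, hi, hsc, hscv⟩ := LBTwoGen.exists_i H hRZ
  obtain ⟨u₁, u₂, u₃, u₄, C⟩ := H.chain_big hi hsc hscv
  have hroots : ∀ n : ℕ, n ∣ p - 1 → ∃ z : F, IsPrimitiveRoot z n := fun n hn => by
    obtain ⟨g, hg⟩ := IsCyclic.exists_generator (α := Fˣ)
    have ho : orderOf g = p - 1 := by
      rw [orderOf_eq_card_of_forall_mem_zpowers hg, Nat.card_units, Nat.card_eq_fintype_card, hF]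
    have h1 : IsPrimitiveRoot g (p - 1) := ho ▸ IsPrimitiveRoot.orderOf g
    have h2 := h1.pow (by omega) (Nat.div_mul_cancel hn).symm
    exact ⟨_, h2.map_of_injective (f := Units.coeHom F) Units.val_injective⟩
  have hrcard : r ∣ Nat.card S4 := hΩ.trans (Subgroup.index_dvd_card _)
  constructor
  · intro hall
    by_contra hnot
    push Not at hnot
    obtain ⟨hr2, hr3, hr5⟩ := hnot
    obtain ⟨x, hxo⟩ := exists_prime_orderOf_dvd_card' r hrcard
    have hxr : x.1 ^ r = 1 := congrArg Subtype.val (hxo ▸ pow_orderOf_eq_one x : x ^ r = 1)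
    have hxns : ∀ z : F, x.1.1 ≠ z • (1 : M4) := by
      intro z hz
      have hz4 : z ^ 4 = 1 := by
        have e := mem_sl.1 x.2
        rwa [hz, Matrix.det_smul, Matrix.det_one, mul_one, Fintype.card_fin] at e
      have hzr : z ^ r = 1 := by
        have e := congrArg Units.val hxr
        rw [Units.val_pow_eq_pow_val, hz, smul_pow, one_pow, Units.val_one] at e
        simpa using congrFun (congrFun e 0) 0
      have hco : Nat.Coprime r 4 := by
        rw [show (4 : ℕ) = 2 ^ 2 from rfl]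
        exact Nat.Coprime.pow_right 2 ((Nat.coprime_primes hr Nat.prime_two).2 hr2)
      have hz1 : z = 1 := by
        have e : z ^ Nat.gcd r 4 = 1 := pow_gcd_eq_one.2 ⟨hzr, hz4⟩
        rwa [hco, pow_one] at e
      rw [show x = 1 from Subtype.ext (Units.ext (by rw [hz, hz1, one_smul]; rfl)), orderOf_one] at hxo
      exact hr.one_lt.ne hxo
    obtain ⟨g, -, hgN⟩ := hall x.1 x.2 ⟨1, by rw [hxr, Units.val_one, one_smul]⟩ hxns
    have hr35 : r = 3 ∨ r = 5 := by
      rcases LBTwoWit.no_trace H hr2 hxr hxns hgN with ⟨h, -⟩ | ⟨h, -⟩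
      · exact Or.inl h
      · exact Or.inr h
    -- pseudo-reflections
    have rank1 : ∀ (t : GL (Fin 4) F) (lam : F) (v f : Fin 4 → F), t ∈ S4 → t ^ r = 1 →
        t.1 = lam • (1 + Matrix.vecMulVec v f) → Matrix.vecMulVec v f ≠ 0 → 2 + f ⬝ᵥ v ≠ 0 →
        (∀ z : F, t.1 ≠ z • (1 : M4)) → False := by
      intro t lam v f ht htr htv hvf he htns
      obtain ⟨g, -, hgN⟩ := hall t ht ⟨1, by rw [htr, Units.val_one, one_smul]⟩ htns
      exact LBTwoWit.no_rankone H htv hvf he hgN
    rcases hr35 with rfl | rfl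
    · have hp3 : p % 3 = 1 := by
        have h0 : p % 3 ≠ 0 := fun h => by
          have := (Nat.prime_dvd_prime_iff_eq Nat.prime_three hp).1 (Nat.dvd_of_mod_eq_zero h)
          omega
        have := hr3 rfl
        omega
      obtain ⟨ω, hω⟩ := hroots 3 (by omega)
      have hω3 : ω ^ 3 = 1 := hω.pow_eq_one
      have hω0 : ω ≠ 0 := hω.ne_zero (by norm_num)
      have hω1 : ω ≠ 1 := hω.ne_one (by norm_num)
      have hωs : ω ^ 2 + ω + 1 = 0 := by
        have : (ω - 1) * (ω ^ 2 + ω + 1) = 0 := by linear_combination hω3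
        exact (mul_eq_zero.1 this).resolve_left (sub_ne_zero.2 hω1)
      have hd : ∀ d : Fin 4 → F, (∀ k, d k ^ 3 = 1) → Matrix.diagonal d * Matrix.diagonal (d * d) = 1 := fun d hd => by
        rw [Matrix.diagonal_mul_diagonal, ← Matrix.diagonal_one]
        congr 1; funext k
        rw [Pi.mul_apply, ← hd k]; ring
      obtain ⟨d, hdd⟩ : ∃ d : Fin 4 → F, d = ![ω, ω, ω, 1] := ⟨_, rfl⟩
      have hd3 : ∀ k, d k ^ 3 = 1 := fun k => by fin_cases k <;> simp [hdd, hω3]
      let t : GL (Fin 4) F := ⟨Matrix.diagonal d, Matrix.diagonal (d * d), hd d hd3, by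
        rw [Matrix.diagonal_mul_diagonal, ← Matrix.diagonal_one]; congr 1; funext k; rw [Pi.mul_apply, ← hd3 k]; ring⟩
      refine rank1 t ω (Pi.single 3 1) (Pi.single 3 (ω ^ 2 - 1)) (mem_sl.2 ?_) (Units.ext ?_) ?_ ?_ ?_ ?_
      · show (Matrix.diagonal d).det = 1
        rw [Matrix.det_diagonal, Fin.prod_univ_four, hdd]
        simp
        linear_combination hω3
      · rw [Units.val_pow_eq_pow_val]
        show Matrix.diagonal d ^ 3 = 1
        rw [Matrix.diagonal_pow, ← Matrix.diagonal_one]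
        congr 1; funext k; exact hd3 k
      · show Matrix.diagonal d = _
        ext a b
        fin_cases a <;> fin_cases b <;> simp [hdd, Matrix.vecMulVec] <;> grind
      · intro h
        have e := congrFun (congrFun h 3) 3
        simp [Matrix.vecMulVec, sub_eq_zero] at e
        grind
      · simp
        intro h
        exact hω0 (by linear_combination hωs - h)
      · intro z hz
        change Matrix.diagonal d = z • 1 at hz
        have e0 := congrFun (congrFun hz 0) 0
        have e3 := congrFun (congrFun hz 3) 3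
        simp [hdd] at e0 e3
        exact hω1 (e0.trans e3.symm)
    · by_cases hpr : p = 5
      · subst hpr
        have hN : ∀ a : F, LBTwoWit.blk 1 a 0 1 = 1 + Matrix.vecMulVec (Pi.single 0 a) (Pi.single 1 1) := fun a => by
          ext b c
          fin_cases b <;> fin_cases c <;> simp [LBTwoWit.blk, Matrix.vecMulVec]
        refine rank1 (LBTwoWit.blkU 1 1 0 1 (by ring)) 1 (Pi.single 0 1) (Pi.single 1 1) (mem_sl.2 ?_) (Units.ext ?_) ?_ ?_ ?_ ?_
        · show (LBTwoWit.blk 1 1 0 1 : M4).det = 1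
          rw [blk_det]; ring
        · rw [Units.val_pow_eq_pow_val]
          show (LBTwoWit.blk 1 1 0 1 : M4) ^ 5 = 1
          rw [hN, add_pow_char_of_commute _ (Commute.one_left _), one_pow,
            show Matrix.vecMulVec (Pi.single (0 : Fin 4) (1 : F)) (Pi.single (1 : Fin 4) (1 : F)) ^ 5 = 0 by
              rw [show 5 = 2 + 3 from rfl, pow_add, pow_two, Matrix.vecMulVec_mul_vecMulVec]; simp, add_zero]
        · rw [one_smul]; exact hN 1
        · intro h
          have e := congrFun (congrFun h 0) 1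
          simp [Matrix.vecMulVec] at e
        · simpa using H.two
        · exact LBTwoWit.blk_not_scalar (by simp)
      · have hp5 : p % 5 = 1 ∨ p % 5 = 4 := by
          have h := hr5 rfl
          rw [Ne, LBTwoWit.ord_five] at h
          have : p % 5 ≠ 0 := fun h0 => hpr ((Nat.prime_dvd_prime_iff_eq Nat.prime_five hp).1 (Nat.dvd_of_mod_eq_zero h0)).symm
          omega
        obtain ⟨a, ha, -⟩ := LBTwoWit.exists_gold (F := F) p hp2 hp5
        let t : GL (Fin 4) F := LBTwoWit.blkU a (-1) 1 0 (by ring)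
        have ht5 : t ^ 5 = 1 := Units.ext (by
          rw [Units.val_pow_eq_pow_val, Units.val_one]
          show (LBTwoWit.blk a (-1) 1 0 : M4) ^ 5 = 1
          exact LBTwoWit.pow_five_eq ha (by simpa using LBTwoWit.blk_cubic (α := a) (β := -1) (γ := 1) (δ := 0) (by ring)))
        have htns : ∀ z : F, t.1 ≠ z • (1 : M4) := LBTwoWit.blk_not_scalar (by simp)
        obtain ⟨g, -, hgN⟩ := hall t (mem_sl.2 (by show (LBTwoWit.blk a (-1) 1 0).det = 1; rw [blk_det]; ring))
          ⟨1, by rw [ht5, Units.val_one, one_smul]⟩ htns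
        have ttr : t.1.trace = a + 2 ∧ (t⁻¹ : GL (Fin 4) F).1.trace = a + 2 := by
          refine ⟨?_, ?_⟩
          · show (LBTwoWit.blk a (-1) 1 0).trace = _
            rw [LBTwoWit.blk_trace, add_zero]
          · show (LBTwoWit.blk 0 (- -1) (-1) a).trace = _
            rw [LBTwoWit.blk_trace, zero_add]
        rcases LBTwoWit.no_trace H (by norm_num) ht5 htns hgN with ⟨h, -⟩ | ⟨-, h⟩
        · norm_num at h
        · rw [ttr.1, ttr.2] at h
          exact LBTwoWit.gold_ne ha (by exact_mod_cast hcF 5 Nat.prime_five hpr) h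
  · intro hcase x hx ⟨z, hz⟩ hns
    have hz0 : z ≠ 0 := fun h => (x ^ r).ne_zero (by rw [hz, h, zero_smul])
    rw [Units.val_pow_eq_pow_val] at hz
    rcases hcase with rfl | h35
    · -- involutions modulo scalars
      have hzs : IsSquare z := by
        by_contra hzn
        obtain ⟨k, hk, hc⟩ := LBInvCl.charpoly_nonsquare (by rw [← hz, pow_two]) hzn
        have hd := mem_sl.1 hx
        rw [Matrix.det_eq_sign_charpoly_coeff, hc, show k = 2 by omega, Polynomial.coeff_zero_eq_eval_zero] at hd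
        simp at hd
        rcases mul_self_eq_one_iff.1 (show z * z = 1 by linear_combination hd) with rfl | rfl
        · exact hzn IsSquare.one
        · exact hzn ⟨i, hi.symm⟩
      obtain ⟨t, ht⟩ := hzs
      have ht0 : t ≠ 0 := fun h => hz0 (by rw [ht, h, zero_mul])
      obtain ⟨y, hy⟩ : ∃ y, y = t⁻¹ • x.1 := ⟨_, rfl⟩
      have hxy : x.1 = t • y := by rw [hy, smul_smul, mul_inv_cancel₀ ht0, one_smul]
      have hyy : y * y = 1 := by
        rw [hy, smul_mul_smul_comm, ← pow_two x.1, hz, smul_smul, ht, show t⁻¹ * t⁻¹ * (t * t) = 1 by field_simp, one_smul]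
      have hy1 : y ≠ 1 := fun h => hns t (by rw [hxy, h])
      have hy2 : y ≠ -1 := fun h => hns (-t) (by rw [hxy, h, smul_neg, neg_smul])
      obtain ⟨k, hk1, hk3, -, hkt, -⟩ := LBTwoWit.invol_cases p hp2 hyy hy1 hy2
      have fin' : ∀ T : GL (Fin 4) F, T ∈ Cfsg.Geo.subgroupNormalizer R → T.1 * T.1 = 1 → T.1.trace = 2 * (k : F) - 4 →
          ∃ g ∈ S4, g⁻¹ * x * g ∈ Cfsg.Geo.subgroupNormalizer R := by
        intro T hTN hTT hTt
        have h4 : ∀ s : F, T.1 = s • (1 : M4) → (s * s = 1) → False := fun s hs hss => by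
          rw [hs, Matrix.trace_smul, Matrix.trace_one, Fintype.card_fin, smul_eq_mul] at hTt
          push_cast at hTt
          have e1 : ((k : F) - 2) * ((k : F) - 2) = 4 := by
            have : (k : F) - 2 = 2 * s := mul_left_cancel₀ H.two (by linear_combination -hTt)
            linear_combination ((k : F) - 2 + 2 * s) * this + 4 * hss
          interval_cases k
          · exact hcF 3 Nat.prime_three (by omega) (by push_cast at e1 ⊢; linear_combination -e1)
          · exact H.four_ne (by push_cast at e1 ⊢; linear_combination -e1)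
          · exact hcF 3 Nat.prime_three (by omega) (by push_cast at e1 ⊢; linear_combination -e1)
        refine finish p (m := 2) ((Nat.coprime_primes Nat.prime_two hp).2 (Ne.symm hp2)) hxy ht0 (by rw [pow_two, hyy])
          (by rw [pow_two, hTT]) hTN (LBTwoGen.same_class_two p hp5' hyy hy1 hy2 hTT
            (fun h => h4 1 (by rw [h, one_smul]) (one_mul 1)) (fun h => h4 (-1) (by rw [h, neg_one_smul]) (by norm_num))
            (hkt.trans hTt.symm))
      obtain ⟨s, hsN, hss, hst, -⟩ := H.reflection hi hsc hscv C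
      interval_cases k
      · refine fin' (-1 * s) (mul_mem (LBTwoFour.scalar_mem_norm (c := -1) (by simp)) hsN) (by simp [hss]) ?_
        rw [Units.val_mul, Units.val_neg, Units.val_one, neg_one_mul, Matrix.trace_neg, hst]; norm_num
      · refine fin' (u₁ * u₃) (Subgroup.le_normalizer (mul_mem C.m1 C.m3)) ?_ ?_
        · rw [Units.val_mul, mul_assoc, ← mul_assoc u₃.1, ← C.c13, mul_assoc u₁.1 u₃.1, C.s3, mul_neg, mul_one, mul_neg, C.s1, neg_neg]
        · rw [Units.val_mul, H.trace_anti (u₁.1 * u₃.1) u₄ (by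
            rw [← mul_assoc, ← C.c14, mul_assoc, show u₄.1 * u₃.1 = -(u₃.1 * u₄.1) by rw [C.a34, neg_neg], mul_neg,
              mul_assoc])]
          norm_num
      · refine fin' s hsN hss ?_
        rw [hst]; norm_num
    -- odd prime orders
    have hcop : (Nat.card Fˣ).Coprime r ∧ r.Coprime p := by
      rw [Nat.card_units, Nat.card_eq_fintype_card, hF]
      rcases h35 with ⟨rfl, h3⟩ | ⟨rfl, h5⟩
      · exact ⟨((Nat.prime_three.coprime_iff_not_dvd).2 (by omega)).symm, (Nat.coprime_primes Nat.prime_three hp).2 (by omega)⟩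
      · rw [LBTwoWit.ord_five] at h5
        exact ⟨((Nat.prime_five.coprime_iff_not_dvd).2 (by omega)).symm, (Nat.coprime_primes Nat.prime_five hp).2 (by omega)⟩
    obtain ⟨t, ht⟩ := LBTwoGen.exists_root hcop.1 (Units.mk0 z hz0)
    have htz : (t : F) ^ r = z := by rw [← Units.val_pow_eq_pow_val, ht, Units.val_mk0]
    obtain ⟨y, hy⟩ : ∃ y, y = (t : F)⁻¹ • x.1 := ⟨_, rfl⟩
    have hxy : x.1 = (t : F) • y := by rw [hy, smul_smul, mul_inv_cancel₀ t.ne_zero, one_smul]
    have hyr : y ^ r = 1 := by rw [hy, smul_pow, hz, smul_smul, ← htz, inv_pow, inv_mul_cancel₀ (pow_ne_zero _ t.ne_zero), one_smul]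
    have hy1 : y ≠ 1 := fun h => hns t (by rw [hxy, h])
    rcases h35 with ⟨rfl, h3⟩ | ⟨rfl, h5⟩
    · have hord : orderOf (Fintype.card F : ZMod 3) = 2 := by
        rw [hF, ← ZMod.natCast_mod, h3]
        exact ord_three
      have hp3 : p ≠ 3 := by omega
      have hne : ∀ T : GL (Fin 4) F, (∀ d : F, T.1 ≠ d • (1 : M4)) → T.1 ≠ 1 := fun T h e => h 1 (by rw [e, one_smul])
      rcases LBTwoGen.charpoly_three p hp3 hord hyr hy1 with ⟨hyt, -⟩ | ⟨hyt, -⟩
      · obtain ⟨h, hN, hh3, hhns, hht, -⟩ := H.three_pair hi hsc hscv C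
        have hh3' : h.1 ^ 3 = 1 := by rw [← Units.val_pow_eq_pow_val, hh3, Units.val_one]
        exact finish p hcop.2 hxy t.ne_zero hyr hh3' hN
          (LBTwoGen.same_class_three p hp3 hord hyr hy1 hh3' (hne h hhns) (hyt.trans hht.symm))
      · obtain ⟨g, hN, hg3, hgv, hgt, -⟩ := H.quat C.m1 C.m2 C.s1 C.s2 C.a12
        have hg3' : g.1 ^ 3 = 1 := by rw [← Units.val_pow_eq_pow_val, hg3, Units.val_one]
        exact finish p hcop.2 hxy t.ne_zero hyr hg3' hN
          (LBTwoGen.same_class_three p hp3 hord hyr hy1 hg3' (fun e => hgv (by rw [e, one_mul, mul_one])) (hyt.trans hgt.symm))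
    · have hord : orderOf (Fintype.card F : ZMod 5) = 4 := by rw [hF]; exact h5
      have hp5 : p ≠ 5 := fun h => (Nat.coprime_primes Nat.prime_five hp).1 hcop.2 h.symm
      obtain ⟨h, hN, ⟨c, hc⟩, hhns, -⟩ := H.five C
      have hc0 : c ≠ 0 := fun e => (h ^ 5).ne_zero (by rw [hc, e, zero_smul])
      obtain ⟨w, hw⟩ := LBTwoGen.exists_root hcop.1 (Units.mk0 c hc0)
      let s : GL (Fin 4) F := ⟨(w : F)⁻¹ • 1, (w : F) • 1, by rw [smul_mul_smul_comm, inv_mul_cancel₀ w.ne_zero, mul_one, one_smul],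
        by rw [smul_mul_smul_comm, mul_inv_cancel₀ w.ne_zero, mul_one, one_smul]⟩
      have hsh : (s * h).1 = (w : F)⁻¹ • h.1 := by show ((w : F)⁻¹ • 1) * h.1 = _; rw [smul_mul_assoc, one_mul]
      have hT : (s * h).1 ^ 5 = 1 := by
        rw [hsh, smul_pow, ← Units.val_pow_eq_pow_val, hc, smul_smul, inv_pow, show (w : F) ^ 5 = c by
          rw [← Units.val_pow_eq_pow_val, hw, Units.val_mk0], inv_mul_cancel₀ hc0, one_smul]
      refine finish p hcop.2 hxy t.ne_zero hyr hT (mul_mem (LBTwoFour.scalar_mem_norm (c := (w : F)⁻¹) rfl) hN) ?_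
      rw [LBTwoWit.charpoly_five p hp5 hord rfl hyr hy1, LBTwoWit.charpoly_five p hp5 hord rfl hT (fun e => hhns w (by
        rw [← e, hsh, smul_smul, mul_inv_cancel₀ w.ne_zero, one_smul]))]

end Cfsg.Agent.LBTwoLin
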