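/-
Prime order elements of the symplectic group of dimension four and the normaliser of an extraspecial group.
-/
import Cfsg.Agent.Lib.LinearBlock.SymplTwoWit
import Cfsg.Agent.Lib.LinearBlock.SympTensorSpectra

set_option autoImplicit false
set_option linter.all false

namespace Cfsg.Agent.LBTwoSp

open Matrix Subgroup

variable {F : Type*} [Field F]

local notation "I4" => Fin 2 ⊕ Fin 2

/-- The coordinates. -/
def co : Fin 4 ≃ Fin 2 ⊕ Fin 2 where
  toFun := ![Sum.inl 0, Sum.inr 0, Sum.inl 1, Sum.inr 1]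
  invFun := Sum.elim ![0, 2] ![1, 3]
  left_inv := by decide
  right_inv := by decide

/-- The witness. -/
noncomputable def spw (a : F) : GL (Fin 2 ⊕ Fin 2) F :=
  Units.map (Matrix.reindexAlgEquiv F F co : Matrix (Fin 4) (Fin 4) F →* Matrix (Fin 2 ⊕ Fin 2) (Fin 2 ⊕ Fin 2) F)
    (LBTwoWit.blkU a (-1) 1 0 (by ring))

theorem spw_val (a : F) : (spw a).1 = Matrix.reindexAlgEquiv F F co (LBTwoWit.blk a (-1) 1 0) := rfl

theorem spw_inv (a : F) : ((spw a)⁻¹ : GL (Fin 2 ⊕ Fin 2) F).1 = Matrix.reindexAlgEquiv F F co (LBTwoWit.blk 0 1 (-1) a) := by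
  rw [spw, ← map_inv]
  show Matrix.reindexAlgEquiv F F co (LBTwoWit.blk 0 (- -1) (-1) a) = _
  rw [neg_neg]

theorem spw_trace (a : F) : (spw a).1.trace = a + 2 ∧ ((spw a)⁻¹ : GL (Fin 2 ⊕ Fin 2) F).1.trace = a + 2 := by
  rw [spw_inv, spw_val]
  constructor <;>
    simp [Matrix.trace, Fintype.sum_sum_type, Fin.sum_univ_two, co, LBTwoWit.blk] <;> ring

theorem spw_mem (a : F) : spw a ∈ Cfsg.spGL 2 F := by
  refine (ClassicalSp.mem_iff_preserves _).1 ?_
  rw [SymplecticGroup.mem_iff']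
  change (spw a).1ᵀ * Matrix.J (Fin 2) F * (spw a).1 = _
  rw [spw_val]
  ext i j
  rcases i with i | i <;> rcases j with j | j <;> fin_cases i <;> fin_cases j <;>
    simp [Matrix.mul_apply, Fintype.sum_sum_type, Fin.sum_univ_two, co, LBTwoWit.blk, Matrix.J]

theorem spw_ns (a : F) (z : F) : (spw a).1 ≠ z • (1 : Matrix I4 I4 F) := by
  intro h
  refine LBTwoWit.blk_not_scalar (α := a) (β := -1) (γ := 1) (δ := 0) (by simp) z ?_
  apply (Matrix.reindexAlgEquiv F F co).injective
  rw [map_smul, map_one, ← spw_val]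
  exact h

theorem spw_three : (spw (-1 : F)) ^ 3 = 1 := Units.ext (by
  rw [Units.val_pow_eq_pow_val, spw_val, ← map_pow, LBTwoWit.pow_three_eq (by simpa using LBTwoWit.blk_cubic (α := (-1 : F)) (β := -1) (γ := 1) (δ := 0) (by ring)),
    map_one, Units.val_one])

theorem spw_five {a : F} (ha : a * a + a = 1) : (spw a) ^ 5 = 1 := Units.ext (by
  rw [Units.val_pow_eq_pow_val, spw_val, ← map_pow, LBTwoWit.pow_five_eq ha (by simpa using LBTwoWit.blk_cubic (α := a) (β := -1) (γ := 1) (δ := 0) (by ring)),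
    map_one, Units.val_one])

theorem main [Fintype F] {p : ℕ} [Fact p.Prime] [CharP F p] (hF : Fintype.card F = p) (hodd : Odd p)
    (R : Subgroup (GL (Fin 2 ⊕ Fin 2) F)) (hRs : Cfsg.Geo.IsSymplecticTypeGroup 2 R)
    (hRi : Cfsg.Geo.ActsAbsolutelyIrreducibly (Cfsg.Geo.matrixSet R))
    (hRf : R ≤ Cfsg.spGL 2 F) (hR5 : Nat.card R = 2 ^ 5) (hRZ : Nat.card (center R) = 2)
    (r : ℕ) [Fact r.Prime]
    (hΩ : r ∣ (Cfsg.Geo.subgroupNormalizer R).relIndex (Cfsg.spGL 2 F)) :
    (∀ x ∈ Cfsg.spGL 2 F, (∃ z : F, ((x ^ r : GL I4 F) : Matrix I4 I4 F) = z • (1 : Matrix I4 I4 F)) →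
      (∀ z : F, (x : Matrix I4 I4 F) ≠ z • (1 : Matrix I4 I4 F)) →
      ∃ g ∈ Cfsg.spGL 2 F, g⁻¹ * x * g ∈ Cfsg.Geo.subgroupNormalizer R) ↔ (r = 2 ∨ (r = 5 ∧ orderOf (p : ZMod 5) = 4)) := by
  classical
  have hr : r.Prime := Fact.out
  have hp : p.Prime := Fact.out
  have hp2 : p ≠ 2 := fun h => absurd (h ▸ hodd) (by decide)
  have hcF : ∀ n : ℕ, n.Prime → p ≠ n → (n : F) ≠ 0 := fun n hn hpn h =>
    hpn ((Nat.prime_dvd_prime_iff_eq hp hn).1 ((CharP.cast_eq_zero_iff F p n).1 h))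
  have H : LBTwoFour.Hyp R :=
    LBTwoFour.hyp_of hodd (by simp) R hRs hRi (by rw [hR5, hRZ]; norm_num) (Or.inl hRZ)
  haveI := Fintype.ofFinite (↥R ⧸ center ↥R)
  have hsymp : ∀ x : GL I4 F, x ∈ Cfsg.spGL 2 F → x.1 ∈ Matrix.symplecticGroup (Fin 2) F := fun x hx =>
    (ClassicalSp.mem_iff_preserves _).2 hx
  have hZ : ∀ z : R, z ∈ center R → (z.1).1 = 1 ∨ (z.1).1 = -1 := by
    intro z hz
    obtain ⟨c, hc⟩ := (LBTwoFour.center_scalar H.cent z).1 hz
    have hcc := LBSympTensor.scalar_sq (by norm_num : 1 ≤ 2) (hsymp z.1 (hRf z.2)) hc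
    rcases mul_self_eq_one_iff.1 hcc with rfl | rfl
    · exact Or.inl (by rw [hc, one_smul])
    · exact Or.inr (by rw [hc, neg_one_smul])
  have hJ0 : Matrix.J (Fin 2) F * -Matrix.J (Fin 2) F = 1 := by rw [mul_neg, Matrix.J_squared, neg_neg]
  let J : GL I4 F := ⟨Matrix.J (Fin 2) F, -Matrix.J (Fin 2) F, hJ0, by rw [neg_mul, ← mul_neg, hJ0]⟩
  have hJT : J.1ᵀ = -J.1 := Matrix.J_transpose (Fin 2) F
  have hfix : ∀ x ∈ R, x.1ᵀ * J.1 * x.1 = J.1 := fun x hx => SymplecticGroup.mem_iff'.1 (hsymp x (hRf hx))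
  obtain ⟨u₁, u₂, u₃, u₄, C⟩ := H.chain_small hZ hJT hfix
  have hrcard : r ∣ Nat.card (Cfsg.spGL 2 F) := hΩ.trans (Subgroup.index_dvd_card _)
  constructor
  · intro hall
    by_contra hnot
    push Not at hnot
    obtain ⟨hr2, hr5⟩ := hnot
    -- the order is three or five
    obtain ⟨x, hxo⟩ := exists_prime_orderOf_dvd_card' r hrcard
    have hxr : x.1 ^ r = 1 := congrArg Subtype.val (hxo ▸ pow_orderOf_eq_one x : x ^ r = 1)
    have hxns : ∀ z : F, x.1.1 ≠ z • (1 : Matrix I4 I4 F) := by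
      intro z hz
      have hzz := LBSympTensor.scalar_sq (by norm_num : 1 ≤ 2) (hsymp x.1 x.2) hz
      have hzr : z ^ r = 1 := by
        have e := congrArg Units.val hxr
        rw [Units.val_pow_eq_pow_val, hz, smul_pow, one_pow, Units.val_one] at e
        simpa using congrFun (congrFun e (Sum.inl 0)) (Sum.inl 0)
      obtain ⟨k, hk⟩ := hr.odd_of_ne_two hr2
      rw [hk, pow_succ, pow_mul, pow_two, hzz, one_pow, one_mul] at hzr
      rw [show x = 1 from Subtype.ext (Units.ext (by rw [hz, hzr, one_smul]; rfl)), orderOf_one] at hxo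
      exact hr.one_lt.ne hxo
    obtain ⟨g, -, hgN⟩ := hall x.1 x.2 ⟨1, by rw [hxr, Units.val_one, one_smul]⟩ hxns
    have hr35 : r = 3 ∨ r = 5 := by
      rcases LBTwoWit.no_trace H hr2 hxr hxns hgN with ⟨h, -⟩ | ⟨h, -⟩
      · exact Or.inl h
      · exact Or.inr h
    -- a transvection
    by_cases hrp : r = p
    · subst hrp
      obtain ⟨X, hX⟩ : ∃ X : Matrix I4 I4 F, X = Matrix.vecMulVec (Pi.single (Sum.inl 0) 1) (Pi.single (Sum.inr 0) 1) := ⟨_, rfl⟩
      have hXX : X * X = 0 := by rw [hX, Matrix.vecMulVec_mul_vecMulVec]; simp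
      let t : GL I4 F := ⟨1 + X, 1 - X, by rw [add_mul, mul_sub, mul_sub, hXX]; simp, by rw [sub_mul, mul_add, mul_add, hXX]; simp⟩
      have ht : t ∈ Cfsg.spGL 2 F := by
        refine (ClassicalSp.mem_iff_preserves _).1 ?_
        rw [SymplecticGroup.mem_iff']
        show (1 + X)ᵀ * Matrix.J (Fin 2) F * (1 + X) = _
        rw [hX]
        ext i j
        rcases i with i | i <;> rcases j with j | j <;> fin_cases i <;> fin_cases j <;>
          simp [Matrix.mul_apply, Fintype.sum_sum_type, Fin.sum_univ_two, Matrix.vecMulVec, Matrix.J, Matrix.one_apply, Pi.single_apply]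
      have htp : t ^ r = 1 := Units.ext (by
        rw [Units.val_pow_eq_pow_val]
        show (1 + X) ^ r = 1
        rw [add_pow_char_of_commute _ (Commute.one_left _), one_pow, show r = 2 + (r - 2) by have := hr.two_le; omega,
          pow_add, pow_two, hXX, zero_mul, add_zero])
      have hX0 : X ≠ 0 := fun h => by
        have e := congrFun (congrFun h (Sum.inl 0)) (Sum.inr 0)
        simp [hX, Matrix.vecMulVec] at e
      have htns : ∀ z : F, t.1 ≠ z • (1 : Matrix I4 I4 F) := fun z hz => by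
        change 1 + X = z • 1 at hz
        have e := congrFun (congrFun hz (Sum.inl 0)) (Sum.inr 0)
        simp [hX, Matrix.vecMulVec] at e
      obtain ⟨g, -, hgN⟩ := hall t ht ⟨1, by rw [htp, Units.val_one, one_smul]⟩ htns
      refine LBTwoWit.no_rankone H (lam := 1) (v := Pi.single (Sum.inl 0) 1) (f := Pi.single (Sum.inr 0) 1) ?_ (hX ▸ hX0) ?_ hgN
      · show 1 + X = _
        rw [one_smul, hX]
      · simpa using H.two
    rcases hr35 with rfl | rfl
    · obtain ⟨g, -, hgN⟩ := hall (spw (-1)) (spw_mem _) ⟨1, by rw [spw_three, Units.val_one, one_smul]⟩ (spw_ns _)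
      have hp3 : ((g⁻¹ * spw (-1 : F) * g) ^ 3).1 = (1 : F) • (1 : Matrix I4 I4 F) := by
        rw [show g⁻¹ * spw (-1 : F) * g = g⁻¹ * spw (-1) * g⁻¹⁻¹ by group, conj_pow, spw_three]; simp
      have h4 := H.fixed_three hZ hJT hfix hgN hp3 (fun c hc => spw_ns (-1) c (by
        have e := congrArg (fun M => g.1 * M * (g⁻¹ : GL I4 F).1) hc
        simpa [mul_assoc] using e))
      rw [show (g⁻¹ * spw (-1 : F) * g)⁻¹ = g⁻¹ * (spw (-1))⁻¹ * g by group, Units.val_mul, Units.val_mul, Units.val_mul,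
        Units.val_mul, Matrix.trace_units_conj', Matrix.trace_units_conj', (spw_trace _).1, (spw_trace _).2] at h4
      exact hcF 3 Nat.prime_three (Ne.symm hrp) (by push_cast; linear_combination -h4)
    · have hp5 : p % 5 = 1 ∨ p % 5 = 4 := by
        have h := hr5 rfl
        rw [Ne, LBTwoWit.ord_five] at h
        have : p % 5 ≠ 0 := fun h0 => hrp ((Nat.prime_dvd_prime_iff_eq Nat.prime_five hp).1 (Nat.dvd_of_mod_eq_zero h0))
        omega
      obtain ⟨a, ha, -⟩ := LBTwoWit.exists_gold (F := F) p hp2 hp5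
      obtain ⟨g, -, hgN⟩ := hall (spw a) (spw_mem _) ⟨1, by rw [spw_five ha, Units.val_one, one_smul]⟩ (spw_ns _)
      rcases LBTwoWit.no_trace H (by norm_num) (spw_five ha) (spw_ns _) hgN with ⟨h, -⟩ | ⟨-, h⟩
      · norm_num at h
      · rw [(spw_trace a).1, (spw_trace a).2] at h
        exact LBTwoWit.gold_ne ha (by exact_mod_cast hcF 5 Nat.prime_five (Ne.symm hrp)) h
  · rintro (rfl | ⟨rfl, hord⟩) x hx ⟨z, hz⟩ hns
    · -- involutions modulo scalars
      have hxx : x.1 * x.1 = z • (1 : Matrix I4 I4 F) := by rw [← hz, Units.val_pow_eq_pow_val, pow_two]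
      have hzz := LBSympTensor.scalar_sq (by norm_num : 1 ≤ 2) (mul_mem (hsymp x hx) (hsymp x hx)) hxx
      have hN : ∀ u ∈ R, u ∈ Cfsg.Geo.subgroupNormalizer R := fun u hu => Subgroup.le_normalizer hu
      rcases mul_self_eq_one_iff.1 hzz with rfl | rfl
      · obtain ⟨w, hw⟩ : ∃ w, w = u₁ * u₃ := ⟨_, rfl⟩
        have hwR : w ∈ R := hw ▸ mul_mem C.m1 C.m3
        have hww : w.1 * w.1 = 1 := by
          rw [hw, Units.val_mul, mul_assoc, ← mul_assoc u₃.1, ← C.c13, mul_assoc u₁.1 u₃.1, C.s3, mul_neg, mul_one, mul_neg, C.s1, neg_neg]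
        have hcp : ∀ y : GL I4 F, y ∈ Cfsg.spGL 2 F → y.1 * y.1 = 1 → y.1 ≠ 1 → y.1 ≠ -1 →
            y.1.charpoly = (Polynomial.X - Polynomial.C (1 : F)) ^ 2 * (Polynomial.X - Polynomial.C (-1)) ^ 2 := by
          intro y hy hyy h1 h2
          obtain ⟨E, hE⟩ : ∃ E, E = Matrix.reindexAlgEquiv F F (co.symm : Fin 2 ⊕ Fin 2 ≃ Fin 4) := ⟨_, rfl⟩
          obtain ⟨k, hk1, hk3, hdet, -, hc⟩ := LBTwoWit.invol_cases p hp2 (x := E y.1) (by rw [← map_mul, hyy, map_one])
            (fun h => h1 (E.injective (h.trans (map_one E).symm)))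
            (fun h => h2 (E.injective (h.trans (by rw [map_neg, map_one]))))
          have hd1 : (E y.1).det = 1 := by
            rw [hE, Matrix.det_reindexAlgEquiv]
            exact SymplecticGroup.det_eq_one (hsymp y hy)
          have hk : k = 2 := by
            interval_cases k
            · exact absurd (hdet.symm.trans hd1) (by rw [pow_one]; exact fun h => H.two (by linear_combination -h))
            · rfl
            · exact absurd (hdet.symm.trans hd1) (fun h => H.two (by linear_combination -h))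
          rw [hk] at hc
          rw [hE, Matrix.coe_reindexAlgEquiv, Matrix.charpoly_reindex] at hc
          simpa using hc
        have hw1 : w.1 ≠ 1 ∧ w.1 ≠ -1 := by
          have e13 : u₁.1 = -u₃.1 * w.1 := by
            rw [hw, Units.val_mul, neg_mul, C.c13, ← mul_assoc, C.s3, neg_one_mul, neg_neg]
          have key : ∀ e : F, w.1 = e • (1 : Matrix I4 I4 F) → False := fun e he => by
            refine H.ne_neg (u₁ * u₄) ?_
            rw [Units.val_mul]
            conv_rhs => rw [C.c14]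
            rw [e13, he, mul_smul_comm, mul_one, smul_mul_assoc, mul_smul_comm, neg_mul, mul_neg, ← smul_neg, neg_neg, C.a34,
              neg_neg]
          exact ⟨fun h => key 1 (by rw [h, one_smul]), fun h => key (-1) (by rw [h, neg_one_smul])⟩
        obtain ⟨g, hg, hge⟩ := LBSympTensor.conj_of_charpoly p hp2 hx (hRf hwR) (z := 1) (one_mul 1) hxx
          (by rw [hww, one_smul])
          (by rw [hcp w (hRf hwR) hww hw1.1 hw1.2, hcp x hx (by rw [hxx, one_smul]) (fun h => hns 1 (by rw [h, one_smul]))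
            (fun h => hns (-1) (by rw [h, neg_one_smul]))])
        exact ⟨g, hg, hge ▸ hN w hwR⟩
      · obtain ⟨g, hg, hge⟩ := LBSympTensor.conj_of_charpoly p hp2 hx (hRf C.m1) (z := -1) (by norm_num) hxx
          (by rw [C.s1, neg_one_smul])
          (by rw [LBSympTensor.charpoly_square_neg H.two (hsymp u₁ (hRf C.m1)) (by rw [C.s1, neg_one_smul]),
            LBSympTensor.charpoly_square_neg H.two (hsymp x hx) hxx])
        exact ⟨g, hg, hge ▸ hN u₁ C.m1⟩
    · -- elements of order five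
      have hp5 : p ≠ 5 := fun h => by subst h; rw [LBTwoWit.ord_five] at hord; norm_num at hord
      haveI : Fact (Nat.Prime 5) := ⟨Nat.prime_five⟩
      obtain ⟨h, hhN, ⟨c, hc⟩, hhns, had⟩ := H.five C
      have hA : LBTwoFour.AdFix R (fun X => -(Matrix.J (Fin 2) F * (Xᵀ * Matrix.J (Fin 2) F))) := by
        refine ⟨fun a b => ?_, fun a b => ?_, ?_, fun y hy => ?_⟩
        · rw [Matrix.transpose_add, add_mul, mul_add, neg_add]
        · rw [Matrix.transpose_mul, neg_mul_neg]
          rw [show Matrix.J (Fin 2) F * (bᵀ * Matrix.J (Fin 2) F) * (Matrix.J (Fin 2) F * (aᵀ * Matrix.J (Fin 2) F)) =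
            Matrix.J (Fin 2) F * (bᵀ * (Matrix.J (Fin 2) F * Matrix.J (Fin 2) F) * aᵀ * Matrix.J (Fin 2) F) by simp only [mul_assoc],
            Matrix.J_squared]
          simp [mul_assoc]
        · rw [Matrix.transpose_one, one_mul, Matrix.J_squared, neg_neg]
        · rw [neg_mul, mul_assoc, show y.1ᵀ * Matrix.J (Fin 2) F * y.1 = Matrix.J (Fin 2) F from hfix _ hy, Matrix.J_squared, neg_neg]
      have hh := had _ hA
      have hhS : h ∈ Cfsg.spGL 2 F := by
        refine (ClassicalSp.mem_iff_preserves _).1 (SymplecticGroup.mem_iff'.2 ?_)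
        have e := congrArg (fun M => Matrix.J (Fin 2) F * M) hh
        simp only [mul_one, neg_mul, mul_neg, ← mul_assoc, Matrix.J_squared, neg_one_mul, one_mul, neg_neg] at e
        exact e
      have hord' : orderOf (Fintype.card F : ZMod 5) = 4 := by rw [hF]; exact hord
      have norm5 : ∀ y : GL I4 F, y ∈ Cfsg.spGL 2 F → ∀ d : F, (y ^ 5).1 = d • (1 : Matrix I4 I4 F) →
          (∀ e : F, y.1 ≠ e • (1 : Matrix I4 I4 F)) →
          ∃ w : Matrix.symplecticGroup (Fin 2) F, w ^ 5 = 1 ∧ w.1 = d • y.1 ∧ d * d = 1 ∧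
            w.1.charpoly = (Polynomial.cyclotomic 5 F) := by
        intro y hy d hd hyns
        have hdd := LBSympTensor.scalar_sq (by norm_num : 1 ≤ 2) (hsymp (y ^ 5) (pow_mem hy 5)) hd
        have hw : d • y.1 ∈ Matrix.symplecticGroup (Fin 2) F := by
          rw [SymplecticGroup.mem_iff, smul_mul_assoc, Matrix.transpose_smul, smul_mul_assoc, mul_smul_comm, smul_smul, hdd, one_smul]
          exact SymplecticGroup.mem_iff.1 (hsymp y hy)
        have hw5 : (d • y.1) ^ 5 = 1 := by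
          rw [smul_pow, ← Units.val_pow_eq_pow_val, hd, smul_smul, show d ^ 5 * d = (d * d) ^ 3 by ring, hdd, one_pow, one_smul]
        refine ⟨⟨_, hw⟩, Subtype.ext (by rw [SubmonoidClass.coe_pow]; exact hw5), rfl, hdd, ?_⟩
        obtain ⟨E, hE⟩ : ∃ E, E = Matrix.reindexAlgEquiv F F (co.symm : Fin 2 ⊕ Fin 2 ≃ Fin 4) := ⟨_, rfl⟩
        have e := LBTwoWit.charpoly_five p hp5 hord' (M := E (d • y.1)) rfl (by rw [← map_pow, hw5, map_one]) (fun h1 => by
          have h1' : d • y.1 = 1 := E.injective (h1.trans (map_one E).symm)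
          refine hyns d ?_
          rw [← h1', smul_smul, hdd, one_smul])
        rwa [hE, Matrix.coe_reindexAlgEquiv, Matrix.charpoly_reindex] at e
      obtain ⟨w₁, hw₁, hw₁v, hzz, hc₁⟩ := norm5 x hx z hz hns
      obtain ⟨w₂, hw₂, hw₂v, hcc, hc₂⟩ := norm5 h hhS c hc hhns
      have hco : ∀ w : Matrix.symplecticGroup (Fin 2) F, w ^ 5 = 1 → (orderOf w).Coprime p := fun w hw =>
        Nat.Coprime.of_dvd_left (orderOf_dvd_of_pow_eq_one hw) ((Nat.coprime_primes Nat.prime_five hp).2 (Ne.symm hp5))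
      obtain ⟨Q, hQ⟩ := isConj_iff.1 (SympClasses.isConj_of_charpoly p w₂ w₁ (hco _ hw₂) (hco _ hw₁) (hc₂.trans hc₁.symm))
      let toG : Matrix.symplecticGroup (Fin 2) F →* GL I4 F := (Units.map (Submonoid.subtype _)).comp toUnits.toMonoidHom
      have hQ' := congrArg (fun w : Matrix.symplecticGroup (Fin 2) F => (toG w).1) hQ
      simp only [map_mul, map_inv, Units.val_mul] at hQ'
      change (toG Q).1 * w₂.1 * ((toG Q)⁻¹ : GL I4 F).1 = w₁.1 at hQ'
      rw [hw₁v, hw₂v, mul_smul_comm, smul_mul_assoc] at hQ'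
      refine ⟨toG Q, (ClassicalSp.mem_iff_preserves _).1 Q.2, ?_⟩
      have key : ((toG Q)⁻¹ * x * toG Q).1 = (z * c) • h.1 := by
        have e : x.1 = (z * c) • ((toG Q).1 * h.1 * ((toG Q)⁻¹ : GL I4 F).1) := by
          rw [mul_smul, hQ', smul_smul, hzz, one_smul]
        rw [Units.val_mul, Units.val_mul, e, mul_smul_comm, smul_mul_assoc]
        simp [mul_assoc]
      have hzc : (z * c) * (z * c) = 1 := by linear_combination hzz * (c * c) + hcc
      let s : GL I4 F := ⟨(z * c) • 1, (z * c) • 1, by rw [smul_mul_smul_comm, hzc, mul_one, one_smul],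
        by rw [smul_mul_smul_comm, hzc, mul_one, one_smul]⟩
      rw [show (toG Q)⁻¹ * x * toG Q = s * h from Units.ext (by rw [key, Units.val_mul]; show _ = ((z * c) • 1) * h.1; rw [smul_mul_assoc, one_mul])]
      exact mul_mem (LBTwoFour.scalar_mem_norm (c := z * c) rfl) hhN

end Cfsg.Agent.LBTwoSp
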