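/-
Unitary classes of elements of order two, three and five in dimension four.
-/
import Cfsg.Agent.Lib.LinearBlock.SymplTwoLin
import Cfsg.Agent.Lib.LinearBlock.GUConj

set_option autoImplicit false
set_option linter.all false

namespace Cfsg.Agent.LBTwoUnit

open Matrix Polynomial

variable {F : Type*} [Field F]

local notation "M4" => Matrix (Fin 4) (Fin 4) F
local notation "S4" => Cfsg.Geo.specialLinear (Fin 4) F

/-- The conjugate transpose. -/
def ct (σ : F →+* F) (X : M4) : M4 := (X.map σ)ᵀ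

theorem ct_fix {σ : F →+* F} {q : ℕ} (hσ : ∀ x, σ x = x ^ q) (g : GL (Fin 4) F) :
    g ∈ Cfsg.GU 4 F q ↔ ct σ g.1 * g.1 = 1 := by
  rw [HermSU.mem_GU_iff hσ, ct, ← Matrix.transpose_inj, Matrix.transpose_mul, Matrix.transpose_transpose, Matrix.transpose_one]

theorem ct_adFix {σ : F →+* F} {q : ℕ} (hσ : ∀ x, σ x = x ^ q) {R : Subgroup (GL (Fin 4) F)} (hR : R ≤ Cfsg.GU 4 F q) :
    LBTwoFour.AdFix R (ct σ) := by
  refine ⟨fun a b => ?_, fun a b => ?_, ?_, fun x hx => (ct_fix hσ x).1 (hR hx)⟩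
  · rw [ct, ct, ct, Matrix.map_add σ (map_add σ), Matrix.transpose_add]
  · rw [ct, ct, ct, Matrix.map_mul, Matrix.transpose_mul]
  · rw [ct, Matrix.map_one σ (map_zero σ) (map_one σ), Matrix.transpose_one]

theorem ct_trace (σ : F →+* F) (X : M4) : (ct σ X).trace = σ X.trace := by
  rw [ct, Matrix.trace_transpose, Matrix.trace, Matrix.trace, map_sum]; rfl

theorem ct_smul (σ : F →+* F) (c : F) (X : M4) : ct σ (c • X) = σ c • ct σ X := by
  ext i j; simp [ct]

/-- Conjugacy inside the special unitary group. -/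
theorem su_conj [Fintype F] (p : ℕ) [Fact p.Prime] [CharP F p] (hF : Fintype.card F = p ^ 2) {σ : F →+* F}
    (hσ : ∀ x, σ x = x ^ p) {m : ℕ} (hm : m.Coprime p) {a b T : GL (Fin 4) F}
    (ha : a ∈ Cfsg.GU 4 F p) (hb : b ∈ Cfsg.GU 4 F p) (hT : T ∈ Cfsg.GU 4 F p)
    (ham : a.1 ^ m = 1) (hbm : b.1 ^ m = 1) (hTm : T.1 ^ m = 1)
    (hca : a.1.charpoly = T.1.charpoly) (hcb : b.1.charpoly = T.1.charpoly)
    (hC : ∀ δ : Fˣ, δ ∈ HermSU.normOne σ → ∃ C ∈ Cfsg.GU 4 F p, C * T = T * C ∧ GeneralLinearGroup.det C = δ) :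
    ∃ g ∈ Cfsg.GU 4 F p ⊓ S4, g⁻¹ * a * g = b := by
  have hconj : ∀ y : GL (Fin 4) F, y ∈ Cfsg.GU 4 F p → y.1 ^ m = 1 → y.1.charpoly = T.1.charpoly →
      ∃ Q ∈ Cfsg.GU 4 F p, Q * y * Q⁻¹ = T := by
    intro y hy hym hcy
    obtain ⟨P, hP⟩ := SemisimpleCl.exists_conjugator (SemisimpleCl.isSemisimple_of_pow p hym hm)
      (SemisimpleCl.isSemisimple_of_pow p hTm hm) hcy
    have hc : IsConj (y : GL (Fin 4) F) T := isConj_iff.2 ⟨P, by
      rw [mul_inv_eq_iff_eq_mul]; exact Units.ext hP⟩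
    obtain ⟨Q, hQ⟩ := isConj_iff.1 (LBGUConj.isConj_of_gl hF ⟨y, hy⟩ ⟨T, hT⟩ hc)
    exact ⟨Q.1, Q.2, congrArg Subtype.val hQ⟩
  obtain ⟨A, hA, hAe⟩ := hconj a ha ham hca
  obtain ⟨B, hB, hBe⟩ := hconj b hb hbm hcb
  obtain ⟨C, hC1, hC2, hC3⟩ := hC (GeneralLinearGroup.det A * (GeneralLinearGroup.det B)⁻¹)
    (mul_mem (HermSU.det_mem_normOne hσ hA) (inv_mem (HermSU.det_mem_normOne hσ hB)))
  refine ⟨A⁻¹ * C * B, Subgroup.mem_inf.2 ⟨mul_mem (mul_mem (inv_mem hA) hC1) hB, ?_⟩, ?_⟩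
  · show GeneralLinearGroup.det (A⁻¹ * C * B) = 1
    rw [map_mul, map_mul, map_inv, hC3, inv_mul_cancel_left, inv_mul_cancel]
  · rw [show (A⁻¹ * C * B)⁻¹ * a * (A⁻¹ * C * B) = B⁻¹ * (C⁻¹ * (A * a * A⁻¹) * C) * B by group, hAe,
      mul_assoc C⁻¹ T C, ← hC2, inv_mul_cancel_left, ← hBe]
    group

theorem three_factors {g₁ g₂ g₃ : F[X]} (h1 : g₁.Monic) (h2 : g₂.Monic) (h3 : g₃.Monic) (f : F[X]) (hf : f.Monic)
    (h : ∀ u : F[X], u.Monic → Irreducible u → u ∣ f → u = g₁ ∨ u = g₂ ∨ u = g₃) :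
    ∃ a b c : ℕ, f = g₁ ^ a * g₂ ^ b * g₃ ^ c := by
  classical
  have hprod := LBRootPoly.prod_of_monic hf
  have hmem : ∀ u ∈ UniqueFactorizationMonoid.normalizedFactors f, u = g₁ ∨ u = g₂ ∨ u = g₃ := fun u hu =>
    h u (LBRootPoly.monic_of_mem hu) (UniqueFactorizationMonoid.irreducible_of_normalized_factor u hu)
      (UniqueFactorizationMonoid.dvd_of_mem_normalizedFactors hu)
  rw [← hprod]
  generalize UniqueFactorizationMonoid.normalizedFactors f = S at hmem
  induction S using Multiset.induction_on with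
  | empty => exact ⟨0, 0, 0, by simp⟩
  | cons u S ih =>
    obtain ⟨a, b, c, hab⟩ := ih fun v hv => hmem v (Multiset.mem_cons_of_mem hv)
    rw [Multiset.prod_cons, hab]
    rcases hmem u (Multiset.mem_cons_self u S) with rfl | rfl | rfl
    · exact ⟨a + 1, b, c, by ring⟩
    · exact ⟨a, b + 1, c, by ring⟩
    · exact ⟨a, b, c + 1, by ring⟩

/-- Unitary elements of order three, the field having the cube roots of unity with norm different from one. -/
theorem three_unit [Fintype F] (p : ℕ) [Fact p.Prime] [CharP F p] (hp : 5 ≤ p) {σ : F →+* F} {ω : F}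
    (hω : IsPrimitiveRoot ω 3) (hσω : σ ω = ω) {M : M4} (hM : M ^ 3 = 1) (hM1 : M ≠ 1) (hu : ct σ M * M = 1) :
    (M.trace = 1 ∧ M.charpoly = (Polynomial.X - Polynomial.C 1) ^ 2 * ((Polynomial.X - Polynomial.C ω) * (Polynomial.X - Polynomial.C (ω ^ 2)))) ∨
      (M.trace = -2 ∧ M.charpoly = ((Polynomial.X - Polynomial.C ω) * (Polynomial.X - Polynomial.C (ω ^ 2))) ^ 2) := by
  classical
  haveI : Fact (Nat.Prime 3) := ⟨Nat.prime_three⟩
  have hω3 : ω ^ 3 = 1 := hω.pow_eq_one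
  have hω1 : ω ≠ 1 := hω.ne_one (by norm_num)
  have hωs : ω ^ 2 + ω + 1 = 0 := by
    have : (ω - 1) * (ω ^ 2 + ω + 1) = 0 := by linear_combination hω3
    exact (mul_eq_zero.1 this).resolve_left (sub_ne_zero.2 hω1)
  have hX3 : (Polynomial.X : F[X]) ^ 3 - 1 =
      (Polynomial.X - Polynomial.C 1) * (Polynomial.X - Polynomial.C ω) * (Polynomial.X - Polynomial.C (ω ^ 2)) := by
    have e1 : (Polynomial.C ω : F[X]) ^ 2 + Polynomial.C ω + 1 = 0 := by
      rw [← C_pow, ← C_1, ← C_add, ← C_add, hωs, C_0]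
    have e3 : (Polynomial.C ω : F[X]) ^ 3 = 1 := by rw [← C_pow, hω3, C_1]
    rw [C_1, C_pow]
    linear_combination (Polynomial.X ^ 2 - Polynomial.C ω * Polynomial.X) * e1 + e3
  obtain ⟨a, b, c, habc⟩ := three_factors (monic_X_sub_C (1 : F)) (monic_X_sub_C ω) (monic_X_sub_C (ω ^ 2)) M.charpoly
    (Matrix.charpoly_monic M) fun u hum hui hud => by
      have huX : u ∣ Polynomial.X ^ 3 - 1 := (LBRootPoly.good_charpoly (r := 3) hM).2 u hum hui hud
      rw [hX3] at huX
      have key : ∀ v : F, u ∣ Polynomial.X - Polynomial.C v → u = Polynomial.X - Polynomial.C v := fun v hv =>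
        eq_of_monic_of_associated hum (monic_X_sub_C v) (hui.associated_of_dvd (irreducible_X_sub_C v) hv)
      rcases hui.prime.dvd_mul.1 huX with e | e
      · rcases hui.prime.dvd_mul.1 e with e | e
        · exact Or.inl (key _ e)
        · exact Or.inr (Or.inl (key _ e))
      · exact Or.inr (Or.inr (key _ e))
  have hdeg : a + b + c = 4 := by
    have e := congrArg Polynomial.natDegree habc
    rw [Matrix.charpoly_natDegree_eq_dim, Fintype.card_fin,
      (((monic_X_sub_C (1 : F)).pow a).mul ((monic_X_sub_C ω).pow b)).natDegree_mul ((monic_X_sub_C (ω ^ 2)).pow c),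
      ((monic_X_sub_C (1 : F)).pow a).natDegree_mul ((monic_X_sub_C ω).pow b)] at e
    rw [natDegree_pow, natDegree_pow, natDegree_pow, natDegree_X_sub_C, natDegree_X_sub_C, natDegree_X_sub_C] at e
    omega
  obtain ⟨d, hd⟩ : ∃ d : Fin 4 → F, d = fun i : Fin 4 => if i.1 < a then 1 else if i.1 < a + b then ω else ω ^ 2 := ⟨_, rfl⟩
  have hb4 : b ≤ 4 := by omega
  have ha4 : a ≤ 4 := by omega
  have hdc : (Matrix.diagonal d).charpoly = M.charpoly ∧ (∑ i, d i) = (a : F) + b * ω + c * ω ^ 2 ∧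
      (∑ i, d i * d i) = (a : F) + b * ω ^ 2 + c * ω := by
    obtain rfl : c = 4 - a - b := by omega
    rw [habc, Matrix.charpoly_diagonal, Fin.prod_univ_four, Fin.sum_univ_four, Fin.sum_univ_four, hd]
    have h4 : ω ^ 2 * ω ^ 2 = ω := by linear_combination ω * hω3
    have h4' : ω * ω = ω ^ 2 := (pow_two ω).symm
    refine ⟨?_, ?_, ?_⟩
    · interval_cases a <;> interval_cases b <;>
        first
        | omega
        | (simp only [Fin.val_zero, Fin.val_one, Fin.val_two, show ((3 : Fin 4) : ℕ) = 3 from rfl, Nat.reduceLT, Nat.reduceAdd,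
            Nat.reduceSub, if_true, if_false, Nat.add_zero, Nat.zero_add]; ring)
    · interval_cases a <;> interval_cases b <;> simp at hdeg ⊢ <;> ring
    · interval_cases a <;> interval_cases b <;> simp at hdeg ⊢ <;> (try simp only [h4, h4']) <;> ring
  have hd3 : Matrix.diagonal d ^ 3 = 1 := by
    rw [Matrix.diagonal_pow, ← Matrix.diagonal_one]
    congr 1; funext i
    rw [Pi.pow_apply, hd]
    dsimp only
    split_ifs
    · simp
    · exact hω3
    · rw [← pow_mul, show 2 * 3 = 3 * 2 from rfl, pow_mul, hω3, one_pow]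
  have hp3 : p ≠ 3 := by omega
  have hco : (3 : ℕ).Coprime p := (Nat.coprime_primes Nat.prime_three Fact.out).2 (Ne.symm hp3)
  obtain ⟨P, hP⟩ := SemisimpleCl.exists_conjugator (SemisimpleCl.isSemisimple_of_pow p hM hco)
    (SemisimpleCl.isSemisimple_of_pow p hd3 hco) hdc.1.symm
  have hMd : M = (P⁻¹ : GL (Fin 4) F).1 * Matrix.diagonal d * P.1 := by rw [mul_assoc, ← hP, ← mul_assoc, Units.inv_mul, one_mul]
  have htr : M.trace = (a : F) + b * ω + c * ω ^ 2 := by rw [hMd, Matrix.trace_units_conj', Matrix.trace_diagonal, hdc.2.1]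
  have htr2 : (M * M).trace = (a : F) + b * ω ^ 2 + c * ω := by
    rw [hMd, show (P⁻¹ : GL (Fin 4) F).1 * Matrix.diagonal d * P.1 * ((P⁻¹ : GL (Fin 4) F).1 * Matrix.diagonal d * P.1) =
      (P⁻¹ : GL (Fin 4) F).1 * (Matrix.diagonal d * Matrix.diagonal d) * P.1 by simp only [mul_assoc, Units.mul_inv_cancel_left],
      Matrix.trace_units_conj', Matrix.diagonal_mul_diagonal, Matrix.trace_diagonal, hdc.2.2]
  have hct : ct σ M = M * M := by
    calc ct σ M = ct σ M * M ^ 3 := by rw [hM, mul_one]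
      _ = (ct σ M * M) * (M * M) := by rw [pow_three]; simp only [mul_assoc]
      _ = M * M := by rw [hu, one_mul]
  have hrel := ct_trace σ M
  rw [hct, htr2, htr, map_add, map_add, map_natCast, map_mul, map_mul, map_natCast, map_natCast, map_pow, hσω] at hrel
  have hne : ω ^ 2 - ω ≠ 0 := by
    rw [show ω ^ 2 - ω = ω * (ω - 1) by ring]
    exact mul_ne_zero (hω.ne_zero (by norm_num)) (sub_ne_zero.2 hω1)
  have hbc : b = c := by
    have e : ((b : F) - c) * (ω ^ 2 - ω) = 0 := by linear_combination hrel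
    have e' := sub_eq_zero.1 ((mul_eq_zero.1 e).resolve_right hne)
    rw [CharP.natCast_eq_natCast F p, Nat.ModEq, Nat.mod_eq_of_lt (by omega), Nat.mod_eq_of_lt (by omega)] at e'
    exact e'
  subst hbc
  rcases (show b = 0 ∨ b = 1 ∨ b = 2 by omega) with rfl | rfl | rfl
  · exfalso
    obtain rfl : a = 4 := by omega
    apply hM1
    rw [hMd, show d = fun _ => 1 by rw [hd]; funext i; exact if_pos i.isLt, Matrix.diagonal_one, mul_one, Units.inv_mul]
  · obtain rfl : a = 2 := by omega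
    refine Or.inl ⟨by rw [htr]; push_cast; linear_combination hωs, ?_⟩
    rw [habc, pow_one, pow_one, mul_assoc]
  · obtain rfl : a = 0 := by omega
    refine Or.inr ⟨by rw [htr]; push_cast; linear_combination 2 * hωs, ?_⟩
    rw [habc, pow_zero, one_mul, mul_pow]

theorem same_three [Fintype F] (p : ℕ) [Fact p.Prime] [CharP F p] (hp : 5 ≤ p) {σ : F →+* F} {ω : F}
    (hω : IsPrimitiveRoot ω 3) (hσω : σ ω = ω) {M N : M4} (hM : M ^ 3 = 1) (hM1 : M ≠ 1) (huM : ct σ M * M = 1)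
    (hN : N ^ 3 = 1) (hN1 : N ≠ 1) (huN : ct σ N * N = 1) (ht : M.trace = N.trace) : M.charpoly = N.charpoly := by
  have h3 : (3 : F) ≠ 0 := fun h => absurd ((Nat.prime_dvd_prime_iff_eq Fact.out Nat.prime_three).1
    ((CharP.cast_eq_zero_iff F p 3).1 (by exact_mod_cast h))) (by omega)
  rcases three_unit p hp hω hσω hM hM1 huM with ⟨a, b⟩ | ⟨a, b⟩ <;>
    rcases three_unit p hp hω hσω hN hN1 huN with ⟨c, d⟩ | ⟨c, d⟩ <;>
    first | exact b.trans d.symm | (exfalso; rw [a, c] at ht; apply h3)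
  · linear_combination ht
  · linear_combination -ht

theorem same_two [Fintype F] (p : ℕ) [Fact p.Prime] [CharP F p] (hp : p ≠ 2) {M N : M4}
    (hM : M * M = 1) (hM1 : M ≠ 1) (hM2 : M ≠ -1) (hN : N * N = 1) (hN1 : N ≠ 1) (hN2 : N ≠ -1) (ht : M.trace = N.trace) :
    M.charpoly = N.charpoly := by
  obtain ⟨k, hk1, hk3, -, hkt, hkc⟩ := LBTwoWit.invol_cases p hp hM hM1 hM2
  obtain ⟨l, hl1, hl3, -, hlt, hlc⟩ := LBTwoWit.invol_cases p hp hN hN1 hN2
  have h2 : (2 : F) ≠ 0 := fun h => hp ((Nat.prime_dvd_prime_iff_eq Fact.out Nat.prime_two).1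
    ((CharP.cast_eq_zero_iff F p 2).1 (by exact_mod_cast h)))
  have e : (k : F) = (l : F) := mul_left_cancel₀ h2 (by linear_combination hkt.symm.trans (ht.trans hlt))
  have hkl : k = l := by
    interval_cases k <;> interval_cases l <;> first | rfl | (exfalso; push_cast at e)
    · exact one_ne_zero (α := F) (by linear_combination -e)
    · exact h2 (by linear_combination -e)
    · exact one_ne_zero (α := F) (by linear_combination e)
    · exact one_ne_zero (α := F) (by linear_combination -e)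
    · exact h2 (by linear_combination e)
    · exact one_ne_zero (α := F) (by linear_combination e)
  subst hkl
  exact hkc.trans hlc.symm

theorem blk_charpoly (α β γ δ : F) : (LBTwoWit.blk α β γ δ).charpoly =
    (Polynomial.X ^ 2 - Polynomial.C (α + δ) * Polynomial.X + Polynomial.C (α * δ - β * γ)) * (Polynomial.X - Polynomial.C 1) ^ 2 := by
  rw [Matrix.charpoly]
  simp [LBTwoWit.blk, Matrix.charmatrix, Matrix.det_succ_row_zero, Fin.sum_univ_succ, Fin.succAbove, C_add, C_sub, C_mul]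
  ring

/-- A square root of five outside the prime field. -/
theorem exists_gold_out [Fintype F] (p : ℕ) [Fact p.Prime] [CharP F p] (hp2 : p ≠ 2) (hF : Fintype.card F = p ^ 2)
    (h5 : p % 5 = 2 ∨ p % 5 = 3) : ∃ α : F, α * α + α = 1 ∧ α ^ p ≠ α := by
  haveI : Fact (Nat.Prime 5) := ⟨Nat.prime_five⟩
  have hp : p.Prime := Fact.out
  have hns : ¬ IsSquare ((5 : ℕ) : ZMod p) := by
    rw [← ZMod.exists_sq_eq_prime_iff_of_mod_four_eq_one (p := 5) (by norm_num) hp2]
    rw [← ZMod.natCast_mod]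
    rcases h5 with h | h <;> rw [h]
    · exact ns2
    · exact ns3
  have h50 : ((5 : ℕ) : ZMod p) ≠ 0 := fun h => hns (by rw [h]; exact IsSquare.zero)
  have hrc : ringChar F ≠ 2 := by rw [ringChar.eq F p]; exact hp2
  let f := ZMod.castHom (dvd_refl p) F
  have hpodd : p % 2 = 1 := hp.eq_two_or_odd.resolve_left hp2
  obtain ⟨s, hs⟩ : IsSquare (f ((5 : ℕ) : ZMod p)) := by
    rw [FiniteField.isSquare_iff hrc (fun h => h50 (f.injective (h.trans (map_zero f).symm))), ← map_pow,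
      show Fintype.card F / 2 = (p - 1) * ((p + 1) / 2) by
        obtain ⟨k, rfl⟩ : ∃ k, p = 2 * k + 1 := ⟨p / 2, by omega⟩
        rw [hF, show 2 * k + 1 + 1 = 2 * (k + 1) by ring, Nat.mul_div_cancel_left _ two_pos, Nat.add_sub_cancel,
          show (2 * k + 1) ^ 2 = 1 + 2 * (2 * k * (k + 1)) by ring, Nat.add_mul_div_left _ _ two_pos]
        norm_num, pow_mul, ZMod.pow_card_sub_one_eq_one h50, one_pow, map_one]
  have h2 : (2 : F) ≠ 0 := Ring.two_ne_zero hrc
  refine ⟨(s - 1) / 2, ?_, fun h => hns ?_⟩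
  · rw [map_natCast] at hs
    push_cast at hs
    field_simp
    linear_combination -hs
  · have hsp : s ^ p = s := by
      have e : ((s - 1) / 2) ^ p = (s ^ p - 1) / 2 := by
        rw [div_pow, sub_pow_char, one_pow]
        congr 1
        have := congrArg f (ZMod.pow_card (2 : ZMod p))
        rwa [map_pow, map_ofNat] at this
      rw [e, div_left_inj' h2, sub_left_inj] at h
      exact h
    have hs0 : s ≠ 0 := fun e => h50 (f.injective (by rw [hs, e, zero_mul, map_zero]))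
    have hsq : f ((5 : ℕ) : ZMod p) ^ (p / 2) = 1 := by
      rw [hs, ← pow_two, ← pow_mul]
      have e : s ^ (p - 1) = 1 := mul_right_cancel₀ hs0 (by rw [← pow_succ, Nat.sub_add_cancel hp.one_le, hsp, one_mul])
      rw [show 2 * (p / 2) = p - 1 by omega, e]
    rw [ZMod.euler_criterion p h50]
    exact f.injective (by rw [map_pow, hsq, map_one])
where
  ns2 : ¬ IsSquare ((2 : ℕ) : ZMod 5) := by rintro ⟨x, hx⟩; revert x; decide
  ns3 : ¬ IsSquare ((3 : ℕ) : ZMod 5) := by rintro ⟨x, hx⟩; revert x; decide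

/-- Unitary elements of order five fix no vector. -/
theorem five_unit [Fintype F] (p : ℕ) [Fact p.Prime] [CharP F p] (hp2 : p ≠ 2) (hF : Fintype.card F = p ^ 2)
    {σ : F →+* F} (hσ : ∀ x, σ x = x ^ p) (h5 : p % 5 = 2 ∨ p % 5 = 3) {M : M4} (hM : M ^ 5 = 1) (hM1 : M ≠ 1)
    (hu : ct σ M * M = 1) : 1 + M + M ^ 2 + M ^ 3 + M ^ 4 = 0 := by
  classical
  haveI : Fact (Nat.Prime 5) := ⟨Nat.prime_five⟩
  have hp5 : p ≠ 5 := by omega
  have hgeom : (M - 1) * (1 + M + M ^ 2 + M ^ 3 + M ^ 4) = 0 := by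
    rw [show (M - 1) * (1 + M + M ^ 2 + M ^ 3 + M ^ 4) = M ^ 5 - 1 by simp [pow_succ]; noncomm_ring, hM, sub_self]
  by_cases hdet : IsUnit (M - 1)
  · exact hdet.mul_right_eq_zero.1 hgeom
  exfalso
  obtain ⟨α, hα, hαp⟩ := exists_gold_out (F := F) p hp2 hF h5
  obtain ⟨Q, hQ⟩ : ∃ Q : F → F[X], ∀ a, Q a = Polynomial.X ^ 2 - Polynomial.C a * Polynomial.X + 1 := ⟨_, fun a => rfl⟩
  have hQm : ∀ a, (Q a).Monic := fun a => by rw [hQ]; monicity!
  have hQd : ∀ a, (Q a).natDegree = 2 := fun a => by rw [hQ]; compute_degree!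
  have hX5 : (Polynomial.X : F[X]) ^ 5 - 1 = (Polynomial.X - Polynomial.C 1) * (Q α * Q (-1 - α)) := by
    have hC : (Polynomial.C α * Polynomial.C α + Polynomial.C α : F[X]) = 1 := by rw [← C_mul, ← C_add, hα, C_1]
    rw [hQ, hQ, C_1, C_sub, C_neg, C_1]
    linear_combination (Polynomial.X - 1) * Polynomial.X ^ 2 * hC
  have hord : orderOf (Fintype.card F : ZMod 5) = 2 := by
    rw [hF, Nat.cast_pow, ← ZMod.natCast_mod p 5]
    rcases h5 with h | h <;> rw [h]
    · exact ord2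
    · exact ord3
  obtain ⟨a, b, c, habc⟩ := three_factors (monic_X_sub_C (1 : F)) (hQm α) (hQm (-1 - α)) M.charpoly
    (Matrix.charpoly_monic M) fun u hum hui hud => by
      by_cases h1 : u = Polynomial.X - Polynomial.C 1
      · exact Or.inl h1
      have huX : u ∣ Polynomial.X ^ 5 - 1 := (LBRootPoly.good_charpoly (r := 5) hM).2 u hum hui hud
      have hdeg : u.natDegree = 2 := by rw [LBRootPoly.natDegree_factor Nat.prime_five hum hui huX h1, hord]
      have key : ∀ a, u ∣ Q a → u = Q a := fun a e =>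
        (Polynomial.eq_of_monic_of_dvd_of_natDegree_le hum (hQm a) e (by rw [hdeg, hQd])).symm
      rw [hX5] at huX
      rcases hui.prime.dvd_mul.1 huX with e | e
      · exfalso
        have := Polynomial.natDegree_le_of_dvd e (X_sub_C_ne_zero 1)
        rw [hdeg, natDegree_X_sub_C] at this
        omega
      · rcases hui.prime.dvd_mul.1 e with e | e
        · exact Or.inr (Or.inl (key _ e))
        · exact Or.inr (Or.inr (key _ e))
  have hdeg : a + 2 * b + 2 * c = 4 := by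
    have e := congrArg Polynomial.natDegree habc
    rw [Matrix.charpoly_natDegree_eq_dim, Fintype.card_fin,
      (((monic_X_sub_C (1 : F)).pow a).mul ((hQm α).pow b)).natDegree_mul ((hQm (-1 - α)).pow c),
      ((monic_X_sub_C (1 : F)).pow a).natDegree_mul ((hQm α).pow b), natDegree_pow, natDegree_pow, natDegree_pow, hQd, hQd,
      natDegree_X_sub_C] at e
    omega
  have h0 : M.charpoly.eval 1 = 0 := by
    rw [Matrix.eval_charpoly]
    by_contra h
    apply hdet
    rw [show M - 1 = -(Matrix.scalar (Fin 4) (1 : F) - M) by rw [map_one, neg_sub]]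
    exact ((Matrix.isUnit_iff_isUnit_det _).2 (isUnit_iff_ne_zero.2 h)).neg
  have hq1 : ∀ β : F, β * β + β = 1 → (Q β).eval 1 ≠ 0 := fun β hβ e => by
    rw [hQ] at e
    simp at e
    have e' : (2 : F) - β = 0 := by linear_combination e
    have h50 : ((5 : ℕ) : F) ≠ 0 := fun h => hp5 ((Nat.prime_dvd_prime_iff_eq Fact.out Nat.prime_five).1
      ((CharP.cast_eq_zero_iff F p 5).1 h))
    apply h50
    push_cast
    linear_combination hβ + (β + 3) * e'
  have hα' : (-1 - α) * (-1 - α) + (-1 - α) = 1 := by linear_combination hα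
  have ha0 : a ≠ 0 := fun h => by
    rw [habc, h, pow_zero, one_mul, Polynomial.eval_mul, Polynomial.eval_pow, Polynomial.eval_pow] at h0
    rcases mul_eq_zero.1 h0 with e | e
    · exact hq1 α hα (pow_eq_zero_iff'.1 e).1
    · exact hq1 _ hα' (pow_eq_zero_iff'.1 e).1
  have hco : (5 : ℕ).Coprime p := (Nat.coprime_primes Nat.prime_five Fact.out).2 (Ne.symm hp5)
  have hss := SemisimpleCl.isSemisimple_of_pow p hM hco
  have hcase : ∀ β : F, β * β + β = 1 → β ^ p ≠ β → M.charpoly = (Polynomial.X - Polynomial.C 1) ^ 2 * Q β → False := by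
    intro β hβ hβp hc
    have hB5 : (LBTwoWit.blk β (-1) 1 0 : M4) ^ 5 = 1 :=
      LBTwoWit.pow_five_eq hβ (by simpa using LBTwoWit.blk_cubic (α := β) (β := -1) (γ := 1) (δ := 0) (by ring))
    obtain ⟨P, hP⟩ := SemisimpleCl.exists_conjugator hss (SemisimpleCl.isSemisimple_of_pow p hB5 hco)
      (by rw [hc, blk_charpoly, hQ]; simp; ring)
    let B : GL (Fin 4) F := LBTwoWit.blkU β (-1) 1 0 (by ring)
    have hMB : M = (P⁻¹ * B * P : GL (Fin 4) F).1 := by
      rw [Units.val_mul, Units.val_mul, mul_assoc]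
      show M = (P⁻¹ : GL (Fin 4) F).1 * (LBTwoWit.blk β (-1) 1 0 * P.1)
      rw [← hP, ← mul_assoc, Units.inv_mul, one_mul]
    have hinv : ct σ M = ((P⁻¹ * B * P)⁻¹ : GL (Fin 4) F).1 := by
      refine ((P⁻¹ * B * P).inv_eq_of_mul_eq_one_left ?_).symm
      rw [← hMB]; exact hu
    have e := ct_trace σ M
    rw [hinv, show (P⁻¹ * B * P)⁻¹ = P⁻¹ * B⁻¹ * P by group, Units.val_mul, Units.val_mul, Matrix.trace_units_conj',
      hMB, Units.val_mul, Units.val_mul, Matrix.trace_units_conj'] at e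
    change (LBTwoWit.blk 0 (- -1) (-1) β : M4).trace = σ (LBTwoWit.blk β (-1) 1 0 : M4).trace at e
    rw [LBTwoWit.blk_trace, LBTwoWit.blk_trace, add_zero, zero_add, map_add, map_ofNat, hσ] at e
    exact hβp (add_right_cancel e).symm
  have hαp' : (-1 - α) ^ p ≠ -1 - α := fun e => hαp (by
    rw [sub_pow_char, neg_pow, one_pow, (Nat.Prime.odd_of_ne_two Fact.out hp2).neg_one_pow, mul_one] at e
    linear_combination -e)
  rcases (show (a = 4 ∧ b = 0 ∧ c = 0) ∨ (a = 2 ∧ b = 1 ∧ c = 0) ∨ (a = 2 ∧ b = 0 ∧ c = 1) by omega) with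
    ⟨rfl, rfl, rfl⟩ | ⟨rfl, rfl, rfl⟩ | ⟨rfl, rfl, rfl⟩
  · obtain ⟨P, hP⟩ := SemisimpleCl.exists_conjugator hss
      (SemisimpleCl.isSemisimple_of_pow p (m := 5) (one_pow 5) hco)
      (by rw [habc, Matrix.charpoly_one, C_1, Fintype.card_fin, pow_zero, pow_zero, mul_one, mul_one])
    rw [one_mul] at hP
    exact hM1 ((Units.mul_right_inj P).1 (hP.trans (mul_one _).symm))
  · exact hcase α hα hαp (by rw [habc, pow_one, pow_zero, mul_one])
  · exact hcase _ hα' hαp' (by rw [habc, pow_zero, pow_one, mul_one])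
where
  ord2 : orderOf (((2 : ℕ) : ZMod 5) ^ 2) = 2 := orderOf_eq_prime (by decide) (by decide)
  ord3 : orderOf (((3 : ℕ) : ZMod 5) ^ 2) = 2 := orderOf_eq_prime (by decide) (by decide)

/-- Subgroups of order five of the unitary group are conjugate to each other. -/
theorem five_commute [Fintype F] (p : ℕ) [Fact p.Prime] [CharP F p] (hp2 : p ≠ 2) (hF : Fintype.card F = p ^ 2)
    {σ : F →+* F} (hσ : ∀ x, σ x = x ^ p) (h5 : p % 5 = 2 ∨ p % 5 = 3) {z y : GL (Fin 4) F}
    (hz : z ∈ Cfsg.GU 4 F p) (hy : y ∈ Cfsg.GU 4 F p) (hz5 : z ^ 5 = 1) (hy5 : y ^ 5 = 1) (hz1 : z ≠ 1) (hc : Commute z y) :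
    y ∈ Subgroup.zpowers z := by
  classical
  by_contra hn
  have S : ∀ w : GL (Fin 4) F, w ∈ Cfsg.GU 4 F p → w ^ 5 = 1 → w ≠ 1 → 1 + w.1 + w.1 ^ 2 + w.1 ^ 3 + w.1 ^ 4 = 0 :=
    fun w hw hw5 hw1 => five_unit p hp2 hF hσ h5 (by rw [← Units.val_pow_eq_pow_val, hw5, Units.val_one])
      (fun e => hw1 (Units.ext e)) ((ct_fix hσ w).1 hw)
  have hzj : ∀ j, 0 < j → j < 5 → z ^ j ≠ 1 := fun j hj hj5 e => hz1 (by
    have e' : z ^ Nat.gcd j 5 = 1 := pow_gcd_eq_one.2 ⟨e, hz5⟩
    rwa [((Nat.prime_five.coprime_iff_not_dvd).2 (fun h => by have := Nat.le_of_dvd hj h; omega)).symm, pow_one] at e')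
  have hzy : ∀ i : ℕ, z ^ i * y ≠ 1 := fun i e => hn (by
    rw [eq_inv_of_mul_eq_one_right e]; exact inv_mem (Subgroup.npow_mem_zpowers z i))
  have Sz : ∀ j, 0 < j → j < 5 → 1 + (z.1 ^ j) + (z.1 ^ j) ^ 2 + (z.1 ^ j) ^ 3 + (z.1 ^ j) ^ 4 = 0 := fun j hj hj5 => by
    rw [← Units.val_pow_eq_pow_val]
    exact S _ (pow_mem hz j) (by rw [← pow_mul, mul_comm, pow_mul, hz5, one_pow]) (hzj j hj hj5)
  have Sy : ∀ i, 1 + (z.1 ^ i * y.1) + (z.1 ^ i * y.1) ^ 2 + (z.1 ^ i * y.1) ^ 3 + (z.1 ^ i * y.1) ^ 4 = 0 := fun i => by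
    have h := S (z ^ i * y) (mul_mem (pow_mem hz i) hy)
      (by rw [(hc.pow_left i).mul_pow, hy5, ← pow_mul, mul_comm, pow_mul, hz5, one_pow, mul_one]) (hzy i)
    simpa using h
  have hcz : Commute z.1 y.1 := congrArg Units.val hc.eq
  have hmp : ∀ i k : ℕ, (z.1 ^ i * y.1) ^ k = (z.1 ^ k) ^ i * y.1 ^ k := fun i k => by
    rw [(hcz.pow_left i).mul_pow, ← pow_mul, ← pow_mul, mul_comm i k]
  have hsum : ∑ i ∈ Finset.range 5, ∑ k ∈ Finset.range 5, (z.1 ^ k) ^ i * y.1 ^ k = 0 := by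
    refine Finset.sum_eq_zero fun i _ => ?_
    rw [← Sy i]
    simp only [Finset.sum_range_succ, Finset.sum_range_zero, zero_add, ← hmp, pow_zero, pow_one]
  rw [Finset.sum_comm] at hsum
  simp only [← Finset.sum_mul] at hsum
  rw [Finset.sum_eq_single 0] at hsum
  · have h50 : ((5 : ℕ) : F) ≠ 0 := fun h => by
      have := (Nat.prime_dvd_prime_iff_eq Fact.out Nat.prime_five).1 ((CharP.cast_eq_zero_iff F p 5).1 h)
      omega
    apply h50
    have e := congrFun (congrFun hsum 0) 0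
    simp at e
    exact_mod_cast e
  · intro k hk hk0
    rw [Finset.mem_range] at hk
    rw [show ∑ i ∈ Finset.range 5, (z.1 ^ k) ^ i = 0 by
      simp only [Finset.sum_range_succ, Finset.sum_range_zero, zero_add, pow_zero, pow_one]
      exact Sz k (by omega) hk, zero_mul]
  · simp

end Cfsg.Agent.LBTwoUnit
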