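/-
Prime order elements of the unitary group of dimension four and the normaliser of a symplectic-type group.
-/
import Cfsg.Agent.Lib.LinearBlock.SymplTwoUnit

set_option autoImplicit false
set_option linter.all false

namespace Cfsg.Agent.LBTwoUnit

open Matrix Subgroup
open scoped Pointwise

variable {F : Type*} [Field F]

local notation "M4" => Matrix (Fin 4) (Fin 4) F
local notation "S4" => Cfsg.Geo.specialLinear (Fin 4) F

/-- Diagonal elements. -/
def dg4 : (Fin 4 → Fˣ) →* GL (Fin 4) F :=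
  (Units.map (Matrix.diagonalRingHom (Fin 4) F).toMonoidHom).comp MulEquiv.piUnits.symm.toMonoidHom

theorem dg4_val (t : Fin 4 → Fˣ) : (dg4 t).1 = Matrix.diagonal fun i => (t i : F) := rfl

theorem dg4_det (t : Fin 4 → Fˣ) : GeneralLinearGroup.det (dg4 t) = t 0 * t 1 * t 2 * t 3 := by
  refine Units.ext ?_
  show (dg4 t).1.det = _
  rw [dg4_val, Matrix.det_diagonal, Fin.prod_univ_four]; simp

/-- A three cycle. -/
def cyc4 : GL (Fin 4) F := ⟨!![0,0,1,0; 1,0,0,0; 0,1,0,0; 0,0,0,1], !![0,1,0,0; 0,0,1,0; 1,0,0,0; 0,0,0,1],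
  by ext i j; fin_cases i <;> fin_cases j <;> simp [Matrix.mul_apply, Fin.sum_univ_four],
  by ext i j; fin_cases i <;> fin_cases j <;> simp [Matrix.mul_apply, Fin.sum_univ_four]⟩

theorem torus_det {σ : F →+* F} (hinv : ∀ x, σ (σ x) = x) {ω α β lam δ : F} (hω3 : ω ^ 3 = 1) (hωs : ω ^ 2 + ω + 1 = 0)
    (hσω : σ ω = ω) (h3 : (3 : F) ≠ 0) (hα2 : 2 * α = -1) (hσα : σ α = α) (hβ : β * σ β = 1 - α * α)
    (hlam0 : lam ≠ 0) (hlam : lam = δ * σ lam) :
    ∃ P : M4, ct σ P * P = 1 ∧ P.det = δ ∧ P * !![α, -σ β, 0, 0; β, α, 0, 0; 0, 0, α, -σ β; 0, 0, β, α] =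
      !![α, -σ β, 0, 0; β, α, 0, 0; 0, 0, α, -σ β; 0, 0, β, α] * P := by
  have hσl0 : σ lam ≠ 0 := fun e => hlam0 (by rw [hlam, e, mul_zero])
  have hω0 : ω ≠ 0 := fun e => by rw [e] at hω3; simp at hω3
  have hωω : ω - ω ^ 2 ≠ 0 := fun e => h3 (by
    have h1 : ω = 1 := mul_left_cancel₀ hω0 (by linear_combination -e)
    rw [h1] at hωs
    linear_combination hωs)
  obtain ⟨b, hb⟩ : ∃ b : F, b = (lam - (σ lam)⁻¹) / (ω - ω ^ 2) := ⟨_, rfl⟩
  obtain ⟨a, ha⟩ : ∃ a : F, a = lam - b * ω := ⟨_, rfl⟩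
  have hb' : a + b * ω ^ 2 = (σ lam)⁻¹ := by
    have : b * (ω - ω ^ 2) = lam - (σ lam)⁻¹ := by rw [hb, div_mul_cancel₀ _ hωω]
    linear_combination ha - this
  have ha' : a + b * ω = lam := by rw [ha]; ring
  have hs1' : σ a + σ b * ω = σ lam := by rw [← ha', map_add, map_mul, hσω]
  have hs2 : σ a + σ b * ω ^ 2 = lam⁻¹ := by
    have e := congrArg σ hb'
    rw [map_add, map_mul, map_pow, hσω, map_inv₀, hinv] at e
    exact e
  have p1 : (σ a + σ b * ω) * (a + b * ω ^ 2) = 1 := by rw [hs1', hb', mul_inv_cancel₀ hσl0]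
  have p2 : (σ a + σ b * ω ^ 2) * (a + b * ω) = 1 := by rw [hs2, ha', inv_mul_cancel₀ hlam0]
  have hcross : σ a * b = σ b * a := by
    refine mul_right_cancel₀ hωω ?_
    linear_combination p2 - p1
  have hnorm : σ a * a + σ b * b - σ b * a = 1 := by
    linear_combination p1 - σ a * b * hωs + hcross * (1 + ω) - σ b * b * hω3
  have hdet0 : a * a - a * b + b * b = δ := by
    have e : (a + b * ω) * (a + b * ω ^ 2) = δ := by
      rw [ha', hb', mul_inv_eq_iff_eq_mul₀ hσl0]; exact hlam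
    linear_combination e - a * b * hωs - b * b * hω3
  refine ⟨!![a + b * α, b * -σ β, 0, 0; b * β, a + b * α, 0, 0; 0, 0, 1, 0; 0, 0, 0, 1], ?_, ?_, ?_⟩
  · ext j l
    fin_cases j <;> fin_cases l <;> simp [ct, hinv, hσα, Matrix.mul_apply, Fin.sum_univ_four] <;> grind
  · show (LBTwoWit.blk (a + b * α) (b * -σ β) (b * β) (a + b * α)).det = δ
    rw [LBTwoLin.blk_det]
    grind
  · ext j l
    fin_cases j <;> fin_cases l <;> simp [Matrix.mul_apply, Fin.sum_univ_four] <;> ring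

theorem pair_rep {σ : F →+* F} (hinv : ∀ x, σ (σ x) = x) {α β : F} (hα2 : 2 * α = -1) (hσα : σ α = α)
    (hβ : β * σ β = 1 - α * α) :
    ∃ T : GL (Fin 4) F, T.1 = !![α, -σ β, 0, 0; β, α, 0, 0; 0, 0, α, -σ β; 0, 0, β, α] ∧
      ct σ T.1 * T.1 = 1 ∧ T.1 ^ 3 = 1 ∧ T.1.trace = -2 := by
  obtain ⟨A, hAd⟩ : ∃ A : M4, A = !![α, -σ β, 0, 0; β, α, 0, 0; 0, 0, α, -σ β; 0, 0, β, α] := ⟨_, rfl⟩
  obtain ⟨A', hA'd⟩ : ∃ A' : M4, A' = !![α, σ β, 0, 0; -β, α, 0, 0; 0, 0, α, σ β; 0, 0, -β, α] := ⟨_, rfl⟩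
  have hAA : A * A' = 1 := by
    ext a b
    fin_cases a <;> fin_cases b <;> simp [hAd, hA'd, Matrix.mul_apply, Fin.sum_univ_four] <;> grind
  have hA'A : A' * A = 1 := mul_eq_one_comm.1 hAA
  have hA2 : A * A = A' := by
    ext a b
    fin_cases a <;> fin_cases b <;> simp [hAd, hA'd, Matrix.mul_apply, Fin.sum_univ_four] <;> grind
  refine ⟨⟨A, A', hAA, hA'A⟩, hAd, ?_, ?_, ?_⟩
  · show ct σ A * A = 1
    rw [show ct σ A = A' by
      ext a b
      fin_cases a <;> fin_cases b <;> simp [ct, hAd, hA'd, hσα, hinv]]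
    exact hA'A
  · show A ^ 3 = 1
    rw [pow_three, hA2, hAA]
  · show A.trace = -2
    simp [hAd, Matrix.trace, Fin.sum_univ_four]
    linear_combination 2 * hα2

set_option maxHeartbeats 1000000 in
theorem main [Fintype F] {p : ℕ} [Fact p.Prime] [CharP F p] (hF : Fintype.card F = p ^ 2) (hp4 : p % 4 = 3)
    (R : Subgroup (GL (Fin 4) F)) (hRs : Cfsg.Geo.IsSymplecticTypeGroup 2 R)
    (hRi : Cfsg.Geo.ActsAbsolutelyIrreducibly (Cfsg.Geo.matrixSet R))
    (hRU : R ≤ Cfsg.GU 4 F p) (hR6 : Nat.card R = 2 ^ 6) (hRZ : Nat.card (center R) = 4)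
    (r : ℕ) [Fact r.Prime]
    (hΩ : r ∣ (Cfsg.Geo.subgroupNormalizer R).relIndex (Cfsg.GU 4 F p ⊓ S4)) :
    (∀ x ∈ Cfsg.GU 4 F p ⊓ S4, (∃ z : F, ((x ^ r : GL (Fin 4) F) : M4) = z • (1 : M4)) →
      (∀ z : F, (x : M4) ≠ z • (1 : M4)) →
      ∃ g ∈ Cfsg.GU 4 F p ⊓ S4, g⁻¹ * x * g ∈ Cfsg.Geo.subgroupNormalizer R) ↔
      (r = 2 ∨ (r = 3 ∧ p % 3 = 1) ∨ (r = 5 ∧ orderOf (p : ZMod 5) = 4)) := by
  classical
  have hr : r.Prime := Fact.out
  have hp : p.Prime := Fact.out
  have hp2 : p ≠ 2 := by omega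
  have hodd : Odd p := hp.odd_of_ne_two hp2
  obtain ⟨σ, hσ, hne, hinv, hfix, -⟩ := HermStd.exists_sigma hF
  have hcF : ∀ n : ℕ, n.Prime → p ≠ n → (n : F) ≠ 0 := fun n hn hpn h =>
    hpn ((Nat.prime_dvd_prime_iff_eq hp hn).1 ((CharP.cast_eq_zero_iff F p n).1 h))
  have H : LBTwoFour.Hyp R :=
    LBTwoFour.hyp_of hodd (by simp) R hRs hRi (by rw [hR6, hRZ]; norm_num) (Or.inr hRZ)
  haveI := Fintype.ofFinite (↥R ⧸ center ↥R)
  haveI : NeZero (2 : F) := ⟨H.two⟩
  obtain ⟨i, sc, hi, hsc, hscv⟩ := LBTwoGen.exists_i H hRZ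
  obtain ⟨u₁, u₂, u₃, u₄, C⟩ := H.chain_big hi hsc hscv
  have hA : LBTwoFour.AdFix R (ct σ) := ct_adFix hσ hRU
  obtain ⟨n4, hn4⟩ : ∃ m, p = 4 * m + 3 := ⟨p / 4, by omega⟩
  have hσi : σ i = -i := by
    rw [hσ, hn4, pow_succ, pow_succ, pow_succ, pow_mul, show i ^ 4 = 1 by linear_combination (i * i - 1) * hi, one_pow, one_mul,
      hi, neg_one_mul]
  have hN1 : Nat.card (HermSU.normOne σ) = p + 1 := HermSU.card_normOne hne hinv hfix
  have hmemN : ∀ u : Fˣ, u ∈ HermSU.normOne σ ↔ (u : F) * σ u = 1 := fun u => Iff.rfl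
  have hsc1 : ∀ x : GL (Fin 4) F, x ∈ Cfsg.GU 4 F p → ∀ c : F, x.1 = c • (1 : M4) → σ c * c = 1 := by
    intro x hx c hc
    have e := (ct_fix hσ x).1 hx
    rw [hc, ct_smul, hA.one, smul_mul_smul_comm, one_mul] at e
    simpa using congrFun (congrFun e 0) 0
  have hscale : ∀ x : GL (Fin 4) F, x ∈ Cfsg.GU 4 F p → ∀ t : F, σ t * t = 1 →
      ∃ y : GL (Fin 4) F, y ∈ Cfsg.GU 4 F p ∧ x.1 = t • y.1 ∧ y.1 = t⁻¹ • x.1 := by
    intro x hx t ht
    have ht0 : t ≠ 0 := fun h => by rw [h, mul_zero] at ht; exact zero_ne_one ht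
    let y : GL (Fin 4) F := ⟨t⁻¹ • x.1, t • (x⁻¹ : GL (Fin 4) F).1,
      by rw [smul_mul_smul_comm, inv_mul_cancel₀ ht0, Units.mul_inv, one_smul],
      by rw [smul_mul_smul_comm, mul_inv_cancel₀ ht0, Units.inv_mul, one_smul]⟩
    refine ⟨y, (ct_fix hσ y).2 ?_, ?_, rfl⟩
    · show ct σ (t⁻¹ • x.1) * (t⁻¹ • x.1) = 1
      rw [ct_smul, smul_mul_smul_comm, (ct_fix hσ x).1 hx, map_inv₀, ← mul_inv, ht, inv_one, one_smul]
    · show x.1 = t • (t⁻¹ • x.1)
      rw [smul_smul, mul_inv_cancel₀ ht0, one_smul]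
  -- conjugation into the normaliser
  have finish : ∀ (m : ℕ), m.Coprime p → ∀ (x y T T0 : GL (Fin 4) F) (t : F), x.1 = t • y.1 → t ≠ 0 →
      y ∈ Cfsg.GU 4 F p → T ∈ Cfsg.GU 4 F p → T0 ∈ Cfsg.GU 4 F p → y.1 ^ m = 1 → T.1 ^ m = 1 → T0.1 ^ m = 1 →
      T ∈ Cfsg.Geo.subgroupNormalizer R → y.1.charpoly = T0.1.charpoly → T.1.charpoly = T0.1.charpoly →
      (∀ δ : Fˣ, δ ∈ HermSU.normOne σ → ∃ C ∈ Cfsg.GU 4 F p, C * T0 = T0 * C ∧ GeneralLinearGroup.det C = δ) →
      ∃ g ∈ Cfsg.GU 4 F p ⊓ S4, g⁻¹ * x * g ∈ Cfsg.Geo.subgroupNormalizer R := by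
    intro m hm x y T T0 t hxy ht hy hT hT0 hym hTm hT0m hTN hcy hcT hC
    obtain ⟨g, hg, hge⟩ := su_conj p hF hσ hm hy hT hT0 hym hTm hT0m hcy hcT hC
    refine ⟨g, hg, ?_⟩
    let s : GL (Fin 4) F := ⟨t • 1, t⁻¹ • 1, by rw [smul_mul_smul_comm, mul_inv_cancel₀ ht, mul_one, one_smul],
      by rw [smul_mul_smul_comm, inv_mul_cancel₀ ht, mul_one, one_smul]⟩
    rw [show x = s * y from Units.ext (by rw [hxy, Units.val_mul]; show _ = (t • 1) * y.1; rw [smul_mul_assoc, one_mul]),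
      show g⁻¹ * (s * y) * g = s * (g⁻¹ * y * g) by
        have hcs : g⁻¹ * s = s * g⁻¹ := Units.ext (by
          rw [Units.val_mul, Units.val_mul]
          show (g⁻¹ : GL (Fin 4) F).1 * (t • 1) = (t • 1) * (g⁻¹ : GL (Fin 4) F).1
          rw [mul_smul_comm, smul_mul_assoc, mul_one, one_mul])
        rw [← mul_assoc g⁻¹ s y, hcs]; simp only [mul_assoc], hge]
    exact mul_mem (LBTwoFour.scalar_mem_norm (c := t) rfl) hTN
  have hrcard : r ∣ Nat.card ↥(Cfsg.GU 4 F p ⊓ S4) := hΩ.trans (Subgroup.index_dvd_card _)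
  constructor
  · intro hall
    by_contra hnot
    push Not at hnot
    obtain ⟨hr2, hr3, hr5⟩ := hnot
    obtain ⟨x, hxo⟩ := exists_prime_orderOf_dvd_card' r hrcard
    have hxr : x.1 ^ r = 1 := congrArg Subtype.val (hxo ▸ pow_orderOf_eq_one x : x ^ r = 1)
    have hxns : ∀ z : F, x.1.1 ≠ z • (1 : M4) := by
      intro z hz
      have hz4 : z ^ 4 = 1 := by
        have e := LBTwoLin.mem_sl.1 (Subgroup.mem_inf.1 x.2).2
        rwa [hz, Matrix.det_smul, Matrix.det_one, mul_one, Fintype.card_fin] at e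
      have hzr : z ^ r = 1 := by
        have e := congrArg Units.val hxr
        rw [Units.val_pow_eq_pow_val, hz, smul_pow, one_pow, Units.val_one] at e
        simpa using congrFun (congrFun e 0) 0
      have hco : Nat.Coprime r 4 := by
        rw [show (4 : ℕ) = 2 ^ 2 from rfl]
        exact Nat.Coprime.pow_right 2 ((Nat.coprime_primes hr Nat.prime_two).2 hr2)
      have hz1 : z = 1 := by
        have e : z ^ Nat.gcd r 4 = 1 := pow_gcd_eq_one.2 ⟨hzr, hz4⟩
        rwa [hco, pow_one] at e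
      rw [show x = 1 from Subtype.ext (Units.ext (by rw [hz, hz1, one_smul]; rfl)), orderOf_one] at hxo
      exact hr.one_lt.ne hxo
    obtain ⟨g, -, hgN⟩ := hall x.1 x.2 ⟨1, by rw [hxr, Units.val_one, one_smul]⟩ hxns
    have hr35 : r = 3 ∨ r = 5 := by
      rcases LBTwoWit.no_trace H hr2 hxr hxns hgN with ⟨h, -⟩ | ⟨h, -⟩
      · exact Or.inl h
      · exact Or.inr h
    have rank1 : ∀ (t : GL (Fin 4) F) (lam : F) (v f : Fin 4 → F), t ∈ Cfsg.GU 4 F p ⊓ S4 → t ^ r = 1 →
        t.1 = lam • (1 + Matrix.vecMulVec v f) → Matrix.vecMulVec v f ≠ 0 → 2 + f ⬝ᵥ v ≠ 0 →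
        (∀ z : F, t.1 ≠ z • (1 : M4)) → False := by
      intro t lam v f ht htr htv hvf he htns
      obtain ⟨g, -, hgN⟩ := hall t ht ⟨1, by rw [htr, Units.val_one, one_smul]⟩ htns
      exact LBTwoWit.no_rankone H htv hvf he hgN
    by_cases hrp : r = p
    · subst hrp
      -- a unitary transvection
      obtain ⟨β, hβ⟩ := Hermitian.exists_norm hne hinv (x := (-1 : F)) (by rw [map_neg, map_one])
      obtain ⟨v, hv⟩ : ∃ v : Fin 4 → F, v = ![1, β, 0, 0] := ⟨_, rfl⟩
      obtain ⟨f, hf⟩ : ∃ f : Fin 4 → F, f = ![i, i * σ β, 0, 0] := ⟨_, rfl⟩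
      have hfv : f ⬝ᵥ v = 0 := by
        simp [hf, hv, dotProduct, Fin.sum_univ_four]
        linear_combination i * hβ
      obtain ⟨N, hN⟩ : ∃ N, N = Matrix.vecMulVec v f := ⟨_, rfl⟩
      have hNN : N * N = 0 := by rw [hN, Matrix.vecMulVec_mul_vecMulVec, hfv, zero_smul, Matrix.vecMulVec_zero]
      let t : GL (Fin 4) F := ⟨1 + N, 1 - N, by rw [add_mul, mul_sub, mul_sub, hNN]; simp, by rw [sub_mul, mul_add, mul_add, hNN]; simp⟩
      have hctN : ct σ N = -N := by
        ext a b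
        rw [hN, hv, hf]
        fin_cases a <;> fin_cases b <;> simp [ct, Matrix.vecMulVec, hσi, hinv] <;> ring
      have htp : t.1 ^ r = 1 := by
        show (1 + N) ^ r = 1
        rw [add_pow_char_of_commute _ (Commute.one_left _), one_pow, show r = 2 + (r - 2) by have := hr.two_le; omega,
          pow_add, pow_two, hNN, zero_mul, add_zero]
      have hN0 : N ≠ 0 := fun h => by
        have e := congrFun (congrFun h 0) 0
        simp [hN, hv, hf, Matrix.vecMulVec] at e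
        rw [e] at hi; simp at hi
      refine rank1 t 1 v f ⟨(ct_fix hσ t).2 ?_, LBTwoLin.mem_sl.2 ?_⟩ (Units.ext (by rw [Units.val_pow_eq_pow_val, htp, Units.val_one]))
        (by show 1 + N = _; rw [one_smul, hN]) (hN ▸ hN0) (by rw [hfv, add_zero]; exact H.two) (fun z hz => hN0 ?_)
      · show ct σ (1 + N) * (1 + N) = 1
        rw [hA.add, hA.one, hctN, add_mul, mul_add, mul_add, neg_mul, neg_mul, hNN]
        simp
      · have e := congrArg Matrix.det htp
        rw [Matrix.det_pow, Matrix.det_one] at e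
        have e2 : (t.1.det - 1) ^ r = 0 := by rw [sub_pow_char, one_pow, e, sub_self]
        exact sub_eq_zero.1 (pow_eq_zero_iff hr.ne_zero |>.1 e2)
      · change 1 + N = z • 1 at hz
        have hz1 : N = (z - 1) • (1 : M4) := by rw [sub_smul, one_smul, ← hz, add_sub_cancel_left]
        have e := hNN
        rw [hz1, smul_mul_smul_comm, one_mul] at e
        rw [hz1, mul_self_eq_zero.1 ((smul_eq_zero.1 e).resolve_right one_ne_zero), zero_smul]
    rcases hr35 with rfl | rfl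
    · have hp3 : p % 3 = 2 := by
        have h0 : p % 3 ≠ 0 := fun h => hrp ((Nat.prime_dvd_prime_iff_eq Nat.prime_three hp).1 (Nat.dvd_of_mod_eq_zero h))
        have := hr3 rfl
        omega
      have h3F : 3 ∣ Nat.card Fˣ := by
        rw [Nat.card_units, Nat.card_eq_fintype_card, hF]
        exact (Nat.modEq_iff_dvd' (Nat.one_le_pow _ _ hp.pos)).1 (show 1 % 3 = p ^ 2 % 3 by rw [Nat.pow_mod, hp3])
      obtain ⟨w, hw⟩ := exists_prime_orderOf_dvd_card' 3 h3F
      obtain ⟨ω, hω⟩ : ∃ ω : F, ω = (w : F) := ⟨_, rfl⟩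
      have hω3 : ω ^ 3 = 1 := by rw [hω, ← Units.val_pow_eq_pow_val, ← hw, pow_orderOf_eq_one, Units.val_one]
      have hω1 : ω ≠ 1 := fun h => by
        rw [show w = 1 from Units.ext (hω ▸ h), orderOf_one] at hw
        omega
      have hωs : ω ^ 2 + ω + 1 = 0 := by
        have : (ω - 1) * (ω ^ 2 + ω + 1) = 0 := by linear_combination hω3
        exact (mul_eq_zero.1 this).resolve_left (sub_ne_zero.2 hω1)
      have hωn : w ∈ HermSU.normOne σ := by
        rw [hmemN, ← hω, hσ, ← pow_succ', show p + 1 = 3 * ((p + 1) / 3) by omega, pow_mul, hω3, one_pow]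
      obtain ⟨d, hdd⟩ : ∃ d : Fin 4 → Fˣ, d = ![w, w, w, 1] := ⟨_, rfl⟩
      have hd3 : ∀ k, d k ^ 3 = 1 := fun k => by
        have hw3 : w ^ 3 = 1 := hw ▸ pow_orderOf_eq_one w
        fin_cases k <;> simp [hdd, hw3]
      refine rank1 (dg4 d) ω (Pi.single 3 1) (Pi.single 3 (ω ^ 2 - 1)) ⟨HermSU.diag_mem_GU hσ fun k => ?_, ?_⟩
        (by rw [← map_pow, show d ^ 3 = 1 from funext hd3, map_one]) ?_ ?_ ?_ ?_
      · fin_cases k <;> simp [hdd, hωn, one_mem]
      · show GeneralLinearGroup.det (dg4 d) = 1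
        rw [dg4_det, hdd]
        refine Units.ext ?_
        simp [← hω]
        linear_combination hω3
      · rw [dg4_val]
        ext a b
        fin_cases a <;> fin_cases b <;> simp [hdd, ← hω, Matrix.vecMulVec] <;> grind
      · intro h
        have e := congrFun (congrFun h 3) 3
        simp [Matrix.vecMulVec, sub_eq_zero] at e
        grind
      · simp
        intro h
        exact absurd (show ω = 0 by linear_combination hωs - h) (hω ▸ w.ne_zero)
      · intro z hz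
        rw [dg4_val] at hz
        have e0 := congrFun (congrFun hz 0) 0
        have e3 := congrFun (congrFun hz 3) 3
        simp [hdd, ← hω] at e0 e3
        exact hω1 (e0.trans e3.symm)
    · have hp5 : p % 5 = 1 ∨ p % 5 = 4 := by
        have h := hr5 rfl
        rw [Ne, LBTwoWit.ord_five] at h
        have : p % 5 ≠ 0 := fun h0 => hrp ((Nat.prime_dvd_prime_iff_eq Nat.prime_five hp).1 (Nat.dvd_of_mod_eq_zero h0))
        omega
      obtain ⟨a, ha, hap⟩ := LBTwoWit.exists_gold (F := F) p hp2 hp5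
      have hσa : σ a = a := by rw [hσ, hap]
      have h4 : σ (1 - a / 2 * (a / 2)) = 1 - a / 2 * (a / 2) := by
        rw [map_sub, map_mul, map_div₀, hσa, map_ofNat, map_one]
      obtain ⟨β, hβ⟩ := Hermitian.exists_norm hne hinv h4
      have hdet : (a / 2) * (a / 2) - (-σ β) * β = 1 := by linear_combination hβ
      have hcub : (LBTwoWit.blk (a / 2) (-σ β) β (a / 2) - 1) * (LBTwoWit.blk (a / 2) (-σ β) β (a / 2) *
          LBTwoWit.blk (a / 2) (-σ β) β (a / 2) - a • LBTwoWit.blk (a / 2) (-σ β) β (a / 2) + 1) = 0 := by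
        have := LBTwoWit.blk_cubic hdet
        rwa [add_halves] at this
      let t : GL (Fin 4) F := LBTwoWit.blkU (a / 2) (-σ β) β (a / 2) hdet
      have ht5 : t ^ 5 = 1 := Units.ext (by
        rw [Units.val_pow_eq_pow_val, Units.val_one]
        show (LBTwoWit.blk (a / 2) (-σ β) β (a / 2) : M4) ^ 5 = 1
        exact LBTwoWit.pow_five_eq ha hcub)
      have htns : ∀ z : F, t.1 ≠ z • (1 : M4) := LBTwoWit.blk_not_scalar (fun h => by
        have e : a = 2 := by
          have := h.1; rw [div_eq_iff H.two, one_mul] at this; exact this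
        rw [e] at ha
        exact hcF 5 Nat.prime_five (Ne.symm hrp) (by push_cast; linear_combination ha))
      have htU : t ∈ Cfsg.GU 4 F p := by
        rw [ct_fix hσ]
        show ct σ (LBTwoWit.blk (a / 2) (-σ β) β (a / 2)) * LBTwoWit.blk (a / 2) (-σ β) β (a / 2) = 1
        ext k l
        fin_cases k <;> fin_cases l <;>
          simp [ct, LBTwoWit.blk, Matrix.mul_apply, Fin.sum_univ_four, hσa, hinv, map_ofNat] <;>
          first | linear_combination hβ | ring
      obtain ⟨g, -, hgN⟩ := hall t ⟨htU, LBTwoLin.mem_sl.2 (by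
          show (LBTwoWit.blk (a / 2) (-σ β) β (a / 2)).det = 1
          rw [LBTwoLin.blk_det, hdet])⟩
        ⟨1, by rw [ht5, Units.val_one, one_smul]⟩ htns
      have ttr : t.1.trace = a + 2 ∧ (t⁻¹ : GL (Fin 4) F).1.trace = a + 2 := by
        refine ⟨?_, ?_⟩
        · show (LBTwoWit.blk (a / 2) (-σ β) β (a / 2)).trace = _
          rw [LBTwoWit.blk_trace, add_halves]
        · show (LBTwoWit.blk (a / 2) (- -σ β) (-β) (a / 2)).trace = _
          rw [LBTwoWit.blk_trace, add_halves]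
      rcases LBTwoWit.no_trace H (by norm_num) ht5 htns hgN with ⟨h, -⟩ | ⟨-, h⟩
      · norm_num at h
      · rw [ttr.1, ttr.2] at h
        exact LBTwoWit.gold_ne ha (by exact_mod_cast hcF 5 Nat.prime_five (Ne.symm hrp)) h
  · intro hcase x hx ⟨z, hz⟩ hns
    obtain ⟨hxU, hxS⟩ := Subgroup.mem_inf.1 hx
    have hzn : σ z * z = 1 := hsc1 (x ^ r) (pow_mem hxU r) z hz
    have hz0 : z ≠ 0 := fun h => by rw [h, mul_zero] at hzn; exact zero_ne_one hzn
    rw [Units.val_pow_eq_pow_val] at hz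
    have hdgC : ∀ d : Fin 4 → Fˣ, ∀ k0 : Fin 4, ∀ δ : Fˣ, δ ∈ HermSU.normOne σ → ∃ C ∈ Cfsg.GU 4 F p,
        C * dg4 d = dg4 d * C ∧ GeneralLinearGroup.det C = δ := by
      intro d k0 δ hδ
      refine ⟨dg4 ![δ, 1, 1, 1], HermSU.diag_mem_GU hσ fun k => by fin_cases k <;> simp [hδ, one_mem], ?_, ?_⟩
      · rw [← map_mul, ← map_mul, mul_comm]
      · rw [dg4_det]; simp
    rcases hcase with rfl | h35
    · -- involutions modulo scalars
      have hrc : ringChar F ≠ 2 := by rw [ringChar.eq F p]; exact hp2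
      obtain ⟨t, ht⟩ : IsSquare z := by
        rw [FiniteField.isSquare_iff hrc hz0, hF]
        have e : z ^ (p + 1) = 1 := by rw [pow_succ', ← hσ, mul_comm, hzn]
        rw [show p ^ 2 / 2 = (p + 1) * ((p - 1) / 2) by
          obtain ⟨m, rfl⟩ : ∃ m, p = 2 * m + 1 := ⟨p / 2, by omega⟩
          rw [show (2 * m + 1) ^ 2 = 1 + 2 * (2 * m * (m + 1)) by ring, Nat.add_mul_div_left _ _ two_pos,
            Nat.add_sub_cancel, Nat.mul_div_cancel_left _ two_pos]
          ring_nf, pow_mul, e, one_pow]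
      have ht0 : t ≠ 0 := fun h => hz0 (by rw [ht, h, zero_mul])
      have hy0 : (t⁻¹ • x.1) * (t⁻¹ • x.1) = 1 := by
        rw [smul_mul_smul_comm, ← pow_two x.1, hz, smul_smul, ht, show t⁻¹ * t⁻¹ * (t * t) = 1 by field_simp, one_smul]
      have hy1' : t⁻¹ • x.1 ≠ 1 := fun h => hns t (by rw [← h, smul_smul, mul_inv_cancel₀ ht0, one_smul])
      have hy2' : t⁻¹ • x.1 ≠ -1 := fun h => hns (-t) (by
        rw [neg_smul, ← smul_neg, ← h, smul_smul, mul_inv_cancel₀ ht0, one_smul])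
      obtain ⟨k, hk1, hk3, hkd, hkt, -⟩ := LBTwoWit.invol_cases p hp2 hy0 hy1' hy2'
      have htn : σ t * t = 1 := by
        rcases mul_self_eq_one_iff.1 (show (σ t * t) * (σ t * t) = 1 by
          rw [← hzn, ht, map_mul]; ring) with h | h
        · exact h
        exfalso
        -- the eigenspaces would be totally isotropic
        have e1 : ct σ (t⁻¹ • x.1) * (t⁻¹ • x.1) = -1 := by
          rw [ct_smul, smul_mul_smul_comm, (ct_fix hσ x).1 hxU, map_inv₀, ← mul_inv, h]; simp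
        have e2 : ct σ (t⁻¹ • x.1) = -(t⁻¹ • x.1) := by
          rw [← mul_one (ct σ _), ← hy0, ← mul_assoc, e1, neg_one_mul]
        have e3 := congrArg Matrix.trace e2
        rw [ct_trace, Matrix.trace_neg, hkt, map_sub, map_mul, map_natCast, map_ofNat, map_ofNat] at e3
        have hk2 : k = 2 := by
          interval_cases k
          · exfalso
            apply H.four_ne
            push_cast at e3
            linear_combination -e3
          · rfl
          · exfalso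
            apply H.four_ne
            push_cast at e3
            linear_combination e3
        have ht4 : t ^ 4 = 1 := by
          have hd := LBTwoLin.mem_sl.1 hxS
          rw [show x.1 = t • (t⁻¹ • x.1) by rw [smul_smul, mul_inv_cancel₀ ht0, one_smul], Matrix.det_smul, hkd,
            Fintype.card_fin, hk2] at hd
          linear_combination hd
        rw [hσ, ← pow_succ, show p + 1 = 4 * ((p + 1) / 4) by omega, pow_mul, ht4, one_pow] at h
        exact H.two (by linear_combination h)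
      obtain ⟨y, hyU, hxy, hyv⟩ := hscale x hxU t htn
      rw [← hyv] at hy0 hy1' hy2' hkt
      have fin' : ∀ T : GL (Fin 4) F, T ∈ Cfsg.GU 4 F p → T ∈ Cfsg.Geo.subgroupNormalizer R → T.1 * T.1 = 1 →
          T.1.trace = 2 * (k : F) - 4 → T.1 ≠ 1 → T.1 ≠ -1 →
          ∃ g ∈ Cfsg.GU 4 F p ⊓ S4, g⁻¹ * x * g ∈ Cfsg.Geo.subgroupNormalizer R := by
        intro T hTU hTN hTT hTt hT1 hT2
        obtain ⟨d, hd⟩ : ∃ d : Fin 4 → Fˣ, d = fun j : Fin 4 => if j.1 < k then 1 else -1 := ⟨_, rfl⟩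
        have hd2 : (dg4 d).1 * (dg4 d).1 = 1 := by
          rw [dg4_val, Matrix.diagonal_mul_diagonal, ← Matrix.diagonal_one]
          congr 1; funext j; rw [hd]; dsimp only; split <;> simp
        have hdt : (dg4 d).1.trace = 2 * (k : F) - 4 ∧ (dg4 d).1 ≠ 1 ∧ (dg4 d).1 ≠ -1 := by
          rw [dg4_val, Matrix.trace_diagonal, Fin.sum_univ_four, hd]
          refine ⟨by interval_cases k <;> simp <;> ring, fun e => ?_, fun e => ?_⟩
          · have := congrFun (congrFun e 3) 3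
            simp [show ¬ (3 < k) by omega] at this
            exact H.two (by linear_combination -this)
          · have := congrFun (congrFun e 0) 0
            simp [show 0 < k by omega] at this
            exact H.two (by linear_combination this)
        refine finish 2 ((Nat.coprime_primes Nat.prime_two hp).2 (Ne.symm hp2)) x y T (dg4 d) t hxy ht0 hyU hTU
          (HermSU.diag_mem_GU hσ fun j => ?_) (by rw [pow_two, hy0]) (by rw [pow_two, hTT]) (by rw [pow_two, hd2]) hTN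
          (same_two p hp2 hy0 hy1' hy2' hd2 hdt.2.1 hdt.2.2 (hkt.trans hdt.1.symm))
          (same_two p hp2 hTT hT1 hT2 hd2 hdt.2.1 hdt.2.2 (hTt.trans hdt.1.symm)) (hdgC d 0)
        rw [hmemN, hd]; dsimp only; split <;> simp
      obtain ⟨s, hsN, hss, hst, hsA⟩ := H.reflection hi hsc hscv C
      have hsU : s ∈ Cfsg.GU 4 F p := (ct_fix hσ s).2 (hsA _ hA)
      have hs1 : s.1 ≠ 1 ∧ s.1 ≠ -1 ∨ p = 3 := by
        by_cases h3 : p = 3
        · exact Or.inr h3
        refine Or.inl ⟨fun e => ?_, fun e => ?_⟩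
        · rw [e, Matrix.trace_one, Fintype.card_fin] at hst
          exact H.two (by push_cast at hst; linear_combination hst)
        · rw [e, Matrix.trace_neg, Matrix.trace_one, Fintype.card_fin] at hst
          exact hcF 3 Nat.prime_three h3 (mul_left_cancel₀ H.two (by push_cast at hst ⊢; linear_combination -hst))
      have hm1 : (-1 : GL (Fin 4) F) ∈ Cfsg.GU 4 F p := hRU H.neg
      interval_cases k
      · rcases hs1 with hs1 | rfl
        · refine fin' (-1 * s) (mul_mem hm1 hsU) (mul_mem (LBTwoFour.scalar_mem_norm (c := -1) (by simp)) hsN) (by simp [hss]) ?_ ?_ ?_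
          · rw [Units.val_mul, Units.val_neg, Units.val_one, neg_one_mul, Matrix.trace_neg, hst]; norm_num
          · intro e
            rw [Units.val_mul, Units.val_neg, Units.val_one, neg_one_mul] at e
            exact hs1.2 (neg_eq_iff_eq_neg.1 e)
          · intro e
            rw [Units.val_mul, Units.val_neg, Units.val_one, neg_one_mul] at e
            exact hs1.1 (neg_inj.1 e)
        · exfalso
          have hd := LBTwoLin.mem_sl.1 hxS
          rw [hxy, Matrix.det_smul, Fintype.card_fin, hyv, hkd] at hd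
          rw [hσ, ← pow_succ, show 3 + 1 = 4 from rfl] at htn
          exact H.two (by linear_combination -hd - htn)
      · refine fin' (u₁ * u₃) (mul_mem (hRU C.m1) (hRU C.m3)) (Subgroup.le_normalizer (mul_mem C.m1 C.m3)) ?_ ?_ ?_ ?_
        · rw [Units.val_mul, mul_assoc, ← mul_assoc u₃.1, ← C.c13, mul_assoc u₁.1 u₃.1, C.s3, mul_neg, mul_one, mul_neg, C.s1, neg_neg]
        · rw [Units.val_mul, H.trace_anti (u₁.1 * u₃.1) u₄ (by
            rw [← mul_assoc, ← C.c14, mul_assoc, show u₄.1 * u₃.1 = -(u₃.1 * u₄.1) by rw [C.a34, neg_neg], mul_neg,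
              mul_assoc])]
          norm_num
        all_goals
          intro e
          have h0 : (u₁.1 * u₃.1).trace = 0 := H.trace_anti (u₁.1 * u₃.1) u₄ (by
            rw [← mul_assoc, ← C.c14, mul_assoc, show u₄.1 * u₃.1 = -(u₃.1 * u₄.1) by rw [C.a34, neg_neg], mul_neg,
              mul_assoc])
          rw [Units.val_mul] at e
          rw [e] at h0
          simp at h0
          exact H.four_ne (by exact_mod_cast h0)
      · rcases hs1 with hs1 | rfl
        · exact fin' s hsU hsN hss (by rw [hst]; norm_num) hs1.1 hs1.2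
        · exfalso
          have hd := LBTwoLin.mem_sl.1 hxS
          rw [hxy, Matrix.det_smul, Fintype.card_fin, hyv, hkd] at hd
          rw [hσ, ← pow_succ, show 3 + 1 = 4 from rfl] at htn
          exact H.two (by linear_combination -hd - htn)
    -- odd prime orders
    have hcop : (Nat.card (HermSU.normOne σ)).Coprime r ∧ r.Coprime p := by
      rw [hN1]
      rcases h35 with ⟨rfl, h3⟩ | ⟨rfl, h5⟩
      · exact ⟨((Nat.prime_three.coprime_iff_not_dvd).2 (by omega)).symm, (Nat.coprime_primes Nat.prime_three hp).2 (by omega)⟩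
      · rw [LBTwoWit.ord_five] at h5
        exact ⟨((Nat.prime_five.coprime_iff_not_dvd).2 (by omega)).symm, (Nat.coprime_primes Nat.prime_five hp).2 (by omega)⟩
    have hroot : ∀ c : F, σ c * c = 1 → ∃ t : F, σ t * t = 1 ∧ t ^ r = c := by
      intro c hc
      have hc0 : c ≠ 0 := fun h => by rw [h, mul_zero] at hc; exact zero_ne_one hc
      obtain ⟨t, ht⟩ := LBTwoGen.exists_root hcop.1 ⟨Units.mk0 c hc0, (hmemN _).2 (by simpa [mul_comm] using hc)⟩
      exact ⟨(t.1 : F), by rw [mul_comm]; exact t.2, by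
        rw [← Units.val_pow_eq_pow_val, ← SubmonoidClass.coe_pow, ht]; rfl⟩
    obtain ⟨t, htn, htz⟩ := hroot z hzn
    have ht0 : t ≠ 0 := fun h => by rw [h, mul_zero] at htn; exact zero_ne_one htn
    obtain ⟨y, hyU, hxy, hyv⟩ := hscale x hxU t htn
    have hyr : y.1 ^ r = 1 := by
      rw [hyv, smul_pow, hz, smul_smul, ← htz, inv_pow, inv_mul_cancel₀ (pow_ne_zero _ ht0), one_smul]
    have hy1 : y.1 ≠ 1 := fun h => hns t (by rw [hxy, h])
    rcases h35 with ⟨rfl, h3⟩ | ⟨rfl, h5⟩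
    · have hp5' : 5 ≤ p := by have := hp.two_le; omega
      have h3F : 3 ∣ Nat.card Fˣ := by
        rw [Nat.card_units, Nat.card_eq_fintype_card, hF]
        exact (Nat.modEq_iff_dvd' (Nat.one_le_pow _ _ hp.pos)).1 (show 1 % 3 = p ^ 2 % 3 by rw [Nat.pow_mod, h3])
      obtain ⟨w, hw⟩ := exists_prime_orderOf_dvd_card' 3 h3F
      obtain ⟨ω, hω⟩ : ∃ ω : F, ω = (w : F) := ⟨_, rfl⟩
      have hωp : IsPrimitiveRoot ω 3 := hω ▸ ((hw ▸ IsPrimitiveRoot.orderOf w).map_of_injective (f := Units.coeHom F) Units.val_injective)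
      have hω3 : ω ^ 3 = 1 := hωp.pow_eq_one
      have hωs : ω ^ 2 + ω + 1 = 0 := by
        have : (ω - 1) * (ω ^ 2 + ω + 1) = 0 := by linear_combination hω3
        exact (mul_eq_zero.1 this).resolve_left (sub_ne_zero.2 (hωp.ne_one (by norm_num)))
      have hσω : σ ω = ω := by
        rw [hσ, show p = 3 * (p / 3) + 1 by omega, pow_succ, pow_mul, hω3, one_pow, one_mul]
      have hunit : ∀ g : GL (Fin 4) F, g ∈ Cfsg.GU 4 F p → ct σ g.1 * g.1 = 1 := fun g hg => (ct_fix hσ g).1 hg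
      have h3F' : (3 : F) ≠ 0 := by exact_mod_cast hcF 3 Nat.prime_three (by omega)
      rcases three_unit p hp5' hωp hσω hyr hy1 (hunit y hyU) with ⟨hyt, -⟩ | ⟨hyt, -⟩
      · obtain ⟨h, hN, hh3, hhns, hht, hhA⟩ := H.three_pair hi hsc hscv C
        have hhU : h ∈ Cfsg.GU 4 F p := (ct_fix hσ h).2 (hhA _ hA)
        have hh3' : h.1 ^ 3 = 1 := by rw [← Units.val_pow_eq_pow_val, hh3, Units.val_one]
        have hcycU : (cyc4 : GL (Fin 4) F) ∈ Cfsg.GU 4 F p := by
          rw [ct_fix hσ]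
          ext a b
          fin_cases a <;> fin_cases b <;> simp [ct, cyc4, Matrix.mul_apply, Fin.sum_univ_four]
        have hcyc3 : (cyc4 : GL (Fin 4) F).1 ^ 3 = 1 := by
          rw [pow_three]
          ext a b
          fin_cases a <;> fin_cases b <;> simp [cyc4, Matrix.mul_apply, Fin.sum_univ_four]
        have hcyc1 : (cyc4 : GL (Fin 4) F).1 ≠ 1 := fun e => by
          have := congrFun (congrFun e 0) 0; simp [cyc4] at this
        have hcyct : (cyc4 : GL (Fin 4) F).1.trace = 1 := by simp [cyc4, Matrix.trace, Fin.sum_univ_four]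
        refine finish 3 hcop.2 x y h cyc4 t hxy ht0 hyU hhU hcycU hyr hh3' hcyc3 hN
          (same_three p hp5' hωp hσω hyr hy1 (hunit y hyU) hcyc3 hcyc1 (hunit _ hcycU) (hyt.trans hcyct.symm))
          (same_three p hp5' hωp hσω hh3' (fun e => hhns 1 (by rw [e, one_smul])) (hunit h hhU) hcyc3 hcyc1 (hunit _ hcycU)
            (hht.trans hcyct.symm))
          fun δ hδ => ⟨dg4 ![1, 1, 1, δ], HermSU.diag_mem_GU hσ (fun j => by fin_cases j <;> simp [hδ, one_mem]),
            Units.ext (by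
              rw [Units.val_mul, Units.val_mul, dg4_val]
              ext a b
              fin_cases a <;> fin_cases b <;> simp [cyc4, Matrix.mul_apply, Fin.sum_univ_four]),
            by rw [dg4_det]; simp⟩
      · obtain ⟨g, hN, hg3, hgv, hgt, -, -, hgA⟩ := H.quat C.m1 C.m2 C.s1 C.s2 C.a12
        have hgU : g ∈ Cfsg.GU 4 F p := (ct_fix hσ g).2 (hgA _ hA)
        have hg3' : g.1 ^ 3 = 1 := by rw [← Units.val_pow_eq_pow_val, hg3, Units.val_one]
        -- the representative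
        have h4 : σ (1 - (-1 : F) / 2 * ((-1) / 2)) = 1 - (-1 : F) / 2 * ((-1) / 2) := by
          rw [map_sub, map_mul, map_div₀, map_neg, map_ofNat, map_one]
        obtain ⟨β, hβ⟩ := Hermitian.exists_norm hne hinv h4
        obtain ⟨α, hαv⟩ : ∃ α : F, α = -1 / 2 := ⟨_, rfl⟩
        have hα2 : 2 * α = -1 := by rw [hαv, mul_div_cancel₀ _ H.two]
        have hσα : σ α = α := by rw [hαv, map_div₀, map_neg, map_one, map_ofNat]
        rw [← hαv] at hβ
        obtain ⟨T0, hT0v, hT0u, hT03, hT0t⟩ := pair_rep hinv hα2 hσα hβ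
        have hT0U : T0 ∈ Cfsg.GU 4 F p := (ct_fix hσ T0).2 hT0u
        have hT01 : T0.1 ≠ 1 := fun e => by
          rw [e, Matrix.trace_one, Fintype.card_fin] at hT0t
          exact h3F' (mul_left_cancel₀ H.two (by push_cast at hT0t ⊢; linear_combination hT0t))
        refine finish 3 hcop.2 x y g T0 t hxy ht0 hyU hgU hT0U hyr hg3' hT03 hN
          (same_three p hp5' hωp hσω hyr hy1 (hunit y hyU) hT03 hT01 (hunit _ hT0U) (hyt.trans hT0t.symm))
          (same_three p hp5' hωp hσω hg3' (fun e => hgv (by rw [e, one_mul, mul_one])) (hunit g hgU) hT03 hT01 (hunit _ hT0U)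
            (hgt.trans hT0t.symm)) fun δ hδ => ?_
        -- determinants from the torus
        obtain ⟨lam, hlam0, hlam⟩ : ∃ lam : F, lam ≠ 0 ∧ lam = (δ : F) * σ lam := by
          have hδ' := (hmemN δ).1 hδ
          by_cases h : (δ : F) = -1
          · exact ⟨i, fun e => by rw [e, mul_zero] at hi; exact neg_ne_zero.2 one_ne_zero hi.symm, by rw [h, hσi]; ring⟩
          · exact ⟨1 + δ, fun e => h (by linear_combination e), by rw [map_add, map_one]; linear_combination -hδ'⟩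
        obtain ⟨P, hPu, hPd, hPc⟩ := torus_det hinv hω3 hωs hσω h3F' hα2 hσα hβ hlam0 hlam
        let Cm : GL (Fin 4) F := ⟨P, ct σ P, mul_eq_one_comm.1 hPu, hPu⟩
        refine ⟨Cm, (ct_fix hσ Cm).2 hPu, Units.ext ?_, Units.ext hPd⟩
        show P * T0.1 = T0.1 * P
        rw [hT0v]; exact hPc
    · -- Sylow
      rw [LBTwoWit.ord_five] at h5
      obtain ⟨h, hN, ⟨c, hc⟩, hhns, hhA⟩ := H.five C
      have hhU : h ∈ Cfsg.GU 4 F p := (ct_fix hσ h).2 (hhA _ hA)
      obtain ⟨w, hwn, hwc⟩ := hroot c (hsc1 (h ^ 5) (pow_mem hhU 5) c hc)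
      have hw0 : w ≠ 0 := fun e => by rw [e, mul_zero] at hwn; exact zero_ne_one hwn
      obtain ⟨k, hkU, hhk, hkv⟩ := hscale h hhU w hwn
      have hk5 : k.1 ^ 5 = 1 := by
        rw [hkv, smul_pow, ← Units.val_pow_eq_pow_val, hc, smul_smul, ← hwc, inv_pow, inv_mul_cancel₀ (pow_ne_zero _ hw0), one_smul]
      have hk1 : k.1 ≠ 1 := fun e => hhns w (by rw [hhk, e])
      have hkN : k ∈ Cfsg.Geo.subgroupNormalizer R := by
        let s : GL (Fin 4) F := ⟨w⁻¹ • 1, w • 1, by rw [smul_mul_smul_comm, inv_mul_cancel₀ hw0, mul_one, one_smul],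
          by rw [smul_mul_smul_comm, mul_inv_cancel₀ hw0, mul_one, one_smul]⟩
        rw [show k = s * h from Units.ext (by rw [hkv, Units.val_mul]; show _ = (w⁻¹ • 1) * h.1; rw [smul_mul_assoc, one_mul])]
        exact mul_mem (LBTwoFour.scalar_mem_norm (c := w⁻¹) rfl) hN
      have hSL : ∀ g : GL (Fin 4) F, g ∈ Cfsg.GU 4 F p → g.1 ^ 5 = 1 → g ∈ S4 := by
        intro g hg hg5
        have h5' : (⟨GeneralLinearGroup.det g, HermSU.det_mem_normOne hσ hg⟩ : HermSU.normOne σ) ^ 5 = 1 :=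
          Subtype.ext (by
            show GeneralLinearGroup.det g ^ 5 = 1
            rw [← map_pow, show g ^ 5 = 1 from Units.ext (by rw [Units.val_pow_eq_pow_val, hg5, Units.val_one]), map_one])
        have e := (powCoprime hcop.1).injective (a₁ := ⟨_, HermSU.det_mem_normOne hσ hg⟩) (a₂ := 1)
          (by show _ ^ 5 = (1 : HermSU.normOne σ) ^ 5; rw [h5', one_pow])
        exact congrArg Subtype.val e
      obtain ⟨yG, hyG⟩ : ∃ yG : ↥(Cfsg.GU 4 F p ⊓ S4), yG.1 = y := ⟨⟨y, hyU, hSL y hyU hyr⟩, rfl⟩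
      obtain ⟨kG, hkG⟩ : ∃ kG : ↥(Cfsg.GU 4 F p ⊓ S4), kG.1 = k := ⟨⟨k, hkU, hSL k hkU hk5⟩, rfl⟩
      have hpow : ∀ (g : ↥(Cfsg.GU 4 F p ⊓ S4)), g.1.1 ^ 5 = 1 → g ^ 5 = 1 := fun g hg =>
        Subtype.ext (Units.ext (by rw [SubmonoidClass.coe_pow, Units.val_pow_eq_pow_val, hg]; rfl))
      haveI : Fact (Nat.Prime 5) := ⟨Nat.prime_five⟩
      have hzp : ∀ (g : ↥(Cfsg.GU 4 F p ⊓ S4)), g ^ 5 = 1 → IsPGroup 5 (Subgroup.zpowers g) := fun g hg => by
        obtain ⟨j, -, hj⟩ := (Nat.dvd_prime_pow Nat.prime_five).1 (show orderOf g ∣ 5 ^ 1 by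
          rw [pow_one]; exact orderOf_dvd_of_pow_eq_one hg)
        exact IsPGroup.of_card (n := j) (by rw [Nat.card_zpowers, hj])
      have hy5 := hpow yG (by rw [hyG]; exact hyr)
      have hk5' := hpow kG (by rw [hkG]; exact hk5)
      obtain ⟨P, hP⟩ := (hzp yG hy5).exists_le_sylow
      obtain ⟨Q, hQ⟩ := (hzp kG hk5').exists_le_sylow
      obtain ⟨g, hg⟩ := MulAction.exists_smul_eq ↥(Cfsg.GU 4 F p ⊓ S4) Q P
      have hky : g * kG * g⁻¹ ∈ P := by
        rw [← hg]
        show g * kG * g⁻¹ ∈ MulAut.conj g • (Q : Subgroup _)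
        exact Subgroup.smul_mem_pointwise_smul kG (MulAut.conj g) _ (hQ (Subgroup.mem_zpowers kG))
      have hyP : yG ∈ P := hP (Subgroup.mem_zpowers yG)
      have hy1G : yG ≠ 1 := fun e => hy1 (by rw [← hyG, e]; rfl)
      haveI : Nontrivial P.1 := ⟨⟨yG, hyP⟩, 1, fun e => hy1G (congrArg Subtype.val e)⟩
      haveI := P.2.center_nontrivial
      obtain ⟨z0, hz0'⟩ := exists_prime_orderOf_dvd_card' 5 (G := center P.1) (by
        obtain ⟨j, hj⟩ := (P.2.to_subgroup (center P.1)).exists_card_eq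
        rw [hj]
        refine dvd_pow_self 5 fun h => ?_
        rw [h, pow_zero] at hj
        have := Finite.one_lt_card (α := center P.1)
        omega)
      obtain ⟨zz, hzz⟩ : ∃ zz : GL (Fin 4) F, zz = z0.1.1.1 := ⟨_, rfl⟩
      have hzU : zz ∈ Cfsg.GU 4 F p := by rw [hzz]; exact (Subgroup.mem_inf.1 z0.1.1.2).1
      have hz5 : zz ^ 5 = 1 := by
        have e := congrArg (fun q : center P.1 => q.1.1.1) (orderOf_dvd_iff_pow_eq_one.1 (dvd_of_eq hz0') : z0 ^ 5 = 1)
        simpa [hzz] using e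
      have hzne : zz ≠ 1 := fun e => by
        have : z0 = 1 := Subtype.ext (Subtype.ext (Subtype.ext (hzz.symm.trans e)))
        rw [this, orderOf_one] at hz0'
        omega
      have hcomm : ∀ u : ↥(Cfsg.GU 4 F p ⊓ S4), u ∈ P → Commute zz u.1 := fun u hu => by
        have e := Subgroup.mem_center_iff.1 z0.2 ⟨u, hu⟩
        have e' := congrArg (fun q : P.1 => q.1.1) e
        rw [hzz]
        exact e'.symm
      have hy' : y ∈ Subgroup.zpowers zz := five_commute p hp2 hF hσ h5 hzU hyU hz5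
        (Units.ext (by rw [Units.val_pow_eq_pow_val, hyr, Units.val_one])) hzne (hyG ▸ hcomm yG hyP)
      have hk' : g.1 * k * g.1⁻¹ ∈ Subgroup.zpowers zz := five_commute p hp2 hF hσ h5 hzU
        (mul_mem (mul_mem (Subgroup.mem_inf.1 g.2).1 hkU) (inv_mem (Subgroup.mem_inf.1 g.2).1)) hz5
        (by rw [conj_pow, show k ^ 5 = 1 from Units.ext (by rw [Units.val_pow_eq_pow_val, hk5, Units.val_one])]; group)
        hzne (by simpa [hkG] using hcomm (g * kG * g⁻¹) hky)
      obtain ⟨k', hk''⟩ : ∃ k', k' = g.1 * k * g.1⁻¹ := ⟨_, rfl⟩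
      rw [← hk''] at hk'
      have hk'1 : k' ≠ 1 := fun e => hk1 (by
        rw [hk'', mul_inv_eq_one, mul_eq_left] at e
        rw [e, Units.val_one])
      have heq : Subgroup.zpowers zz ≤ Subgroup.zpowers k' := by
        refine le_of_eq (Subgroup.eq_of_le_of_card_ge (Subgroup.zpowers_le.2 hk') ?_).symm
        rw [Nat.card_zpowers, Nat.card_zpowers]
        have h5z : orderOf zz = 5 := orderOf_eq_prime hz5 hzne
        have h5k : orderOf k' = 5 := orderOf_eq_prime (by
          rw [hk'', conj_pow, show k ^ 5 = 1 from Units.ext (by rw [Units.val_pow_eq_pow_val, hk5, Units.val_one])]; group) hk'1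
        omega
      obtain ⟨j, hj⟩ := Subgroup.mem_zpowers_iff.1 (heq hy')
      refine ⟨g.1, g.2, ?_⟩
      let s : GL (Fin 4) F := ⟨t • 1, t⁻¹ • 1, by rw [smul_mul_smul_comm, mul_inv_cancel₀ ht0, mul_one, one_smul],
        by rw [smul_mul_smul_comm, inv_mul_cancel₀ ht0, mul_one, one_smul]⟩
      have hxs : x = s * y := Units.ext (by rw [hxy, Units.val_mul]; show _ = (t • 1) * y.1; rw [smul_mul_assoc, one_mul])
      rw [hxs, show g.1⁻¹ * (s * y) * g.1 = s * (g.1⁻¹ * y * g.1) by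
        have hcs : g.1⁻¹ * s = s * g.1⁻¹ := Units.ext (by
          rw [Units.val_mul, Units.val_mul]
          show (g.1⁻¹ : GL (Fin 4) F).1 * (t • 1) = (t • 1) * (g.1⁻¹ : GL (Fin 4) F).1
          rw [mul_smul_comm, smul_mul_assoc, mul_one, one_mul])
        rw [← mul_assoc g.1⁻¹ s y, hcs]; simp only [mul_assoc], ← hj, hk'', conj_zpow]
      refine mul_mem (LBTwoFour.scalar_mem_norm (c := t) rfl) ?_
      rw [show g.1⁻¹ * (g.1 * k ^ j * g.1⁻¹) * g.1 = k ^ j by group]
      exact zpow_mem hkN j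

end Cfsg.Agent.LBTwoUnit
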