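/-
Tensor products of bilinear forms, and the discriminant criterion for plus type in even dimension.
-/
import Cfsg.Agent.Lib.LinearBlock.Disc
import Mathlib.LinearAlgebra.BilinearForm.TensorProduct
import Mathlib.LinearAlgebra.TensorProduct.Basis
import Mathlib.LinearAlgebra.Matrix.Kronecker
import Mathlib.LinearAlgebra.Matrix.BilinearForm
import Mathlib.RingTheory.Flat.Basic
import Mathlib.LinearAlgebra.Dimension.Constructions

set_option autoImplicit false

namespace Cfsg.Agent.LBTensor

open Module TensorProduct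
open scoped Kronecker

variable {F V U W : Type*} [Field F] [AddCommGroup V] [Module F V] [AddCommGroup U] [Module F U]
  [AddCommGroup W] [Module F W]

theorem det_change {ι κ : Type*} [Fintype ι] [DecidableEq ι] [Fintype κ] [DecidableEq κ]
    (B : LinearMap.BilinForm F V) (b : Basis ι F V) (c : Basis κ F V) :
    ∃ p : F, p ≠ 0 ∧ (LinearMap.BilinForm.toMatrix c B).det = p * p * (LinearMap.BilinForm.toMatrix b B).det := by
  let e := c.indexEquiv b
  have h1 : (LinearMap.BilinForm.toMatrix c B).det = (LinearMap.BilinForm.toMatrix (c.reindex e) B).det := by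
    rw [← Matrix.det_submatrix_equiv_self e.symm (LinearMap.BilinForm.toMatrix c B)]
    congr 1
    ext i j
    simp [LinearMap.BilinForm.toMatrix_apply]
  refine ⟨(b.toMatrix (c.reindex e)).det, fun h0 => ?_, ?_⟩
  · have := congrArg Matrix.det (b.toMatrix_mul_toMatrix_flip (c.reindex e))
    rw [Matrix.det_mul, h0, zero_mul, Matrix.det_one] at this
    exact zero_ne_one this
  · rw [h1, ← LinearMap.BilinForm.toMatrix_mul_basis_toMatrix (B := B) (b := b) (c.reindex e), Matrix.det_mul,
      Matrix.det_mul, Matrix.det_transpose]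
    ring

/-- A half-dimensional totally isotropic subspace forces a square signed discriminant. -/
theorem isSquare_of_isotropic [FiniteDimensional F V] (B : LinearMap.BilinForm F V) (hS : B.IsSymm) {n : ℕ}
    (hV : finrank F V = 2 * n) {X : Submodule F V} (hX : finrank F X = n) (h0 : ∀ x ∈ X, ∀ y ∈ X, B x y = 0)
    {ι : Type*} [Fintype ι] [DecidableEq ι] (b : Basis ι F V) :
    IsSquare ((-1) ^ n * (LinearMap.BilinForm.toMatrix b B).det) := by
  obtain ⟨C, hC⟩ := Submodule.exists_isCompl X
  have hCd : finrank F C = n := by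
    have := Submodule.finrank_add_eq_of_isCompl hC
    omega
  let bx := finBasisOfFinrankEq F X hX
  let bc := finBasisOfFinrankEq F C hCd
  let c : Basis (Fin n ⊕ Fin n) F V := (bx.prod bc).map (Submodule.prodEquivOfIsCompl X C hC)
  have hcl : ∀ i, c (Sum.inl i) = (bx i : V) := fun i => by simp [c]
  have hcr : ∀ i, c (Sum.inr i) = (bc i : V) := fun i => by simp [c]
  let A : Matrix (Fin n) (Fin n) F := Matrix.of fun i j => B (bx i : V) (bc j : V)
  let D : Matrix (Fin n) (Fin n) F := Matrix.of fun i j => B (bc i : V) (bc j : V)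
  have hM : LinearMap.BilinForm.toMatrix c B = Matrix.fromBlocks 0 A A.transpose D := by
    ext i j
    rw [LinearMap.BilinForm.toMatrix_apply]
    rcases i with i | i <;> rcases j with j | j
    · rw [hcl, hcl]; exact h0 _ (bx i).2 _ (bx j).2
    · rw [hcl, hcr]; rfl
    · rw [hcl, hcr]; exact hS.eq _ _
    · rw [hcr, hcr]; rfl
  have hdet : (Matrix.fromBlocks (0 : Matrix (Fin n) (Fin n) F) A A.transpose D).det = (-1) ^ n * (A.det * A.det) := by
    have hm : Matrix.fromBlocks (0 : Matrix (Fin n) (Fin n) F) A A.transpose D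
        * Matrix.fromBlocks (0 : Matrix (Fin n) (Fin n) F) (1 : Matrix (Fin n) (Fin n) F)
            (1 : Matrix (Fin n) (Fin n) F) (0 : Matrix (Fin n) (Fin n) F)
        = Matrix.fromBlocks A 0 D A.transpose := by
      rw [Matrix.fromBlocks_multiply]; simp
    have hs : (Matrix.fromBlocks (0 : Matrix (Fin n) (Fin n) F) (1 : Matrix (Fin n) (Fin n) F)
        (1 : Matrix (Fin n) (Fin n) F) (0 : Matrix (Fin n) (Fin n) F)).det = (-1) ^ n := by
      have e : Matrix.fromBlocks (0 : Matrix (Fin n) (Fin n) F) (1 : Matrix (Fin n) (Fin n) F)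
          (1 : Matrix (Fin n) (Fin n) F) (0 : Matrix (Fin n) (Fin n) F)
          * Matrix.fromBlocks (1 : Matrix (Fin n) (Fin n) F) (0 : Matrix (Fin n) (Fin n) F)
            (1 : Matrix (Fin n) (Fin n) F) (1 : Matrix (Fin n) (Fin n) F)
          = Matrix.fromBlocks (1 : Matrix (Fin n) (Fin n) F) (1 : Matrix (Fin n) (Fin n) F)
            (1 : Matrix (Fin n) (Fin n) F) (0 : Matrix (Fin n) (Fin n) F) := by
        rw [Matrix.fromBlocks_multiply]; simp
      have h := congrArg Matrix.det e
      rw [Matrix.det_mul, Matrix.det_fromBlocks_zero₁₂, Matrix.det_fromBlocks_one₁₁, Matrix.det_one, mul_one,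
        mul_one, mul_one, zero_sub, Matrix.det_neg, Matrix.det_one, mul_one, Fintype.card_fin] at h
      exact h
    have h := congrArg Matrix.det hm
    rw [Matrix.det_mul, hs, Matrix.det_fromBlocks_zero₁₂, Matrix.det_transpose] at h
    have h1 : ((-1 : F) ^ n) * (-1) ^ n = 1 := by rw [← mul_pow]; simp
    calc _ = (Matrix.fromBlocks (0 : Matrix (Fin n) (Fin n) F) A A.transpose D).det * ((-1) ^ n * (-1) ^ n) := by
          rw [h1, mul_one]
      _ = (-1) ^ n * (A.det * A.det) := by rw [← mul_assoc, h]; ring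
  obtain ⟨p, hp, hp2⟩ := det_change B b c
  rw [hM, hdet] at hp2
  refine ⟨A.det / p, ?_⟩
  have h1 : ((-1 : F) ^ n) * (-1) ^ n = 1 := by rw [← mul_pow]; simp
  rw [div_mul_div_comm, eq_div_iff (mul_ne_zero hp hp)]
  linear_combination (-1 : F) ^ n * (-1 : F) * hp2 + (A.det * A.det) * h1

/-- A square signed discriminant gives a half-dimensional totally isotropic subspace. -/
theorem exists_isotropic_of_isSquare [Finite F] [FiniteDimensional F V] (h2 : (2 : F) ≠ 0)
    (B : LinearMap.BilinForm F V) (hS : B.IsSymm) (hB : B.Nondegenerate) {n : ℕ}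
    (hV : finrank F V = 2 * n) {ι : Type*} [Fintype ι] [DecidableEq ι] (b : Basis ι F V)
    (hsq : IsSquare ((-1) ^ n * (LinearMap.BilinForm.toMatrix b B).det)) :
    ∃ X : Submodule F V, finrank F X = n ∧ ∀ x ∈ X, ∀ y ∈ X, B x y = 0 := by
  classical
  let Q : QuadraticForm F V := LinearMap.BilinMap.toQuadraticMap B
  have hpol : ∀ x y, QuadraticMap.polar Q x y = 2 * B x y := fun x y => by
    rw [LinearMap.BilinMap.polar_toQuadraticMap, hS.eq y x, two_mul]
  have hQ : (QuadraticMap.polarBilin Q).Nondegenerate := by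
    refine ⟨fun x hx => hB.1 x fun y => ?_, fun y hy => hB.2 y fun x => ?_⟩
    · have := hx y; rw [QuadraticMap.polarBilin_apply_apply, hpol] at this
      exact (mul_eq_zero.1 this).resolve_left h2
    · have := hy x; rw [QuadraticMap.polarBilin_apply_apply, hpol] at this
      exact (mul_eq_zero.1 this).resolve_left h2
  rcases LBQuad.classify_even hQ hV with ⟨g, hg⟩ | ⟨ζ, hζ, g, hg⟩
  · let K : Submodule F (Fin n ⊕ Fin n → F) := LinearMap.ker (LinearMap.funLeft F F (Sum.inr : Fin n → Fin n ⊕ Fin n))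
    refine ⟨K.comap g.toLinearMap, ?_, fun x hx y hy => ?_⟩
    · rw [Submodule.comap_equiv_eq_map_symm, LinearEquiv.finrank_map_eq]
      have h := LinearMap.finrank_range_add_finrank_ker
        (LinearMap.funLeft F F (Sum.inr : Fin n → Fin n ⊕ Fin n))
      rw [LinearMap.range_eq_top.2 (LinearMap.funLeft_surjective_of_injective F F _ Sum.inr_injective),
        finrank_top] at h
      simp only [Module.finrank_fintype_fun_eq_card, Fintype.card_sum, Fintype.card_fin] at h
      show finrank F K = n
      have : finrank F K = finrank F (LinearMap.ker (LinearMap.funLeft F F (Sum.inr : Fin n → Fin n ⊕ Fin n))) := rfl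
      omega
    · have hK : ∀ v ∈ K.comap g.toLinearMap, Q v = 0 := fun v hv => by
        rw [hg]
        simp only [Orth.qPlus, _root_.sum_apply, QuadraticMap.linMulLin_apply]
        refine Finset.sum_eq_zero fun i _ => ?_
        have := congrFun (show LinearMap.funLeft F F Sum.inr (g v) = 0 from hv) i
        rw [LinearMap.funLeft_apply] at this
        simp [this]
      have h := hpol x y
      rw [QuadraticMap.polar, hK _ (Submodule.add_mem _ hx hy), hK _ hx, hK _ hy, sub_zero, sub_zero, eq_comm] at h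
      exact (mul_eq_zero.1 h).resolve_left h2
  · exfalso
    have hn : n - 1 + 1 = n := by
      have := g.finrank_eq
      simp only [Module.finrank_fintype_fun_eq_card, Fintype.card_sum, Fintype.card_fin] at this
      omega
    obtain ⟨p, hp, hp2⟩ := LBQuad.gram_det (Orth.qMinus F (n - 1) 1 ζ) (b.map g)
    have hG : (Matrix.of fun i j => QuadraticMap.polar (Orth.qMinus F (n - 1) 1 ζ) ((b.map g) i) ((b.map g) j))
        = (2 : F) • LinearMap.BilinForm.toMatrix b B := by
      ext i j
      rw [Matrix.smul_apply, LinearMap.BilinForm.toMatrix_apply, smul_eq_mul, ← hpol, Matrix.of_apply,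
        Basis.map_apply, Basis.map_apply]
      simp only [QuadraticMap.polar, hg, map_add]
    rw [hG, Matrix.det_smul, show Orth.qMinus F (n - 1) 1 ζ = Orth.qPad F (n - 1) (Orth.qBin F 1 ζ) from rfl,
      LBQuad.gram_qPad, LBQuad.gram_qBin, ← Module.finrank_eq_card_basis b, hV] at hp2
    have key : ((2 : F) ^ n * 2 ^ n) * ((-1) ^ n * (LinearMap.BilinForm.toMatrix b B).det)
        = p * p * (1 ^ 2 - 4 * ζ) := by
      have e : (2 : F) ^ (2 * n) = 2 ^ n * 2 ^ n := by rw [two_mul n, pow_add]
      have h1 : ((-1 : F) ^ (n - 1)) * (-1) ^ (n - 1) = 1 := by rw [← mul_pow]; simp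
      have e2 : (-1 : F) ^ n = -((-1 : F) ^ (n - 1)) := by
        nth_rewrite 1 [← hn]
        rw [pow_succ]; ring
      rw [e] at hp2
      rw [e2]
      linear_combination (-(-1 : F) ^ (n - 1)) * hp2 + (p * p * (1 - 4 * ζ)) * h1
    have hns : ¬ IsSquare ((1 : F) ^ 2 - 4 * ζ) := LBQuad.disc_not_square h2 fun z₁ z₂ h => by
      rcases eq_or_ne z₂ 0 with rfl | hz
      · exact ⟨by simpa using h, rfl⟩
      · refine absurd ?_ (hζ (z₁ / z₂))
        field_simp
        linear_combination h
    refine hns ((LBQuad.isSquare_sq_mul hp).1 ?_)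
    rw [← key]
    exact (LBQuad.isSquare_sq_mul (pow_ne_zero n h2)).2 hsq

theorem gram_tensor {ι κ : Type*} [Fintype ι] [DecidableEq ι] [Fintype κ] [DecidableEq κ]
    (B₁ : LinearMap.BilinForm F U) (B₂ : LinearMap.BilinForm F W) (bU : Basis ι F U) (bW : Basis κ F W) :
    LinearMap.BilinForm.toMatrix (bU.tensorProduct bW) (B₁.tmul B₂)
      = LinearMap.BilinForm.toMatrix bU B₁ ⊗ₖ LinearMap.BilinForm.toMatrix bW B₂ := by
  ext ⟨i, j⟩ ⟨i', j'⟩
  simp [LinearMap.BilinForm.toMatrix_apply, mul_comm]

theorem tmul_nondegenerate [FiniteDimensional F U] [FiniteDimensional F W]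
    {B₁ : LinearMap.BilinForm F U} {B₂ : LinearMap.BilinForm F W} (h₁ : B₁.Nondegenerate) (h₂ : B₂.Nondegenerate) :
    (B₁.tmul B₂).Nondegenerate := by
  classical
  let bU := finBasis F U
  let bW := finBasis F W
  refine (LinearMap.BilinForm.nondegenerate_iff_det_ne_zero (B := B₁.tmul B₂) (bU.tensorProduct bW)).2 ?_
  rw [gram_tensor, Matrix.det_kronecker]
  exact mul_ne_zero (pow_ne_zero _ ((LinearMap.BilinForm.nondegenerate_iff_det_ne_zero bU).1 h₁))
    (pow_ne_zero _ ((LinearMap.BilinForm.nondegenerate_iff_det_ne_zero bW).1 h₂))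

/-- An alternating form has totally isotropic subspaces of every dimension up to half. -/
theorem exists_isotropic_alt [FiniteDimensional F U] {B : LinearMap.BilinForm F U} (hB : B.Nondegenerate)
    (hA : B.IsAlt) {k : ℕ} (hU : finrank F U = 2 * k) :
    ∀ j ≤ k, ∃ X : Submodule F U, finrank F X = j ∧ ∀ x ∈ X, ∀ y ∈ X, B x y = 0 := by
  intro j
  induction j with
  | zero => exact fun _ => ⟨⊥, finrank_bot F U, fun x hx y _ => by rw [(Submodule.mem_bot F).1 hx]; simp⟩
  | succ j ih =>
    intro hj
    obtain ⟨X, hX, h0⟩ := ih (by omega)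
    have hle : X ≤ B.orthogonal X := fun y hy x hx => h0 x hx y hy
    have hlt : X < B.orthogonal X := by
      refine lt_of_le_of_ne hle fun he => ?_
      have := LinearMap.BilinForm.finrank_orthogonal hB X
      rw [← he, hX, hU] at this
      omega
    obtain ⟨v, hv, hvX⟩ := SetLike.exists_of_lt hlt
    refine ⟨X ⊔ F ∙ v, ?_, fun x hx y hy => ?_⟩
    · have hv0 : v ≠ 0 := fun h => hvX (h ▸ X.zero_mem)
      have h := Submodule.finrank_sup_add_finrank_inf_eq X (F ∙ v)
      rw [finrank_span_singleton hv0, hX] at h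
      have hd : X ⊓ F ∙ v = ⊥ := by
        rw [← disjoint_iff, Submodule.disjoint_span_singleton' hv0]
        exact hvX
      rw [hd, finrank_bot] at h
      omega
    · obtain ⟨x₁, hx₁, x₂, hx₂, rfl⟩ := Submodule.mem_sup.1 hx
      obtain ⟨y₁, hy₁, y₂, hy₂, rfl⟩ := Submodule.mem_sup.1 hy
      obtain ⟨a, rfl⟩ := Submodule.mem_span_singleton.1 hx₂
      obtain ⟨c, rfl⟩ := Submodule.mem_span_singleton.1 hy₂
      have e1 : B x₁ v = 0 := hv x₁ hx₁
      have e2 : B v y₁ = 0 := by rw [← hA.neg_eq, hv y₁ hy₁, neg_zero]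
      have e3 : B v v = 0 := hA v
      simp [h0 x₁ hx₁ y₁ hy₁, e1, e2, e3]

end Cfsg.Agent.LBTensor
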