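/-
Every square matrix over a field is similar to its transpose, by a symmetric matrix.
-/
import Mathlib

set_option autoImplicit false
set_option linter.style.haveILetI false

namespace Cfsg.Agent.LBTranspose

open Polynomial Module
open scoped DirectSum

universe u v

variable {F : Type u} [Field F]

theorem exists_functional (g : F[X]) (hg : g ≠ 0) :
    ∃ l : (F[X] ⧸ Submodule.span F[X] {g}) →ₗ[F] F,
      ∀ a : F[X], Submodule.Quotient.mk (p := Submodule.span F[X] {g}) a ≠ 0 →
        ∃ b : F[X], l (Submodule.Quotient.mk (a * b)) ≠ 0 := by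
  classical
  let pb := AdjoinRoot.powerBasis (K := F) hg
  let l₀ : AdjoinRoot g →ₗ[F] F := if h : 0 < pb.dim then pb.basis.coord ⟨pb.dim - 1, by omega⟩ else 0
  let π : (F[X] ⧸ Submodule.span F[X] {g}) →ₗ[F] AdjoinRoot g :=
    { toFun := fun x => x, map_add' := fun _ _ => rfl, map_smul' := fun c x => by
        induction x using Submodule.Quotient.induction_on with
        | H z =>
          show AdjoinRoot.mk g (c • z) = c • AdjoinRoot.mk g z
          rw [Algebra.smul_def, Algebra.smul_def, map_mul]; rfl }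
  refine ⟨l₀.comp π, fun a ha => ?_⟩
  change AdjoinRoot.mk g a ≠ 0 at ha
  set y := AdjoinRoot.mk g a with hy
  obtain ⟨i, hi⟩ : ∃ i, pb.basis.repr y i ≠ 0 := by
    by_contra! h
    exact ha (pb.basis.ext_elem fun i => by rw [h i, map_zero]; rfl)
  have hd : 0 < pb.dim := i.pos
  let S := Finset.univ.filter fun j => pb.basis.repr y j ≠ 0
  have hS : S.Nonempty := ⟨i, by simpa [S] using hi⟩
  obtain ⟨r, hr, hmax⟩ := S.exists_max_image id hS
  refine ⟨X ^ (pb.dim - 1 - (r : ℕ)), ?_⟩
  show l₀ (AdjoinRoot.mk g (a * X ^ (pb.dim - 1 - (r : ℕ)))) ≠ 0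
  rw [map_mul, map_pow, AdjoinRoot.mk_X, ← hy, show AdjoinRoot.root g = pb.gen from (AdjoinRoot.powerBasis_gen hg).symm]
  conv => arg 1; arg 2; rw [← pb.basis.sum_repr y, Finset.sum_mul]
  rw [map_sum, Finset.sum_eq_single r]
  · rw [smul_mul_assoc, map_smul, PowerBasis.basis_eq_pow, ← pow_add,
      show (r : ℕ) + (pb.dim - 1 - (r : ℕ)) = pb.dim - 1 by have := r.2; omega]
    have h1 : pb.gen ^ (pb.dim - 1) = pb.basis ⟨pb.dim - 1, by omega⟩ := by rw [PowerBasis.basis_eq_pow]
    simp only [l₀, dif_pos hd, h1, Module.Basis.coord_apply, Module.Basis.repr_self, Finsupp.single_eq_same,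
      smul_eq_mul, mul_one]
    simpa [S] using hr
  · intro j _ hj
    by_cases h0 : pb.basis.repr y j = 0
    · rw [h0, zero_smul, zero_mul, map_zero]
    · have hlt : (j : ℕ) < r := lt_of_le_of_ne (hmax j (by simpa [S] using h0)) (fun h => hj (Fin.ext h))
      rw [smul_mul_assoc, map_smul, PowerBasis.basis_eq_pow, ← pow_add]
      have h1 : pb.gen ^ ((j : ℕ) + (pb.dim - 1 - (r : ℕ))) =
          pb.basis ⟨(j : ℕ) + (pb.dim - 1 - (r : ℕ)), by have := r.2; omega⟩ := by rw [PowerBasis.basis_eq_pow]
      simp only [l₀, dif_pos hd, h1, Module.Basis.coord_apply, Module.Basis.repr_self]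
      rw [Finsupp.single_eq_of_ne (fun h => by have := congrArg Fin.val h; simp at this; have := r.2; omega)]
      simp
  · intro h; exact absurd (Finset.mem_univ r) h

/-- A non-degenerate symmetric form making `f` self-adjoint. -/
theorem exists_selfadjoint_form {V : Type v} [AddCommGroup V] [Module F V] [FiniteDimensional F V] (f : End F V) :
    ∃ β : LinearMap.BilinForm F V, (∀ x y, β x y = β y x) ∧ β.Nondegenerate ∧ ∀ x y, β (f x) y = β x (f y) := by
  classical
  let e₀ := AEval'.of f
  haveI : Module.Finite F (AEval' f) := Module.Finite.equiv e₀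
  haveI : Module.Finite F[X] (AEval' f) := Module.Finite.of_restrictScalars_finite F F[X] _
  have htor : Module.IsTorsion F[X] (AEval' f) := by
    intro x
    obtain ⟨v, rfl⟩ := e₀.surjective x
    refine ⟨⟨f.charpoly, mem_nonZeroDivisors_of_ne_zero f.charpoly_monic.ne_zero⟩, ?_⟩
    show f.charpoly • AEval'.of f v = 0
    rw [← AEval.of_aeval_smul, LinearMap.aeval_self_charpoly, zero_smul, map_zero]
  obtain ⟨I, fI, p, hp, e, ⟨Φ⟩⟩ := Module.equiv_directSum_of_isTorsion htor
  have hg : ∀ i, p i ^ e i ≠ 0 := fun i => pow_ne_zero _ (hp i).ne_zero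
  choose l hl using fun i => exists_functional (p i ^ e i) (hg i)
  let Ψ : AEval' f ≃ₗ[F[X]] ((i : I) → F[X] ⧸ Submodule.span F[X] {p i ^ e i}) :=
    Φ.trans (DirectSum.linearEquivFunOnFintype F[X] I (fun i => F[X] ⧸ Submodule.span F[X] {p i ^ e i}))
  let φ : V ≃ₗ[F] ((i : I) → F[X] ⧸ Submodule.span F[X] {p i ^ e i}) := e₀ ≪≫ₗ Ψ.restrictScalars F
  have hX : ∀ x i, φ (f x) i = (X : F[X]) • φ x i := fun x i => by
    show Ψ (e₀ (f x)) i = _
    rw [← AEval'.X_smul_of, map_smul, Pi.smul_apply]; rfl
  let β : LinearMap.BilinForm F V := LinearMap.mk₂ F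
    (fun x y => ∑ i, l i ((Ideal.Quotient.mk (Ideal.span {p i ^ e i})) (Quotient.out (φ x i) * Quotient.out (φ y i))))
    ?_ ?_ ?_ ?_
  pick_goal 2
  · intro x x' y
    rw [← Finset.sum_add_distrib]
    refine Finset.sum_congr rfl fun i _ => ?_
    rw [← map_add (l i)]
    congr 1
    show (Ideal.Quotient.mk _) _ = (Ideal.Quotient.mk _) _ + (Ideal.Quotient.mk _) _
    rw [map_mul, map_mul, map_mul, ← add_mul]
    congr 1
    show Submodule.Quotient.mk (Quotient.out (φ (x + x') i)) = Submodule.Quotient.mk (Quotient.out (φ x i)) + Submodule.Quotient.mk (Quotient.out (φ x' i))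
    rw [Submodule.Quotient.mk_out, Submodule.Quotient.mk_out, Submodule.Quotient.mk_out, map_add]; rfl
  pick_goal 2
  · intro c x y
    rw [Finset.smul_sum]
    refine Finset.sum_congr rfl fun i _ => ?_
    rw [← map_smul (l i)]
    congr 1
    show Submodule.Quotient.mk _ = c • Submodule.Quotient.mk _
    rw [← Submodule.Quotient.mk_smul, ← smul_mul_assoc]
    show (Ideal.Quotient.mk _) _ = (Ideal.Quotient.mk _) _
    rw [map_mul, map_mul]
    congr 1
    show Submodule.Quotient.mk _ = Submodule.Quotient.mk _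
    rw [Submodule.Quotient.mk_smul, Submodule.Quotient.mk_out, Submodule.Quotient.mk_out, map_smul]; rfl
  pick_goal 2
  · intro x y y'
    rw [← Finset.sum_add_distrib]
    refine Finset.sum_congr rfl fun i _ => ?_
    rw [← map_add (l i)]
    congr 1
    show (Ideal.Quotient.mk _) _ = (Ideal.Quotient.mk _) _ + (Ideal.Quotient.mk _) _
    rw [map_mul, map_mul, map_mul, ← mul_add]
    congr 1
    show Submodule.Quotient.mk (Quotient.out (φ (y + y') i)) = Submodule.Quotient.mk (Quotient.out (φ y i)) + Submodule.Quotient.mk (Quotient.out (φ y' i))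
    rw [Submodule.Quotient.mk_out, Submodule.Quotient.mk_out, Submodule.Quotient.mk_out, map_add]; rfl
  pick_goal 2
  · intro c x y
    rw [Finset.smul_sum]
    refine Finset.sum_congr rfl fun i _ => ?_
    rw [← map_smul (l i)]
    congr 1
    show Submodule.Quotient.mk _ = c • Submodule.Quotient.mk _
    rw [← Submodule.Quotient.mk_smul, ← mul_smul_comm]
    show (Ideal.Quotient.mk _) _ = (Ideal.Quotient.mk _) _
    rw [map_mul, map_mul]
    congr 1
    show Submodule.Quotient.mk _ = Submodule.Quotient.mk _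
    rw [Submodule.Quotient.mk_smul, Submodule.Quotient.mk_out, Submodule.Quotient.mk_out, map_smul]; rfl
  have hsym : ∀ x y, β x y = β y x := fun x y => Finset.sum_congr rfl fun i _ => by rw [mul_comm]
  have hnd : ∀ x, (∀ y, β x y = 0) → x = 0 := fun x hx => by
    by_contra hx0
    obtain ⟨i, hi⟩ : ∃ i, φ x i ≠ 0 := by
      by_contra! h
      exact hx0 (φ.injective (by rw [map_zero]; exact funext h))
    obtain ⟨b, hb⟩ := hl i (Quotient.out (φ x i)) (by rw [Submodule.Quotient.mk_out]; exact hi)
    have h := hx (φ.symm (Pi.single i (Submodule.Quotient.mk b)))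
    simp only [β, LinearMap.mk₂_apply, LinearEquiv.apply_symm_apply] at h
    rw [Finset.sum_eq_single i] at h
    · refine hb ?_
      rw [← h]
      congr 1
      show (Ideal.Quotient.mk _) _ = (Ideal.Quotient.mk _) _
      rw [map_mul, map_mul]
      congr 1
      show Submodule.Quotient.mk b = Submodule.Quotient.mk (Quotient.out _)
      rw [Submodule.Quotient.mk_out, Pi.single_eq_same]
    · intro j _ hj
      rw [map_mul, show (Ideal.Quotient.mk (Ideal.span {p j ^ e j})) (Quotient.out ((Pi.single i (Submodule.Quotient.mk b) : (i : I) → F[X] ⧸ Submodule.span F[X] {p i ^ e i}) j)) = 0 from ?_]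
      · rw [mul_zero]; exact map_zero _
      · show Submodule.Quotient.mk _ = 0
        rw [Submodule.Quotient.mk_out, Pi.single_eq_of_ne hj]
    · intro h'; exact absurd (Finset.mem_univ i) h'
  refine ⟨β, hsym, ⟨hnd, fun y hy => hnd y fun x => by rw [hsym]; exact hy x⟩, fun x y => ?_⟩
  refine Finset.sum_congr rfl fun i _ => ?_
  congr 1
  rw [map_mul, map_mul]
  have hm : ∀ z, (Ideal.Quotient.mk (Ideal.span {p i ^ e i})) (Quotient.out (φ (f z) i))
      = (Ideal.Quotient.mk (Ideal.span {p i ^ e i})) X * (Ideal.Quotient.mk (Ideal.span {p i ^ e i})) (Quotient.out (φ z i)) :=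
    fun z => by
    rw [← map_mul]
    show Submodule.Quotient.mk (Quotient.out (φ (f z) i)) = Submodule.Quotient.mk ((X : F[X]) • Quotient.out (φ z i))
    rw [Submodule.Quotient.mk_smul, Submodule.Quotient.mk_out, Submodule.Quotient.mk_out, hX]
  rw [hm, hm]
  ring

variable {ι : Type} [Fintype ι] [DecidableEq ι]

theorem exists_symm_conj (A : Matrix ι ι F) :
    ∃ S : GL ι F, (S : Matrix ι ι F).transpose = S ∧ A.transpose * (S : Matrix ι ι F) = (S : Matrix ι ι F) * A := by
  obtain ⟨β, hs, hn, had⟩ := exists_selfadjoint_form (F := F) (V := ι → F) (Matrix.toLin' A)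
  set S := LinearMap.toMatrix₂' F β with hS
  have hd : S.det ≠ 0 :=
    Matrix.nondegenerate_iff_det_ne_zero.1 (LinearMap.nondegenerate_toMatrix₂'_iff.2 hn)
  refine ⟨Matrix.GeneralLinearGroup.mkOfDetNeZero S hd, ?_, ?_⟩
  · show S.transpose = S
    ext i j
    rw [Matrix.transpose_apply, hS, LinearMap.toMatrix₂'_apply, LinearMap.toMatrix₂'_apply, hs]
  · show A.transpose * S = S * A
    have h1 := LinearMap.toMatrix₂'_comp β (Matrix.toLin' A)
    have h2 := LinearMap.toMatrix₂'_compl₂ β (Matrix.toLin' A)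
    rw [LinearMap.toMatrix'_toLin'] at h1 h2
    rw [← h1, ← h2]
    exact congrArg _ (LinearMap.ext fun x => LinearMap.ext fun y => had x y)

theorem isConj_transpose (A : Matrix ι ι F) : IsConj A A.transpose := by
  obtain ⟨S, -, h⟩ := exists_symm_conj A
  exact ⟨S, h.symm⟩

end Cfsg.Agent.LBTranspose
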