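/-
Normal form of a transvection and its centraliser in the general linear group.
-/
import Mathlib
import Cfsg.Prelude.Def_ClassicalGeometry

set_option autoImplicit false
set_option linter.style.haveILetI false

namespace Cfsg.Agent.LBTransv

open Matrix Module

variable {F : Type*} [Field F] {k : ℕ}

/-- Index type of the model. -/
abbrev M (k : ℕ) : Type := Unit ⊕ (Fin k ⊕ Unit)

/-- First index. -/
abbrev L (k : ℕ) : M k := Sum.inl ()
/-- Last index. -/
abbrev R (k : ℕ) : M k := Sum.inr (Sum.inr ())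

/-- The model nilpotent matrix. -/
def N₀ (F : Type*) [Field F] (k : ℕ) : Matrix (M k) (M k) F := Matrix.single (L k) (R k) 1

/-- The model transvection. -/
def T₀ (F : Type*) [Field F] (k : ℕ) : GL (M k) F where
  val := 1 + N₀ F k
  inv := 1 - N₀ F k
  val_inv := by
    have h : N₀ F k * N₀ F k = 0 := Matrix.single_mul_single_of_ne _ _ _ _ (by simp [L, R]) _
    rw [add_mul, mul_sub, mul_sub, one_mul, one_mul, mul_one, h]; abel
  inv_val := by
    have h : N₀ F k * N₀ F k = 0 := Matrix.single_mul_single_of_ne _ _ _ _ (by simp [L, R]) _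
    rw [sub_mul, mul_add, mul_add, one_mul, one_mul, mul_one, h]; abel

/-- A matrix centralising the model. -/
def build (c : F) (A : Matrix (Fin k) (Fin k) F) (r col : Fin k → F) (s : F) : Matrix (M k) (M k) F :=
  Matrix.fromBlocks (Matrix.of fun _ _ => c) (Matrix.of fun _ j => Sum.elim r (fun _ => s) j) 0
    (Matrix.fromBlocks A (Matrix.of fun i _ => col i) 0 (Matrix.of fun _ _ => c))

theorem det_build (c : F) (A : Matrix (Fin k) (Fin k) F) (r col : Fin k → F) (s : F) :
    (build c A r col s).det = c * (A.det * c) := by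
  rw [build, Matrix.det_fromBlocks_zero₂₁, Matrix.det_fromBlocks_zero₂₁, Matrix.det_unique]
  rfl

theorem commute_iff (g : Matrix (M k) (M k) F) : Commute g (1 + N₀ F k) ↔
    g = build (g (L k) (L k)) (g.submatrix (Sum.inr ∘ Sum.inl) (Sum.inr ∘ Sum.inl))
      (fun j => g (L k) (Sum.inr (Sum.inl j))) (fun i => g (Sum.inr (Sum.inl i)) (R k)) (g (L k) (R k)) := by
  have h : Commute g (1 + N₀ F k) ↔ g * N₀ F k = N₀ F k * g := by
    refine ⟨fun h => ?_, fun h => (Commute.one_right g).add_right h⟩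
    have := h.eq
    rwa [mul_add, add_mul, mul_one, one_mul, add_right_inj] at this
  have e1 : ∀ i j, (g * N₀ F k) i j = if j = R k then g i (L k) else 0 := fun i j => by
    by_cases hj : j = R k
    · subst hj; rw [N₀, Matrix.mul_single_apply_same, mul_one, if_pos rfl]
    · rw [N₀, Matrix.mul_single_apply_of_ne _ _ _ _ _ hj, if_neg hj]
  have e2 : ∀ i j, (N₀ F k * g) i j = if i = L k then g (R k) j else 0 := fun i j => by
    by_cases hi : i = L k
    · subst hi; rw [N₀, Matrix.single_mul_apply_same, one_mul, if_pos rfl]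
    · rw [N₀, Matrix.single_mul_apply_of_ne _ _ _ _ _ hi, if_neg hi]
  rw [h, ← Matrix.ext_iff]
  simp only [e1, e2]
  constructor
  · intro hg
    ext i j
    rcases i with ⟨⟩ | i | ⟨⟩ <;> rcases j with ⟨⟩ | j | ⟨⟩
    all_goals simp only [build, Matrix.fromBlocks_apply₁₁, Matrix.fromBlocks_apply₁₂, Matrix.fromBlocks_apply₂₁,
      Matrix.fromBlocks_apply₂₂, Matrix.of_apply, Matrix.submatrix_apply, Function.comp_apply, Matrix.zero_apply,
      Sum.elim_inl, Sum.elim_inr]
    · have h1 := hg (Sum.inr (Sum.inl i)) (R k); simpa [L] using h1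
    · have h1 := hg (R k) (R k); simpa [L, R] using h1
    · have h1 := hg (L k) (Sum.inr (Sum.inl j)); simpa [L, R] using h1.symm
    · have h1 := hg (L k) (R k); simpa [L, R] using h1.symm
  · intro hg i j
    rw [hg]
    rcases i with ⟨⟩ | i | ⟨⟩ <;> rcases j with ⟨⟩ | j | ⟨⟩ <;> simp [build, L, R]

theorem centralizer_coe {g : GL (M k) F} :
    g ∈ Subgroup.centralizer ({T₀ F k} : Set (GL (M k) F)) ↔ Commute (g : Matrix (M k) (M k) F) (1 + N₀ F k) := by
  rw [Subgroup.mem_centralizer_singleton_iff]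
  exact ⟨fun h => congrArg Units.val h, fun h => Units.ext h⟩

/-- The centraliser of the model transvection. -/
theorem card_centralizer_model [Finite F] :
    Nat.card ↥(Subgroup.centralizer ({T₀ F k} : Set (GL (M k) F)))
      = (Nat.card F - 1) * (Nat.card (GL (Fin k) F) * (Nat.card F ^ k * (Nat.card F ^ k * Nat.card F))) := by
  classical
  let f : Fˣ × GL (Fin k) F × (Fin k → F) × (Fin k → F) × F → ↥(Subgroup.centralizer ({T₀ F k} : Set (GL (M k) F))) :=
    fun x => ⟨Matrix.GeneralLinearGroup.mkOfDetNeZero (build (x.1 : F) x.2.1 x.2.2.1 x.2.2.2.1 x.2.2.2.2)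
        (by rw [det_build]; exact mul_ne_zero x.1.ne_zero (mul_ne_zero x.2.1.det_ne_zero x.1.ne_zero)),
      centralizer_coe.2 ((commute_iff _).2 (by
        ext i j; rcases i with ⟨⟩ | i | ⟨⟩ <;> rcases j with ⟨⟩ | j | ⟨⟩ <;>
          simp [Matrix.GeneralLinearGroup.mkOfDetNeZero, build, L, R]))⟩
  have hf : Function.Bijective f := by
    refine ⟨fun x y hxy => ?_, fun g => ?_⟩
    · have h : build (x.1 : F) x.2.1 x.2.2.1 x.2.2.2.1 x.2.2.2.2 = build (y.1 : F) y.2.1 y.2.2.1 y.2.2.2.1 y.2.2.2.2 :=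
        congrArg (fun g : ↥(Subgroup.centralizer ({T₀ F k} : Set (GL (M k) F))) => (g.1 : Matrix (M k) (M k) F)) hxy
      obtain ⟨c, A, r, col, s⟩ := x
      obtain ⟨c', A', r', col', s'⟩ := y
      have h1 : (c : F) = c' := congrFun (congrFun h (L k)) (L k)
      have h2 : (A : Matrix (Fin k) (Fin k) F) = A' :=
        Matrix.ext fun i j => congrFun (congrFun h (Sum.inr (Sum.inl i))) (Sum.inr (Sum.inl j))
      have h3 : r = r' := funext fun j => congrFun (congrFun h (L k)) (Sum.inr (Sum.inl j))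
      have h4 : col = col' := funext fun i => congrFun (congrFun h (Sum.inr (Sum.inl i))) (R k)
      have h5 : s = s' := congrFun (congrFun h (L k)) (R k)
      rw [Units.ext h1, Units.ext h2, h3, h4, h5]
    · have hg := (commute_iff _).1 (centralizer_coe.1 g.2)
      have hd := g.1.det_ne_zero
      rw [hg, det_build, mul_ne_zero_iff, mul_ne_zero_iff] at hd
      exact ⟨(Units.mk0 _ hd.1, Matrix.GeneralLinearGroup.mkOfDetNeZero _ hd.2.1, _, _, _),
        Subtype.ext (Units.ext hg.symm)⟩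
  rw [← Nat.card_congr (Equiv.ofBijective f hf), Nat.card_prod, Nat.card_prod, Nat.card_prod, Nat.card_prod,
    Nat.card_fun, Nat.card_fin, Nat.card_units]

theorem exists_det_model (hk : 1 ≤ k) (d : Fˣ) :
    ∃ g ∈ Subgroup.centralizer ({T₀ F k} : Set (GL (M k) F)), (g : Matrix (M k) (M k) F).det = d := by
  classical
  let A : Matrix (Fin k) (Fin k) F := Matrix.diagonal (Function.update (fun _ => (1 : F)) ⟨0, by omega⟩ (d : F))
  have hA : A.det = d := by rw [Matrix.det_diagonal, Finset.prod_update_of_mem (Finset.mem_univ _)]; simp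
  have hdet : (build 1 A 0 0 0).det = (d : F) := by rw [det_build, hA]; ring
  refine ⟨Matrix.GeneralLinearGroup.mkOfDetNeZero _ (hdet ▸ d.ne_zero), centralizer_coe.2 ((commute_iff _).2 ?_), hdet⟩
  ext i j
  rcases i with ⟨⟩ | i | ⟨⟩ <;> rcases j with ⟨⟩ | j | ⟨⟩ <;>
    simp [Matrix.GeneralLinearGroup.mkOfDetNeZero, build, L, R]

/-- Reindexing of general linear groups. -/
def reGL {ι κ : Type} [Fintype ι] [DecidableEq ι] [Fintype κ] [DecidableEq κ] (σ : ι ≃ κ) : GL ι F ≃* GL κ F :=
  Units.mapEquiv (Matrix.reindexAlgEquiv F F σ).toMulEquiv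

/-- Every transvection is conjugate to the model. -/
theorem exists_conj {n : ℕ} (σ : M k ≃ Fin n) (t : GL (Fin n) F)
    (ht : Cfsg.IsTransvection (t : Matrix (Fin n) (Fin n) F)) :
    ∃ g : GL (Fin n) F, t = g * reGL σ (T₀ F k) * g⁻¹ := by
  classical
  obtain ⟨hr, hsq⟩ := ht
  set N := (t : Matrix (Fin n) (Fin n) F) - 1 with hN
  have hr' : finrank F (LinearMap.range N.mulVecLin) = 1 := hr
  obtain ⟨a', ha0, hspan⟩ := finrank_eq_one_iff'.1 hr'
  obtain ⟨a, ha⟩ := a'
  have ha0' : a ≠ 0 := fun h => ha0 (Subtype.ext h)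
  choose φ hφ using fun x => hspan ⟨N.mulVecLin x, x, rfl⟩
  have hφ' : ∀ x, φ x • a = N *ᵥ x := fun x => congrArg Subtype.val (hφ x)
  let Φ : (Fin n → F) →ₗ[F] F :=
    { toFun := φ
      map_add' := fun x y => smul_left_injective F ha0'
        (show φ (x + y) • a = (φ x + φ y) • a by rw [add_smul, hφ', hφ', hφ', Matrix.mulVec_add])
      map_smul' := fun c x => smul_left_injective F ha0'
        (show φ (c • x) • a = (c * φ x) • a by rw [mul_smul, hφ', hφ', Matrix.mulVec_smul]) }
  obtain ⟨x₀, hx₀⟩ := ha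
  have hΦa : Φ a = 0 := smul_left_injective F ha0' (by
    show φ a • a = (0 : F) • a
    rw [zero_smul, hφ', ← hx₀, Matrix.mulVecLin_apply, Matrix.mulVec_mulVec, hsq, Matrix.zero_mulVec])
  have hΦ1 : Φ x₀ = 1 := smul_left_injective F ha0' (by
    show φ x₀ • a = (1 : F) • a
    rw [one_smul, hφ']; exact hx₀)
  obtain ⟨C, hC⟩ := Submodule.exists_isCompl (Submodule.span F {(⟨a, hΦa⟩ : LinearMap.ker Φ)})
  have hn : n = k + 2 := by
    have := Fintype.card_congr σ
    simp [M] at this; omega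
  have hCdim : finrank F C = k := by
    have h1 := Submodule.finrank_add_eq_of_isCompl hC
    have h2 := Φ.finrank_range_add_finrank_ker
    rw [LinearMap.range_eq_top.2 (fun c => ⟨c • x₀, by rw [map_smul, hΦ1, smul_eq_mul, mul_one]⟩), finrank_top,
      Module.finrank_self, Module.finrank_fin_fun] at h2
    rw [finrank_span_singleton (fun h => ha0' (congrArg Subtype.val h))] at h1
    omega
  haveI : Module.Free F C := Module.Free.of_divisionRing F C
  let b : Module.Basis (Fin k) F C := Module.finBasisOfFinrankEq F C hCdim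
  let G : (M k → F) →ₗ[F] (Fin n → F) :=
    { toFun := fun x => x (L k) • a + ((b.equivFun.symm (fun i => x (Sum.inr (Sum.inl i))) : C) : LinearMap.ker Φ).1
        + x (R k) • x₀
      map_add' := fun x y => by
        simp only [Pi.add_apply, add_smul]
        rw [show (fun i => x (Sum.inr (Sum.inl i)) + y (Sum.inr (Sum.inl i)))
          = (fun i => x (Sum.inr (Sum.inl i))) + fun i => y (Sum.inr (Sum.inl i)) from rfl, map_add]
        simp only [Submodule.coe_add]
        abel
      map_smul' := fun c x => by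
        simp only [Pi.smul_apply, smul_eq_mul, mul_smul, RingHom.id_apply, smul_add]
        rw [show (fun i => c * x (Sum.inr (Sum.inl i))) = c • fun i => x (Sum.inr (Sum.inl i)) from rfl, map_smul]
        simp only [SetLike.val_smul] }
  have hGΦ : ∀ x, Φ (G x) = x (R k) := fun x => by
    show Φ (_ + _ + _) = _
    rw [map_add, map_add, map_smul, map_smul, hΦa, hΦ1,
      LinearMap.mem_ker.1 ((b.equivFun.symm (fun i => x (Sum.inr (Sum.inl i))) : C) : LinearMap.ker Φ).2]
    simp
  have hGinj : Function.Injective G := by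
    rw [← LinearMap.ker_eq_bot, LinearMap.ker_eq_bot']
    intro x hx
    have h1 := hGΦ x
    rw [hx, map_zero] at h1
    set y := b.equivFun.symm (fun i => x (Sum.inr (Sum.inl i))) with hy
    have h2 : x (L k) • (⟨a, hΦa⟩ : LinearMap.ker Φ) + (y : LinearMap.ker Φ) = 0 := Subtype.ext (by
      have h3 : G x = 0 := hx
      show x (L k) • a + ((y : C) : LinearMap.ker Φ).1 = 0
      change _ + _ + x (R k) • x₀ = 0 at h3
      rwa [← h1, zero_smul, add_zero] at h3)
    have h4 : (y : LinearMap.ker Φ) ∈ (Submodule.span F {(⟨a, hΦa⟩ : LinearMap.ker Φ)}) ⊓ C :=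
      ⟨by rw [eq_neg_of_add_eq_zero_right h2]; exact neg_mem (Submodule.smul_mem _ _ (Submodule.mem_span_singleton_self _)), y.2⟩
    rw [hC.inf_eq_bot, Submodule.mem_bot] at h4
    rw [h4, add_zero] at h2
    have hL := (smul_eq_zero.1 h2).resolve_right (fun h => ha0' (congrArg Subtype.val h))
    have hm : (fun i => x (Sum.inr (Sum.inl i))) = 0 := by
      apply b.equivFun.symm.injective
      rw [map_zero]; exact Subtype.ext h4
    funext i
    rcases i with ⟨⟩ | i | ⟨⟩
    · exact hL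
    · exact congrFun hm i
    · exact h1.symm
  let e : (M k → F) ≃ₗ[F] (Fin n → F) := LinearMap.linearEquivOfInjective G hGinj (by simp [M, hn]; omega)
  have he : ∀ x, N *ᵥ e x = e (N₀ F k *ᵥ x) := fun x => by
    show N *ᵥ G x = G _
    have hs : N₀ F k *ᵥ x = Pi.single (L k) (x (R k)) := by
      funext i
      simp [N₀, Matrix.single_mulVec, Pi.single_apply, Function.update_apply]
    rw [← hφ', show φ (G x) = x (R k) from hGΦ x, hs]
    simp only [G, LinearMap.coe_mk, AddHom.coe_mk]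
    have h0 : (fun i : Fin k => (Pi.single (L k) (x (R k)) : M k → F) (Sum.inr (Sum.inl i))) = 0 :=
      funext fun i => by simp [L]
    rw [h0, map_zero, Pi.single_eq_same, Pi.single_eq_of_ne (by simp [L, R])]
    simp
  let E : (Fin n → F) ≃ₗ[F] (Fin n → F) := (LinearEquiv.funCongrLeft F F σ).trans e
  let g : GL (Fin n) F := ⟨LinearMap.toMatrix' (E : (Fin n → F) →ₗ[F] (Fin n → F)),
    LinearMap.toMatrix' (E.symm : (Fin n → F) →ₗ[F] (Fin n → F)),
    by rw [← LinearMap.toMatrix'_comp]; simp, by rw [← LinearMap.toMatrix'_comp]; simp⟩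
  refine ⟨g, eq_mul_inv_iff_mul_eq.2 (Units.ext (Matrix.ext_of_mulVec_single fun i => ?_))⟩
  set v : Fin n → F := Pi.single i 1
  show ((t : Matrix (Fin n) (Fin n) F) * (g : Matrix (Fin n) (Fin n) F)) *ᵥ v = ((g : Matrix (Fin n) (Fin n) F) * _) *ᵥ v
  rw [← Matrix.mulVec_mulVec, ← Matrix.mulVec_mulVec]
  show _ *ᵥ (LinearMap.toMatrix' _ *ᵥ v) = LinearMap.toMatrix' _ *ᵥ _
  rw [LinearMap.toMatrix'_mulVec, LinearMap.toMatrix'_mulVec,
    show (t : Matrix (Fin n) (Fin n) F) = N + 1 from (sub_add_cancel _ _).symm, Matrix.add_mulVec, Matrix.one_mulVec]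
  show N *ᵥ e (v ∘ σ) + e (v ∘ σ) = e _
  rw [he, ← map_add]
  congr 1
  show _ = ((1 + N₀ F k).submatrix σ.symm σ.symm *ᵥ v) ∘ σ
  rw [Matrix.submatrix_mulVec_equiv, Equiv.symm_symm, Matrix.add_mulVec, Matrix.one_mulVec]
  funext j
  simp [add_comm]

end Cfsg.Agent.LBTransv

namespace Cfsg.Agent.LBTransv

open Matrix

variable {F : Type*} [Field F] {k : ℕ}

/-- The standard bijection. -/
def sigma (k : ℕ) : M k ≃ Fin (1 + (k + 1)) :=
  ((Equiv.sumCongr finOneEquiv.symm ((Equiv.sumCongr (Equiv.refl _) finOneEquiv.symm).trans finSumFinEquiv)).trans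
    finSumFinEquiv)

theorem card_centralizer [Fintype F] {n : ℕ} (hn : n = 1 + (k + 1)) (t : GL (Fin n) F)
    (ht : Cfsg.IsTransvection (t : Matrix (Fin n) (Fin n) F)) :
    Nat.card ↥(Subgroup.centralizer ({t} : Set (GL (Fin n) F))) = Fintype.card F ^ (2 * k + 1) *
      (Fintype.card F - 1) * ∏ i : Fin k, (Fintype.card F ^ k - Fintype.card F ^ (i : ℕ)) := by
  subst hn
  obtain ⟨g, hg⟩ := exists_conj (sigma k) t ht
  let Ψ : GL (M k) F ≃* GL (Fin (1 + (k + 1))) F := (reGL (sigma k)).trans (MulAut.conj g)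
  have hΨ : Ψ (T₀ F k) = t := hg.symm
  have e : ↥(Subgroup.centralizer ({T₀ F k} : Set (GL (M k) F))) ≃ ↥(Subgroup.centralizer ({t} : Set (GL (Fin (1 + (k + 1))) F))) :=
    Ψ.toEquiv.subtypeEquiv fun x => by
      rw [Subgroup.mem_centralizer_singleton_iff, Subgroup.mem_centralizer_singleton_iff]
      show x * T₀ F k = T₀ F k * x ↔ Ψ x * t = t * Ψ x
      rw [← hΨ, ← map_mul, ← map_mul, Ψ.injective.eq_iff]
  rw [← Nat.card_congr e, card_centralizer_model, Matrix.card_GL_field, Nat.card_eq_fintype_card]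
  ring

theorem isConj_sl [Finite F] {n : ℕ} (hn : n = 1 + (k + 1)) (hk : 1 ≤ k) (s t : Matrix.SpecialLinearGroup (Fin n) F)
    (hs : Cfsg.IsTransvection (s : Matrix (Fin n) (Fin n) F)) (ht : Cfsg.IsTransvection (t : Matrix (Fin n) (Fin n) F)) :
    IsConj s t := by
  subst hn
  let ι' : Matrix.SpecialLinearGroup (Fin (1 + (k + 1))) F →* GL (Fin (1 + (k + 1))) F := Matrix.SpecialLinearGroup.toGL
  obtain ⟨g, hg⟩ := exists_conj (sigma k) (ι' s) hs
  obtain ⟨h, hh⟩ := exists_conj (sigma k) (ι' t) ht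
  obtain ⟨z, hz, hzd⟩ := exists_det_model hk
    (Units.mk0 _ (mul_ne_zero (inv_ne_zero h.det_ne_zero) g.det_ne_zero) : Fˣ)
  let T := reGL (sigma k) (T₀ F k)
  have hzT : reGL (sigma k) z * T = T * reGL (sigma k) z := by
    rw [← map_mul, Subgroup.mem_centralizer_singleton_iff.1 hz, map_mul]
  have hzd' : ((reGL (sigma k) z : GL (Fin (1 + (k + 1))) F) : Matrix (Fin (1 + (k + 1))) (Fin (1 + (k + 1))) F).det
      = h.1.det⁻¹ * g.1.det := by
    show (Matrix.reindex (sigma k) (sigma k) z.1).det = _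
    rw [Matrix.det_reindex_self, hzd]
    rfl
  have hdet : (h * reGL (sigma k) z * g⁻¹ : GL (Fin (1 + (k + 1))) F).1.det = 1 := by
    rw [Units.val_mul, Units.val_mul, Matrix.det_mul, Matrix.det_mul, hzd', Matrix.coe_units_inv, Matrix.det_nonsing_inv,
      Ring.inverse_eq_inv']
    have := h.det_ne_zero
    have := g.det_ne_zero
    field_simp
  let c : Matrix.SpecialLinearGroup (Fin (1 + (k + 1))) F := ⟨_, hdet⟩
  refine isConj_iff.2 ⟨c, Matrix.SpecialLinearGroup.toGL_injective ?_⟩
  show ι' (c * s * c⁻¹) = ι' t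
  rw [map_mul, map_mul, map_inv, show ι' c = h * reGL (sigma k) z * g⁻¹ from Units.ext rfl, hg, hh]
  calc h * reGL (sigma k) z * g⁻¹ * (g * T * g⁻¹) * (h * reGL (sigma k) z * g⁻¹)⁻¹
      = h * (reGL (sigma k) z * T) * (reGL (sigma k) z)⁻¹ * h⁻¹ := by group
    _ = h * T * h⁻¹ := by rw [hzT]; group

end Cfsg.Agent.LBTransv
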