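/-
PSU_3(q) in odd characteristic p: a p-local subgroup is soluble with derived group a p-group, hence no Qd(p) section.
-/
import Cfsg.Agent.Lib.Classical.HermSU
import Cfsg.Agent.Lib.Qd.LocalSL
import Mathlib.FieldTheory.Finite.Basic
import Mathlib.NumberTheory.SumTwoSquares

set_option autoImplicit false

namespace Cfsg.Agent.UnitaryQd

open Matrix Hermitian Module

/-- A p-group of automorphisms of an invariant non-zero subspace fixes a non-zero vector of it. -/
theorem exists_fixed {p : ℕ} [hp : Fact p.Prime] {K : Type*} [Field K] [Fintype K] [CharP K p] {G : Type*} [Group G]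
    (hG : IsPGroup p G) (ρ : G →* Matrix (Fin 3) (Fin 3) K) (U : Submodule K (Fin 3 → K)) (hU : U ≠ ⊥)
    (hinv : ∀ g, ∀ u ∈ U, ρ g *ᵥ u ∈ U) : ∃ u ∈ U, u ≠ 0 ∧ ∀ g, ρ g *ᵥ u = u := by
  let inst : MulAction G U :=
    { smul := fun g u => ⟨ρ g *ᵥ u.1, hinv g u.1 u.2⟩
      one_smul := fun u => Subtype.ext (show ρ 1 *ᵥ u.1 = u.1 by rw [map_one, Matrix.one_mulVec])
      mul_smul := fun g h u => Subtype.ext (show ρ (g * h) *ᵥ u.1 = ρ g *ᵥ ρ h *ᵥ u.1 by
        rw [map_mul, Matrix.mulVec_mulVec]) }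
  have hdvd : p ∣ Nat.card U := by
    obtain ⟨n, -, hn⟩ := FiniteField.card K p
    have hpos : 0 < finrank K U := Nat.pos_of_ne_zero fun h => hU (Submodule.finrank_eq_zero.1 h)
    rw [Module.natCard_eq_pow_finrank (K := K) (V := U), Nat.card_eq_fintype_card, hn]
    exact dvd_pow (dvd_pow_self p n.2.ne') hpos.ne'
  have hz : (0 : U) ∈ MulAction.fixedPoints G U := fun g => Subtype.ext (Matrix.mulVec_zero (ρ g))
  obtain ⟨b, hb, hb0⟩ := hG.exists_fixed_point_of_prime_dvd_card_of_fixed_point U hdvd hz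
  exact ⟨b.1, b.2, fun h => hb0 (Subtype.ext h.symm), fun g => congrArg Subtype.val (hb g)⟩

variable {p : ℕ} [hp : Fact p.Prime] {K : Type*} [Field K] [Fintype K] [CharP K p] {q : ℕ}
  {σ : K →+* K} (hne : σ ≠ RingHom.id K) (hinv : ∀ a, σ (σ a) = a) (hσ : ∀ x, σ x = x ^ q)

local notation "H" => Cfsg.hermForm 3 K q
local notation "V" => (Fin 3 → K)

include hne hinv hσ

omit hp [Fintype K] in
/-- A special unitary map fixing a singular vector is unipotent. -/
theorem unipotent_of_fix (hp3 : 3 ≤ p) [Fact p.Prime] (c : ↥(Cfsg.SU 3 K q)) {e : V} (he : e ≠ 0)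
    (hee : H e e = 0) (hc : c.1.1 *ᵥ e = e) : c ^ p = 1 := by
  have hh := HermStd.isHerm_std hne hinv hσ 3
  obtain ⟨f, hf⟩ : ∃ f, H f e ≠ 0 := by
    by_contra hall
    push Not at hall
    exact he (hh.nondeg e fun w => hh.eq_zero_comm.1 (hall w))
  let φ : V →ₗ[K] K := hh.form e
  have hφ : ∀ x, φ x = H x e := fun x => hh.form_apply e x
  obtain ⟨u, hu, hue⟩ : ∃ u, H u e = 0 ∧ u ∉ Submodule.span K ({e} : Set V) := by
    by_contra hall
    push Not at hall
    have h1 : LinearMap.ker φ ≤ Submodule.span K ({e} : Set V) := fun x hx => hall x (by rw [← hφ]; exact hx)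
    have h3 := Submodule.finrank_mono h1
    rw [finrank_span_singleton he] at h3
    have h4 := LinearMap.finrank_range_add_finrank_ker φ
    have h5 := Submodule.finrank_le (LinearMap.range φ)
    rw [Module.finrank_self] at h5
    rw [Module.finrank_fintype_fun_eq_card, Fintype.card_fin] at h4
    omega
  have hli : LinearIndependent K ![e, u, f] := by
    rw [Fintype.linearIndependent_iff]
    intro g hg
    simp only [Fin.sum_univ_three, Matrix.cons_val_zero, Matrix.cons_val_one, Matrix.cons_val_two,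
      Matrix.tail_cons, Matrix.head_cons] at hg
    have h := congrArg (fun x => H x e) hg
    simp only [hh.add_left, hh.smul_left, hee, hu, mul_zero, zero_add, hh.zero_left] at h
    have h2 : g 2 = 0 := (mul_eq_zero.1 h).resolve_right hf
    rw [h2, zero_smul, add_zero] at hg
    have h1 : g 1 = 0 := by
      by_contra h1
      refine hue (Submodule.mem_span_singleton.2 ⟨-(g 1)⁻¹ * g 0, ?_⟩)
      have hg' : g 0 • e = -(g 1 • u) := eq_neg_of_add_eq_zero_left hg
      rw [mul_smul, hg', smul_neg, smul_smul, ← neg_smul]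
      simp [h1]
    rw [h1, zero_smul, add_zero] at hg
    intro i
    fin_cases i
    exacts [(smul_eq_zero.1 hg).resolve_right he, h1, h2]
  let b : Basis (Fin 3) K V := Basis.mk hli (hli.span_eq_top_of_card_eq_finrank' (by simp)).ge
  have hb : ∀ i, b i = ![e, u, f] i := fun i => Basis.mk_apply _ _ i
  have hb0 : b 0 = e := by rw [hb]; rfl
  have hb1 : b 1 = u := by rw [hb]; rfl
  have hb2 : b 2 = f := by rw [hb]; rfl
  have hpres : ∀ x, H (c.1.1 *ᵥ x) e = H x e := fun x => by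
    have h := c.2 x e
    change H (c.1.1 *ᵥ x) (c.1.1 *ᵥ e) = H x e at h
    rwa [hc] at h
  have hcoord : ∀ x, H x e = b.repr x 2 * H f e := fun x => by
    conv_lhs => rw [← b.sum_repr x]
    rw [hh.sum_left, Fin.sum_univ_three, hh.smul_left, hh.smul_left, hh.smul_left, hb0, hb1, hb2, hee, hu]
    ring
  let M := LinearMap.toMatrix b b (Matrix.toLin' c.1.1)
  have hM : ∀ i j, M i j = b.repr (c.1.1 *ᵥ b j) i := fun i j => by
    simp [M, LinearMap.toMatrix_apply]
  have e0 : c.1.1 *ᵥ b 0 = b 0 := by rw [hb0, hc]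
  have m00 : M 0 0 = 1 := by rw [hM, e0]; simp
  have m10 : M 1 0 = 0 := by rw [hM, e0]; simp
  have m20 : M 2 0 = 0 := by rw [hM, e0]; simp
  have m21 : M 2 1 = 0 := by
    rw [hM, hb1]
    refine (mul_eq_zero.1 ?_).resolve_right hf
    rw [← hcoord, hpres, hu]
  have m22 : M 2 2 = 1 := by
    rw [hM, hb2]
    refine mul_right_cancel₀ hf ?_
    rw [← hcoord, hpres, one_mul]
  have m11 : M 1 1 = 1 := by
    have h : M.det = 1 := by
      rw [LinearMap.det_toMatrix b, LinearMap.det_toLin']; exact c.1.2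
    rw [Matrix.det_fin_three, m00, m10, m20, m21, m22] at h
    linear_combination h
  have h3 : (M - 1) ^ 3 = 0 := by
    ext i j
    fin_cases i <;> fin_cases j <;>
      simp [pow_succ, Matrix.mul_apply, Fin.sum_univ_three, m00, m10, m20, m11, m21, m22]
  have hMp : M ^ p = 1 := by
    have hcp : (M - 1) ^ p = M ^ p - 1 := by
      rw [sub_pow_char_of_commute p (Commute.one_right M), one_pow]
    rw [← sub_eq_zero, ← hcp, show p = 3 + (p - 3) by omega, pow_add, h3, zero_mul]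
  refine Subtype.ext (Subtype.ext ?_)
  apply (Matrix.toLinAlgEquiv' (R := K) (n := Fin 3)).injective
  apply (LinearMap.toMatrixAlgEquiv b).injective
  rw [SubmonoidClass.coe_pow, Matrix.SpecialLinearGroup.coe_pow, map_pow, map_pow]
  show M ^ p = _
  rw [hMp, OneMemClass.coe_one, Matrix.SpecialLinearGroup.coe_one, map_one, map_one]

/-- An invariant singular line. -/
theorem exists_singular {G : Type*} [Group G] (hG : IsPGroup p G) (ρ : G →* ↥(Cfsg.SU 3 K q))
    (hρ : ∃ g, ρ g ≠ 1) : ∃ e : V, e ≠ 0 ∧ H e e = 0 ∧ ∀ h : ↥(Cfsg.SU 3 K q),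
      (∀ g, ∃ g', h⁻¹ * ρ g * h = ρ g') → ∃ a : K, h.1.1 *ᵥ e = a • e := by
  have hh := HermStd.isHerm_std hne hinv hσ 3
  let W : Submodule K V :=
    { carrier := {v | ∀ g, (ρ g).1.1 *ᵥ v = v}
      add_mem' := fun ha hb g => by rw [Matrix.mulVec_add, ha g, hb g]
      zero_mem' := fun g => Matrix.mulVec_zero _
      smul_mem' := fun c v hv g => by rw [Matrix.mulVec_smul, hv g] }
  let T : Submodule K V :=
    { carrier := {v | ∀ w ∈ W, H v w = 0}
      add_mem' := fun ha hb w hw => by rw [hh.add_left, ha w hw, hb w hw, add_zero]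
      zero_mem' := fun w _ => hh.zero_left w
      smul_mem' := fun c v hv w hw => by rw [hh.smul_left, hv w hw, mul_zero] }
  have hWtop : W ≠ ⊤ := by
    intro h
    obtain ⟨g, hg⟩ := hρ
    refine hg (Subtype.ext (Subtype.ext (Matrix.ext_iff_mulVec.2 fun v => ?_)))
    show (ρ g).1.1 *ᵥ v = (1 : Matrix (Fin 3) (Fin 3) K) *ᵥ v
    rw [Matrix.one_mulVec]; exact (h.symm ▸ Submodule.mem_top : v ∈ W) g
  have hT : T ≠ ⊥ := by
    obtain ⟨φ, hφ0, hφ⟩ := Submodule.exists_dual_map_eq_bot_of_lt_top (lt_top_iff_ne_top.2 hWtop) inferInstance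
    obtain ⟨d, hd⟩ := hh.exists_form_eq φ
    intro h
    have hdT : d ∈ T := fun w hw => by
      rw [hh.eq_zero_comm, hd]
      exact (Submodule.mem_bot K).1 (hφ ▸ Submodule.mem_map_of_mem hw)
    rw [h, Submodule.mem_bot] at hdT
    exact hφ0 (LinearMap.ext fun v => by rw [← hd, hdT, hh.zero_right]; rfl)
  let ρ' : G →* Matrix (Fin 3) (Fin 3) K :=
    { toFun := fun g => (ρ g).1.1
      map_one' := by rw [map_one]; rfl
      map_mul' := fun a b => by rw [map_mul]; rfl }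
  obtain ⟨e, heT, he0, heW⟩ := exists_fixed hG ρ' T hT fun g v hv w hw => by
    rw [← hw g]
    exact ((ρ g).2 v w).trans (hv w hw)
  have hee : H e e = 0 := heT e heW
  refine ⟨e, he0, hee, fun h hh' => ?_⟩
  have hmov : ∀ v ∈ W, h.1.1 *ᵥ v ∈ W := fun v hv g => by
    obtain ⟨g', hg'⟩ := hh' g
    have h1 : ρ g * h = h * ρ g' := by rw [← hg']; group
    have h3 := congrArg (fun z : ↥(Cfsg.SU 3 K q) => z.1.1 *ᵥ v) h1
    simp only [Subgroup.coe_mul, Matrix.SpecialLinearGroup.coe_mul, ← Matrix.mulVec_mulVec] at h3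
    rwa [hv g'] at h3
  have hinj : Function.Injective fun v : V => h.1.1 *ᵥ v := fun a b hab => by
    have hab' : h.1.1 *ᵥ a = h.1.1 *ᵥ b := hab
    have := congrArg (fun v => (h⁻¹).1.1 *ᵥ v) hab'
    have hid : (h⁻¹).1.1 * h.1.1 = 1 := congrArg (fun z : ↥(Cfsg.SU 3 K q) => z.1.1) (inv_mul_cancel h)
    simp only [Matrix.mulVec_mulVec] at this
    rw [hid, Matrix.one_mulVec, Matrix.one_mulVec] at this
    exact this
  have hsurj : ∀ w ∈ W, ∃ v ∈ W, h.1.1 *ᵥ v = w := fun w hw => by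
    have hi : Function.Injective fun v : W => (⟨h.1.1 *ᵥ v.1, hmov v.1 v.2⟩ : W) := fun a b hab =>
      Subtype.ext (hinj (congrArg Subtype.val hab))
    obtain ⟨v, hv⟩ := Finite.injective_iff_surjective.1 hi ⟨w, hw⟩
    exact ⟨v.1, v.2, congrArg Subtype.val hv⟩
  have hw1 : h.1.1 *ᵥ e ∈ W := hmov e heW
  by_contra hall
  push Not at hall
  let ψ : V →ₗ[K] K × K := (hh.form e).prod (hh.form (h.1.1 *ᵥ e))
  have hψ : Function.Surjective ψ := by
    by_contra hns
    rw [← LinearMap.range_eq_top] at hns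
    obtain ⟨φ, hφ0, hφ⟩ := Submodule.exists_dual_map_eq_bot_of_lt_top (lt_top_iff_ne_top.2 hns) inferInstance
    have hz : ∀ x, H x e * φ (1, 0) + H x (h.1.1 *ᵥ e) * φ (0, 1) = 0 := fun x => by
      have h1 : φ (ψ x) = 0 := (Submodule.mem_bot K).1 (hφ ▸ Submodule.mem_map_of_mem ⟨x, rfl⟩)
      have h3 : ψ x = H x e • ((1, 0) : K × K) + H x (h.1.1 *ᵥ e) • ((0, 1) : K × K) := by
        simp [ψ, hh.form_apply]
      rwa [h3, map_add, map_smul, map_smul, smul_eq_mul, smul_eq_mul] at h1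
    have hv : σ (φ (1, 0)) • e + σ (φ (0, 1)) • (h.1.1 *ᵥ e) = 0 := hh.nondeg _ fun x => by
      rw [hh.eq_zero_comm, hh.add_right, hh.smul_right, hh.smul_right, hinv, hinv]
      linear_combination hz x
    by_cases hb : φ (0, 1) = 0
    · rw [hb, map_zero, zero_smul, add_zero, smul_eq_zero, map_eq_zero] at hv
      refine hφ0 (LinearMap.ext fun x => ?_)
      have hx : x = x.1 • ((1, 0) : K × K) + x.2 • ((0, 1) : K × K) := by simp
      rw [hx, map_add, map_smul, map_smul, hb, hv.resolve_right he0]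
      simp
    · have hb' : σ (φ (0, 1)) ≠ 0 := (map_ne_zero σ).2 hb
      refine hall (-(σ (φ (0, 1)))⁻¹ * σ (φ (1, 0))) ?_
      have h1 := congrArg (fun v : V => (σ (φ (0, 1)))⁻¹ • v) hv
      simp only [smul_add, smul_smul, inv_mul_cancel₀ hb', one_smul, smul_zero] at h1
      rw [eq_neg_of_add_eq_zero_right h1, ← neg_smul, neg_mul]
  have hker : LinearMap.ker ψ ≤ Submodule.span K ({e} : Set V) := by
    have h4 := LinearMap.finrank_range_add_finrank_ker ψ
    rw [LinearMap.range_eq_top.2 hψ, finrank_top, Module.finrank_prod, Module.finrank_self,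
      Module.finrank_fintype_fun_eq_card, Fintype.card_fin] at h4
    have hs : Submodule.span K ({e} : Set V) ≤ LinearMap.ker ψ := by
      rw [Submodule.span_singleton_le_iff_mem, LinearMap.mem_ker]
      simp [ψ, hh.form_apply, hee, heT _ hw1]
    exact (Submodule.eq_of_le_of_finrank_le hs (by rw [finrank_span_singleton he0]; omega)).ge
  have hmem : h.1.1 *ᵥ e ∈ LinearMap.ker ψ := by
    rw [LinearMap.mem_ker]
    show (H (h.1.1 *ᵥ e) e, H (h.1.1 *ᵥ e) (h.1.1 *ᵥ e)) = 0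
    exact Prod.ext (hh.eq_zero_comm.1 (heT _ hw1)) ((h.2 e e).trans hee)
  obtain ⟨a, ha⟩ := Submodule.mem_span_singleton.1 (hker hmem)
  exact hall a ha.symm

/-- The derived subgroup of a p-local subgroup of PSU_3 has exponent p. -/
theorem commutator_pow (hp2 : p ≠ 2) (hfix : Nat.card (fixed σ) = q) (P : Subgroup (Cfsg.PSU 3 K q))
    (hP : IsPGroup p P) (hP1 : P ≠ ⊥) (x y : Cfsg.PSU 3 K q) (hx : x ∈ Subgroup.normalizer (P : Set _))
    (hy : y ∈ Subgroup.normalizer (P : Set _)) : (x * y * x⁻¹ * y⁻¹) ^ p = 1 := by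
  classical
  have hp3 : 3 ≤ p := by have := hp.out.two_le; omega
  let π := QuotientGroup.mk' (Subgroup.center (Cfsg.SU 3 K q))
  have hπ : Function.Surjective π := QuotientGroup.mk'_surjective _
  let M : Subgroup (Cfsg.SU 3 K q) := P.comap π
  obtain ⟨S⟩ : Nonempty (Sylow p M) := inferInstance
  have hmem : ∀ g : M, (∃ k : ℕ, g ^ p ^ k = 1) → g ∈ S := by
    intro g hg
    let f : M →* P := π.subgroupComap P
    have hf : Function.Surjective f := MonoidHom.subgroupComap_surjective_of_surjective π P hπ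
    have htop : (S : Subgroup M).map f = ⊤ := by
      have h3 := (S.mapSurjective hf).3 (Q := (⊤ : Subgroup P)) (hP.to_subgroup ⊤) le_top
      exact h3.symm
    obtain ⟨s, hs, hsg⟩ : f g ∈ (S : Subgroup M).map f := htop ▸ Subgroup.mem_top _
    have hz : π ((s⁻¹ * g : M) : Cfsg.SU 3 K q) = 1 := by
      have h1 : f (s⁻¹ * g) = 1 := by rw [map_mul, map_inv, hsg, inv_mul_cancel]
      exact congrArg Subtype.val h1
    have hzc : ((s⁻¹ * g : M) : Cfsg.SU 3 K q) ∈ Subgroup.center (Cfsg.SU 3 K q) :=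
      (QuotientGroup.eq_one_iff _).1 hz
    obtain ⟨c, hc⟩ := HermSU.scalar_of_commute hne hinv hσ (n := 3) (by norm_num) hfix _ fun B hB =>
      congrArg (fun X : Cfsg.SU 3 K q => X.1.1) (Subgroup.mem_center_iff.1 hzc ⟨B, hB⟩).symm
    obtain ⟨k, hk⟩ := hg
    obtain ⟨j, hj⟩ := S.2 ⟨s, hs⟩
    have hsj : s ^ p ^ j = 1 := congrArg Subtype.val hj
    have hcomm : Commute s (s⁻¹ * g) := Subtype.ext (Subgroup.mem_center_iff.1 hzc s)
    have hpow : (s⁻¹ * g) ^ p ^ (j + k) = 1 := by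
      have h1 : s * (s⁻¹ * g) = g := mul_inv_cancel_left s g
      have h3 : g ^ p ^ (j + k) = 1 := by rw [pow_add, mul_comm, pow_mul, hk, one_pow]
      have h4 : s ^ p ^ (j + k) = 1 := by rw [pow_add, pow_mul, hsj, one_pow]
      rwa [← h1, hcomm.mul_pow, h4, one_mul] at h3
    have hcp : c ^ p ^ (j + k) = 1 := by
      have h1 := congrArg (fun X : M => X.1.1.1 0 0) hpow
      simp only [SubmonoidClass.coe_pow, Matrix.SpecialLinearGroup.coe_pow, hc, Matrix.diagonal_pow] at h1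
      simpa using h1
    have hc1 : c = 1 := by
      rw [← sub_eq_zero] at hcp ⊢
      rw [← one_pow (p ^ (j + k)), ← sub_pow_char_pow] at hcp
      exact pow_eq_zero_iff' |>.1 hcp |>.1
    have hone : s⁻¹ * g = 1 := by
      refine Subtype.ext (Subtype.ext (Subtype.ext ?_))
      rw [hc, hc1]; exact Matrix.diagonal_one
    rwa [← inv_mul_eq_one.1 hone]
  let ρ : S →* Cfsg.SU 3 K q := M.subtype.comp (S : Subgroup M).subtype
  have hρ : ∃ g, ρ g ≠ 1 := by
    by_contra hall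
    push Not at hall
    apply hP1
    rw [eq_bot_iff]
    intro a ha
    obtain ⟨b, rfl⟩ := hπ a
    obtain ⟨k, hk⟩ := hP ⟨π b, ha⟩
    have hpm : (⟨b, ha⟩ : M) ^ Nat.card M = 1 := pow_card_eq_one'
    obtain ⟨j, m, hm, hN⟩ := Nat.exists_eq_pow_mul_and_not_dvd (n := Nat.card M) Nat.card_pos.ne' p hp.out.ne_one
    have h1 : (⟨b, ha⟩ : M) ^ m ∈ S := hmem _ ⟨j, by rw [← pow_mul, mul_comm, ← hN, hpm]⟩
    have h3 : π b ^ m = 1 := by
      rw [← map_pow, show b ^ m = 1 from hall ⟨_, h1⟩, map_one]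
    have h4 : orderOf (π b) ∣ Nat.gcd (p ^ k) m := Nat.dvd_gcd
      (orderOf_dvd_of_pow_eq_one (congrArg Subtype.val hk)) (orderOf_dvd_of_pow_eq_one h3)
    rw [(((Nat.Prime.coprime_iff_not_dvd hp.out).2 hm).pow_left k).gcd_eq_one, Nat.dvd_one, orderOf_eq_one_iff] at h4
    exact Subgroup.mem_bot.2 h4
  obtain ⟨e, he0, hee, hline⟩ := exists_singular hne hinv hσ S.2 ρ hρ
  have hlift : ∀ z, z ∈ Subgroup.normalizer (P : Set _) →
      ∃ h : Cfsg.SU 3 K q, π h = z ∧ ∃ a : K, h.1.1 *ᵥ e = a • e := by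
    intro z hz
    obtain ⟨h, rfl⟩ := hπ z
    refine ⟨h, rfl, hline h fun g => ?_⟩
    have hmemM : h⁻¹ * ρ g * h ∈ M := by
      show π (h⁻¹ * ρ g * h) ∈ P
      rw [map_mul, map_mul, map_inv]
      exact (Subgroup.mem_normalizer_iff''.1 hz _).1 (g : M).2
    obtain ⟨k, hk⟩ := S.2 g
    refine ⟨⟨⟨_, hmemM⟩, hmem _ ⟨k, Subtype.ext ?_⟩⟩, rfl⟩
    have h1 : (ρ g) ^ p ^ k = 1 := by rw [← map_pow, hk, map_one]
    show (h⁻¹ * ρ g * h) ^ p ^ k = 1
    calc (h⁻¹ * ρ g * h) ^ p ^ k = h⁻¹ * (ρ g) ^ p ^ k * h := by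
          simpa using conj_pow (a := h⁻¹) (b := ρ g) (i := p ^ k)
      _ = 1 := by rw [h1, mul_one, inv_mul_cancel]
  obtain ⟨x', rfl, a, ha⟩ := hlift x hx
  obtain ⟨y', rfl, b, hb⟩ := hlift y hy
  have hfixe : (x' * y' * x'⁻¹ * y'⁻¹).1.1 *ᵥ e = e := by
    have h1 : x' * y' * x'⁻¹ * y'⁻¹ * (y' * x') = x' * y' := by group
    have h3 := congrArg (fun z : ↥(Cfsg.SU 3 K q) => z.1.1 *ᵥ e) h1
    generalize x' * y' * x'⁻¹ * y'⁻¹ = c at h3 ⊢
    simp only [Subgroup.coe_mul, Matrix.SpecialLinearGroup.coe_mul, ← Matrix.mulVec_mulVec, ha, hb,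
      Matrix.mulVec_smul, smul_smul] at h3
    rw [mul_comm b a] at h3
    refine smul_right_injective V ?_ h3
    intro h0
    have hinj : Function.Injective fun v : V => (x' * y').1.1 *ᵥ v := by
      intro u v huv
      have huv' : (x' * y').1.1 *ᵥ u = (x' * y').1.1 *ᵥ v := huv
      have := congrArg (fun w => ((x' * y')⁻¹).1.1 *ᵥ w) huv'
      simp only [Matrix.mulVec_mulVec] at this
      have hid : ((x' * y')⁻¹).1.1 * (x' * y').1.1 = 1 :=
        congrArg (fun z : ↥(Cfsg.SU 3 K q) => z.1.1) (inv_mul_cancel (x' * y'))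
      rw [hid, Matrix.one_mulVec, Matrix.one_mulVec] at this
      exact this
    refine he0 (hinj ?_)
    show (x'.1.1 * y'.1.1) *ᵥ e = (x'.1.1 * y'.1.1) *ᵥ 0
    rw [← Matrix.mulVec_mulVec, hb, Matrix.mulVec_smul, ha, smul_smul, mul_comm b a, h0, zero_smul,
      Matrix.mulVec_zero]
  rw [← map_inv, ← map_inv, ← map_mul, ← map_mul, ← map_mul, ← map_pow,
    unipotent_of_fix hne hinv hσ hp3 _ he0 hee hfixe, map_one]

/-- No section Qd(p). -/
theorem not_involves (hp2 : p ≠ 2) (hfix : Nat.card (fixed σ) = q) :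
    ¬ Cfsg.Involves ↥(Cfsg.qd p) (Cfsg.PSU 3 K q) := by
  intro h
  obtain ⟨P, hP, hP1, hI⟩ := Qd.involves_sl2_local h
  obtain ⟨L, ψ, hψ⟩ := PStable.exists_surjective_of_involves hI
  obtain ⟨a, b, hab⟩ := ZMod.sq_add_sq p (-1)
  let i : Matrix.SpecialLinearGroup (Fin 2) (ZMod p) := ⟨!![0, -1; 1, 0], by simp [Matrix.det_fin_two]⟩
  let j : Matrix.SpecialLinearGroup (Fin 2) (ZMod p) :=
    ⟨!![a, b; b, -a], by simp [Matrix.det_fin_two]; linear_combination -hab⟩
  obtain ⟨x, hx⟩ := hψ i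
  obtain ⟨y, hy⟩ := hψ j
  have h1 : (x * y * x⁻¹ * y⁻¹) ^ p = 1 := by
    refine Subtype.ext (Subtype.ext ?_)
    simp only [SubmonoidClass.coe_pow, Subgroup.coe_mul, Subgroup.coe_inv, OneMemClass.coe_one]
    exact commutator_pow hne hinv hσ hp2 hfix P hP hP1 _ _ x.1.2 y.1.2
  have h3 := congrArg ψ h1
  rw [map_pow, map_mul, map_mul, map_mul, map_inv, map_inv, hx, hy, map_one] at h3
  let n1 : Matrix.SpecialLinearGroup (Fin 2) (ZMod p) :=
    ⟨(-1 : Matrix (Fin 2) (Fin 2) (ZMod p)), by simp [Matrix.det_fin_two]⟩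
  have h4 : i * j * i⁻¹ * j⁻¹ = n1 := by
    rw [mul_inv_eq_iff_eq_mul, mul_inv_eq_iff_eq_mul]
    refine Subtype.ext ?_
    show !![(0 : ZMod p), -1; 1, 0] * !![a, b; b, -a] = (-1 : Matrix (Fin 2) (Fin 2) (ZMod p)) * !![a, b; b, -a] * !![0, -1; 1, 0]
    ext r s
    fin_cases r <;> fin_cases s <;> simp [Matrix.mul_apply, Fin.sum_univ_two]
  rw [h4] at h3
  have h5 := congrArg (fun g : Matrix.SpecialLinearGroup (Fin 2) (ZMod p) => g.1 0 0) h3
  simp only [Matrix.SpecialLinearGroup.coe_pow, Matrix.SpecialLinearGroup.coe_one] at h5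
  rw [show (n1 : Matrix (Fin 2) (Fin 2) (ZMod p)) = -1 from rfl,
    (hp.out.odd_of_ne_two hp2).neg_one_pow] at h5
  simp at h5
  exact ZMod.prime_ne_zero p 2 hp2 (by push_cast; linear_combination -h5)

end Cfsg.Agent.UnitaryQd
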